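import Mathlib

/-!
# S3779 (Higman–Kreknin–Kostrikin), definitions of the abstract Lie ring part (helper23)

Plan: `plans/S3779_plan.md`, skeleton: `plans/S3779_Skel.lean.txt`.
-/

set_option autoImplicit false
set_option linter.unusedSectionVars false
set_option linter.unusedVariables false

namespace Cfsg.Agent.Helper23.HKK

section lie

variable {L : Type*} [LieRing L]

/-- the lower central series of an additive subgroup `N` (a subring in the applications), inside `L`:
`lcsIn N 0 = N`, `lcsIn N (k+1) = [lcsIn N k, N]` -/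
def lcsIn (N : AddSubgroup L) : ℕ → AddSubgroup L
  | 0 => N
  | k + 1 => AddSubgroup.closure {z | ∃ x ∈ lcsIn N k, ∃ y ∈ N, z = ⁅x, y⁆}

/-- the derived series of `N` inside `L`: `dserIn N 0 = N`, `dserIn N (k+1) = [dserIn N k, dserIn N k]` -/
def dserIn (N : AddSubgroup L) : ℕ → AddSubgroup L
  | 0 => N
  | k + 1 => AddSubgroup.closure {z | ∃ x ∈ dserIn N k, ∃ y ∈ dserIn N k, z = ⁅x, y⁆}

/-- the left-normed product `[v, y₁, …, y_m]` -/
def lnc (v : L) (l : List L) : L := l.foldl (fun a b => ⁅a, b⁆) v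

/-- a family of additive subgroups indexed by `ℤ/n` with `[L_i, L_j] ⊆ L_{i+j}` and `L_0 = 0`
(no spanning or directness is asked here) -/
structure Grading (n : ℕ) (gr : ZMod n → AddSubgroup L) : Prop where
  br : ∀ (i j : ZMod n) (x y : L), x ∈ gr i → y ∈ gr j → ⁅x, y⁆ ∈ gr (i + j)
  zero : gr 0 = ⊥

/-- `N` is spanned by its homogeneous elements -/
def IsHomog {n : ℕ} (gr : ZMod n → AddSubgroup L) (N : AddSubgroup L) : Prop :=
  N ≤ AddSubgroup.closure {x | x ∈ N ∧ ∃ i, x ∈ gr i}

/-- `hk p k = 1 + (p-1) + … + (p-1)^(k-1)` -/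
def hk (p k : ℕ) : ℕ := ∑ i ∈ Finset.range k, (p - 1) ^ i

/-! ### Kreknin -/

variable {n : ℕ} (gr : ZMod n → AddSubgroup L)

/-- left-normed monomials in homogeneous elements of degrees `≥ k + 1` (as residues `1 … n-1`), with their degree -/
inductive Mono (k : ℕ) : ZMod n → L → Prop
  | gen (d : ZMod n) (x : L) (hd : k + 1 ≤ d.val) (hx : x ∈ gr d) : Mono k d x
  | step (e d : ZMod n) (z c : L) (hz : Mono k e z) (hd : k + 1 ≤ d.val) (hc : c ∈ gr d) :
      Mono k (e + d) ⁅z, c⁆

/-- the degree-`j` part of the subring generated by the components of degree `≥ k + 1` -/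
def W (k : ℕ) (j : ZMod n) : AddSubgroup L := AddSubgroup.closure {x | Mono gr k j x}

/-- the homogeneous parts of the derived series -/
def Dh : ℕ → ZMod n → AddSubgroup L
  | 0, j => gr j
  | m + 1, j => AddSubgroup.closure {z | ∃ a b : ZMod n, a + b = j ∧ ∃ x ∈ Dh m a, ∃ y ∈ Dh m b, z = ⁅x, y⁆}

end lie

end Cfsg.Agent.Helper23.HKK
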