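import Mathlib
import Cfsg.Agent.Lib.Helper23.HKKDefs

/-!
# S3779 (Higman–Kreknin–Kostrikin), definitions for the extension of scalars to `ℤ[ω]` (helper23)

`Aω p = ℤ[X]/(1 + X + … + X^(p-1))`, `ω` the class of `X`; `Lt p L = Aω p ⊗ L`; `phiT p φ = id ⊗ φ`;
`grT p φ i = {x | (id ⊗ φ) x = ω^i • x}`.
-/

set_option autoImplicit false
set_option linter.unusedSectionVars false
set_option linter.unusedVariables false

namespace Cfsg.Agent.Helper23.HKK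

open scoped TensorProduct
open Polynomial

/-- `1 + X + … + X^(p-1)` -/
noncomputable def Phi (p : ℕ) : ℤ[X] := ∑ i ∈ Finset.range p, (X : ℤ[X]) ^ i

/-- `ℤ[ω]` -/
abbrev Aω (p : ℕ) : Type := AdjoinRoot (Phi p)

/-- `ω` -/
noncomputable def ω (p : ℕ) : Aω p := AdjoinRoot.root (Phi p)

variable (p : ℕ) (L : Type*) [LieRing L]

/-- `ℤ[ω] ⊗ L` -/
abbrev Lt : Type _ := Aω p ⊗[ℤ] L

variable {L}

/-- `id ⊗ φ` -/
noncomputable def phiT (φ : L →ₗ⁅ℤ⁆ L) : Lt p L →ₗ⁅ℤ⁆ Lt p L :=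
  LieAlgebra.ExtendScalars.map (AlgHom.id ℤ (Aω p)) φ

/-- the `ω^i`-eigenspace of `id ⊗ φ` -/
noncomputable def grT (φ : L →ₗ⁅ℤ⁆ L) (i : ZMod p) : AddSubgroup (Lt p L) :=
  AddMonoidHom.ker (((phiT p φ : Lt p L →ₗ[ℤ] Lt p L).toAddMonoidHom) -
    (DistribSMul.toAddMonoidHom (Lt p L) ((ω p) ^ i.val)))

theorem mem_grT (φ : L →ₗ⁅ℤ⁆ L) (i : ZMod p) (x : Lt p L) :
    x ∈ grT p φ i ↔ phiT p φ x = ((ω p) ^ i.val) • x := by
  unfold grT
  rw [AddMonoidHom.mem_ker, AddMonoidHom.sub_apply, sub_eq_zero]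
  rfl

/-- the embedding `x ↦ 1 ⊗ x` -/
noncomputable def incT : L →+ Lt p L :=
  { toFun := fun x => (1 : Aω p) ⊗ₜ[ℤ] x
    map_zero' := by simp
    map_add' := fun x y => TensorProduct.tmul_add _ _ _ }

end Cfsg.Agent.Helper23.HKK
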