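import Mathlib
import Cfsg.Agent.Lib.Helper23.HKKDefs

/-!
# S3779: from `lcsIn ⊤ c = ⊥` (HKKDefs) to Mathlib's `LieModule.lowerCentralSeries ℤ L L c = ⊥` (helper23)
-/

set_option autoImplicit false
set_option linter.unusedSectionVars false
set_option linter.unusedVariables false

namespace Cfsg.Agent.Helper23.HKK

variable {L : Type*} [LieRing L]

theorem bridge_le (k : ℕ) : ∀ x ∈ LieModule.lowerCentralSeries ℤ L L k, x ∈ lcsIn (⊤ : AddSubgroup L) k := by
  induction k with
  | zero =>
    intro x _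
    exact AddSubgroup.mem_top x
  | succ k ih =>
    intro x hx
    rw [LieModule.lowerCentralSeries_succ, ← LieSubmodule.mem_toSubmodule,
      LieSubmodule.lieIdeal_oper_eq_linear_span] at hx
    refine Submodule.span_induction ?_ ?_ ?_ ?_ hx
    · rintro _ ⟨a, n, rfl⟩
      have hn : (n : L) ∈ lcsIn (⊤ : AddSubgroup L) k := ih _ n.2
      have h1 : ⁅(n : L), (a : L)⁆ ∈ lcsIn (⊤ : AddSubgroup L) (k + 1) :=
        AddSubgroup.subset_closure ⟨_, hn, _, AddSubgroup.mem_top _, rfl⟩
      rw [← lie_skew]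
      exact neg_mem h1
    · exact zero_mem _
    · intro a b _ _ ha hb
      exact add_mem ha hb
    · intro c a _ ha
      exact zsmul_mem ha c

theorem bridge_bot (c : ℕ) (h : lcsIn (⊤ : AddSubgroup L) c = ⊥) :
    LieModule.lowerCentralSeries ℤ L L c = ⊥ := by
  rw [LieSubmodule.eq_bot_iff]
  intro x hx
  have := bridge_le c x hx
  rw [h] at this
  exact this

end Cfsg.Agent.Helper23.HKK
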