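import Mathlib
import Cfsg.Prelude.Def_Blocks

/-!
# Schur's lemma for central elements, and linear characters of abelian groups

Shared library of helper23.  Everything lives in `Cfsg.Agent.Helper23`.
-/

set_option autoImplicit false

namespace Cfsg.Agent.Helper23

open Representation

/-- Schur's lemma: an intertwining endomorphism of an irreducible complex representation is a
scalar. -/
theorem intertwining_eq_smul_id {G : Type*} [Group G] {V : Type*} [AddCommGroup V] [Module ℂ V]
    [FiniteDimensional ℂ V] (ρ : Representation ℂ G V) [ρ.IsIrreducible]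
    (f : IntertwiningMap ρ ρ) : ∃ c : ℂ, f.toLinearMap = c • LinearMap.id := by
  obtain ⟨c, hc⟩ :=
    (IsIrreducible.algebraMap_intertwiningMap_bijective_of_isAlgClosed (ρ := ρ)).2 f
  refine ⟨c, ?_⟩
  rw [← hc]
  rfl

/-- Schur's lemma: a central element acts as a scalar in an irreducible complex representation. -/
theorem central_eq_smul_id {G : Type*} [Group G] {V : Type*} [AddCommGroup V] [Module ℂ V]
    [FiniteDimensional ℂ V] (ρ : Representation ℂ G V) [ρ.IsIrreducible]
    (z : G) (hz : z ∈ Subgroup.center G) : ∃ c : ℂ, ρ z = c • LinearMap.id := by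
  have hz' : z ∈ Submonoid.center G := hz
  obtain ⟨c, hc⟩ := intertwining_eq_smul_id ρ (IntertwiningMap.centralMul ρ z hz')
  exact ⟨c, hc⟩

/-- If `ρ z = c • id` then `χ (z * g) = c * χ g`. -/
theorem character_mul_of_smul_id {G : Type*} [Group G] {V : Type*} [AddCommGroup V] [Module ℂ V]
    [FiniteDimensional ℂ V] (ρ : Representation ℂ G V) (z : G) (c : ℂ)
    (hc : ρ z = c • LinearMap.id) (g : G) : ρ.character (z * g) = c * ρ.character g := by
  unfold Representation.character
  rw [map_mul, hc]
  rw [show (c • (LinearMap.id : V →ₗ[ℂ] V)) * ρ g = c • ρ g from by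
    ext v; simp]
  rw [map_smul, smul_eq_mul]

/-- The space of an irreducible representation is nontrivial. -/
theorem nontrivial_of_isIrreducible {G : Type*} [Group G] {V : Type*} [AddCommGroup V] [Module ℂ V]
    (ρ : Representation ℂ G V) [ρ.IsIrreducible] : Nontrivial V := by
  by_contra h
  rw [not_nontrivial_iff_subsingleton] at h
  have hbt : (⊥ : Subrepresentation ρ) ≠ ⊤ := bot_ne_top
  apply hbt
  apply Subrepresentation.toSubmodule_injective
  exact Subsingleton.elim _ _

/-- An irreducible character does not vanish at `1`. -/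
theorem irr_one_ne_zero {G : Type*} [Group G] (χ : G → ℂ) (hχ : Cfsg.IsIrrCharacter G χ) :
    χ 1 ≠ 0 := by
  obtain ⟨n, ρ, hirr, rfl⟩ := hχ
  have := hirr
  have hnt : Nontrivial (Fin n → ℂ) := nontrivial_of_isIrreducible ρ
  rw [Representation.char_one]
  have : 0 < Module.finrank ℂ (Fin n → ℂ) := Module.finrank_pos
  exact_mod_cast this.ne'

/-- For an irreducible character `χ` and a central element `z`:
`χ (z * g) = χ z / χ 1 * χ g`. -/
theorem irr_central_mul {G : Type*} [Group G] (χ : G → ℂ) (hχ : Cfsg.IsIrrCharacter G χ)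
    (z : G) (hz : z ∈ Subgroup.center G) (g : G) : χ (z * g) = χ z / χ 1 * χ g := by
  have h1 := irr_one_ne_zero χ hχ
  obtain ⟨n, ρ, hirr, rfl⟩ := hχ
  have := hirr
  obtain ⟨c, hc⟩ := central_eq_smul_id ρ z hz
  have hmul := character_mul_of_smul_id ρ z c hc
  have hz1 : ρ.character z = c * ρ.character 1 := by
    have := hmul 1
    rwa [mul_one] at this
  rw [hmul g, hz1]
  field_simp

/-- An irreducible character is a class function. -/
theorem irr_conj {G : Type*} [Group G] (χ : G → ℂ) (hχ : Cfsg.IsIrrCharacter G χ)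
    (g h : G) : χ (h * g * h⁻¹) = χ g := by
  obtain ⟨n, ρ, hirr, rfl⟩ := hχ
  exact Representation.char_conj ρ g h

end Cfsg.Agent.Helper23
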