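import Mathlib
import Cfsg.Prelude.Def_Blocks
import Cfsg.Agent.Lib.Helper24.CharCentral
import Cfsg.Agent.Lib.Helper23.Schur

/-!
# Irreducible characters separate classes; linear characters (helper23's shared library)
-/

set_option autoImplicit false

namespace Cfsg.Agent.Helper23

open Cfsg Cfsg.Agent.Helper24
open scoped ComplexConjugate

/-- Irreducible characters separate conjugacy classes. -/
theorem isConj_of_forall_irr_eq {G : Type*} [Group G] [Finite G] (g h : G)
    (H : ∀ χ : IrrCharacter G, (χ : G → ℂ) g = (χ : G → ℂ) h) : IsConj h g := by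
  classical
  haveI : Fintype G := Fintype.ofFinite G
  haveI : Fintype (IrrCharacter G) := irrFintype
  have h1 := second_orthogonality g h
  have h2 := second_orthogonality h h
  have h3 : (Nat.card {y : G // y * h * y⁻¹ = g} : ℂ) =
      (Nat.card {y : G // y * h * y⁻¹ = h} : ℂ) := by
    rw [← h1, ← h2]
    exact Finset.sum_congr rfl fun χ _ => by rw [H χ]
  have h4 : Nat.card {y : G // y * h * y⁻¹ = h} ≠ 0 := by
    haveI : Nonempty {y : G // y * h * y⁻¹ = h} := ⟨⟨1, by simp⟩⟩
    exact Nat.card_pos.ne'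
  have h5 : Nat.card {y : G // y * h * y⁻¹ = g} ≠ 0 := by
    intro h0
    rw [h0] at h3
    exact h4 (by exact_mod_cast h3.symm)
  by_contra hc
  exact h5 (card_conj_eq_zero_of_not_isConj hc)

/-- A character of degree one is multiplicative. -/
theorem linear_char_mul {G : Type*} [Group G] (χ : G → ℂ) (hχ : IsCharacter G χ)
    (h1 : χ 1 = 1) (a b : G) : χ (a * b) = χ a * χ b := by
  obtain ⟨n, ρ, rfl⟩ := hχ
  have d1 : Module.finrank ℂ (Fin n → ℂ) = 1 := by
    rw [Representation.char_one] at h1
    exact_mod_cast h1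
  obtain ⟨c, hc, -⟩ := LinearMap.existsUnique_eq_smul_id_of_finrank_eq_one d1 (ρ a)
  have hca : ρ.character a = c := by
    unfold Representation.character
    rw [hc, map_smul, ← Module.End.one_eq_id, LinearMap.trace_one, d1]
    simp
  rw [character_mul_of_smul_id ρ a c hc b, hca]

/-- A character of degree one is trivial on the commutator subgroup. -/
theorem linear_char_mul_commutator {G : Type*} [Group G] (χ : G → ℂ) (hχ : IsCharacter G χ)
    (h1 : χ 1 = 1) (g w : G) (hw : w ∈ commutator G) : χ (g * w) = χ g := by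
  have hmul := linear_char_mul χ hχ h1
  obtain ⟨φ, hφ⟩ : ∃ φ : G →* ℂ, ∀ g, φ g = χ g := ⟨⟨⟨χ, h1⟩, hmul⟩, fun _ => rfl⟩
  have hle : commutator G ≤ φ.ker := by
    rw [commutator_def, Subgroup.commutator_le]
    intro a _ b _
    rw [MonoidHom.mem_ker, hφ, commutatorElement_def, hmul, hmul, hmul]
    have ha : χ a * χ a⁻¹ = 1 := by rw [← hmul, mul_inv_cancel, h1]
    have hb : χ b * χ b⁻¹ = 1 := by rw [← hmul, mul_inv_cancel, h1]
    calc χ a * χ b * χ a⁻¹ * χ b⁻¹ = (χ a * χ a⁻¹) * (χ b * χ b⁻¹) := by ring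
      _ = 1 := by rw [ha, hb, one_mul]
  have := hle hw
  rw [MonoidHom.mem_ker, hφ] at this
  rw [hmul, this, mul_one]

end Cfsg.Agent.Helper23
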