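import Mathlib
import Cfsg.Prelude.Def_Local
import Cfsg.Agent.Lib.Helper22.PPrimeCore
import Cfsg.Agent.Lib.Helper10.Cores

/-!
# `p`-solvable groups (helper23 library)

Basic API for `Cfsg.IsPSolvable` (the chain definition):
* `PSolv.isPSolvable_of_surjective`, `PSolv.isPSolvable_quotient`, `PSolv.isPSolvable_subgroup`,
  `PSolv.isPSolvable_of_injective`, `PSolv.isPSolvable_of_mulEquiv`;
* `PSolv.centralizer_pCore_le` : Hall--Higman Lemma 1.2.3: in a finite `p`-solvable group with
  `O_{p'}(G) = 1` one has `C_G(O_p(G)) ≤ O_p(G)`.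
-/

set_option autoImplicit false

namespace Cfsg.Agent.Helper23.PSolv

open Subgroup
open scoped Pointwise

variable {G : Type*} [Group G]

/-- `n` is a power of `p` or prime to `p`. -/
def PNum (p n : ℕ) : Prop := (∃ m : ℕ, n = p ^ m) ∨ n.Coprime p

theorem PNum.of_dvd {p : ℕ} [hp : Fact p.Prime] {a b : ℕ} (h : a ∣ b) (hb : PNum p b) :
    PNum p a := by
  rcases hb with ⟨m, rfl⟩ | hb
  · left
    obtain ⟨k, _, rfl⟩ := (Nat.dvd_prime_pow hp.out).mp h
    exact ⟨k, rfl⟩
  · right
    exact Nat.Coprime.coprime_dvd_left h hb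

theorem relIndex_map_dvd {G' : Type*} [Group G'] (f : G →* G') (A B : Subgroup G) [A.Normal]
    (hAB : A ≤ B) : (A.map f).relIndex (B.map f) ∣ A.relIndex B := by
  rw [relIndex_map_map]
  have h1 : B ⊔ f.ker = B ⊔ (A ⊔ f.ker) := by
    rw [← sup_assoc, sup_of_le_left hAB]
  rw [h1, relIndex_sup_right]
  exact relIndex_dvd_of_le_left B le_sup_left

theorem relIndex_inf_right_dvd (A B K : Subgroup G) [A.Normal] (hAB : A ≤ B) :
    A.relIndex (B ⊓ K) ∣ A.relIndex B := by
  rw [← relIndex_sup_right (B ⊓ K) A]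
  have h2 : (B ⊓ K) ⊔ A ≤ B := sup_le inf_le_left hAB
  exact Dvd.intro _ (relIndex_mul_relIndex A ((B ⊓ K) ⊔ A) B le_sup_right h2)

theorem relIndex_inf_inf_dvd (A B K : Subgroup G) [A.Normal] (hAB : A ≤ B) :
    (A ⊓ K).relIndex (B ⊓ K) ∣ A.relIndex B := by
  have h1 : (A ⊓ K).relIndex (B ⊓ K) = A.relIndex (B ⊓ K) := by
    have : A ⊓ K = A ⊓ (B ⊓ K) := by rw [← inf_assoc, inf_of_le_left hAB]
    rw [this, inf_relIndex_right]
  rw [h1]
  exact relIndex_inf_right_dvd A B K hAB

theorem relIndex_subgroupOf_dvd (A B K : Subgroup G) [A.Normal] (hAB : A ≤ B) :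
    (A.subgroupOf K).relIndex (B.subgroupOf K) ∣ A.relIndex B := by
  have h1 : (A.subgroupOf K).relIndex (B.subgroupOf K) = A.relIndex (B ⊓ K) := by
    rw [subgroupOf, relIndex_comap, subgroupOf_map_subtype]
  rw [h1]
  exact relIndex_inf_right_dvd A B K hAB

/-- A surjective image of a `p`-solvable group is `p`-solvable. -/
theorem isPSolvable_of_surjective {p : ℕ} [Fact p.Prime] {G' : Type*} [Group G'] (f : G →* G')
    (hf : Function.Surjective f) (h : IsPSolvable p G) : IsPSolvable p G' := by
  obtain ⟨n, H, h0, hn, hmono, hnorm, hfac⟩ := h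
  refine ⟨n, fun i => (H i).map f, ?_, ?_, ?_, ?_, ?_⟩
  · show (H 0).map f = ⊥
    rw [h0, Subgroup.map_bot]
  · show (H (Fin.last n)).map f = ⊤
    rw [hn]
    exact Subgroup.map_top_of_surjective f hf
  · intro i j hij
    exact Subgroup.map_mono (hmono hij)
  · intro i
    exact (hnorm i).map f hf
  · intro i
    haveI := hnorm i.castSucc
    have hd := relIndex_map_dvd f (H i.castSucc) (H i.succ) (hmono (Fin.castSucc_le_succ i))
    exact PNum.of_dvd hd (hfac i)

/-- A quotient of a `p`-solvable group is `p`-solvable. -/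
theorem isPSolvable_quotient {p : ℕ} [Fact p.Prime] (N : Subgroup G) [N.Normal]
    (h : IsPSolvable p G) : IsPSolvable p (G ⧸ N) :=
  isPSolvable_of_surjective (QuotientGroup.mk' N) (QuotientGroup.mk'_surjective N) h

theorem isPSolvable_of_mulEquiv {p : ℕ} [Fact p.Prime] {G' : Type*} [Group G'] (e : G ≃* G')
    (h : IsPSolvable p G) : IsPSolvable p G' :=
  isPSolvable_of_surjective e.toMonoidHom e.surjective h

/-- A subgroup of a `p`-solvable group is `p`-solvable. -/
theorem isPSolvable_subgroup {p : ℕ} [Fact p.Prime] (K : Subgroup G) (h : IsPSolvable p G) :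
    IsPSolvable p K := by
  obtain ⟨n, H, h0, hn, hmono, hnorm, hfac⟩ := h
  refine ⟨n, fun i => (H i).subgroupOf K, ?_, ?_, ?_, ?_, ?_⟩
  · show (H 0).subgroupOf K = ⊥
    rw [h0, Subgroup.bot_subgroupOf]
  · show (H (Fin.last n)).subgroupOf K = ⊤
    rw [hn, Subgroup.top_subgroupOf]
  · intro i j hij
    exact Subgroup.comap_mono (hmono hij)
  · intro i
    exact (hnorm i).subgroupOf K
  · intro i
    haveI := hnorm i.castSucc
    have hd := relIndex_subgroupOf_dvd (H i.castSucc) (H i.succ) K
      (hmono (Fin.castSucc_le_succ i))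
    exact PNum.of_dvd hd (hfac i)

theorem isPSolvable_of_injective {p : ℕ} [Fact p.Prime] {G' : Type*} [Group G'] (f : G' →* G)
    (hf : Function.Injective f) (h : IsPSolvable p G) : IsPSolvable p G' :=
  isPSolvable_of_mulEquiv (MonoidHom.ofInjective hf).symm (isPSolvable_subgroup f.range h)

/-- The inductive step in the proof of Hall--Higman 1.2.3. -/
theorem centralizer_pCore_step [Finite G] {p : ℕ} [hp : Fact p.Prime]
    (hO : pPrimeCore p G = ⊥) (A B : Subgroup G) [A.Normal] [B.Normal] (hAB : A ≤ B)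
    (hfac : PNum p (A.relIndex B))
    (ih : A ⊓ centralizer (pCore p G : Set G) ≤ pCore p G) :
    B ⊓ centralizer (pCore p G : Set G) ≤ pCore p G := by
  haveI hPn : (pCore p G).Normal := Helper10.pCore_normal p
  set C : Subgroup G := centralizer (pCore p G : Set G) with hC
  set Z : Subgroup G := A ⊓ C with hZ
  set M : Subgroup G := B ⊓ C with hM
  haveI hMn : M.Normal := inferInstance
  have hZM : Z ≤ M := inf_le_inf_right C hAB
  have hZp : IsPGroup p Z := (Helper10.pCore_isPGroup p).to_le ih
  obtain ⟨a, ha⟩ := IsPGroup.iff_card.mp hZp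
  have hcard : Nat.card Z * Z.relIndex M = Nat.card M := by
    have := relIndex_mul_relIndex (⊥ : Subgroup G) Z M bot_le hZM
    rwa [relIndex_bot_left, relIndex_bot_left] at this
  have hfac' : PNum p (Z.relIndex M) := PNum.of_dvd (relIndex_inf_inf_dvd A B C hAB) hfac
  rcases hfac' with ⟨m, hm⟩ | hcop
  · -- `M` is a normal `p`-subgroup
    have hMp : IsPGroup p M := by
      apply IsPGroup.of_card (n := a + m)
      rw [← hcard, ha, hm, pow_add]
    exact le_sSup ⟨hMn, hMp⟩
  · -- Schur--Zassenhaus inside `M`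
    set N : Subgroup M := Z.subgroupOf M with hN
    haveI hNn : N.Normal := by
      haveI : Z.Normal := inferInstance
      exact Subgroup.Normal.subgroupOf inferInstance M
    have hNcard : Nat.card N = p ^ a := by
      rw [← ha]
      exact Nat.card_congr (subgroupOfEquivOfLe hZM).toEquiv
    have hNidx : N.index = Z.relIndex M := rfl
    have hcop' : (Nat.card N).Coprime N.index := by
      rw [hNcard, hNidx]
      exact Nat.Coprime.pow_left a (Nat.Coprime.symm hcop)
    obtain ⟨L, hL⟩ := exists_right_complement'_of_coprime hcop'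
    -- elements of `N` are central in `M`
    have hcentral : ∀ n ∈ N, ∀ x : M, n * x = x * n := by
      intro n hn x
      have h1 : (n : G) ∈ pCore p G := ih (mem_subgroupOf.mp hn)
      have h2 : (x : G) ∈ C := x.2.2
      have h3 := (mem_centralizer_iff.mp h2) (n : G) h1
      exact Subtype.ext h3
    haveI hLn : L.Normal := by
      constructor
      intro l hl x
      have hx : x ∈ N ⊔ L := by rw [hL.sup_eq_top]; exact mem_top x
      obtain ⟨n, hn, l', hl', rfl⟩ := mem_sup_of_normal_left.mp hx
      have e : n * l' * l * (n * l')⁻¹ = l' * l * l'⁻¹ := by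
        have c1 := hcentral n hn (l' * l * l'⁻¹)
        calc n * l' * l * (n * l')⁻¹ = n * (l' * l * l'⁻¹) * n⁻¹ := by group
          _ = (l' * l * l'⁻¹) * n * n⁻¹ := by rw [c1]
          _ = l' * l * l'⁻¹ := by group
      rw [e]
      exact L.mul_mem (L.mul_mem hl' hl) (L.inv_mem hl')
    have hLcard : (Nat.card L).Coprime p := by
      have : N.index = Nat.card L := hL.symm.index_eq_card.symm ▸ rfl
      rw [← this, hNidx]
      exact hcop
    have hL1 : L ≤ pPrimeCore p M := Helper22.le_pPrimeCore p L hLn hLcard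
    have hL2 : L.map M.subtype ≤ pPrimeCore p G :=
      (Subgroup.map_mono hL1).trans (Helper22.pPrimeCore_subgroup_le p M)
    rw [hO, le_bot_iff, Subgroup.map_eq_bot_iff_of_injective _ M.subtype_injective] at hL2
    rw [hL2, isComplement'_bot_right, hN, subgroupOf_eq_top] at hL
    exact hL.trans ih

/-- **Hall--Higman Lemma 1.2.3**: in a finite `p`-solvable group `G` with `O_{p'}(G) = 1`,
the centralizer of `O_p(G)` is contained in `O_p(G)`. -/
theorem centralizer_pCore_le [Finite G] {p : ℕ} [hp : Fact p.Prime] (hsolv : IsPSolvable p G)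
    (hO : pPrimeCore p G = ⊥) : centralizer (pCore p G : Set G) ≤ pCore p G := by
  obtain ⟨n, H, h0, hn, hmono, hnorm, hfac⟩ := hsolv
  have key : ∀ i : Fin (n + 1), H i ⊓ centralizer (pCore p G : Set G) ≤ pCore p G := by
    intro i
    induction i using Fin.induction with
    | zero => rw [h0]; simp
    | succ j ih =>
      haveI := hnorm j.castSucc
      haveI := hnorm j.succ
      exact centralizer_pCore_step hO (H j.castSucc) (H j.succ)
        (hmono (Fin.castSucc_le_succ j)) (hfac j) ih
  have := key (Fin.last n)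
  rwa [hn, top_inf_eq] at this

/-- A normal `p`-subgroup lies in every Sylow `p`-subgroup. -/
theorem normal_pGroup_le_sylow {p : ℕ} [Fact p.Prime] (N : Subgroup G) [hN : N.Normal]
    (hNp : IsPGroup p N) [Finite (Sylow p G)] (P : Sylow p G) : N ≤ P := by
  obtain ⟨P', hP'⟩ := hNp.exists_le_sylow
  obtain ⟨g, hg⟩ := MulAction.exists_smul_eq G P' P
  have h1 : (P : Subgroup G) = MulAut.conj g • (P' : Subgroup G) := by
    rw [← hg]; rfl
  rw [h1, ← Subgroup.Normal.conj_smul_eq_self g N]
  exact Subgroup.pointwise_smul_le_pointwise_smul_iff.mpr hP'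

theorem pCore_le_sylow [Finite G] {p : ℕ} [Fact p.Prime] (P : Sylow p G) : pCore p G ≤ P := by
  haveI := Helper10.pCore_normal (G := G) p
  exact normal_pGroup_le_sylow _ (Helper10.pCore_isPGroup p) P

/-- `O_{p'}(G / O_{p'}(G)) = 1`. -/
theorem pPrimeCore_quotient_pPrimeCore [Finite G] (p : ℕ) :
    haveI := Helper22.pPrimeCore_normal (G := G) p
    pPrimeCore p (G ⧸ pPrimeCore p G) = ⊥ := by
  haveI hKn := Helper22.pPrimeCore_normal (G := G) p
  set K := pPrimeCore p G with hK
  set L : Subgroup G := (pPrimeCore p (G ⧸ K)).comap (QuotientGroup.mk' K) with hL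
  haveI : (pPrimeCore p (G ⧸ K)).Normal := Helper22.pPrimeCore_normal p
  haveI hLn : L.Normal := Subgroup.Normal.comap inferInstance _
  have hKL : K ≤ L := by
    intro x hx
    rw [hL, mem_comap]
    have : QuotientGroup.mk' K x = 1 := (QuotientGroup.eq_one_iff x).mpr hx
    rw [this]; exact one_mem _
  have hmap : L.map (QuotientGroup.mk' K) = pPrimeCore p (G ⧸ K) :=
    map_comap_eq_self_of_surjective (QuotientGroup.mk'_surjective K) _
  have h1 : K.relIndex L = Nat.card (pPrimeCore p (G ⧸ K)) := by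
    have := relIndex_ker (QuotientGroup.mk' K) (K := L)
    rw [QuotientGroup.ker_mk', hmap] at this
    exact this
  have hcard : Nat.card K * K.relIndex L = Nat.card L := by
    have := relIndex_mul_relIndex (⊥ : Subgroup G) K L bot_le hKL
    rwa [relIndex_bot_left, relIndex_bot_left] at this
  have hcop : (Nat.card L).Coprime p := by
    rw [← hcard, h1]
    exact Nat.Coprime.mul_left (Helper22.card_pPrimeCore_coprime p)
      (Helper22.card_pPrimeCore_coprime p)
  have hLK : L ≤ K := Helper22.le_pPrimeCore p L hLn hcop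
  rw [← hmap, eq_bot_iff]
  rintro _ ⟨x, hx, rfl⟩
  rw [mem_bot]
  exact (QuotientGroup.eq_one_iff x).mpr (hLK hx)

end Cfsg.Agent.Helper23.PSolv
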