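import Mathlib
import Cfsg.Prelude.Def_Local
import Cfsg.Agent.Lib.Helper23.PSolvable

/-!
# `p`-constraint from `p`-solvable centralizers (helper23 library)

* `PSolv.pCore_subgroup_le`: `O_p(M) ≤ O_p(G)` for `M` normal in `G`;
* `PSolv.centralizer_le_pPrimePCore`: if `P` is a Sylow `p`-subgroup of `O_{p',p}(G)` whose
  centralizer in `G` is `p`-solvable, then `C_G(P) ≤ O_{p',p}(G)`.
-/

set_option autoImplicit false

namespace Cfsg.Agent.Helper23.PSolv

open Subgroup

variable {G : Type*} [Group G]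

theorem pCore_map_le {G' : Type*} [Group G'] (p : ℕ) [Fact p.Prime] (e : G ≃* G') :
    (pCore p G).map e.toMonoidHom ≤ pCore p G' := by
  haveI := Helper10.pCore_normal (G := G) p
  exact le_sSup ⟨Subgroup.Normal.map inferInstance e.toMonoidHom e.surjective,
    (Helper10.pCore_isPGroup p).map _⟩

theorem pCore_map_equiv (p : ℕ) [Fact p.Prime] (e : G ≃* G) :
    (pCore p G).map e.toMonoidHom = pCore p G := by
  apply le_antisymm (pCore_map_le p e)
  intro z hz
  have h1 := pCore_map_le p e.symm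
  have h2 : e.symm z ∈ pCore p G := h1 ⟨z, hz, rfl⟩
  exact ⟨e.symm z, h2, by simp⟩

/-- The `p`-core of a normal subgroup `M`, viewed in `G`, lies in the `p`-core of `G`. -/
theorem pCore_subgroup_le (p : ℕ) [Fact p.Prime] (M : Subgroup G) [hM : M.Normal] :
    (pCore p M).map M.subtype ≤ pCore p G := by
  refine le_sSup ⟨?_, (Helper10.pCore_isPGroup p).map _⟩
  constructor
  rintro z ⟨z', hz', rfl⟩ g
  refine ⟨MulAut.conjNormal g z', ?_, ?_⟩
  · have := pCore_map_equiv (G := M) p (MulAut.conjNormal g)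
    rw [SetLike.mem_coe, ← this]
    exact ⟨z', hz', rfl⟩
  · simp [MulAut.conjNormal_apply]

/-- Abstract form: `K` normal with `O_{p'}(G/K) = 1`, `L` the preimage of `O_p(G/K)`, `PG` a Sylow
`p`-subgroup of `L` with `p`-solvable centralizer. Then `C_G(PG) ≤ L`. -/
theorem centralizer_le_of_isPSolvable_centralizer [Finite G] {p : ℕ} [hp : Fact p.Prime]
    (K L : Subgroup G) [K.Normal] [L.Normal] (hO : pPrimeCore p (G ⧸ K) = ⊥)
    (hL : L = (pCore p (G ⧸ K)).comap (QuotientGroup.mk' K))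
    (PG : Subgroup G) (hPGL : PG ≤ L) (hPGi : ¬ p ∣ PG.relIndex L)
    (hN : normalizer (PG : Set G) ⊔ L = ⊤)
    (hsol : IsPSolvable p ↥(centralizer (PG : Set G))) :
    centralizer (PG : Set G) ≤ L := by
  have hsurj := QuotientGroup.mk'_surjective K
  haveI hRn : (pCore p (G ⧸ K)).Normal := Helper10.pCore_normal p
  have hRp : IsPGroup p (pCore p (G ⧸ K)) := Helper10.pCore_isPGroup p
  have hKL : K ≤ L := by
    intro x hx
    rw [hL, mem_comap]
    have : QuotientGroup.mk' K x = 1 := (QuotientGroup.eq_one_iff x).mpr hx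
    rw [this]; exact one_mem _
  have hLmap : L.map (QuotientGroup.mk' K) = pCore p (G ⧸ K) := by
    rw [hL]; exact map_comap_eq_self_of_surjective hsurj _
  -- `L = K · PG`
  have hLsup : L ≤ K ⊔ PG := by
    rw [← relIndex_eq_one]
    have h1 : K.relIndex L = Nat.card (pCore p (G ⧸ K)) := by
      have := relIndex_ker (QuotientGroup.mk' K) (K := L)
      rw [QuotientGroup.ker_mk', hLmap] at this
      exact this
    obtain ⟨a, ha⟩ := IsPGroup.iff_card.mp hRp
    have h2 : (K ⊔ PG).relIndex L ∣ p ^ a := by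
      rw [← ha, ← h1]
      exact relIndex_dvd_of_le_left L le_sup_left
    have h3 : (K ⊔ PG).relIndex L ∣ PG.relIndex L := relIndex_dvd_of_le_left L le_sup_right
    obtain ⟨j, _, hj⟩ := (Nat.dvd_prime_pow hp.out).mp h2
    rcases Nat.eq_zero_or_pos j with h0 | hpos
    · rw [hj, h0, pow_zero]
    · exfalso
      apply hPGi
      refine dvd_trans ?_ h3
      rw [hj]
      exact dvd_pow_self p hpos.ne'
  obtain ⟨C, hCdef⟩ : ∃ C : Subgroup G, C = centralizer (PG : Set G) := ⟨_, rfl⟩
  rw [← hCdef] at hsol ⊢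
  have hCmem : ∀ c ∈ C, ∀ u ∈ PG, u * c = c * u := by
    intro c hc u hu
    rw [hCdef] at hc
    exact mem_centralizer_iff.mp hc u hu
  -- the image of `C` centralizes `O_p(G/K)`
  have hcent : ∀ c ∈ C, ∀ r ∈ pCore p (G ⧸ K),
      r * QuotientGroup.mk' K c = QuotientGroup.mk' K c * r := by
    intro c hc r hr
    rw [← hLmap] at hr
    obtain ⟨l, hl, rfl⟩ := hr
    obtain ⟨k, hk, u, hu, rfl⟩ := mem_sup_of_normal_left.mp (hLsup hl)
    have hk1 : QuotientGroup.mk' K k = 1 := (QuotientGroup.eq_one_iff k).mpr hk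
    rw [map_mul, hk1, one_mul, ← map_mul, ← map_mul, hCmem c hc u hu]
  -- the image of `C` is normal
  haveI hCbn : (C.map (QuotientGroup.mk' K)).Normal := by
    constructor
    rintro _ ⟨c, hc, rfl⟩ xbar
    obtain ⟨g, rfl⟩ := hsurj xbar
    have hg : g ∈ normalizer (PG : Set G) ⊔ L := by rw [hN]; exact mem_top g
    obtain ⟨n, hn, l, hl, rfl⟩ := mem_sup_of_normal_right.mp hg
    obtain ⟨k, hk, u, hu, rfl⟩ := mem_sup_of_normal_left.mp (hLsup hl)
    have hk1 : QuotientGroup.mk' K k = 1 := (QuotientGroup.eq_one_iff k).mpr hk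
    have hnu : n * u ∈ normalizer (PG : Set G) := mul_mem hn (le_normalizer hu)
    have hconj : (n * u) * c * (n * u)⁻¹ ∈ C := by
      rw [hCdef, mem_centralizer_iff]
      intro v hv
      have hv' : (n * u)⁻¹ * v * (n * u) ∈ PG := by
        have := (mem_normalizer_iff.mp (inv_mem hnu) v).mp hv
        simpa using this
      have e := hCmem c hc _ hv'
      calc v * ((n * u) * c * (n * u)⁻¹)
          = (n * u) * (((n * u)⁻¹ * v * (n * u)) * c) * (n * u)⁻¹ := by group
        _ = (n * u) * (c * ((n * u)⁻¹ * v * (n * u))) * (n * u)⁻¹ := by rw [e]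
        _ = (n * u) * c * (n * u)⁻¹ * v := by group
    refine ⟨(n * u) * c * (n * u)⁻¹, hconj, ?_⟩
    simp only [map_mul, map_inv, hk1, one_mul, mul_one]
  have hsolCb : IsPSolvable p ↥(C.map (QuotientGroup.mk' K)) :=
    isPSolvable_of_surjective ((QuotientGroup.mk' K).subgroupMap C)
      ((QuotientGroup.mk' K).subgroupMap_surjective C) hsol
  have hO' : pPrimeCore p ↥(C.map (QuotientGroup.mk' K)) = ⊥ := by
    have h1 := Helper22.pPrimeCore_subgroup_le p (C.map (QuotientGroup.mk' K))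
    rw [hO, le_bot_iff, map_eq_bot_iff_of_injective _ (subtype_injective _)] at h1
    exact h1
  have hHH := centralizer_pCore_le hsolCb hO'
  have hpc := pCore_subgroup_le p (C.map (QuotientGroup.mk' K))
  intro c hc
  have hcb : QuotientGroup.mk' K c ∈ C.map (QuotientGroup.mk' K) := mem_map_of_mem _ hc
  have h1 : (⟨QuotientGroup.mk' K c, hcb⟩ : ↥(C.map (QuotientGroup.mk' K))) ∈
      centralizer (pCore p ↥(C.map (QuotientGroup.mk' K)) : Set ↥(C.map (QuotientGroup.mk' K))) := by
    rw [mem_centralizer_iff]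
    intro z hz
    have hz' : (z : G ⧸ K) ∈ pCore p (G ⧸ K) := hpc ⟨z, hz, rfl⟩
    apply Subtype.ext
    exact hcent c hc _ hz'
  have h2 := hHH h1
  have h3 : QuotientGroup.mk' K c ∈ pCore p (G ⧸ K) := hpc ⟨_, h2, rfl⟩
  rw [hL, mem_comap]
  exact h3

/-- If `P` is a Sylow `p`-subgroup of `O_{p',p}(G)` (given as a subgroup of `G`) with `p`-solvable
centralizer and the Frattini factorization holds, then `C_G(P) ≤ O_{p',p}(G)`. -/
theorem centralizer_le_pPrimePCore [Finite G] {p : ℕ} [hp : Fact p.Prime]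
    (PG : Subgroup G) (hPGL : PG ≤ pPrimePCore p G) (hPGi : ¬ p ∣ PG.relIndex (pPrimePCore p G))
    (hN : normalizer (PG : Set G) ⊔ pPrimePCore p G = ⊤)
    (hsol : IsPSolvable p ↥(centralizer (PG : Set G))) :
    centralizer (PG : Set G) ≤ pPrimePCore p G := by
  haveI hKn : (pPrimeCore p G).Normal := Helper22.pPrimeCore_normal p
  haveI : (pCore p (G ⧸ pPrimeCore p G)).Normal := Helper10.pCore_normal p
  haveI hLn : (pPrimePCore p G).Normal := by
    unfold pPrimePCore; exact Subgroup.Normal.comap inferInstance _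
  exact centralizer_le_of_isPSolvable_centralizer (pPrimeCore p G) (pPrimePCore p G)
    (pPrimeCore_quotient_pPrimeCore p) rfl PG hPGL hPGi hN hsol

end Cfsg.Agent.Helper23.PSolv
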