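import Mathlib

/-!
# S3779 (Higman–Kreknin–Kostrikin), definitions of the group part (helper23):
the associated graded Lie ring `⨁_w γ_w(G)/γ_{w+1}(G)` of the lower central series.

Plan: `plans/S3779_plan.md`, skeleton: `plans/S3779_Skel.lean.txt`.
-/

set_option autoImplicit false
set_option linter.unusedSectionVars false
set_option linter.unusedVariables false

namespace Cfsg.Agent.Helper23.HKK

open scoped DirectSum commutatorElement

variable (G : Type*) [Group G]

/-- `Gam G w = γ_w(G)` (weights from 1: `Gam G 1 = G`, `Gam G 2 = G'`, …), and `Gam G 0 = G` -/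
def Gam (w : ℕ) : Subgroup G := (⊤ : Subgroup G).lowerCentralSeries (w - 1)

instance Gam_normal (w : ℕ) : (Gam G w).Normal := by
  unfold Gam
  infer_instance

theorem Gam_succ_le (w : ℕ) : Gam G (w + 1) ≤ Gam G w := by
  unfold Gam
  exact Subgroup.lowerCentralSeries_antitone _ (by omega)

/-- `[γ_w, γ_w] ≤ γ_{w+1}` -/
theorem Gam_comm_self (w : ℕ) (a b : G) (ha : a ∈ Gam G w) (hb : b ∈ Gam G w) : ⁅a, b⁆ ∈ Gam G (w + 1) := by
  unfold Gam at *
  cases w with
  | zero => simp
  | succ w =>
    simp only [Nat.add_sub_cancel] at *
    rw [Subgroup.lowerCentralSeries_succ]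
    exact Subgroup.commutator_mem_commutator ha (Subgroup.mem_top b)

/-- the quotient `γ_w / γ_{w+1}` as a multiplicative group -/
abbrev CompM (w : ℕ) : Type _ := Gam G w ⧸ (Gam G (w + 1)).subgroupOf (Gam G w)

instance CompM_commGroup (w : ℕ) : CommGroup (CompM G w) :=
  { (inferInstance : Group (CompM G w)) with
    mul_comm := by
      intro x y
      induction x using QuotientGroup.induction_on with
      | H a =>
        induction y using QuotientGroup.induction_on with
        | H b =>
          rw [← QuotientGroup.mk_mul, ← QuotientGroup.mk_mul, QuotientGroup.eq]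
          rw [Subgroup.mem_subgroupOf]
          have h := Gam_comm_self G w (b : G)⁻¹ (a : G)⁻¹ (inv_mem b.2) (inv_mem a.2)
          have e : (((a * b)⁻¹ * (b * a) : Gam G w) : G) = ⁅(b : G)⁻¹, (a : G)⁻¹⁆ := by
            simp [commutatorElement_def, mul_assoc]
          rw [e]
          exact h }

/-- the homogeneous component of weight `w`, written additively -/
abbrev Comp (w : ℕ) : Type _ := Additive (CompM G w)

/-- the class of `a ∈ γ_w` in the component of weight `w` -/
def cmk (w : ℕ) (a : G) (ha : a ∈ Gam G w) : Comp G w :=
  Additive.ofMul (QuotientGroup.mk ⟨a, ha⟩)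

/-- a representative in `G` of an element of the component of weight `w` -/
noncomputable def rep (w : ℕ) (x : Comp G w) : G := ((Quotient.out (Additive.toMul x) : Gam G w) : G)

open Classical in
/-- the bracket of homogeneous elements: the class of the group commutator of representatives -/
noncomputable def hbr (i j : ℕ) (x : Comp G i) (y : Comp G j) : Comp G (i + j) :=
  if h : ⁅rep G i x, rep G j y⁆ ∈ Gam G (i + j) then cmk G (i + j) _ h else 0

open Classical in
/-- `hbr` as a biadditive map (it is one: piece `hbr_add_left`, `hbr_add_right`) -/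
noncomputable def hbrHom (i j : ℕ) : Comp G i →+ Comp G j →+ Comp G (i + j) :=
  if h : (∀ x x' y, hbr G i j (x + x') y = hbr G i j x y + hbr G i j x' y) ∧
      (∀ x y y', hbr G i j x (y + y') = hbr G i j x y + hbr G i j x y') then
    AddMonoidHom.mk' (fun x => AddMonoidHom.mk' (fun y => hbr G i j x y) (h.2 x))
      (fun x x' => AddMonoidHom.ext (fun y => h.1 x x' y))
  else 0

/-- the associated graded additive group -/
abbrev AL : Type _ := ⨁ w : ℕ, Comp G w

/-- the bracket of `AL G` as a biadditive map -/
noncomputable def brHom : AL G →+ AL G →+ AL G :=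
  DirectSum.toAddMonoid fun i =>
    AddMonoidHom.flip <| DirectSum.toAddMonoid fun j =>
      AddMonoidHom.flip <| (DirectSum.of (Comp G) (i + j)).compHom.comp <| hbrHom G i j

open Classical in
/-- the map induced on the component of weight `w` by an automorphism of `G` -/
noncomputable def compMap (α : MulAut G) (w : ℕ) (x : Comp G w) : Comp G w :=
  if h : α (rep G w x) ∈ Gam G w then cmk G w _ h else 0

open Classical in
/-- `compMap` as an additive map (it is one: piece `compMap_add`) -/
noncomputable def compMapHom (α : MulAut G) (w : ℕ) : Comp G w →+ Comp G w :=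
  if h : ∀ x y, compMap G α w (x + y) = compMap G α w x + compMap G α w y then
    AddMonoidHom.mk' (compMap G α w) h
  else 0

/-- the additive endomorphism of `AL G` induced by an automorphism of `G` -/
noncomputable def autAdd (α : MulAut G) : AL G →+ AL G :=
  DirectSum.toAddMonoid fun w => (DirectSum.of (Comp G) w).comp (compMapHom G α w)

/-- the lower central series of `AL G` with respect to `brHom`: `lcsAL 0 = ⊤`, `lcsAL (k+1) = [lcsAL k, AL G]` -/
noncomputable def lcsAL : ℕ → AddSubgroup (AL G)
  | 0 => ⊤
  | k + 1 => AddSubgroup.closure {z | ∃ x ∈ lcsAL k, ∃ y : AL G, z = brHom G x y}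

end Cfsg.Agent.Helper23.HKK
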