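import Mathlib
import Cfsg.Agent.Lib.Helper23.HKKDefs
import Cfsg.Agent.Lib.Helper23.HKKExt
import Cfsg.Agent.Lib.Helper23.HKKBridge
import Cfsg.Agent.Lib.Helper19.HKKTMAINCore
import Cfsg.Agent.Lib.Helper12.HKKKKM
import Cfsg.Agent.Lib.Helper6.HKKTGR
import Cfsg.Agent.Lib.Helper2.HKKTSP
import Cfsg.Agent.Lib.Helper2.HKKTPB
import Cfsg.Agent.Lib.Helper22.LCSLieNil

/-!
# S3779 (Higman–Kreknin–Kostrikin): assembly (helper23)

`main_lie_hkk`: the theorem for Lie rings (over the pieces of PART K and PART T);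
`main_group`: the theorem for groups (over helper22's Lie ring of the lower central series).
-/

set_option autoImplicit false
set_option linter.unusedSectionVars false
set_option linter.unusedVariables false

namespace Cfsg.Agent.Helper23.HKK

/-- the theorem of Higman, Kreknin and Kostrikin for Lie rings -/
theorem main_lie_hkk (p : ℕ) {L : Type*} [LieRing L] (hp : p.Prime) (φ : L →ₗ⁅ℤ⁆ L)
    (hφp : ∀ x, (⇑φ)^[p] x = x) (hfpf : ∀ x, φ x = x → x = 0) (hdiv : ∀ x : L, ∃ y : L, p • y = x) :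
    lcsIn (⊤ : AddSubgroup L) (hk p (2 ^ (p - 1) - 1)) = ⊥ ∧ (p = 3 → lcsIn (⊤ : AddSubgroup L) 2 = ⊥) := by
  refine lie_hkk_core p hp φ (fun gr hG hs => graded_nilpotent hp gr hG hs) ?_ (grT_br p hp φ)
    (grT_zero p hp φ hfpf) (grT_span p hp φ hφp hdiv) (fun h hh => lcs_pullback p hp.two_le h hh)
  intro h3
  subst h3
  intro gr hG hs
  exact graded_three gr hG hs

open Cfsg.Agent.Helper22.LCSLie in
/-- the Lie ring of the lower central series of a finite group of order prime to `p` is `p`-divisible -/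
theorem main_lr_div {G : Type*} [Group G] [Finite G] {p : ℕ} (hcop : p.Coprime (Nat.card G)) (x : LR G) :
    ∃ y : LR G, p • y = x := by
  have h1 : (p : ℤ) * Nat.gcdA p (Nat.card G) + (Nat.card G : ℤ) * Nat.gcdB p (Nat.card G) = 1 := by
    have := Nat.gcd_eq_gcd_ab p (Nat.card G)
    rw [hcop] at this
    push_cast at this
    linarith
  refine ⟨Nat.gcdA p (Nat.card G) • x, ?_⟩
  have h2 : ((Nat.card G : ℤ)) • x = 0 := by
    rw [natCast_zsmul]
    exact card_nsmul_lr x
  calc p • (Nat.gcdA p (Nat.card G) • x) = ((p : ℤ) * Nat.gcdA p (Nat.card G)) • x := by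
        rw [mul_smul, natCast_zsmul]
    _ = ((p : ℤ) * Nat.gcdA p (Nat.card G) + (Nat.card G : ℤ) * Nat.gcdB p (Nat.card G)) • x := by
        rw [add_smul, mul_comm (Nat.card G : ℤ), mul_smul _ (Nat.card G : ℤ), h2, smul_zero, add_zero]
    _ = x := by rw [h1, one_smul]

open Cfsg.Agent.Helper22.LCSLie in
/-- the theorem for groups, given that `G` is nilpotent (Thompson) -/
theorem main_group {G : Type*} [Group G] [Finite G] {p : ℕ} (hp : p.Prime) (α : MulAut G) (hα : orderOf α = p)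
    (hfpf : ∀ g : G, α g = g → g = 1) (hnil : Group.IsNilpotent G) :
    (⊤ : Subgroup G).lowerCentralSeries (hk p (2 ^ (p - 1) - 1)) = ⊥ ∧
      (p = 3 → (⊤ : Subgroup G).lowerCentralSeries 2 = ⊥) := by
  have hαp : α ^ p = 1 := by rw [← hα]; exact pow_orderOf_eq_one α
  have h1 : ∀ x : LR G, (⇑(lrHom α))^[p] x = x := by
    intro x
    rw [← lrHom_pow_apply α p x, hαp, lrHom_one_apply]
  have h2 : ∀ x : LR G, lrHom α x = x → x = 0 := fun x hx => lrHom_fpf α hfpf x hx
  have h3 : ∀ x : LR G, ∃ y : LR G, p • y = x := main_lr_div (card_coprime_of_fpf hp α hα hfpf)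
  obtain ⟨hA, hB⟩ := main_lie_hkk p hp (lrHom α) h1 h2 h3
  exact ⟨lcs_eq_bot_of_lie hnil _ (bridge_bot _ hA), fun h => lcs_eq_bot_of_lie hnil 2 (bridge_bot 2 (hB h))⟩

end Cfsg.Agent.Helper23.HKK
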