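import Mathlib
import Cfsg.Prelude.Def_Blocks

/-!
# Values of complex characters: eigenvalues are roots of unity

Shared library of helper23.  Everything lives in `Cfsg.Agent.Helper23`.
-/

set_option autoImplicit false

namespace Cfsg.Agent.Helper23

open Polynomial

/-- The character value of `ρ g` is a sum of `finrank` many `m`-th roots of unity, whenever
`g ^ m = 1` with `0 < m`. -/
theorem exists_multiset_roots_of_unity {G : Type*} [Group G] {V : Type*} [AddCommGroup V] [Module ℂ V]
    [FiniteDimensional ℂ V] (ρ : Representation ℂ G V) (g : G) (m : ℕ) (hm : g ^ m = 1) :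
    ∃ s : Multiset ℂ, Multiset.card s = Module.finrank ℂ V ∧ (∀ μ ∈ s, μ ^ m = 1) ∧
      ρ.character g = s.sum := by
  have hsplit : (ρ g).charpoly.Splits := IsAlgClosed.splits _
  refine ⟨(ρ g).charpoly.roots, ?_, ?_, ?_⟩
  · rw [← LinearMap.charpoly_natDegree (ρ g)]
    exact (Polynomial.splits_iff_card_roots.1 hsplit)
  · intro μ hμ
    have hroot : (ρ g).charpoly.IsRoot μ := (Polynomial.mem_roots'.1 hμ).2
    have hev : Module.End.HasEigenvalue (ρ g) μ :=
      (Module.End.hasEigenvalue_iff_isRoot_charpoly (ρ g) μ).2 hroot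
    obtain ⟨v, hv⟩ := hev.exists_hasEigenvector
    have h1 : ((ρ g) ^ m) v = μ ^ m • v := by
      have := hv.pow_apply m
      exact this
    have h2 : (ρ g) ^ m = 1 := by rw [← map_pow, hm, map_one]
    rw [h2] at h1
    have h3 : (μ ^ m - 1) • v = 0 := by
      rw [sub_smul, one_smul, ← h1]; simp
    rcases smul_eq_zero.1 h3 with h | h
    · exact sub_eq_zero.1 h
    · exact absurd h hv.2
  · exact Module.End.trace_eq_sum_roots_charpoly_of_splits hsplit

/-- If a multiset of `p ^ j`-th roots of unity in `ℂ` sums to zero, then `p` divides its size. -/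
theorem prime_dvd_card_of_sum_roots_of_unity_eq_zero (p : ℕ) (hp : p.Prime) (j : ℕ) (s : Multiset ℂ)
    (hs : ∀ μ ∈ s, μ ^ (p ^ j) = 1) (h0 : s.sum = 0) : p ∣ Multiset.card s := by
  classical
  rcases Nat.eq_zero_or_pos j with hj | hj
  · subst hj
    have h1 : ∀ μ ∈ s, μ = 1 := by
      intro μ hμ; simpa using hs μ hμ
    have : s = Multiset.replicate (Multiset.card s) 1 := Multiset.eq_replicate.2 ⟨rfl, h1⟩
    rw [this, Multiset.sum_replicate] at h0
    have h2 : ((Multiset.card s : ℕ) : ℂ) = 0 := by simpa using h0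
    have h3 : Multiset.card s = 0 := by exact_mod_cast h2
    rw [h3]; exact dvd_zero p
  · set q := p ^ j with hq
    have hq0 : q ≠ 0 := pow_ne_zero _ hp.ne_zero
    set ζ : ℂ := Complex.exp (2 * Real.pi * Complex.I / q) with hζdef
    have hζ : IsPrimitiveRoot ζ q := Complex.isPrimitiveRoot_exp q hq0
    have : NeZero q := ⟨hq0⟩
    let idx : ℂ → ℕ := fun μ => if h : ∃ i : ℕ, ζ ^ i = μ then Classical.choose h else 0
    have hidx : ∀ μ ∈ s, ζ ^ idx μ = μ := by
      intro μ hμ
      have hex : ∃ i : ℕ, ζ ^ i = μ := by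
        obtain ⟨i, _, hi⟩ := hζ.eq_pow_of_pow_eq_one (hs μ hμ)
        exact ⟨i, hi⟩
      simp only [idx, dif_pos hex]
      exact Classical.choose_spec hex
    let F : ℤ[X] := (s.map (fun μ => (X : ℤ[X]) ^ idx μ)).sum
    have hF0 : Polynomial.aeval ζ F = 0 := by
      simp only [F, map_multiset_sum, Multiset.map_map, Function.comp_def, map_pow, aeval_X]
      rw [← h0]
      congr 1
      exact Multiset.map_congr rfl hidx |>.trans (Multiset.map_id' s)
    have hF1 : F.eval 1 = (Multiset.card s : ℤ) := by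
      rw [← Polynomial.coe_evalRingHom]
      simp only [F, map_multiset_sum, Multiset.map_map, Function.comp_def,
        Polynomial.coe_evalRingHom, eval_pow, eval_X, one_pow]
      rw [Multiset.map_const', Multiset.sum_replicate]
      simp
    have hqpos : 0 < q := Nat.pos_of_ne_zero hq0
    have hmin : minpoly ℤ ζ = cyclotomic q ℤ := (Polynomial.cyclotomic_eq_minpoly hζ hqpos).symm
    have hdvd : cyclotomic q ℤ ∣ F := by
      rw [← hmin]
      exact minpoly.isIntegrallyClosed_dvd (hζ.isIntegral hqpos) hF0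
    obtain ⟨Q, hQ⟩ := hdvd
    have hev : F.eval 1 = (cyclotomic q ℤ).eval 1 * Q.eval 1 := by rw [hQ, eval_mul]
    have hcyc : (cyclotomic q ℤ).eval 1 = (p : ℤ) := by
      have : Fact p.Prime := ⟨hp⟩
      obtain ⟨k, hk⟩ : ∃ k, j = k + 1 := ⟨j - 1, by omega⟩
      rw [hq, hk]
      exact Polynomial.eval_one_cyclotomic_prime_pow k
    rw [hF1, hcyc] at hev
    have : (p : ℤ) ∣ (Multiset.card s : ℤ) := ⟨_, hev⟩
    exact_mod_cast this

/-- `ρ g` is a semisimple endomorphism whenever `g ^ m = 1`, `0 < m`. -/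
theorem isSemisimple_of_pow_eq_one {G : Type*} [Group G] {V : Type*} [AddCommGroup V] [Module ℂ V]
    [FiniteDimensional ℂ V] (ρ : Representation ℂ G V) (g : G) (m : ℕ) (hm0 : 0 < m)
    (hm : g ^ m = 1) : Module.End.IsSemisimple (ρ g) := by
  have hsep : (X ^ m - 1 : ℂ[X]).Separable :=
    Polynomial.X_pow_sub_one_separable_iff.2 (by exact_mod_cast hm0.ne')
  apply Module.End.isSemisimple_of_squarefree_aeval_eq_zero hsep.squarefree
  have h2 : (ρ g) ^ m = 1 := by rw [← map_pow, hm, map_one]
  simp [h2]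

/-- If `g` has finite order and every root of the characteristic polynomial of `ρ g` equals `ω`,
then `ρ g = ω • id`. -/
theorem eq_smul_id_of_roots_eq {G : Type*} [Group G] {V : Type*} [AddCommGroup V] [Module ℂ V]
    [FiniteDimensional ℂ V] (ρ : Representation ℂ G V) (g : G) (m : ℕ) (hm0 : 0 < m)
    (hm : g ^ m = 1) (ω : ℂ) (h : ∀ μ ∈ (ρ g).charpoly.roots, μ = ω) :
    ρ g = ω • LinearMap.id := by
  have hss := isSemisimple_of_pow_eq_one ρ g m hm0 hm
  have htop := hss.iSup_eigenspace_eq_top
  have hbot : ∀ μ : ℂ, μ ≠ ω → Module.End.eigenspace (ρ g) μ = ⊥ := by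
    intro μ hμ
    by_contra hne
    have hev : Module.End.HasEigenvalue (ρ g) μ := hne
    have hroot := (Module.End.hasEigenvalue_iff_isRoot_charpoly (ρ g) μ).1 hev
    have hmem : μ ∈ (ρ g).charpoly.roots := by
      rw [Polynomial.mem_roots']
      exact ⟨(LinearMap.charpoly_monic (ρ g)).ne_zero, hroot⟩
    exact hμ (h μ hmem)
  have hω : Module.End.eigenspace (ρ g) ω = ⊤ := by
    rw [eq_top_iff, ← htop]
    apply iSup_le
    intro μ
    by_cases hμ : μ = ω
    · rw [hμ]
    · rw [hbot μ hμ]; exact bot_le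
  ext v
  have hv : v ∈ Module.End.eigenspace (ρ g) ω := by rw [hω]; trivial
  rw [Module.End.mem_eigenspace_iff] at hv
  simpa using hv

/-- The roots of the characteristic polynomial of `ρ g`: number, roots of unity, sum. -/
theorem roots_charpoly_spec {G : Type*} [Group G] {V : Type*} [AddCommGroup V] [Module ℂ V]
    [FiniteDimensional ℂ V] (ρ : Representation ℂ G V) (g : G) (m : ℕ) (hm : g ^ m = 1) :
    Multiset.card (ρ g).charpoly.roots = Module.finrank ℂ V ∧
      (∀ μ ∈ (ρ g).charpoly.roots, μ ^ m = 1) ∧ ρ.character g = (ρ g).charpoly.roots.sum := by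
  have hsplit : (ρ g).charpoly.Splits := IsAlgClosed.splits _
  refine ⟨?_, ?_, ?_⟩
  · rw [← LinearMap.charpoly_natDegree (ρ g)]
    exact (Polynomial.splits_iff_card_roots.1 hsplit)
  · intro μ hμ
    have hroot : (ρ g).charpoly.IsRoot μ := (Polynomial.mem_roots'.1 hμ).2
    have hev : Module.End.HasEigenvalue (ρ g) μ :=
      (Module.End.hasEigenvalue_iff_isRoot_charpoly (ρ g) μ).2 hroot
    obtain ⟨v, hv⟩ := hev.exists_hasEigenvector
    have h1 : ((ρ g) ^ m) v = μ ^ m • v := hv.pow_apply m
    have h2 : (ρ g) ^ m = 1 := by rw [← map_pow, hm, map_one]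
    rw [h2] at h1
    have h3 : (μ ^ m - 1) • v = 0 := by
      rw [sub_smul, one_smul, ← h1]; simp
    rcases smul_eq_zero.1 h3 with h | h
    · exact sub_eq_zero.1 h
    · exact absurd h hv.2
  · exact Module.End.trace_eq_sum_roots_charpoly_of_splits hsplit

/-- A multiset of complex numbers of norm one whose sum has norm equal to its size is constant. -/
theorem multiset_const_of_norm_sum_eq_card (s : Multiset ℂ) (hs : ∀ μ ∈ s, ‖μ‖ = 1)
    (h : ‖s.sum‖ = (Multiset.card s : ℝ)) : ∃ ω : ℂ, ∀ μ ∈ s, μ = ω := by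
  classical
  by_cases hs0 : s = 0
  · exact ⟨0, by simp [hs0]⟩
  have hcard : (0 : ℝ) < Multiset.card s := by
    exact_mod_cast Multiset.card_pos.2 hs0
  set S := s.sum with hS
  have hSn : ‖S‖ ≠ 0 := by rw [h]; exact hcard.ne'
  have hS0 : S ≠ 0 := by
    intro h0; apply hSn; rw [h0]; simp
  set u : ℂ := S / (‖S‖ : ℂ) with hu
  have hunorm : ‖u‖ = 1 := by
    rw [hu, norm_div, Complex.norm_real, norm_norm, div_self hSn]
  refine ⟨u, ?_⟩
  -- real part of conj u * S equals ‖S‖
  have h1 : ((starRingEnd ℂ) u * S).re = ‖S‖ := by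
    have : (starRingEnd ℂ) u * S = (‖S‖ : ℂ) := by
      rw [hu, map_div₀, Complex.conj_ofReal, div_mul_eq_mul_div, Complex.conj_mul']
      have : (‖S‖ : ℂ) ≠ 0 := by exact_mod_cast hSn
      field_simp
    rw [this]; simp
  have h2 : ((starRingEnd ℂ) u * S).re = (s.map (fun μ => ((starRingEnd ℂ) u * μ).re)).sum := by
    have e : (starRingEnd ℂ) u * s.sum = (s.map (fun μ => (starRingEnd ℂ) u * μ)).sum := by
      rw [Multiset.sum_map_mul_left, Multiset.map_id']
    rw [hS, e, ← Complex.coe_reAddGroupHom, map_multiset_sum, Multiset.map_map]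
    rfl
  have hle : ∀ μ ∈ s, ((starRingEnd ℂ) u * μ).re ≤ 1 := by
    intro μ hμ
    calc ((starRingEnd ℂ) u * μ).re ≤ ‖(starRingEnd ℂ) u * μ‖ := Complex.re_le_norm _
      _ = 1 := by rw [norm_mul, RCLike.norm_conj, hunorm, hs μ hμ, one_mul]
  -- each term equals 1
  have heq : ∀ μ ∈ s, ((starRingEnd ℂ) u * μ).re = 1 := by
    by_contra hcon
    simp only [not_forall] at hcon
    obtain ⟨μ₀, hμ₀, hne⟩ := hcon
    have hlt : ((starRingEnd ℂ) u * μ₀).re < 1 := lt_of_le_of_ne (hle μ₀ hμ₀) hne
    have : (s.map (fun μ => ((starRingEnd ℂ) u * μ).re)).sum < (s.map (fun _ => (1 : ℝ))).sum := by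
      apply Multiset.sum_lt_sum hle
      exact ⟨μ₀, hμ₀, hlt⟩
    rw [Multiset.map_const', Multiset.sum_replicate, nsmul_eq_mul, mul_one, ← h2, h1, h] at this
    exact lt_irrefl _ this
  intro μ hμ
  have hre := heq μ hμ
  have hn : ‖(starRingEnd ℂ) u * μ‖ = 1 := by
    rw [norm_mul, RCLike.norm_conj, hunorm, hs μ hμ, one_mul]
  -- a complex number of norm 1 and real part 1 is 1
  have hone : (starRingEnd ℂ) u * μ = 1 := by
    set w := (starRingEnd ℂ) u * μ with hw
    have hsq : w.re ^ 2 + w.im ^ 2 = 1 := by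
      have := Complex.sq_norm w
      rw [hn, Complex.normSq_apply] at this
      nlinarith [this]
    have him : w.im = 0 := by
      rw [hre] at hsq
      nlinarith [hsq]
    apply Complex.ext
    · simpa using hre
    · simpa using him
  have : u * ((starRingEnd ℂ) u * μ) = u := by rw [hone, mul_one]
  rw [← mul_assoc, Complex.mul_conj', hunorm] at this
  simpa using this

/-- The value at `1` of the character of a representation on `Fin n → ℂ` is `n`. -/
theorem character_one_fin {G : Type*} [Group G] (n : ℕ) (ρ : Representation ℂ G (Fin n → ℂ)) :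
    ρ.character 1 = (n : ℂ) := by
  rw [Representation.char_one]
  simp

/-- `charDegree` of the character of a representation on `Fin n → ℂ` is `n`. -/
theorem charDegree_character_fin {G : Type*} [Group G] (n : ℕ) (ρ : Representation ℂ G (Fin n → ℂ)) :
    Cfsg.charDegree ρ.character = n := by
  unfold Cfsg.charDegree
  rw [character_one_fin]
  simp

end Cfsg.Agent.Helper23
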