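import Mathlib
import Cfsg.Prelude.Def_Blocks

/-!
# The local ring of algebraic integers at a maximal ideal (helper23's shared library)

API for `Cfsg.MemLocalRing M z` (`z = a / b`, `a b` algebraic integers, `b ∉ M`) and
`Cfsg.MemLocalIdeal M z` (`a ∈ M` in addition), for a prime ideal `M` of `Cfsg.AlgInt`.

Namespace `Cfsg.Agent.Helper23.Blk`.
-/

set_option autoImplicit false

namespace Cfsg.Agent.Helper23.Blk

open Cfsg

variable {M : Ideal AlgInt}

theorem coe_ne_zero_of_not_mem {b : AlgInt} (hb : b ∉ M) : (b : ℂ) ≠ 0 := by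
  intro h
  apply hb
  have : b = 0 := Subtype.ext h
  rw [this]
  exact M.zero_mem

theorem memLocalRing_of_algInt (a : AlgInt) (hM : M ≠ ⊤) : MemLocalRing M (a : ℂ) := by
  refine ⟨a, 1, ?_, by simp⟩
  exact fun h => hM ((Ideal.eq_top_iff_one M).2 h)

theorem memLocalRing_of_isIntegral {z : ℂ} (hz : IsIntegral ℤ z) (hM : M ≠ ⊤) :
    MemLocalRing M z :=
  memLocalRing_of_algInt (⟨z, hz⟩ : AlgInt) hM

theorem memLocalIdeal_of_mem {a : AlgInt} (ha : a ∈ M) (hM : M ≠ ⊤) : MemLocalIdeal M (a : ℂ) := by
  refine ⟨a, 1, ha, ?_, by simp⟩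
  exact fun h => hM ((Ideal.eq_top_iff_one M).2 h)

theorem memLocalRing_of_memLocalIdeal {z : ℂ} (h : MemLocalIdeal M z) : MemLocalRing M z := by
  obtain ⟨a, b, -, hb, rfl⟩ := h
  exact ⟨a, b, hb, rfl⟩

theorem memLocalRing_zero (hM : M ≠ ⊤) : MemLocalRing M 0 := by
  have := memLocalRing_of_algInt (M := M) 0 hM
  simpa using this

theorem memLocalRing_one (hM : M ≠ ⊤) : MemLocalRing M 1 := by
  have := memLocalRing_of_algInt (M := M) 1 hM
  simpa using this

theorem memLocalIdeal_zero (hM : M ≠ ⊤) : MemLocalIdeal M 0 := by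
  have := memLocalIdeal_of_mem (M := M) (a := 0) M.zero_mem hM
  simpa using this

section Prime

variable [hMp : M.IsPrime]

theorem ne_top : M ≠ ⊤ := hMp.ne_top

theorem memLocalRing_add {x y : ℂ} (hx : MemLocalRing M x) (hy : MemLocalRing M y) :
    MemLocalRing M (x + y) := by
  obtain ⟨a, b, hb, rfl⟩ := hx
  obtain ⟨a', b', hb', rfl⟩ := hy
  refine ⟨a * b' + a' * b, b * b', ?_, ?_⟩
  · intro h
    rcases hMp.mem_or_mem h with h | h
    · exact hb h
    · exact hb' h
  · have h1 := coe_ne_zero_of_not_mem hb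
    have h2 := coe_ne_zero_of_not_mem hb'
    push_cast
    field_simp

theorem memLocalRing_mul {x y : ℂ} (hx : MemLocalRing M x) (hy : MemLocalRing M y) :
    MemLocalRing M (x * y) := by
  obtain ⟨a, b, hb, rfl⟩ := hx
  obtain ⟨a', b', hb', rfl⟩ := hy
  refine ⟨a * a', b * b', ?_, ?_⟩
  · intro h
    rcases hMp.mem_or_mem h with h | h
    · exact hb h
    · exact hb' h
  · have h1 := coe_ne_zero_of_not_mem hb
    have h2 := coe_ne_zero_of_not_mem hb'
    push_cast
    field_simp

theorem memLocalRing_neg {x : ℂ} (hx : MemLocalRing M x) : MemLocalRing M (-x) := by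
  obtain ⟨a, b, hb, rfl⟩ := hx
  refine ⟨-a, b, hb, ?_⟩
  push_cast
  ring

theorem memLocalRing_sub {x y : ℂ} (hx : MemLocalRing M x) (hy : MemLocalRing M y) :
    MemLocalRing M (x - y) := by
  rw [sub_eq_add_neg]
  exact memLocalRing_add hx (memLocalRing_neg hy)

theorem memLocalIdeal_add {x y : ℂ} (hx : MemLocalIdeal M x) (hy : MemLocalIdeal M y) :
    MemLocalIdeal M (x + y) := by
  obtain ⟨a, b, ha, hb, rfl⟩ := hx
  obtain ⟨a', b', ha', hb', rfl⟩ := hy
  refine ⟨a * b' + a' * b, b * b', ?_, ?_, ?_⟩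
  · exact M.add_mem (M.mul_mem_right _ ha) (M.mul_mem_right _ ha')
  · intro h
    rcases hMp.mem_or_mem h with h | h
    · exact hb h
    · exact hb' h
  · have h1 := coe_ne_zero_of_not_mem hb
    have h2 := coe_ne_zero_of_not_mem hb'
    push_cast
    field_simp

theorem memLocalIdeal_neg {x : ℂ} (hx : MemLocalIdeal M x) : MemLocalIdeal M (-x) := by
  obtain ⟨a, b, ha, hb, rfl⟩ := hx
  refine ⟨-a, b, M.neg_mem ha, hb, ?_⟩
  push_cast
  ring

theorem memLocalIdeal_sub {x y : ℂ} (hx : MemLocalIdeal M x) (hy : MemLocalIdeal M y) :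
    MemLocalIdeal M (x - y) := by
  rw [sub_eq_add_neg]
  exact memLocalIdeal_add hx (memLocalIdeal_neg hy)

theorem memLocalIdeal_mul_left {x y : ℂ} (hx : MemLocalRing M x) (hy : MemLocalIdeal M y) :
    MemLocalIdeal M (x * y) := by
  obtain ⟨a, b, hb, rfl⟩ := hx
  obtain ⟨a', b', ha', hb', rfl⟩ := hy
  refine ⟨a * a', b * b', M.mul_mem_left _ ha', ?_, ?_⟩
  · intro h
    rcases hMp.mem_or_mem h with h | h
    · exact hb h
    · exact hb' h
  · have h1 := coe_ne_zero_of_not_mem hb
    have h2 := coe_ne_zero_of_not_mem hb'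
    push_cast
    field_simp

theorem memLocalIdeal_mul_right {x y : ℂ} (hx : MemLocalIdeal M x) (hy : MemLocalRing M y) :
    MemLocalIdeal M (x * y) := by
  rw [mul_comm]
  exact memLocalIdeal_mul_left hy hx

/-- An algebraic integer lies in the local ideal iff it lies in `M`. -/
theorem memLocalIdeal_coe_iff {a : AlgInt} : MemLocalIdeal M (a : ℂ) ↔ a ∈ M := by
  constructor
  · rintro ⟨c, d, hc, hd, h⟩
    have hd0 := coe_ne_zero_of_not_mem hd
    have h2 : c = a * d := by
      apply Subtype.ext
      push_cast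
      rw [← h]
      field_simp
    rw [h2] at hc
    rcases hMp.mem_or_mem hc with h | h
    · exact h
    · exact absurd h hd
  · intro h
    exact memLocalIdeal_of_mem h ne_top

theorem not_memLocalIdeal_one : ¬ MemLocalIdeal M 1 := by
  intro h
  have : MemLocalIdeal M ((1 : AlgInt) : ℂ) := by simpa using h
  rw [memLocalIdeal_coe_iff] at this
  exact hMp.ne_top ((Ideal.eq_top_iff_one M).2 this)

/-- Elements of the local ring outside the local ideal are units of the local ring. -/
theorem memLocalRing_inv {x : ℂ} (hx : MemLocalRing M x) (hx' : ¬ MemLocalIdeal M x) :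
    MemLocalRing M x⁻¹ := by
  obtain ⟨a, b, hb, rfl⟩ := hx
  have ha : a ∉ M := fun h => hx' ⟨a, b, h, hb, rfl⟩
  exact ⟨b, a, ha, by rw [inv_div]⟩

theorem not_memLocalIdeal_inv {x : ℂ} (hx : MemLocalRing M x) (hx' : ¬ MemLocalIdeal M x) :
    ¬ MemLocalIdeal M x⁻¹ := by
  intro h
  have hx0 : x ≠ 0 := by
    rintro rfl
    exact hx' (memLocalIdeal_zero ne_top)
  have := memLocalIdeal_mul_left hx h
  rw [mul_inv_cancel₀ hx0] at this
  exact not_memLocalIdeal_one this

/-- The local ideal is prime. -/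
theorem memLocalIdeal_or_of_mul {x y : ℂ} (hx : MemLocalRing M x) (hy : MemLocalRing M y)
    (h : MemLocalIdeal M (x * y)) : MemLocalIdeal M x ∨ MemLocalIdeal M y := by
  by_contra hcon
  push Not at hcon
  have hxinv := memLocalRing_inv hx hcon.1
  have hx0 : x ≠ 0 := by
    rintro rfl
    exact hcon.1 (memLocalIdeal_zero ne_top)
  have := memLocalIdeal_mul_left hxinv h
  rw [← mul_assoc, inv_mul_cancel₀ hx0, one_mul] at this
  exact hcon.2 this

theorem not_memLocalIdeal_mul {x y : ℂ} (hx : MemLocalRing M x) (hy : MemLocalRing M y)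
    (hx' : ¬ MemLocalIdeal M x) (hy' : ¬ MemLocalIdeal M y) : ¬ MemLocalIdeal M (x * y) := by
  intro h
  rcases memLocalIdeal_or_of_mul hx hy h with h | h
  · exact hx' h
  · exact hy' h

theorem memLocalRing_sum {ι : Type*} (s : Finset ι) (f : ι → ℂ)
    (h : ∀ i ∈ s, MemLocalRing M (f i)) : MemLocalRing M (∑ i ∈ s, f i) := by
  classical
  induction s using Finset.induction_on with
  | empty => simpa using memLocalRing_zero (M := M) ne_top
  | insert j s hj ih =>
    rw [Finset.sum_insert hj]
    exact memLocalRing_add (h j (Finset.mem_insert_self j s))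
      (ih fun i hi => h i (Finset.mem_insert_of_mem hi))

theorem memLocalIdeal_sum {ι : Type*} (s : Finset ι) (f : ι → ℂ)
    (h : ∀ i ∈ s, MemLocalIdeal M (f i)) : MemLocalIdeal M (∑ i ∈ s, f i) := by
  classical
  induction s using Finset.induction_on with
  | empty => simpa using memLocalIdeal_zero (M := M) ne_top
  | insert j s hj ih =>
    rw [Finset.sum_insert hj]
    exact memLocalIdeal_add (h j (Finset.mem_insert_self j s))
      (ih fun i hi => h i (Finset.mem_insert_of_mem hi))

theorem memLocalRing_prod {ι : Type*} (s : Finset ι) (f : ι → ℂ)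
    (h : ∀ i ∈ s, MemLocalRing M (f i)) : MemLocalRing M (∏ i ∈ s, f i) := by
  classical
  induction s using Finset.induction_on with
  | empty => simpa using memLocalRing_one (M := M) ne_top
  | insert j s hj ih =>
    rw [Finset.prod_insert hj]
    exact memLocalRing_mul (h j (Finset.mem_insert_self j s))
      (ih fun i hi => h i (Finset.mem_insert_of_mem hi))

theorem not_memLocalIdeal_prod {ι : Type*} (s : Finset ι) (f : ι → ℂ)
    (h : ∀ i ∈ s, MemLocalRing M (f i)) (h' : ∀ i ∈ s, ¬ MemLocalIdeal M (f i)) :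
    ¬ MemLocalIdeal M (∏ i ∈ s, f i) := by
  classical
  induction s using Finset.induction_on with
  | empty => simpa using not_memLocalIdeal_one (M := M)
  | insert j s hj ih =>
    rw [Finset.prod_insert hj]
    exact not_memLocalIdeal_mul (h j (Finset.mem_insert_self j s))
      (memLocalRing_prod s f fun i hi => h i (Finset.mem_insert_of_mem hi))
      (h' j (Finset.mem_insert_self j s))
      (ih (fun i hi => h i (Finset.mem_insert_of_mem hi))
        (fun i hi => h' i (Finset.mem_insert_of_mem hi)))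

theorem memLocalRing_pow {x : ℂ} (hx : MemLocalRing M x) (n : ℕ) : MemLocalRing M (x ^ n) := by
  induction n with
  | zero => simpa using memLocalRing_one (M := M) ne_top
  | succ n ih => rw [pow_succ]; exact memLocalRing_mul ih hx

theorem memLocalRing_natCast (n : ℕ) : MemLocalRing M (n : ℂ) := by
  have := memLocalRing_of_algInt (M := M) (n : AlgInt) ne_top
  simpa using this

theorem memLocalRing_intCast (n : ℤ) : MemLocalRing M (n : ℂ) := by
  have := memLocalRing_of_algInt (M := M) (n : AlgInt) ne_top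
  simpa using this

end Prime

section Modular

variable {p : ℕ}

theorem isPrime_of_isPModular (hM : IsPModular p M) : M.IsPrime := hM.2.1.isPrime

theorem memLocalIdeal_prime (hM : IsPModular p M) : MemLocalIdeal M (p : ℂ) := by
  have := memLocalIdeal_of_mem hM.2.2 hM.2.1.ne_top
  simpa using this

/-- A natural number lies in the local ideal iff it is divisible by `p`. -/
theorem memLocalIdeal_natCast_iff (hM : IsPModular p M) (n : ℕ) :
    MemLocalIdeal M (n : ℂ) ↔ p ∣ n := by
  haveI := isPrime_of_isPModular hM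
  constructor
  · intro h
    by_contra hnd
    have hcop : Nat.Coprime n p := ((Nat.Prime.coprime_iff_not_dvd hM.1).2 hnd).symm
    have hb := Nat.gcd_eq_gcd_ab n p
    rw [hcop] at hb
    have h1 : (1 : ℂ) = (n : ℂ) * (Nat.gcdA n p : ℂ) + (p : ℂ) * (Nat.gcdB n p : ℂ) := by
      have := congrArg (fun z : ℤ => (z : ℂ)) hb
      push_cast at this
      exact this
    apply not_memLocalIdeal_one (M := M)
    rw [h1]
    exact memLocalIdeal_add (memLocalIdeal_mul_right h (memLocalRing_intCast _))
      (memLocalIdeal_mul_right (memLocalIdeal_prime hM) (memLocalRing_intCast _))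
  · rintro ⟨k, rfl⟩
    push_cast
    exact memLocalIdeal_mul_right (memLocalIdeal_prime hM) (memLocalRing_natCast _)

end Modular

end Cfsg.Agent.Helper23.Blk
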