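import Mathlib
import Cfsg.Prelude.Def_Blocks
import Cfsg.Agent.Lib.Helper24.CharComplete
import Cfsg.Agent.Lib.Helper24.CharCentral
import Cfsg.Agent.Lib.Helper24.CharIntegral
import Cfsg.Agent.Lib.Helper23.BlockLocal

/-!
# Central idempotents, central characters and block idempotents (helper23's shared library)

The centre of the group algebra is handled "spectrally": a vector `c : IrrCharacter G → ℂ`
stands for the central element `∑ χ, c χ • e_χ`, whose coefficient function is `synth c`.
Products of central elements are pointwise products of vectors (`synth_conv`).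

Main results: `memLocalRing_blockCoeff` (Osima: block idempotents have local-integer
coefficients), `blockOf_subset_of_memLocalRing`, `exists_isDefectClass`.
-/

set_option autoImplicit false
set_option linter.unusedSectionVars false

namespace Cfsg.Agent.Helper23.Blk

open Cfsg Cfsg.Agent.Helper24
open scoped ComplexConjugate

universe u

section Basic

variable {G : Type u} [Group G] [Fintype G]

/-- the coefficient at `g` of the central idempotent of `χ` -/
noncomputable def idemCoeff (χ : G → ℂ) (g : G) : ℂ :=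
  (Nat.card G : ℂ)⁻¹ * (χ 1 * conj (χ g))

/-- the central character of `χ`, on an arbitrary coefficient function -/
noncomputable def omega (χ : G → ℂ) (a : G → ℂ) : ℂ := (∑ g, a g * χ g) / χ 1

theorem card_ne_zero : (Nat.card G : ℂ) ≠ 0 := by
  exact_mod_cast (Nat.card_pos (α := G)).ne'

theorem irr_one_ne_zero {χ : G → ℂ} (hχ : IsIrrCharacter G χ) : χ 1 ≠ 0 := by
  obtain ⟨n, hn, h⟩ := irr_one_eq hχ
  rw [h]
  exact_mod_cast hn.ne'

theorem conj_irr_one {χ : G → ℂ} (hχ : IsIrrCharacter G χ) : conj (χ 1) = χ 1 := by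
  obtain ⟨n, -, h⟩ := irr_one_eq hχ
  rw [h, Complex.conj_natCast]

variable [Fintype (IrrCharacter G)]

/-- the coefficient function of the central element `∑ χ, c χ • e_χ` -/
noncomputable def synth (c : IrrCharacter G → ℂ) (g : G) : ℂ :=
  ∑ χ : IrrCharacter G, c χ * idemCoeff (χ : G → ℂ) g

theorem blockCoeff_eq_synth (B : Set (IrrCharacter G)) [DecidablePred (· ∈ B)] (g : G) :
    blockCoeff B g = synth (fun χ => if χ ∈ B then 1 else 0) g := by
  unfold blockCoeff synth idemCoeff
  rw [finsum_mem_def, finsum_eq_sum_of_fintype, Finset.mul_sum]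
  apply Finset.sum_congr rfl
  intro χ _
  rw [Set.indicator_apply]
  by_cases hχ : χ ∈ B
  · simp only [if_pos hχ]; ring
  · simp only [if_neg hχ]; ring

theorem synth_add (c c' : IrrCharacter G → ℂ) (g : G) :
    synth (c + c') g = synth c g + synth c' g := by
  unfold synth
  rw [← Finset.sum_add_distrib]
  apply Finset.sum_congr rfl
  intro χ _
  rw [Pi.add_apply]
  ring

theorem synth_smul (r : ℂ) (c : IrrCharacter G → ℂ) (g : G) :
    synth (r • c) g = r * synth c g := by
  unfold synth
  rw [Finset.mul_sum]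
  apply Finset.sum_congr rfl
  intro χ _
  rw [Pi.smul_apply, smul_eq_mul]
  ring

theorem synth_sub (c c' : IrrCharacter G → ℂ) (g : G) :
    synth (c - c') g = synth c g - synth c' g := by
  unfold synth
  rw [← Finset.sum_sub_distrib]
  apply Finset.sum_congr rfl
  intro χ _
  rw [Pi.sub_apply]
  ring

theorem synth_isClassFunction (c : IrrCharacter G → ℂ) : IsClassFunction G (synth c) := by
  intro g h
  unfold synth idemCoeff
  apply Finset.sum_congr rfl
  intro χ _
  rw [isClassFunction_of_isIrrCharacter χ.2 g h]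

/-- the central character of `ψ` reads off the `ψ`-coordinate -/
theorem omega_synth (c : IrrCharacter G → ℂ) (ψ : IrrCharacter G) :
    omega (ψ : G → ℂ) (synth c) = c ψ := by
  classical
  unfold omega synth idemCoeff
  have hψ1 := irr_one_ne_zero ψ.2
  have h1 : ∀ g : G, (∑ χ : IrrCharacter G, c χ * ((Nat.card G : ℂ)⁻¹ *
      ((χ : G → ℂ) 1 * conj ((χ : G → ℂ) g)))) * (ψ : G → ℂ) g =
      ∑ χ : IrrCharacter G, c χ * (χ : G → ℂ) 1 * ((Nat.card G : ℂ)⁻¹ *
        ((ψ : G → ℂ) g * conj ((χ : G → ℂ) g))) := by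
    intro g
    rw [Finset.sum_mul]
    apply Finset.sum_congr rfl
    intro χ _
    ring
  rw [Finset.sum_congr rfl (fun g _ => h1 g), Finset.sum_comm]
  have h2 : ∀ χ : IrrCharacter G, ∑ g : G, c χ * (χ : G → ℂ) 1 * ((Nat.card G : ℂ)⁻¹ *
        ((ψ : G → ℂ) g * conj ((χ : G → ℂ) g))) =
      c χ * (χ : G → ℂ) 1 * (if ψ = χ then 1 else 0) := by
    intro χ
    rw [← Finset.mul_sum, ← Finset.mul_sum, ← irr_orthogonality' ψ χ]
    rfl
  rw [Finset.sum_congr rfl (fun χ _ => h2 χ)]
  simp only [mul_ite, mul_one, mul_zero]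
  rw [Finset.sum_ite_eq, if_pos (Finset.mem_univ _)]
  field_simp

/-- products of central elements are pointwise products of their spectral vectors -/
theorem synth_conv (c c' : IrrCharacter G → ℂ) (g : G) :
    ∑ h : G, synth c h * synth c' (h⁻¹ * g) = synth (c * c') g := by
  classical
  unfold synth
  have h1 : ∀ h : G, (∑ χ : IrrCharacter G, c χ * idemCoeff (χ : G → ℂ) h) *
      (∑ ψ : IrrCharacter G, c' ψ * idemCoeff (ψ : G → ℂ) (h⁻¹ * g)) =
      ∑ χ : IrrCharacter G, ∑ ψ : IrrCharacter G, c χ * c' ψ *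
        (idemCoeff (χ : G → ℂ) h * idemCoeff (ψ : G → ℂ) (h⁻¹ * g)) := by
    intro h
    rw [Finset.sum_mul_sum]
    apply Finset.sum_congr rfl
    intro χ _
    apply Finset.sum_congr rfl
    intro ψ _
    ring
  rw [Finset.sum_congr rfl (fun h _ => h1 h), Finset.sum_comm]
  apply Finset.sum_congr rfl
  intro χ _
  rw [Finset.sum_comm]
  have h2 : ∀ ψ : IrrCharacter G, ∑ h : G, c χ * c' ψ *
      (idemCoeff (χ : G → ℂ) h * idemCoeff (ψ : G → ℂ) (h⁻¹ * g)) =
      if χ = ψ then c χ * c' ψ * idemCoeff (χ : G → ℂ) g else 0 := by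
    intro ψ
    rw [← Finset.mul_sum]
    have h3 : ∑ h : G, idemCoeff (χ : G → ℂ) h * idemCoeff (ψ : G → ℂ) (h⁻¹ * g) =
        (Nat.card G : ℂ)⁻¹ * (Nat.card G : ℂ)⁻¹ * ((χ : G → ℂ) 1 * (ψ : G → ℂ) 1) *
          conj (∑ h : G, (χ : G → ℂ) h * (ψ : G → ℂ) (h⁻¹ * g)) := by
      unfold idemCoeff
      rw [map_sum, Finset.mul_sum]
      apply Finset.sum_congr rfl
      intro h _
      rw [map_mul]
      ring
    rw [h3, generalized_orthogonality ψ.2 χ.2 g]
    by_cases hχψ : χ = ψ
    · subst hχψ
      rw [if_pos rfl, if_pos rfl]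
      unfold idemCoeff
      rw [map_div₀, map_mul, conj_irr_one χ.2, Complex.conj_natCast]
      have hχ1 := irr_one_ne_zero χ.2
      have hG := card_ne_zero (G := G)
      field_simp
    · have : (χ : G → ℂ) ≠ (ψ : G → ℂ) := fun h => hχψ (Subtype.ext h)
      rw [if_neg this, if_neg hχψ, map_zero, mul_zero, mul_zero]
  rw [Finset.sum_congr rfl (fun ψ _ => h2 ψ), Finset.sum_ite_eq, if_pos (Finset.mem_univ _)]
  rw [Pi.mul_apply]

/-- the spectral vector of the class sum of `h` is `(centralChar χ h)_χ` -/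
theorem synth_centralChar (h g : G) [Decidable (IsConj h g)] :
    synth (fun χ : IrrCharacter G => centralChar (χ : G → ℂ) h) g =
      if IsConj h g then 1 else 0 := by
  unfold synth idemCoeff centralChar
  have h1 : ∀ χ : IrrCharacter G,
      ((Subgroup.centralizer ({h} : Set G)).index : ℂ) * (χ : G → ℂ) h / (χ : G → ℂ) 1 *
        ((Nat.card G : ℂ)⁻¹ * ((χ : G → ℂ) 1 * conj ((χ : G → ℂ) g))) =
      ((Subgroup.centralizer ({h} : Set G)).index : ℂ) * (Nat.card G : ℂ)⁻¹ *
        conj ((χ : G → ℂ) g * conj ((χ : G → ℂ) h)) := by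
    intro χ
    have hχ1 := irr_one_ne_zero χ.2
    rw [map_mul, Complex.conj_conj]
    field_simp
  rw [Finset.sum_congr rfl (fun χ _ => h1 χ), ← Finset.mul_sum, ← map_sum,
    second_orthogonality' g h]
  split_ifs with hc
  · rw [Complex.conj_natCast]
    have h2 := Subgroup.card_mul_index (Subgroup.centralizer ({h} : Set G))
    have hG := card_ne_zero (G := G)
    rw [← h2]
    push_cast
    have hC : (Nat.card (Subgroup.centralizer ({h} : Set G)) : ℂ) ≠ 0 := by
      exact_mod_cast (Nat.card_pos (α := Subgroup.centralizer ({h} : Set G))).ne'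
    have hI : ((Subgroup.centralizer ({h} : Set G)).index : ℂ) ≠ 0 := by
      have : (Subgroup.centralizer ({h} : Set G)).index ≠ 0 := Subgroup.index_ne_zero_of_finite
      exact_mod_cast this
    field_simp
  · rw [map_zero, mul_zero]

theorem synth_one (g : G) [Decidable (g = 1)] :
    synth (fun _ : IrrCharacter G => (1 : ℂ)) g = if g = 1 then 1 else 0 := by
  classical
  have h1 : (fun _ : IrrCharacter G => (1 : ℂ)) =
      fun χ : IrrCharacter G => centralChar (χ : G → ℂ) 1 := by
    funext χ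
    unfold centralChar
    have hχ1 := irr_one_ne_zero χ.2
    have : Subgroup.centralizer ({1} : Set G) = ⊤ := by
      rw [eq_top_iff]
      intro x _
      rw [Subgroup.mem_centralizer_singleton_iff]
      simp
    rw [this, Subgroup.index_top, Nat.cast_one, one_mul, div_self hχ1]
  rw [h1, synth_centralChar 1 g]
  by_cases hg : g = 1
  · subst hg
    rw [if_pos (IsConj.refl 1), if_pos rfl]
  · rw [if_neg hg, if_neg]
    intro hc
    exact hg (isConj_one_right.1 hc)

end Basic

section Osima

variable {G : Type u} [Group G] [Fintype G] [Fintype (IrrCharacter G)] {M : Ideal AlgInt}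

/-- the spectral vector `c` represents a central element with local-integer coefficients -/
def IsIntegralVec (M : Ideal AlgInt) (c : IrrCharacter G → ℂ) : Prop :=
  ∀ g : G, MemLocalRing M (synth c g)

variable [hMp : M.IsPrime]

theorem isIntegralVec_centralChar (h : G) :
    IsIntegralVec M (fun χ : IrrCharacter G => centralChar (χ : G → ℂ) h) := by
  classical
  intro g
  rw [synth_centralChar h g]
  split_ifs
  · exact memLocalRing_one ne_top
  · exact memLocalRing_zero ne_top

theorem isIntegralVec_one : IsIntegralVec M (fun _ : IrrCharacter G => (1 : ℂ)) := by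
  classical
  intro g
  rw [synth_one g]
  split_ifs
  · exact memLocalRing_one ne_top
  · exact memLocalRing_zero ne_top

theorem IsIntegralVec.add {c c' : IrrCharacter G → ℂ} (hc : IsIntegralVec M c)
    (hc' : IsIntegralVec M c') : IsIntegralVec M (c + c') := by
  intro g
  rw [synth_add]
  exact memLocalRing_add (hc g) (hc' g)

theorem IsIntegralVec.sub {c c' : IrrCharacter G → ℂ} (hc : IsIntegralVec M c)
    (hc' : IsIntegralVec M c') : IsIntegralVec M (c - c') := by
  intro g
  rw [synth_sub]
  exact memLocalRing_sub (hc g) (hc' g)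

theorem IsIntegralVec.smul {r : ℂ} (hr : MemLocalRing M r) {c : IrrCharacter G → ℂ}
    (hc : IsIntegralVec M c) : IsIntegralVec M (r • c) := by
  intro g
  rw [synth_smul]
  exact memLocalRing_mul hr (hc g)

theorem IsIntegralVec.mul {c c' : IrrCharacter G → ℂ} (hc : IsIntegralVec M c)
    (hc' : IsIntegralVec M c') : IsIntegralVec M (c * c') := by
  intro g
  rw [← synth_conv]
  exact memLocalRing_sum _ _ fun h _ => memLocalRing_mul (hc h) (hc' _)

theorem isIntegralVec_const {r : ℂ} (hr : MemLocalRing M r) :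
    IsIntegralVec M (fun _ : IrrCharacter G => r) := by
  have h : (fun _ : IrrCharacter G => r) = r • (fun _ : IrrCharacter G => (1 : ℂ)) := by
    funext χ
    simp
  rw [h]
  exact IsIntegralVec.smul hr isIntegralVec_one

theorem isIntegralVec_prod {ι : Type*} (s : Finset ι) (f : ι → IrrCharacter G → ℂ)
    (h : ∀ i ∈ s, IsIntegralVec M (f i)) : IsIntegralVec M (∏ i ∈ s, f i) := by
  classical
  induction s using Finset.induction_on with
  | empty =>
    rw [Finset.prod_empty]
    exact isIntegralVec_one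
  | insert j s hj ih =>
    rw [Finset.prod_insert hj]
    exact IsIntegralVec.mul (h j (Finset.mem_insert_self j s))
      (ih fun i hi => h i (Finset.mem_insert_of_mem hi))

theorem memLocalRing_centralChar (χ : IrrCharacter G) (h : G) :
    MemLocalRing M (centralChar (χ : G → ℂ) h) :=
  memLocalRing_of_isIntegral (isIntegral_centralChar χ.2 h) ne_top

/-- **Osima's theorem**, spectral form: the indicator vector of a block is integral. -/
theorem isIntegralVec_block (χ₀ : IrrCharacter G) [DecidablePred (· ∈ blockOf M (χ₀ : G → ℂ))] :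
    IsIntegralVec M (fun χ : IrrCharacter G =>
      if χ ∈ blockOf M (χ₀ : G → ℂ) then (1 : ℂ) else 0) := by
  classical
  -- separating classes
  have hsep : ∀ ψ : IrrCharacter G, ∃ h : G, ψ ∉ blockOf M (χ₀ : G → ℂ) →
      ¬ MemLocalIdeal M (centralChar (χ₀ : G → ℂ) h - centralChar (ψ : G → ℂ) h) := by
    intro ψ
    by_cases hψ : ψ ∈ blockOf M (χ₀ : G → ℂ)
    · exact ⟨1, fun h => absurd hψ h⟩
    · have : ¬ SameBlock M (χ₀ : G → ℂ) (ψ : G → ℂ) := hψ
      unfold SameBlock at this
      push Not at this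
      obtain ⟨h, hh⟩ := this
      exact ⟨h, fun _ => hh⟩
  choose h hh using hsep
  -- the factors
  let d : IrrCharacter G → ℂ := fun ψ =>
    centralChar (χ₀ : G → ℂ) (h ψ) - centralChar (ψ : G → ℂ) (h ψ)
  let f : IrrCharacter G → IrrCharacter G → ℂ := fun ψ =>
    (d ψ)⁻¹ • ((fun χ : IrrCharacter G => centralChar (χ : G → ℂ) (h ψ)) -
      (fun _ : IrrCharacter G => centralChar (ψ : G → ℂ) (h ψ)))
  have hdR : ∀ ψ, MemLocalRing M (d ψ) := fun ψ =>
    memLocalRing_sub (memLocalRing_centralChar χ₀ _) (memLocalRing_centralChar ψ _)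
  have hfint : ∀ ψ, ψ ∉ blockOf M (χ₀ : G → ℂ) → IsIntegralVec M (f ψ) := by
    intro ψ hψ
    exact IsIntegralVec.smul (memLocalRing_inv (hdR ψ) (hh ψ hψ))
      (IsIntegralVec.sub (isIntegralVec_centralChar _)
        (isIntegralVec_const (memLocalRing_centralChar ψ _)))
  have hfψ : ∀ ψ, f ψ ψ = 0 := by
    intro ψ
    simp [f]
  have hfR : ∀ ψ, ψ ∉ blockOf M (χ₀ : G → ℂ) → ∀ χ, MemLocalRing M (f ψ χ) := by
    intro ψ hψ χ
    simp only [f, Pi.smul_apply, Pi.sub_apply, smul_eq_mul]
    exact memLocalRing_mul (memLocalRing_inv (hdR ψ) (hh ψ hψ))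
      (memLocalRing_sub (memLocalRing_centralChar χ _) (memLocalRing_centralChar ψ _))
  have hfunit : ∀ ψ, ψ ∉ blockOf M (χ₀ : G → ℂ) → ∀ χ ∈ blockOf M (χ₀ : G → ℂ),
      ¬ MemLocalIdeal M (f ψ χ) := by
    intro ψ hψ χ hχ hmem
    have hd0 : d ψ ≠ 0 := by
      intro h0
      apply hh ψ hψ
      show MemLocalIdeal M (d ψ)
      rw [h0]
      exact memLocalIdeal_zero ne_top
    have h1 : f ψ χ = 1 - (d ψ)⁻¹ * (centralChar (χ₀ : G → ℂ) (h ψ) -
        centralChar (χ : G → ℂ) (h ψ)) := by
      have h3 : centralChar (χ : G → ℂ) (h ψ) - centralChar (ψ : G → ℂ) (h ψ) =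
          d ψ - (centralChar (χ₀ : G → ℂ) (h ψ) - centralChar (χ : G → ℂ) (h ψ)) := by
        simp only [d]
        ring
      simp only [f, Pi.smul_apply, Pi.sub_apply, smul_eq_mul]
      rw [h3, mul_sub, inv_mul_cancel₀ hd0]
    have h2 : MemLocalIdeal M ((d ψ)⁻¹ * (centralChar (χ₀ : G → ℂ) (h ψ) -
        centralChar (χ : G → ℂ) (h ψ))) :=
      memLocalIdeal_mul_left (memLocalRing_inv (hdR ψ) (hh ψ hψ)) (hχ (h ψ))
    apply not_memLocalIdeal_one (M := M)
    have : (1 : ℂ) = f ψ χ + (d ψ)⁻¹ * (centralChar (χ₀ : G → ℂ) (h ψ) -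
        centralChar (χ : G → ℂ) (h ψ)) := by rw [h1]; ring
    rw [this]
    exact memLocalIdeal_add hmem h2
  -- the separating element
  let S : Finset (IrrCharacter G) := Finset.univ.filter (· ∉ blockOf M (χ₀ : G → ℂ))
  let T : Finset (IrrCharacter G) := Finset.univ.filter (· ∈ blockOf M (χ₀ : G → ℂ))
  let w : IrrCharacter G → ℂ := ∏ ψ ∈ S, f ψ
  have hwint : IsIntegralVec M w :=
    isIntegralVec_prod S f fun ψ hψ => hfint ψ (Finset.mem_filter.1 hψ).2
  have hwapply : ∀ χ, w χ = ∏ ψ ∈ S, f ψ χ := fun χ => Finset.prod_apply χ S f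
  have hw0 : ∀ ψ, ψ ∉ blockOf M (χ₀ : G → ℂ) → w ψ = 0 := by
    intro ψ hψ
    rw [hwapply]
    exact Finset.prod_eq_zero (Finset.mem_filter.2 ⟨Finset.mem_univ _, hψ⟩) (hfψ ψ)
  have hwR : ∀ χ, MemLocalRing M (w χ) := by
    intro χ
    rw [hwapply]
    exact memLocalRing_prod _ _ fun ψ hψ => hfR ψ (Finset.mem_filter.1 hψ).2 χ
  have hwunit : ∀ χ ∈ blockOf M (χ₀ : G → ℂ), ¬ MemLocalIdeal M (w χ) := by
    intro χ hχ
    rw [hwapply]
    exact not_memLocalIdeal_prod _ _ (fun ψ hψ => hfR ψ (Finset.mem_filter.1 hψ).2 χ)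
      (fun ψ hψ => hfunit ψ (Finset.mem_filter.1 hψ).2 χ hχ)
  -- the polynomial in `w`
  let P0 : ℂ := ∏ χ ∈ T, (- w χ)
  have hP0R : MemLocalRing M P0 := memLocalRing_prod _ _ fun χ _ => memLocalRing_neg (hwR χ)
  have hP0unit : ¬ MemLocalIdeal M P0 :=
    not_memLocalIdeal_prod _ _ (fun χ _ => memLocalRing_neg (hwR χ)) (fun χ hχ hmem => by
      have := memLocalIdeal_neg hmem
      rw [neg_neg] at this
      exact hwunit χ (Finset.mem_filter.1 hχ).2 this)
  have hP00 : P0 ≠ 0 := by
    intro h0
    apply hP0unit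
    rw [h0]
    exact memLocalIdeal_zero ne_top
  let Q : IrrCharacter G → ℂ := ∏ χ ∈ T, (w - fun _ : IrrCharacter G => w χ)
  have hQint : IsIntegralVec M Q :=
    isIntegralVec_prod T _ fun χ _ => IsIntegralVec.sub hwint (isIntegralVec_const (hwR χ))
  have hQapply : ∀ χ', Q χ' = ∏ χ ∈ T, (w χ' - w χ) := by
    intro χ'
    simp only [Q]
    rw [Finset.prod_apply]
    rfl
  have hfinal : (fun χ : IrrCharacter G =>
      if χ ∈ blockOf M (χ₀ : G → ℂ) then (1 : ℂ) else 0) =
      (fun _ : IrrCharacter G => (1 : ℂ)) - P0⁻¹ • Q := by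
    funext χ'
    rw [Pi.sub_apply, Pi.smul_apply, smul_eq_mul, hQapply]
    by_cases hχ' : χ' ∈ blockOf M (χ₀ : G → ℂ)
    · rw [if_pos hχ']
      rw [Finset.prod_eq_zero (Finset.mem_filter.2 ⟨Finset.mem_univ _, hχ'⟩) (sub_self _)]
      ring
    · rw [if_neg hχ', hw0 χ' hχ']
      simp only [zero_sub]
      rw [inv_mul_cancel₀ hP00, sub_self]
  rw [hfinal]
  exact IsIntegralVec.sub isIntegralVec_one
    (IsIntegralVec.smul (memLocalRing_inv hP0R hP0unit) hQint)

end Osima

section Omega

variable {G : Type u} [Group G] [Fintype G] {M : Ideal AlgInt}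

/-- the central character evaluated classwise -/
theorem omega_eq_sum_classes [DecidableEq G] [Fintype (ConjClasses G)] {χ a : G → ℂ}
    (hχ : IsClassFunction G χ) (ha : IsClassFunction G a) :
    omega χ a = ∑ K : ConjClasses G, a (Quotient.out K) * centralChar χ (Quotient.out K) := by
  unfold omega centralChar
  have hf : IsClassFunction G (fun g => a g * χ g) := by
    intro g h
    simp only
    rw [ha g h, hχ g h]
  rw [sum_classFunction_eq hf, Finset.sum_div]
  apply Finset.sum_congr rfl
  intro K _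
  ring

theorem sameBlock_refl [hMp : M.IsPrime] (χ : G → ℂ) : SameBlock M χ χ := by
  intro g
  rw [sub_self]
  exact memLocalIdeal_zero ne_top

theorem sameBlock_symm [hMp : M.IsPrime] {χ ψ : G → ℂ} (h : SameBlock M χ ψ) :
    SameBlock M ψ χ := by
  intro g
  have := memLocalIdeal_neg (h g)
  rwa [neg_sub] at this

theorem sameBlock_trans [hMp : M.IsPrime] {χ ψ φ : G → ℂ} (h : SameBlock M χ ψ)
    (h' : SameBlock M ψ φ) : SameBlock M χ φ := by
  intro g
  have := memLocalIdeal_add (h g) (h' g)
  rwa [sub_add_sub_cancel] at this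

theorem mem_blockOf_self [hMp : M.IsPrime] (χ : IrrCharacter G) : χ ∈ blockOf M (χ : G → ℂ) :=
  sameBlock_refl _

theorem blockOf_eq_of_mem [hMp : M.IsPrime] {χ ψ : IrrCharacter G}
    (h : ψ ∈ blockOf M (χ : G → ℂ)) : blockOf M (ψ : G → ℂ) = blockOf M (χ : G → ℂ) := by
  ext φ
  constructor
  · intro hφ
    exact sameBlock_trans h hφ
  · intro hφ
    exact sameBlock_trans (sameBlock_symm h) hφ

/-- Characters in the same block have congruent central characters on every central element
with local-integer coefficients. -/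
theorem memLocalIdeal_omega_sub [hMp : M.IsPrime] {χ ψ : IrrCharacter G}
    (h : SameBlock M (χ : G → ℂ) (ψ : G → ℂ)) {a : G → ℂ} (ha : IsClassFunction G a)
    (haR : ∀ g, MemLocalRing M (a g)) :
    MemLocalIdeal M (omega (χ : G → ℂ) a - omega (ψ : G → ℂ) a) := by
  classical
  haveI : Fintype (ConjClasses G) := Fintype.ofFinite _
  rw [omega_eq_sum_classes (isClassFunction_of_isIrrCharacter χ.2) ha,
    omega_eq_sum_classes (isClassFunction_of_isIrrCharacter ψ.2) ha, ← Finset.sum_sub_distrib]
  apply memLocalIdeal_sum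
  intro K _
  rw [← mul_sub]
  exact memLocalIdeal_mul_left (haR _) (h _)

end Omega

section OsimaFinite

variable {G : Type u} [Group G] [Finite G] {M : Ideal AlgInt}

/-- **Osima's theorem**: the coefficients of a block idempotent are local integers. -/
theorem memLocalRing_blockCoeff (hMp : M.IsPrime) {B : Set (IrrCharacter G)}
    (hB : IsPBlock M B) (g : G) : MemLocalRing M (blockCoeff B g) := by
  classical
  haveI : Fintype G := Fintype.ofFinite G
  letI : Fintype (IrrCharacter G) := irrFintype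
  obtain ⟨χ₀, rfl⟩ := hB
  rw [blockCoeff_eq_synth]
  exact isIntegralVec_block χ₀ g

/-- A set of irreducible characters whose idempotent has local-integer coefficients is a union
of blocks. -/
theorem blockOf_subset_of_memLocalRing (hMp : M.IsPrime) {A : Set (IrrCharacter G)}
    (hA : ∀ g : G, MemLocalRing M (blockCoeff A g)) {χ : IrrCharacter G} (hχ : χ ∈ A) :
    blockOf M (χ : G → ℂ) ⊆ A := by
  classical
  haveI : Fintype G := Fintype.ofFinite G
  letI : Fintype (IrrCharacter G) := irrFintype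
  intro ψ hψ
  by_contra hψA
  have hcf : IsClassFunction G (synth (fun φ : IrrCharacter G => if φ ∈ A then (1 : ℂ) else 0)) :=
    synth_isClassFunction _
  have hR : ∀ g, MemLocalRing M
      (synth (fun φ : IrrCharacter G => if φ ∈ A then (1 : ℂ) else 0) g) := by
    intro g
    rw [← blockCoeff_eq_synth]
    exact hA g
  have h := memLocalIdeal_omega_sub (M := M) hψ hcf hR
  rw [omega_synth, omega_synth, if_pos hχ, if_neg hψA, sub_zero] at h
  exact not_memLocalIdeal_one h

/-- Every block has a defect class. -/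
theorem exists_isDefectClass (hMp : M.IsPrime) {B : Set (IrrCharacter G)} (hB : IsPBlock M B) :
    ∃ g : G, IsDefectClass M B g := by
  classical
  haveI : Fintype G := Fintype.ofFinite G
  letI : Fintype (IrrCharacter G) := irrFintype
  haveI : Fintype (ConjClasses G) := Fintype.ofFinite _
  have hBR := fun g => memLocalRing_blockCoeff hMp hB g
  obtain ⟨χ₀, rfl⟩ := hB
  have hcf : IsClassFunction G (synth (fun φ : IrrCharacter G =>
      if φ ∈ blockOf M (χ₀ : G → ℂ) then (1 : ℂ) else 0)) := synth_isClassFunction _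
  have h1 : omega (χ₀ : G → ℂ) (synth (fun φ : IrrCharacter G =>
      if φ ∈ blockOf M (χ₀ : G → ℂ) then (1 : ℂ) else 0)) = 1 := by
    rw [omega_synth, if_pos (mem_blockOf_self χ₀)]
  rw [omega_eq_sum_classes (isClassFunction_of_isIrrCharacter χ₀.2) hcf] at h1
  by_contra hno
  push Not at hno
  apply not_memLocalIdeal_one (M := M)
  rw [← h1]
  apply memLocalIdeal_sum
  intro K _
  rw [← blockCoeff_eq_synth]
  by_contra hK
  apply hno (Quotient.out K)
  have hωR := memLocalRing_centralChar (M := M) χ₀ (Quotient.out K)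
  refine ⟨hBR _, ?_, ?_⟩
  · intro hmem
    exact hK (memLocalIdeal_mul_right hmem hωR)
  · intro χ hχ hmem
    apply hK
    apply memLocalIdeal_mul_left (hBR _)
    have h2 := memLocalIdeal_add (hχ (Quotient.out K)) hmem
    rwa [sub_add_cancel] at h2

end OsimaFinite

end Cfsg.Agent.Helper23.Blk
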