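import Mathlib
import Cfsg.Prelude.Def_Blocks
import Cfsg.Agent.Lib.Helper23.BlockLocal
import Cfsg.Agent.Lib.Helper8.Clifford2

/-!
# Idempotent matrices over the local ring: congruent idempotents have equal traces
(helper23's shared library)
-/

set_option autoImplicit false
set_option linter.unusedSectionVars false

namespace Cfsg.Agent.Helper23.Blk

open Cfsg

variable {M : Ideal AlgInt} [hMp : M.IsPrime]

theorem memLocalIdeal_prod_of_mem {ι : Type*} (s : Finset ι) (f : ι → ℂ)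
    (h : ∀ i ∈ s, MemLocalRing M (f i)) {j : ι} (hj : j ∈ s) (hfj : MemLocalIdeal M (f j)) :
    MemLocalIdeal M (∏ i ∈ s, f i) := by
  classical
  rw [← Finset.mul_prod_erase s f hj]
  exact memLocalIdeal_mul_right hfj
    (memLocalRing_prod _ _ fun i hi => h i (Finset.mem_of_mem_erase hi))

theorem memLocalIdeal_prod_one_add_sub_one {ι : Type*} (s : Finset ι) (x : ι → ℂ)
    (h : ∀ i ∈ s, MemLocalIdeal M (x i)) : MemLocalIdeal M (∏ i ∈ s, (1 + x i) - 1) := by
  classical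
  induction s using Finset.induction_on with
  | empty =>
    rw [Finset.prod_empty, sub_self]
    exact memLocalIdeal_zero ne_top
  | insert j s hj ih =>
    rw [Finset.prod_insert hj]
    have h1 : (1 + x j) * ∏ i ∈ s, (1 + x i) - 1 =
        (∏ i ∈ s, (1 + x i) - 1) + x j * ∏ i ∈ s, (1 + x i) := by ring
    rw [h1]
    apply memLocalIdeal_add (ih fun i hi => h i (Finset.mem_insert_of_mem hi))
    apply memLocalIdeal_mul_right (h j (Finset.mem_insert_self j s))
    apply memLocalRing_prod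
    intro i hi
    exact memLocalRing_add (memLocalRing_one ne_top)
      (memLocalRing_of_memLocalIdeal (h i (Finset.mem_insert_of_mem hi)))

/-- A matrix congruent to the identity modulo the local ideal has a determinant outside the
local ideal. -/
theorem not_memLocalIdeal_det_one_add {n : Type*} [Fintype n] [DecidableEq n]
    (N : Matrix n n ℂ) (hN : ∀ i j, MemLocalIdeal M (N i j)) :
    ¬ MemLocalIdeal M (Matrix.det (1 + N)) := by
  have hR : ∀ i j, MemLocalRing M ((1 + N) i j) := by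
    intro i j
    rw [Matrix.add_apply]
    apply memLocalRing_add _ (memLocalRing_of_memLocalIdeal (hN i j))
    by_cases hij : i = j
    · rw [hij, Matrix.one_apply_eq]; exact memLocalRing_one ne_top
    · rw [Matrix.one_apply_ne hij]; exact memLocalRing_zero ne_top
  have key : MemLocalIdeal M (Matrix.det (1 + N) - 1) := by
    rw [Matrix.det_apply', ← Finset.add_sum_erase _ _ (Finset.mem_univ (1 : Equiv.Perm n))]
    have h1 : ((Equiv.Perm.sign (1 : Equiv.Perm n) : ℤ) : ℂ) *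
        ∏ i, (1 + N) ((1 : Equiv.Perm n) i) i = ∏ i, (1 + N i i) := by
      rw [Equiv.Perm.sign_one]
      simp
    rw [h1, add_sub_right_comm]
    apply memLocalIdeal_add
    · exact memLocalIdeal_prod_one_add_sub_one _ _ fun i _ => hN i i
    · apply memLocalIdeal_sum
      intro σ hσ
      have hσ1 : σ ≠ 1 := Finset.ne_of_mem_erase hσ
      obtain ⟨i, hi⟩ : ∃ i, σ i ≠ i := by
        by_contra hcon
        push Not at hcon
        exact hσ1 (Equiv.ext hcon)
      apply memLocalIdeal_mul_left (memLocalRing_intCast _)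
      apply memLocalIdeal_prod_of_mem _ _ (fun j _ => hR _ _) (Finset.mem_univ i)
      rw [Matrix.add_apply, Matrix.one_apply_ne hi, zero_add]
      exact hN _ _
  intro hdet
  apply not_memLocalIdeal_one (M := M)
  have : (1 : ℂ) = Matrix.det (1 + N) - (Matrix.det (1 + N) - 1) := by ring
  rw [this]
  exact memLocalIdeal_sub hdet key

/-- Idempotent matrices over the local ring that are congruent modulo the local ideal have the
same trace. -/
theorem trace_eq_of_idempotent_congr {n : Type*} [Fintype n] [DecidableEq n]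
    (P P' : Matrix n n ℂ) (hP : P * P = P) (hP' : P' * P' = P')
    (hR : ∀ i j, MemLocalRing M (P i j))
    (hcong : ∀ i j, MemLocalIdeal M (P' i j - P i j)) : P'.trace = P.trace := by
  have hN : ∀ i j, MemLocalIdeal M (((P' - P) * (2 • P - 1) : Matrix n n ℂ) i j) := by
    intro i j
    rw [Matrix.mul_apply]
    apply memLocalIdeal_sum
    intro k _
    apply memLocalIdeal_mul_right
    · rw [Matrix.sub_apply]; exact hcong i k
    · rw [Matrix.sub_apply, Matrix.smul_apply]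
      apply memLocalRing_sub
      · rw [nsmul_eq_mul]
        exact memLocalRing_mul (memLocalRing_natCast 2) (hR k j)
      · by_cases hkj : k = j
        · rw [hkj, Matrix.one_apply_eq]; exact memLocalRing_one ne_top
        · rw [Matrix.one_apply_ne hkj]; exact memLocalRing_zero ne_top
  have hU : P' * P + (1 - P') * (1 - P) = 1 + (P' - P) * (2 • P - 1) := by
    have e1 : (P' - P) * (2 • P - 1) = 2 • (P' * P) - P' - 2 • (P * P) + P := by
      rw [Matrix.sub_mul, Matrix.mul_sub, Matrix.mul_sub, Matrix.mul_one, Matrix.mul_one,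
        Matrix.mul_smul, Matrix.mul_smul]
      abel
    rw [e1, hP, Matrix.sub_mul, Matrix.mul_sub, Matrix.mul_sub, Matrix.one_mul, Matrix.one_mul,
      Matrix.mul_one]
    rw [two_smul, two_smul]
    abel
  have hdet : Matrix.det (P' * P + (1 - P') * (1 - P)) ≠ 0 := by
    rw [hU]
    intro h0
    apply not_memLocalIdeal_det_one_add (M := M) _ hN
    rw [h0]
    exact memLocalIdeal_zero ne_top
  have hunit : IsUnit (Matrix.det (P' * P + (1 - P') * (1 - P))) := isUnit_iff_ne_zero.2 hdet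
  have h1 : P' * (P' * P + (1 - P') * (1 - P)) = P' * P := by
    have e : P' * (1 - P') = 0 := by rw [Matrix.mul_sub, Matrix.mul_one, hP', sub_self]
    rw [Matrix.mul_add, ← Matrix.mul_assoc, hP', ← Matrix.mul_assoc, e, Matrix.zero_mul,
      add_zero]
  have h2 : (P' * P + (1 - P') * (1 - P)) * P = P' * P := by
    have e : (1 - P) * P = 0 := by rw [Matrix.sub_mul, Matrix.one_mul, hP, sub_self]
    rw [Matrix.add_mul, Matrix.mul_assoc, hP, Matrix.mul_assoc, e, Matrix.mul_zero, add_zero]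
  calc P'.trace = (P' * ((P' * P + (1 - P') * (1 - P)) *
        (P' * P + (1 - P') * (1 - P))⁻¹)).trace := by
        rw [Matrix.mul_nonsing_inv _ hunit, Matrix.mul_one]
    _ = ((P' * P + (1 - P') * (1 - P)) * P * (P' * P + (1 - P') * (1 - P))⁻¹).trace := by
        rw [← Matrix.mul_assoc, h1, h2]
    _ = ((P' * P + (1 - P') * (1 - P))⁻¹ * (P' * P + (1 - P') * (1 - P)) * P).trace := by
        rw [Matrix.trace_mul_cycle]
    _ = P.trace := by rw [Matrix.nonsing_inv_mul _ hunit, Matrix.one_mul]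

section Proj

universe u

variable {G : Type u} [Group G] [Fintype G]

/-- `a` is the coefficient function of an idempotent of the group algebra -/
def IsConvIdem (a : G → ℂ) : Prop := ∀ g : G, ∑ h : G, a h * a (h⁻¹ * g) = a g

variable (Y : Subgroup G) [Fintype Y] {T : Type*} [Fintype T] [DecidableEq T] (ι : T → G)

/-- the matrix of right multiplication by `a` on the `ν`-isotypic lattice -/
noncomputable def projMat (a : G → ℂ) (ν : Y →* ℂˣ) : Matrix T T ℂ :=
  fun t t' => ∑ c : Y, a ((ι t)⁻¹ * c * ι t') * ((ν c : ℂˣ) : ℂ)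

variable {Y ι}

theorem IsConvIdem.shift {a : G → ℂ} (ha : IsConvIdem a) (x w : G) :
    ∑ h : G, a (x⁻¹ * h) * a (h⁻¹ * w) = a (x⁻¹ * w) := by
  rw [← Equiv.sum_comp (Equiv.mulLeft x), ← ha (x⁻¹ * w)]
  apply Finset.sum_congr rfl
  intro h _
  simp only [Equiv.coe_mulLeft]
  have e1 : x⁻¹ * (x * h) = h := by group
  have e2 : (x * h)⁻¹ * w = h⁻¹ * (x⁻¹ * w) := by group
  rw [e1, e2]

theorem projMat_idem (e : Y × T ≃ G) (he : ∀ c t, e (c, t) = (c : G) * ι t) {a : G → ℂ}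
    (ha : IsConvIdem a) (ν : Y →* ℂˣ) : projMat Y ι a ν * projMat Y ι a ν = projMat Y ι a ν := by
  ext t t''
  rw [Matrix.mul_apply]
  simp only [projMat]
  -- reindex the inner sum
  have h1 : ∀ (t' : T) (c : Y),
      a ((ι t)⁻¹ * c * ι t') * ((ν c : ℂˣ) : ℂ) *
        ∑ c' : Y, a ((ι t')⁻¹ * c' * ι t'') * ((ν c' : ℂˣ) : ℂ) =
      ∑ d : Y, ((ν d : ℂˣ) : ℂ) *
        (a ((ι t)⁻¹ * e (c, t')) * a ((e (c, t'))⁻¹ * (d * ι t''))) := by
    intro t' c
    rw [← Equiv.sum_comp (Equiv.mulLeft c⁻¹), Finset.mul_sum]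
    apply Finset.sum_congr rfl
    intro d _
    rw [he]
    simp only [Equiv.coe_mulLeft, Subgroup.coe_mul, Subgroup.coe_inv, map_mul, map_inv,
      Units.val_mul]
    have e1 : (ι t')⁻¹ * ((c : G)⁻¹ * d) * ι t'' = ((c : G) * ι t')⁻¹ * (d * ι t'') := by group
    have e2 : (ι t)⁻¹ * c * ι t' = (ι t)⁻¹ * ((c : G) * ι t') := by group
    rw [e1, e2]
    have hne : ((ν c : ℂˣ) : ℂ) ≠ 0 := Units.ne_zero _
    rw [Units.val_inv_eq_inv_val]
    field_simp
  have h2 : ∑ t' : T, (∑ c : Y, a ((ι t)⁻¹ * c * ι t') * ((ν c : ℂˣ) : ℂ)) *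
      ∑ c' : Y, a ((ι t')⁻¹ * c' * ι t'') * ((ν c' : ℂˣ) : ℂ) =
      ∑ t' : T, ∑ c : Y, ∑ d : Y, ((ν d : ℂˣ) : ℂ) *
        (a ((ι t)⁻¹ * e (c, t')) * a ((e (c, t'))⁻¹ * (d * ι t''))) := by
    apply Finset.sum_congr rfl
    intro t' _
    rw [Finset.sum_mul]
    apply Finset.sum_congr rfl
    intro c _
    exact h1 t' c
  rw [h2]
  have h3 : ∀ d : Y, ∑ h : G, a ((ι t)⁻¹ * h) * a (h⁻¹ * (d * ι t'')) =
      ∑ c : Y, ∑ t' : T, a ((ι t)⁻¹ * e (c, t')) * a ((e (c, t'))⁻¹ * (d * ι t'')) := by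
    intro d
    rw [← Equiv.sum_comp e, Fintype.sum_prod_type]
  have h4 : ∑ t' : T, ∑ c : Y, ∑ d : Y, ((ν d : ℂˣ) : ℂ) *
        (a ((ι t)⁻¹ * e (c, t')) * a ((e (c, t'))⁻¹ * (d * ι t''))) =
      ∑ d : Y, ((ν d : ℂˣ) : ℂ) * ∑ h : G, a ((ι t)⁻¹ * h) * a (h⁻¹ * (d * ι t'')) := by
    calc ∑ t' : T, ∑ c : Y, ∑ d : Y, ((ν d : ℂˣ) : ℂ) *
          (a ((ι t)⁻¹ * e (c, t')) * a ((e (c, t'))⁻¹ * (d * ι t'')))
        = ∑ t' : T, ∑ d : Y, ∑ c : Y, ((ν d : ℂˣ) : ℂ) *
          (a ((ι t)⁻¹ * e (c, t')) * a ((e (c, t'))⁻¹ * (d * ι t''))) := by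
          apply Finset.sum_congr rfl
          intro t' _
          exact Finset.sum_comm
      _ = ∑ d : Y, ∑ t' : T, ∑ c : Y, ((ν d : ℂˣ) : ℂ) *
          (a ((ι t)⁻¹ * e (c, t')) * a ((e (c, t'))⁻¹ * (d * ι t''))) := Finset.sum_comm
      _ = ∑ d : Y, ∑ c : Y, ∑ t' : T, ((ν d : ℂˣ) : ℂ) *
          (a ((ι t)⁻¹ * e (c, t')) * a ((e (c, t'))⁻¹ * (d * ι t''))) := by
          apply Finset.sum_congr rfl
          intro d _
          exact Finset.sum_comm
      _ = ∑ d : Y, ((ν d : ℂˣ) : ℂ) * ∑ h : G, a ((ι t)⁻¹ * h) * a (h⁻¹ * (d * ι t'')) := by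
          apply Finset.sum_congr rfl
          intro d _
          rw [h3 d]
          simp only [Finset.mul_sum]
  rw [h4]
  apply Finset.sum_congr rfl
  intro d _
  rw [ha.shift, mul_comm]
  congr 2
  group

theorem projMat_trace (e : Y × T ≃ G) (he : ∀ c t, e (c, t) = (c : G) * ι t)
    (hYc : ∀ c c' : Y, c * c' = c' * c) (a : G → ℂ) (ν : Y →* ℂˣ) :
    (Nat.card Y : ℂ) * (projMat Y ι a ν).trace =
      ∑ c : Y, ((ν c : ℂˣ) : ℂ) * ∑ g : G, a (g⁻¹ * c * g) := by
  have h0 : (projMat Y ι a ν).trace =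
      ∑ t : T, ∑ c : Y, a ((ι t)⁻¹ * c * ι t) * ((ν c : ℂˣ) : ℂ) := rfl
  rw [h0, Finset.sum_comm, Finset.mul_sum]
  apply Finset.sum_congr rfl
  intro c _
  rw [← Equiv.sum_comp e, Fintype.sum_prod_type]
  have h1 : ∀ (c' : Y) (t : T), a ((e (c', t))⁻¹ * c * e (c', t)) = a ((ι t)⁻¹ * c * ι t) := by
    intro c' t
    rw [he]
    have h2 : (c' : G) * c = c * c' := by
      have := hYc c' c
      exact congrArg Subtype.val this
    have : ((c' : G) * ι t)⁻¹ * c * ((c' : G) * ι t) = (ι t)⁻¹ * c * ι t := by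
      calc ((c' : G) * ι t)⁻¹ * c * ((c' : G) * ι t)
          = (ι t)⁻¹ * (c' : G)⁻¹ * ((c : G) * c') * ι t := by group
        _ = (ι t)⁻¹ * (c' : G)⁻¹ * ((c' : G) * c) * ι t := by rw [h2]
        _ = (ι t)⁻¹ * c * ι t := by group
    rw [this]
  simp only [h1, Finset.sum_const, Finset.card_univ, nsmul_eq_mul]
  rw [Nat.card_eq_fintype_card, ← Finset.sum_mul]
  ring

theorem sum_hom_mul_eq_of_congr {M : Ideal AlgInt} [hMp : M.IsPrime] (e : Y × T ≃ G)
    (he : ∀ c t, e (c, t) = (c : G) * ι t) (hYc : ∀ c c' : Y, c * c' = c' * c) {a : G → ℂ}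
    (ha : IsConvIdem a) (haR : ∀ g, MemLocalRing M (a g)) (ν ν' : Y →* ℂˣ)
    (hνR : ∀ c, MemLocalRing M ((ν c : ℂˣ) : ℂ))
    (hν : ∀ c, MemLocalIdeal M (((ν' c : ℂˣ) : ℂ) - ((ν c : ℂˣ) : ℂ))) :
    ∑ c : Y, ((ν' c : ℂˣ) : ℂ) * ∑ g : G, a (g⁻¹ * c * g) =
      ∑ c : Y, ((ν c : ℂˣ) : ℂ) * ∑ g : G, a (g⁻¹ * c * g) := by
  rw [← projMat_trace e he hYc a ν', ← projMat_trace e he hYc a ν]
  congr 1
  apply trace_eq_of_idempotent_congr (M := M) _ _ (projMat_idem e he ha ν)
    (projMat_idem e he ha ν')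
  · intro t t'
    simp only [projMat]
    exact memLocalRing_sum _ _ fun c _ => memLocalRing_mul (haR _) (hνR c)
  · intro t t'
    simp only [projMat]
    rw [← Finset.sum_sub_distrib]
    apply memLocalIdeal_sum
    intro c _
    rw [← mul_sub]
    exact memLocalIdeal_mul_left (haR _) (hν c)

end Proj

section Roots

variable {M : Ideal AlgInt} {p : ℕ}

/-- `p`-power roots of unity are congruent to `1` modulo the local ideal. -/
theorem memLocalIdeal_sub_one_of_pow_eq_one (hM : IsPModular p M) {z : ℂ} {k : ℕ}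
    (hz : z ^ p ^ k = 1) : MemLocalIdeal M (z - 1) := by
  haveI hMp : M.IsPrime := hM.2.1.isPrime
  have hp : p.Prime := hM.1
  have hint : IsIntegral ℤ z :=
    IsIntegral.of_pow (pow_pos hp.pos k) (by rw [hz]; exact isIntegral_one)
  obtain ⟨r, hr⟩ := exists_add_pow_prime_pow_eq hp (⟨z, hint⟩ : AlgInt) (-1) k
  have hζ : (⟨z, hint⟩ : AlgInt) ^ p ^ k = 1 := by
    apply Subtype.ext
    push_cast
    exact hz
  have hmem : ((⟨z, hint⟩ : AlgInt) + (-1)) ^ p ^ k ∈ M := by
    rw [hr, hζ]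
    apply M.add_mem
    · rcases hp.eq_two_or_odd' with h2 | hodd
      · rcases neg_one_pow_eq_or AlgInt (p ^ k) with h | h
        · rw [h]
          have : (1 : AlgInt) + 1 = (p : AlgInt) := by rw [h2]; norm_num
          rw [this]
          exact hM.2.2
        · rw [h, add_neg_cancel]
          exact M.zero_mem
      · rw [(hodd.pow).neg_one_pow, add_neg_cancel]
        exact M.zero_mem
    · rw [mul_assoc, mul_assoc]
      exact M.mul_mem_right _ hM.2.2
  have h2 := hMp.mem_of_pow_mem _ hmem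
  have h3 := memLocalIdeal_of_mem h2 hMp.ne_top
  have h4 : (((⟨z, hint⟩ : AlgInt) + (-1) : AlgInt) : ℂ) = z - 1 := by
    push_cast
    ring
  rwa [h4] at h3

end Roots

section Vanish

universe u

open Cfsg.Agent.Helper8

variable {G : Type u} [Group G] [Fintype G] {M : Ideal AlgInt} {p : ℕ}

/-- **The character of a projective module vanishes on `p`-singular elements**: if `a` is an
idempotent of the group algebra with local-integer coefficients and `p ∣ orderOf y`, then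
`∑ g, a (g⁻¹ y g) = 0`. -/
theorem sum_conj_eq_zero_of_idem (hM : IsPModular p M) {a : G → ℂ} (ha : IsConvIdem a)
    (haR : ∀ g, MemLocalRing M (a g)) {y : G} (hy : p ∣ orderOf y) :
    ∑ g : G, a (g⁻¹ * y * g) = 0 := by
  classical
  haveI hMp : M.IsPrime := hM.2.1.isPrime
  have hp : p.Prime := hM.1
  -- the cyclic subgroup and its commutativity
  have hYc : ∀ c c' : Subgroup.zpowers y, c * c' = c' * c := by
    rintro ⟨c, hc⟩ ⟨c', hc'⟩
    obtain ⟨i, rfl⟩ := Subgroup.mem_zpowers_iff.1 hc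
    obtain ⟨j, rfl⟩ := Subgroup.mem_zpowers_iff.1 hc'
    apply Subtype.ext
    simp only [Subgroup.coe_mul]
    rw [← zpow_add, ← zpow_add, add_comm]
  haveI : Fintype (Subgroup.zpowers y) := Fintype.ofFinite _
  haveI : Finite ((Subgroup.zpowers y) →* ℂˣ) := finite_hom hYc
  haveI : Fintype ((Subgroup.zpowers y) →* ℂˣ) := Fintype.ofFinite _
  -- a transversal
  obtain ⟨S, hS, -⟩ := Subgroup.exists_isComplement_right (Subgroup.zpowers y) 1
  haveI : Fintype S := Fintype.ofFinite _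
  let e : (Subgroup.zpowers y) × S ≃ G := Equiv.ofBijective _ hS
  have he : ∀ (c : Subgroup.zpowers y) (t : S), e (c, t) = (c : G) * (t : G) := fun _ _ => rfl
  -- the p-part
  have hn0 : orderOf y ≠ 0 := (orderOf_pos y).ne'
  set k := (orderOf y).factorization p with hk
  have hk1 : 1 ≤ k := (hp.dvd_iff_one_le_factorization hn0).1 hy
  let yY : Subgroup.zpowers y := ⟨y, Subgroup.mem_zpowers y⟩
  have hordY : orderOf yY = orderOf y := Subgroup.orderOf_mk y _
  have hyH : yY ∉ Subgroup.zpowers (yY ^ p ^ k) := by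
    intro hmem
    have h1 : Subgroup.zpowers yY ≤ Subgroup.zpowers (yY ^ p ^ k) :=
      Subgroup.zpowers_le.2 hmem
    have h2 := Subgroup.card_le_of_le h1
    rw [Nat.card_zpowers, Nat.card_zpowers, orderOf_pow' _ (pow_pos hp.pos k).ne', hordY] at h2
    have h3 : p ^ k ∣ orderOf y := Nat.ordProj_dvd _ _
    rw [Nat.gcd_eq_right h3] at h2
    have h4 : orderOf y / p ^ k < orderOf y :=
      Nat.div_lt_self (orderOf_pos y) (Nat.one_lt_pow (by omega) hp.one_lt)
    omega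
  obtain ⟨lam, hlamH, hlamy⟩ := exists_hom_ne_one_of_not_mem hYc _ hyH
  have hlampow : ∀ c : Subgroup.zpowers y, (((lam c : ℂˣ) : ℂ)) ^ p ^ k = 1 := by
    intro c
    have hc : c ^ p ^ k ∈ Subgroup.zpowers (yY ^ p ^ k) := by
      obtain ⟨c, hc⟩ := c
      obtain ⟨i, rfl⟩ := Subgroup.mem_zpowers_iff.1 hc
      rw [Subgroup.mem_zpowers_iff]
      refine ⟨i, ?_⟩
      apply Subtype.ext
      simp only [Subgroup.coe_zpow, Subgroup.coe_pow, yY]
      rw [← zpow_natCast, ← zpow_natCast, ← zpow_mul, ← zpow_mul, mul_comm]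
    have := hlamH _ hc
    rw [map_pow] at this
    rw [← Units.val_pow_eq_pow_val, this, Units.val_one]
  -- roots of unity are local integers
  have hνR : ∀ (ν : (Subgroup.zpowers y) →* ℂˣ) (c : Subgroup.zpowers y),
      MemLocalRing M ((ν c : ℂˣ) : ℂ) := by
    intro ν c
    apply memLocalRing_of_isIntegral _ hMp.ne_top
    apply IsIntegral.of_pow (Nat.card_pos (α := Subgroup.zpowers y))
    rw [← Units.val_pow_eq_pow_val, ← map_pow, pow_card_eq_one', map_one, Units.val_one]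
    exact isIntegral_one
  -- the invariance of the Fourier transform
  have hF : ∀ ν : (Subgroup.zpowers y) →* ℂˣ,
      ∑ c : Subgroup.zpowers y, (((ν * lam) c : ℂˣ) : ℂ) * ∑ g : G, a (g⁻¹ * c * g) =
      ∑ c : Subgroup.zpowers y, ((ν c : ℂˣ) : ℂ) * ∑ g : G, a (g⁻¹ * c * g) := by
    intro ν
    apply sum_hom_mul_eq_of_congr (M := M) e he hYc ha haR ν (ν * lam) (hνR ν)
    intro c
    rw [MonoidHom.mul_apply, Units.val_mul]
    have : ((ν c : ℂˣ) : ℂ) * ((lam c : ℂˣ) : ℂ) - ((ν c : ℂˣ) : ℂ) =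
        ((ν c : ℂˣ) : ℂ) * (((lam c : ℂˣ) : ℂ) - 1) := by ring
    rw [this]
    exact memLocalIdeal_mul_left (hνR ν c) (memLocalIdeal_sub_one_of_pow_eq_one hM (hlampow c))
  -- Fourier inversion
  set ψ : Subgroup.zpowers y → ℂ := fun c => ∑ g : G, a (g⁻¹ * c * g) with hψ
  have hinv : ∑ ν : (Subgroup.zpowers y) →* ℂˣ, (((ν yY)⁻¹ : ℂˣ) : ℂ) *
      ∑ c : Subgroup.zpowers y, ((ν c : ℂˣ) : ℂ) * ψ c =
      (Nat.card (Subgroup.zpowers y) : ℂ) * ψ yY := by
    have h1 : ∀ ν : (Subgroup.zpowers y) →* ℂˣ, (((ν yY)⁻¹ : ℂˣ) : ℂ) *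
        ∑ c : Subgroup.zpowers y, ((ν c : ℂˣ) : ℂ) * ψ c =
        ∑ c : Subgroup.zpowers y, ψ c * ((ν (yY⁻¹ * c) : ℂˣ) : ℂ) := by
      intro ν
      rw [Finset.mul_sum]
      apply Finset.sum_congr rfl
      intro c _
      rw [map_mul, map_inv, Units.val_mul]
      ring
    rw [Finset.sum_congr rfl (fun ν _ => h1 ν), Finset.sum_comm]
    have h2 : ∀ c : Subgroup.zpowers y, ∑ ν : (Subgroup.zpowers y) →* ℂˣ,
        ψ c * ((ν (yY⁻¹ * c) : ℂˣ) : ℂ) =
        if c = yY then (Nat.card (Subgroup.zpowers y) : ℂ) * ψ yY else 0 := by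
      intro c
      rw [← Finset.mul_sum, sum_hom_apply hYc (yY⁻¹ * c)]
      by_cases hc : c = yY
      · subst hc
        rw [if_pos (inv_mul_cancel _), if_pos rfl, mul_comm]
      · rw [if_neg hc, if_neg, mul_zero]
        intro h
        apply hc
        have := congrArg (fun z => yY * z) h
        simpa using this
    rw [Finset.sum_congr rfl (fun c _ => h2 c), Finset.sum_ite_eq', if_pos (Finset.mem_univ _)]
  -- the shift argument
  have hshift : ∑ ν : (Subgroup.zpowers y) →* ℂˣ, (((ν yY)⁻¹ : ℂˣ) : ℂ) *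
      ∑ c : Subgroup.zpowers y, ((ν c : ℂˣ) : ℂ) * ψ c =
      (((lam yY)⁻¹ : ℂˣ) : ℂ) * ∑ ν : (Subgroup.zpowers y) →* ℂˣ, (((ν yY)⁻¹ : ℂˣ) : ℂ) *
        ∑ c : Subgroup.zpowers y, ((ν c : ℂˣ) : ℂ) * ψ c := by
    conv_lhs => rw [← Equiv.sum_comp (Equiv.mulRight lam)]
    rw [Finset.mul_sum]
    apply Finset.sum_congr rfl
    intro ν _
    simp only [Equiv.coe_mulRight]
    rw [hF ν, MonoidHom.mul_apply, mul_inv, Units.val_mul]
    ring
  have hlam1 : (((lam yY)⁻¹ : ℂˣ) : ℂ) ≠ 1 := by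
    intro h
    apply hlamy
    have : (lam yY)⁻¹ = 1 := Units.ext (by rw [h, Units.val_one])
    rwa [inv_eq_one] at this
  have hzero : ∑ ν : (Subgroup.zpowers y) →* ℂˣ, (((ν yY)⁻¹ : ℂˣ) : ℂ) *
      ∑ c : Subgroup.zpowers y, ((ν c : ℂˣ) : ℂ) * ψ c = 0 := by
    by_contra hne
    apply hlam1
    have := hshift
    nth_rewrite 1 [← one_mul (∑ ν : (Subgroup.zpowers y) →* ℂˣ, (((ν yY)⁻¹ : ℂˣ) : ℂ) *
      ∑ c : Subgroup.zpowers y, ((ν c : ℂˣ) : ℂ) * ψ c)] at this
    exact (mul_right_cancel₀ hne this).symm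
  rw [hzero] at hinv
  have hcard : (Nat.card (Subgroup.zpowers y) : ℂ) ≠ 0 := by
    exact_mod_cast (Nat.card_pos (α := Subgroup.zpowers y)).ne'
  have := (mul_eq_zero.1 hinv.symm).resolve_left hcard
  exact this

end Vanish

end Cfsg.Agent.Helper23.Blk
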