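import Mathlib
import Cfsg.Prelude.Def_Blocks
import Cfsg.Agent.Lib.Helper23.BlockIdem
import Cfsg.Agent.Lib.Helper23.BlockTrace
import Cfsg.Agent.Lib.Helper24.CharLinear

/-!
# Convolution of coefficient functions; vanishing of block idempotents on `p`-singular elements
(helper23's shared library)
-/

set_option autoImplicit false
set_option linter.unusedSectionVars false

namespace Cfsg.Agent.Helper23.Blk

open Cfsg Cfsg.Agent.Helper24
open scoped ComplexConjugate

universe u

section Conv

variable {G : Type u} [Group G] [Fintype G]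

/-- convolution: the product in the group algebra, on coefficient functions -/
noncomputable def conv (f g : G → ℂ) : G → ℂ := fun x => ∑ h : G, f h * g (h⁻¹ * x)

theorem conv_apply (f g : G → ℂ) (x : G) : conv f g x = ∑ h : G, f h * g (h⁻¹ * x) := rfl

theorem isConvIdem_iff {a : G → ℂ} : IsConvIdem a ↔ conv a a = a := by
  constructor
  · intro h
    funext x
    exact h x
  · intro h x
    exact congrFun h x

theorem conv_assoc (f g k : G → ℂ) : conv (conv f g) k = conv f (conv g k) := by
  funext x
  simp only [conv_apply]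
  have h1 : ∀ h : G, (∑ u : G, f u * g (u⁻¹ * h)) * k (h⁻¹ * x) =
      ∑ u : G, f u * (g (u⁻¹ * h) * k (h⁻¹ * x)) := by
    intro h
    rw [Finset.sum_mul]
    apply Finset.sum_congr rfl
    intro u _
    ring
  rw [Finset.sum_congr rfl (fun h _ => h1 h), Finset.sum_comm]
  apply Finset.sum_congr rfl
  intro u _
  rw [← Finset.mul_sum]
  congr 1
  rw [← Equiv.sum_comp (Equiv.mulLeft u)]
  apply Finset.sum_congr rfl
  intro v _
  simp only [Equiv.coe_mulLeft]
  have e1 : u⁻¹ * (u * v) = v := by group
  have e2 : (u * v)⁻¹ * x = v⁻¹ * (u⁻¹ * x) := by group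
  rw [e1, e2]

theorem conv_comm_of_isClassFunction {a : G → ℂ} (ha : IsClassFunction G a) (f : G → ℂ) :
    conv a f = conv f a := by
  funext x
  simp only [conv_apply]
  calc ∑ h : G, a h * f (h⁻¹ * x) = ∑ u : G, a (x * u⁻¹) * f ((x * u⁻¹)⁻¹ * x) := by
        rw [← Equiv.sum_comp ((Equiv.inv G).trans (Equiv.mulLeft x))]
        rfl
    _ = ∑ u : G, f u * a (u⁻¹ * x) := by
        apply Finset.sum_congr rfl
        intro u _
        have e1 : (x * u⁻¹)⁻¹ * x = u := by group
        have e2 : a (x * u⁻¹) = a (u⁻¹ * x) := by
          have := ha (x * u⁻¹) u⁻¹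
          rw [← this]
          congr 1
          group
        rw [e1, e2, mul_comm]

/-- the product of a central idempotent and an idempotent is an idempotent -/
theorem isConvIdem_conv {a f : G → ℂ} (ha : IsClassFunction G a) (hai : IsConvIdem a)
    (hf : IsConvIdem f) : IsConvIdem (conv a f) := by
  rw [isConvIdem_iff] at *
  calc conv (conv a f) (conv a f) = conv a (conv f (conv a f)) := conv_assoc _ _ _
    _ = conv a (conv (conv f a) f) := by rw [conv_assoc f a f]
    _ = conv a (conv (conv a f) f) := by rw [conv_comm_of_isClassFunction ha f]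
    _ = conv a (conv a (conv f f)) := by rw [conv_assoc a f f]
    _ = conv (conv a a) (conv f f) := by rw [conv_assoc a a]
    _ = conv a f := by rw [hai, hf]

end Conv

section Osima2

variable {G : Type u} [Group G] [Fintype G] [Fintype (IrrCharacter G)]

theorem isConvIdem_synth {c : IrrCharacter G → ℂ} (hc : c * c = c) : IsConvIdem (synth c) := by
  intro g
  rw [synth_conv, hc]

theorem isConvIdem_synth_indicator (A : Set (IrrCharacter G)) [DecidablePred (· ∈ A)] :
    IsConvIdem (synth (fun χ : IrrCharacter G => if χ ∈ A then (1 : ℂ) else 0)) := by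
  apply isConvIdem_synth
  funext χ
  rw [Pi.mul_apply]
  split_ifs <;> simp

end Osima2

section Osima2Finite

variable {G : Type u} [Group G] [Finite G] {M : Ideal AlgInt} {p : ℕ}

/-- **Osima**: a sum of central idempotents of irreducible characters with local-integer
coefficients vanishes at `p`-singular elements. -/
theorem blockCoeff_eq_zero_of_memLocalRing (hM : IsPModular p M) {A : Set (IrrCharacter G)}
    (hA : ∀ g : G, MemLocalRing M (blockCoeff A g)) {y : G} (hy : p ∣ orderOf y) :
    blockCoeff A y = 0 := by
  classical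
  haveI : Fintype G := Fintype.ofFinite G
  letI : Fintype (IrrCharacter G) := irrFintype
  have hR : ∀ g, MemLocalRing M
      (synth (fun χ : IrrCharacter G => if χ ∈ A then (1 : ℂ) else 0) g) := by
    intro g
    rw [← blockCoeff_eq_synth]
    exact hA g
  have h := sum_conj_eq_zero_of_idem hM (isConvIdem_synth_indicator A) hR hy
  have hcf := synth_isClassFunction (fun χ : IrrCharacter G => if χ ∈ A then (1 : ℂ) else 0)
  have h2 : ∀ g : G, synth (fun χ : IrrCharacter G => if χ ∈ A then (1 : ℂ) else 0)
      (g⁻¹ * y * g) = synth (fun χ : IrrCharacter G => if χ ∈ A then (1 : ℂ) else 0) y := by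
    intro g
    have := hcf y g⁻¹
    rwa [inv_inv] at this
  rw [Finset.sum_congr rfl (fun g _ => h2 g), Finset.sum_const, Finset.card_univ,
    nsmul_eq_mul] at h
  rw [blockCoeff_eq_synth]
  have hcard : (Fintype.card G : ℂ) ≠ 0 := by
    exact_mod_cast Fintype.card_ne_zero
  exact (mul_eq_zero.1 h).resolve_left hcard

/-- **Osima**: block idempotents are supported on the `p`-regular elements. -/
theorem blockCoeff_eq_zero_of_pSingular (hM : IsPModular p M) {B : Set (IrrCharacter G)}
    (hB : IsPBlock M B) {y : G} (hy : p ∣ orderOf y) : blockCoeff B y = 0 :=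
  blockCoeff_eq_zero_of_memLocalRing hM
    (fun g => memLocalRing_blockCoeff hM.2.1.isPrime hB g) hy

end Osima2Finite

end Cfsg.Agent.Helper23.Blk
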