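import Mathlib
import Cfsg.Prelude.Def_Blocks
import Cfsg.Agent.Lib.Helper24.CharLinear
import Cfsg.Agent.Lib.Helper23.BlockIdem

/-!
# Defect classes and defect groups: elementary facts (helper23's shared library)
-/

set_option autoImplicit false
set_option linter.unusedSectionVars false

namespace Cfsg.Agent.Helper23.Blk

open Cfsg Cfsg.Agent.Helper24
open scoped ComplexConjugate

universe u

section Conj

variable {G : Type u} [Group G]

/-- the centralizer of a conjugate is the conjugate of the centralizer -/
theorem centralizer_conj (g x : G) :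
    Subgroup.centralizer ({x * g * x⁻¹} : Set G) =
      (Subgroup.centralizer ({g} : Set G)).map (MulAut.conj x).toMonoidHom := by
  ext y
  rw [Subgroup.mem_centralizer_singleton_iff, Subgroup.mem_map]
  constructor
  · intro hy
    refine ⟨x⁻¹ * y * x, ?_, ?_⟩
    · rw [Subgroup.mem_centralizer_singleton_iff]
      have : x⁻¹ * (y * (x * g * x⁻¹)) * x = x⁻¹ * ((x * g * x⁻¹) * y) * x := by rw [hy]
      calc x⁻¹ * y * x * g = x⁻¹ * (y * (x * g * x⁻¹)) * x := by group
        _ = x⁻¹ * ((x * g * x⁻¹) * y) * x := this
        _ = g * (x⁻¹ * y * x) := by group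
    · simp [MulAut.conj_apply]
      group
  · rintro ⟨z, hz, rfl⟩
    rw [Subgroup.mem_centralizer_singleton_iff] at hz
    simp only [MulEquiv.coe_toMonoidHom, MulAut.conj_apply]
    calc x * z * x⁻¹ * (x * g * x⁻¹) = x * (z * g) * x⁻¹ := by group
      _ = x * (g * z) * x⁻¹ := by rw [hz]
      _ = x * g * x⁻¹ * (x * z * x⁻¹) := by group

theorem index_centralizer_conj (g x : G) :
    (Subgroup.centralizer ({x * g * x⁻¹} : Set G)).index =
      (Subgroup.centralizer ({g} : Set G)).index := by
  rw [centralizer_conj]
  exact Subgroup.index_map_equiv _ (MulAut.conj x)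

theorem centralChar_conj {χ : G → ℂ} (hχ : IsClassFunction G χ) (g x : G) :
    centralChar χ (x * g * x⁻¹) = centralChar χ g := by
  unfold centralChar
  rw [index_centralizer_conj, hχ g x]

theorem blockCoeff_conj [Finite G] (B : Set (IrrCharacter G)) (g x : G) :
    blockCoeff B (x * g * x⁻¹) = blockCoeff B g := by
  unfold blockCoeff
  congr 1
  apply finsum_mem_congr rfl
  intro χ _
  rw [isClassFunction_of_isIrrCharacter χ.2 g x]

theorem isDefectClass_conj [Finite G] {M : Ideal AlgInt} {B : Set (IrrCharacter G)} {g : G}
    (h : IsDefectClass M B g) (x : G) : IsDefectClass M B (x * g * x⁻¹) := by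
  obtain ⟨h1, h2, h3⟩ := h
  refine ⟨?_, ?_, ?_⟩
  · rwa [blockCoeff_conj]
  · rwa [blockCoeff_conj]
  · intro χ hχ
    rw [centralChar_conj (isClassFunction_of_isIrrCharacter χ.2)]
    exact h3 χ hχ

end Conj

section Principal

variable {G : Type u} [Group G] {M : Ideal AlgInt}

theorem principalBlock_eq : principalBlock M G = blockOf M ((principalChar G : IrrCharacter G) : G → ℂ) :=
  rfl

theorem isPBlock_principalBlock : IsPBlock M (principalBlock M G) :=
  ⟨principalChar G, rfl⟩

theorem principalChar_mem_principalBlock [Finite G] [hMp : M.IsPrime] :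
    principalChar G ∈ principalBlock M G := by
  haveI : Fintype G := Fintype.ofFinite G
  exact mem_blockOf_self (principalChar G)

theorem centralChar_principalChar (g : G) :
    centralChar ((principalChar G : IrrCharacter G) : G → ℂ) g =
      ((Subgroup.centralizer ({g} : Set G)).index : ℂ) := by
  unfold centralChar principalChar
  simp

end Principal

section SylowCentralizer

variable {G : Type u} [Group G] [Finite G] {p : ℕ} [hp : Fact p.Prime]

/-- If `p ∤ |G : C|`, a Sylow `p`-subgroup of `C` is a Sylow `p`-subgroup of `G`. -/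
theorem card_map_sylow_of_not_dvd_index (C : Subgroup G) (hC : ¬ p ∣ C.index) (P : Sylow p C) :
    Nat.card ((P : Subgroup C).map C.subtype) = p ^ (Nat.card G).factorization p := by
  rw [Subgroup.card_subtype, P.card_eq_multiplicity]
  congr 1
  have h1 := Subgroup.card_mul_index C
  have hC0 : Nat.card C ≠ 0 := Nat.card_pos.ne'
  have hI0 : C.index ≠ 0 := Subgroup.index_ne_zero_of_finite
  rw [← h1, Nat.factorization_mul hC0 hI0, Finsupp.add_apply,
    Nat.factorization_eq_zero_of_not_dvd hC, add_zero]

end SylowCentralizer

end Cfsg.Agent.Helper23.Blk
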