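import Mathlib
import Cfsg.Agent.Lib.Helper23.BlockConv
import Cfsg.Agent.Lib.Helper23.BlockDefect
import Cfsg.Agent.Lib.Helper8.Clifford2

/-!
# The order of a defect group (helper23's shared library)
-/

set_option autoImplicit false
set_option linter.unusedSectionVars false

namespace Cfsg.Agent.Helper23.Blk

open Cfsg Cfsg.Agent.Helper24
open scoped ComplexConjugate

universe u

section Arith

variable {M : Ideal AlgInt} {p : ℕ}

/-- A quotient of natural numbers whose numerator is more divisible by `p` than its denominator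
lies in the local ideal. -/
theorem memLocalIdeal_natCast_div (hM : IsPModular p M) {A B : ℕ} (hA : A ≠ 0) (hB : B ≠ 0)
    (h : B.factorization p < A.factorization p) : MemLocalIdeal M ((A : ℂ) / (B : ℂ)) := by
  haveI hMp : M.IsPrime := hM.2.1.isPrime
  have hp : p.Prime := hM.1
  obtain ⟨A', hA'⟩ : p ^ A.factorization p ∣ A := Nat.ordProj_dvd _ _
  obtain ⟨B', hB'⟩ : p ^ B.factorization p ∣ B := Nat.ordProj_dvd _ _
  have hpB' : ¬ p ∣ B' := by
    intro hd
    obtain ⟨B'', hB''⟩ := hd
    have h1 : p ^ (B.factorization p + 1) ∣ B := by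
      rw [pow_succ]
      exact ⟨B'', by rw [mul_assoc, ← hB'', ← hB']⟩
    have := (hp.pow_dvd_iff_le_factorization hB).1 h1
    omega
  have hB'0 : (B' : ℂ) ≠ 0 := by
    have : B' ≠ 0 := by
      rintro rfl
      exact hpB' (dvd_zero _)
    exact_mod_cast this
  have hpc : (p : ℂ) ≠ 0 := by exact_mod_cast hp.ne_zero
  obtain ⟨k, hk⟩ : ∃ k, A.factorization p = B.factorization p + (k + 1) :=
    ⟨A.factorization p - B.factorization p - 1, by omega⟩
  have heq : (A : ℂ) / (B : ℂ) = ((p ^ (k + 1) : ℕ) : ℂ) * ((A' : ℂ) * (B' : ℂ)⁻¹) := by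
    have hA'' : (A : ℂ) = (p : ℂ) ^ (B.factorization p) * (p : ℂ) ^ (k + 1) * A' := by
      conv_lhs => rw [hA', hk]
      push_cast
      rw [pow_add]
    have hB'' : (B : ℂ) = (p : ℂ) ^ (B.factorization p) * B' := by
      conv_lhs => rw [hB']
      push_cast
      rfl
    rw [hA'', hB'']
    push_cast
    field_simp
  rw [heq]
  apply memLocalIdeal_mul_right
  · rw [memLocalIdeal_natCast_iff hM]
    exact dvd_pow_self p (Nat.succ_ne_zero k)
  · apply memLocalRing_mul (memLocalRing_natCast A')
    apply memLocalRing_inv (memLocalRing_natCast B')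
    rw [memLocalIdeal_natCast_iff hM]
    exact hpB'

end Arith

section Vanish

variable {G : Type u} [Group G] [Fintype G]

/-- a `p`-element times a commuting `p'`-element is `p`-singular -/
theorem dvd_orderOf_mul_of_commute {p : ℕ} (hp : p.Prime) {u c : G} (hu : u ≠ 1)
    (hu' : ∃ k, orderOf u = p ^ k) (hc : ¬ p ∣ orderOf c) (hcomm : Commute u c) :
    p ∣ orderOf (u * c) := by
  obtain ⟨k, hk⟩ := hu'
  have hk0 : k ≠ 0 := by
    rintro rfl
    rw [pow_zero, orderOf_eq_one_iff] at hk
    exact hu hk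
  have hcop : (orderOf u).Coprime (orderOf c) := by
    rw [hk]
    exact Nat.Coprime.pow_left _ ((Nat.Prime.coprime_iff_not_dvd hp).2 hc)
  rw [hcomm.orderOf_mul_eq_mul_orderOf_of_coprime hcop, hk]
  exact dvd_mul_of_dvd_left (dvd_pow_self p hk0) _

/-- **A character vanishing on the `p`-singular elements** has, at a `p`-regular element `g`,
a value divisible by the order of every `p`-subgroup of the centralizer of `g`. -/
theorem exists_isIntegral_eq_card_mul {p : ℕ} (hp : p.Prime) {θ : G → ℂ} (hθ : IsCharacter G θ)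
    (hvan : ∀ x : G, p ∣ orderOf x → θ x = 0) {g : G} (hg : ¬ p ∣ orderOf g)
    (Q : Subgroup G) (hQ : IsPGroup p Q) (hQg : Q ≤ Subgroup.centralizer ({g} : Set G)) :
    ∃ α : ℂ, IsIntegral ℤ α ∧ θ g = (Nat.card Q : ℂ) * α := by
  classical
  haveI : Fact p.Prime := ⟨hp⟩
  set A := Subgroup.zpowers g with hA
  haveI : Fintype Q := Fintype.ofFinite Q
  haveI : Fintype A := Fintype.ofFinite A
  have hAc : ∀ c c' : A, c * c' = c' * c := by
    rintro ⟨c, hc⟩ ⟨c', hc'⟩
    obtain ⟨i, rfl⟩ := Subgroup.mem_zpowers_iff.1 hc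
    obtain ⟨j, rfl⟩ := Subgroup.mem_zpowers_iff.1 hc'
    apply Subtype.ext
    simp only [Subgroup.coe_mul]
    rw [← zpow_add, ← zpow_add, add_comm]
  haveI : Finite (A →* ℂˣ) := Cfsg.Agent.Helper8.finite_hom hAc
  haveI : Fintype (A →* ℂˣ) := Fintype.ofFinite _
  -- commutation
  have hcomm : ∀ (u : Q) (c : A), Commute ((u : G)) ((c : G)) := by
    intro u c
    obtain ⟨c, hc⟩ := c
    obtain ⟨i, rfl⟩ := Subgroup.mem_zpowers_iff.1 hc
    have h1 : Commute (u : G) g := by
      have := hQg u.2
      rw [Subgroup.mem_centralizer_iff] at this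
      exact (this g rfl).symm
    exact h1.zpow_right i
  -- the multiplication homomorphism
  let m : Q × A →* G := MonoidHom.noncommCoprod Q.subtype A.subtype hcomm
  have hm : ∀ (u : Q) (c : A), m (u, c) = (u : G) * (c : G) := fun u c => rfl
  have hθ' : IsCharacter (Q × A) (θ ∘ m) := isCharacter_comp m hθ
  -- the regularity of the powers of `g`
  have hcreg : ∀ c : A, ¬ p ∣ orderOf (c : G) := by
    intro c hc
    apply hg
    obtain ⟨c, hcA⟩ := c
    have : orderOf c ∣ orderOf g := orderOf_dvd_of_mem_zpowers hcA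
    exact dvd_trans hc this
  -- inner products
  have hinner : ∀ ν : A →* ℂˣ, ∃ n : ℕ, ∑ c : A, θ (c : G) * conj (((ν c : ℂˣ) : ℂ)) =
      (Nat.card Q : ℂ) * (Nat.card A : ℂ) * n := by
    intro ν
    have hν' : IsCharacter (Q × A) (fun x : Q × A => (((ν.comp (MonoidHom.snd Q A)) x : ℂˣ) : ℂ)) :=
      isCharacter_of_isIrrCharacter (isIrrCharacter_of_monoidHom _)
    letI : Fintype (IrrCharacter (Q × A)) := irrFintype
    obtain ⟨n, hn⟩ := classInner_char_nat hθ' hν'
    refine ⟨n, ?_⟩
    unfold classInner at hn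
    have hcard : (Nat.card (Q × A) : ℂ) = (Nat.card Q : ℂ) * (Nat.card A : ℂ) := by
      rw [Nat.card_prod]
      push_cast
      rfl
    have hcard0 : (Nat.card (Q × A) : ℂ) ≠ 0 := by
      exact_mod_cast (Nat.card_pos (α := Q × A)).ne'
    have h1 : ∑ x : Q × A, (θ ∘ m) x * conj ((((ν.comp (MonoidHom.snd Q A)) x : ℂˣ) : ℂ)) =
        ∑ c : A, θ (c : G) * conj (((ν c : ℂˣ) : ℂ)) := by
      rw [Fintype.sum_prod_type, Finset.sum_eq_single (1 : Q)]
      · apply Finset.sum_congr rfl
        intro c _
        simp only [Function.comp_apply, hm, OneMemClass.coe_one, one_mul, MonoidHom.comp_apply,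
          MonoidHom.coe_snd]
      · intro u _ hu
        apply Finset.sum_eq_zero
        intro c _
        simp only [Function.comp_apply, hm]
        rw [hvan, zero_mul]
        apply dvd_orderOf_mul_of_commute hp
        · intro h
          apply hu
          exact Subtype.ext h
        · obtain ⟨k, hk⟩ := (IsPGroup.iff_orderOf.1 hQ) u
          exact ⟨k, by rw [← hk, Subgroup.orderOf_coe]⟩
        · exact hcreg c
        · exact hcomm u c
      · intro h
        exact absurd (Finset.mem_univ _) h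
    rw [h1] at hn
    rw [← hcard, ← hn, ← mul_assoc, mul_inv_cancel₀ hcard0, one_mul]
  choose n hn using hinner
  -- inversion
  let gA : A := ⟨g, Subgroup.mem_zpowers g⟩
  have hinv : ∑ ν : A →* ℂˣ, ((ν gA : ℂˣ) : ℂ) * ∑ c : A, θ (c : G) * conj (((ν c : ℂˣ) : ℂ)) =
      (Nat.card A : ℂ) * θ g := by
    have h1 : ∀ ν : A →* ℂˣ, ((ν gA : ℂˣ) : ℂ) * ∑ c : A, θ (c : G) * conj (((ν c : ℂˣ) : ℂ)) =
        ∑ c : A, θ (c : G) * ((ν (gA * c⁻¹) : ℂˣ) : ℂ) := by
      intro ν
      rw [Finset.mul_sum]
      apply Finset.sum_congr rfl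
      intro c _
      have h2 : conj (((ν c : ℂˣ) : ℂ)) = ((ν c⁻¹ : ℂˣ) : ℂ) := by
        have := irr_inv (isCharacter_of_isIrrCharacter (isIrrCharacter_of_monoidHom ν)) c
        exact this.symm
      rw [h2, map_mul, Units.val_mul]
      ring
    rw [Finset.sum_congr rfl (fun ν _ => h1 ν), Finset.sum_comm]
    have h3 : ∀ c : A, ∑ ν : A →* ℂˣ, θ (c : G) * ((ν (gA * c⁻¹) : ℂˣ) : ℂ) =
        if c = gA then (Nat.card A : ℂ) * θ g else 0 := by
      intro c
      rw [← Finset.mul_sum, Cfsg.Agent.Helper8.sum_hom_apply hAc (gA * c⁻¹)]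
      by_cases hc : c = gA
      · subst hc
        rw [if_pos (mul_inv_cancel _), if_pos rfl, mul_comm]
      · rw [if_neg hc, if_neg, mul_zero]
        intro h
        apply hc
        have := mul_inv_eq_one.1 h
        exact this.symm
    rw [Finset.sum_congr rfl (fun c _ => h3 c), Finset.sum_ite_eq', if_pos (Finset.mem_univ _)]
  simp only [hn] at hinv
  refine ⟨∑ ν : A →* ℂˣ, ((ν gA : ℂˣ) : ℂ) * (n ν : ℂ), ?_, ?_⟩
  · apply IsIntegral.sum
    intro ν _
    apply IsIntegral.mul _ (isIntegral_algebraMap (R := ℤ) (A := ℂ) (x := (n ν : ℤ)) |> fun h => by simpa using h)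
    exact isIntegral_of_isCharacter (isCharacter_of_isIrrCharacter (isIrrCharacter_of_monoidHom ν)) gA
  · have hA0 : (Nat.card A : ℂ) ≠ 0 := by
      exact_mod_cast (Nat.card_pos (α := A)).ne'
    apply mul_left_cancel₀ hA0
    rw [← hinv, Finset.mul_sum, Finset.mul_sum]
    apply Finset.sum_congr rfl
    intro ν _
    ring

end Vanish

section Order

variable {G : Type u} [Group G] [Finite G] {M : Ideal AlgInt} {p : ℕ}

/-- For a defect class `g` of `B`, the `p`-part of the class size divides every degree in `B`. -/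
theorem factorization_index_le_of_isDefectClass (hM : IsPModular p M)
    {B : Set (IrrCharacter G)} {g : G} (hg : IsDefectClass M B g) {χ : IrrCharacter G}
    (hχ : χ ∈ B) :
    ((Subgroup.centralizer ({g} : Set G)).index).factorization p ≤
      (charDegree (χ : G → ℂ)).factorization p := by
  classical
  haveI : Fintype G := Fintype.ofFinite G
  haveI hMp : M.IsPrime := hM.2.1.isPrime
  by_contra hlt
  push Not at hlt
  apply hg.2.2 χ hχ
  unfold centralChar
  have hd0 : charDegree (χ : G → ℂ) ≠ 0 := by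
    intro h0
    have := irr_one_ne_zero χ.2
    rw [irr_one_eq_charDegree χ.2, h0] at this
    exact this (by simp)
  have hi0 : (Subgroup.centralizer ({g} : Set G)).index ≠ 0 := Subgroup.index_ne_zero_of_finite
  have h1 := memLocalIdeal_natCast_div hM hi0 hd0 hlt
  have h2 : ((Subgroup.centralizer ({g} : Set G)).index : ℂ) * (χ : G → ℂ) g / (χ : G → ℂ) 1 =
      ((Subgroup.centralizer ({g} : Set G)).index : ℂ) / (charDegree (χ : G → ℂ) : ℂ) *
        (χ : G → ℂ) g := by
    rw [irr_one_eq_charDegree χ.2]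
    ring
  rw [h2]
  exact memLocalIdeal_mul_right h1 (memLocalRing_of_isIntegral
    (isIntegral_of_isCharacter (isCharacter_of_isIrrCharacter χ.2) g) ne_top)

/-- For a defect class `g` of the block `B`, some degree in `B` has `p`-part at most that of the
class size. -/
theorem exists_factorization_le_of_isDefectClass (hM : IsPModular p M)
    {B : Set (IrrCharacter G)} (hB : IsPBlock M B) {g : G} (hg : IsDefectClass M B g) :
    ∃ χ ∈ B, (charDegree (χ : G → ℂ)).factorization p ≤
      ((Subgroup.centralizer ({g} : Set G)).index).factorization p := by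
  classical
  haveI : Fintype G := Fintype.ofFinite G
  letI : Fintype (IrrCharacter G) := irrFintype
  haveI hMp : M.IsPrime := hM.2.1.isPrime
  have hp : p.Prime := hM.1
  haveI : Fact p.Prime := ⟨hp⟩
  by_contra hcon
  push Not at hcon
  set C := Subgroup.centralizer ({g} : Set G) with hC
  set t := (C.index).factorization p with ht
  -- the degrees are divisible by `p ^ (t + 1)`
  have hdvd : ∀ χ ∈ B, p ^ (t + 1) ∣ charDegree (χ : G → ℂ) := by
    intro χ hχ
    have hd0 : charDegree (χ : G → ℂ) ≠ 0 := by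
      intro h0
      have := irr_one_ne_zero χ.2
      rw [irr_one_eq_charDegree χ.2, h0] at this
      exact this (by simp)
    exact (hp.pow_dvd_iff_le_factorization hd0).2 (hcon χ hχ)
  -- the character
  set f : G → ℂ := ∑ χ : IrrCharacter G,
    ((if χ ∈ B then charDegree (χ : G → ℂ) / p ^ (t + 1) else 0 : ℕ) : ℂ) •
      (fun x => conj ((χ : G → ℂ) x)) with hf
  have hfc : IsCharacter G f := by
    apply isCharacter_sum
    intro χ _
    exact isCharacter_natCast_smul _ (isCharacter_conj (isCharacter_of_isIrrCharacter χ.2))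
  have hfval : ∀ x : G, ((p ^ (t + 1) : ℕ) : ℂ) * f x = (Nat.card G : ℂ) * blockCoeff B x := by
    intro x
    unfold blockCoeff
    rw [← mul_assoc, mul_inv_cancel₀ card_ne_zero, one_mul, finsum_mem_def,
      finsum_eq_sum_of_fintype, hf, Finset.sum_apply, Finset.mul_sum]
    apply Finset.sum_congr rfl
    intro χ _
    rw [Set.indicator_apply, Pi.smul_apply, smul_eq_mul]
    by_cases hχ : χ ∈ B
    · rw [if_pos hχ, if_pos hχ, irr_one_eq_charDegree χ.2, ← mul_assoc]
      congr 1
      obtain ⟨k, hk⟩ := hdvd χ hχ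
      rw [hk, Nat.mul_div_cancel_left _ (pow_pos hp.pos _)]
      push_cast
      ring
    · rw [if_neg hχ, if_neg hχ]
      simp
  have hpc : ((p ^ (t + 1) : ℕ) : ℂ) ≠ 0 := by
    exact_mod_cast (pow_pos hp.pos _).ne'
  have hvan : ∀ x : G, p ∣ orderOf x → f x = 0 := by
    intro x hx
    have := hfval x
    rw [blockCoeff_eq_zero_of_pSingular hM hB hx, mul_zero] at this
    exact (mul_eq_zero.1 this).resolve_left hpc
  -- the regularity of `g`
  have hgreg : ¬ p ∣ orderOf g := by
    intro h
    apply hg.2.1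
    rw [blockCoeff_eq_zero_of_pSingular hM hB h]
    exact memLocalIdeal_zero ne_top
  -- the Sylow subgroup of the centralizer
  obtain ⟨P⟩ : Nonempty (Sylow p C) := inferInstance
  have hQ : IsPGroup p ((P : Subgroup C).map C.subtype) := P.2.map _
  have hQle : (P : Subgroup C).map C.subtype ≤ C := by
    rintro _ ⟨x, -, rfl⟩
    exact x.2
  set s := (Nat.card C).factorization p with hs
  have hQcard : Nat.card ((P : Subgroup C).map C.subtype) = p ^ s := by
    rw [Subgroup.card_map_of_injective (Subgroup.subtype_injective C)]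
    exact P.card_eq_multiplicity
  obtain ⟨α, hα, hfg⟩ := exists_isIntegral_eq_card_mul hp hfc hvan hgreg _ hQ hQle
  rw [hQcard] at hfg
  -- arithmetic
  have hGC : Nat.card G = Nat.card C * C.index := (Subgroup.card_mul_index C).symm
  have hC0 : Nat.card C ≠ 0 := (Nat.card_pos (α := C)).ne'
  have hi0 : C.index ≠ 0 := Subgroup.index_ne_zero_of_finite
  obtain ⟨c', hc'⟩ : p ^ s ∣ Nat.card C := Nat.ordProj_dvd _ _
  obtain ⟨i', hi'⟩ : p ^ t ∣ C.index := Nat.ordProj_dvd _ _
  have hpc' : ¬ p ∣ c' := by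
    intro hd
    obtain ⟨c'', hc''⟩ := hd
    have h1 : p ^ (s + 1) ∣ Nat.card C := by
      rw [pow_succ]
      exact ⟨c'', by rw [mul_assoc, ← hc'', ← hc']⟩
    have := (hp.pow_dvd_iff_le_factorization hC0).1 h1
    omega
  have hpi' : ¬ p ∣ i' := by
    intro hd
    obtain ⟨i'', hi''⟩ := hd
    have h1 : p ^ (t + 1) ∣ C.index := by
      rw [pow_succ]
      exact ⟨i'', by rw [mul_assoc, ← hi'', ← hi']⟩
    have := (hp.pow_dvd_iff_le_factorization hi0).1 h1
    omega
  have hkey := hfval g
  rw [hfg, hGC, hc', hi'] at hkey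
  have hpC : ((p : ℂ) ^ s) ≠ 0 :=
    pow_ne_zero _ (by exact_mod_cast hp.ne_zero)
  have hpt : ((p : ℂ) ^ t) ≠ 0 := pow_ne_zero _ (by exact_mod_cast hp.ne_zero)
  have hc'i' : ¬ p ∣ c' * i' := by
    intro h
    rcases (Nat.Prime.dvd_mul hp).1 h with h | h
    · exact hpc' h
    · exact hpi' h
  have hci0 : ((c' * i' : ℕ) : ℂ) ≠ 0 := by
    have : c' * i' ≠ 0 := by
      intro h0
      rw [h0] at hc'i'
      exact hc'i' (dvd_zero _)
    exact_mod_cast this
  have hbc : blockCoeff B g = (p : ℂ) * (α * ((c' * i' : ℕ) : ℂ)⁻¹) := by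
    push_cast at hkey hci0 ⊢
    have : (p : ℂ) ^ (t + 1) * ((p : ℂ) ^ s * α) =
        (p : ℂ) ^ s * c' * ((p : ℂ) ^ t * i') * blockCoeff B g := hkey
    rw [pow_succ] at this
    have h2 : (p : ℂ) ^ t * (p : ℂ) ^ s *
        ((p : ℂ) * α) = (p : ℂ) ^ t * (p : ℂ) ^ s *
        (blockCoeff B g * (c' * i')) := by
      linear_combination this
    have h3 := mul_left_cancel₀ (mul_ne_zero hpt hpC) h2
    have h4 : blockCoeff B g = (p : ℂ) * α * ((c' : ℂ) * (i' : ℂ))⁻¹ := by
      rw [eq_mul_inv_iff_mul_eq₀ hci0]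
      exact h3.symm
    rw [h4]
    ring
  apply hg.2.1
  rw [hbc]
  apply memLocalIdeal_mul_right
  · rw [memLocalIdeal_natCast_iff hM]
  · apply memLocalRing_mul (memLocalRing_of_isIntegral hα ne_top)
    apply memLocalRing_inv (memLocalRing_natCast _)
    rw [memLocalIdeal_natCast_iff hM]
    exact hc'i'

/-- The least `p`-part of a degree in a block is the `p`-part of the size of a defect class. -/
theorem sInf_factorization_eq_of_isDefectClass (hM : IsPModular p M)
    {B : Set (IrrCharacter G)} (hB : IsPBlock M B) {g : G} (hg : IsDefectClass M B g) :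
    sInf ((fun χ : IrrCharacter G => (charDegree (χ : G → ℂ)).factorization p) '' B) =
      ((Subgroup.centralizer ({g} : Set G)).index).factorization p := by
  obtain ⟨χ₁, hχ₁, h1⟩ := exists_factorization_le_of_isDefectClass hM hB hg
  apply le_antisymm
  · exact (Nat.sInf_le (Set.mem_image_of_mem _ hχ₁)).trans h1
  · have hne : ((fun χ : IrrCharacter G => (charDegree (χ : G → ℂ)).factorization p) '' B).Nonempty :=
      ⟨_, χ₁, hχ₁, rfl⟩
    obtain ⟨χ₂, hχ₂, h2⟩ := Nat.sInf_mem hne
    rw [← h2]
    exact factorization_index_le_of_isDefectClass hM hg hχ₂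

/-- The defect of a block is the exponent of `p` in the order of the centralizer of a defect
class. -/
theorem blockDefect_eq_of_isDefectClass (hM : IsPModular p M)
    {B : Set (IrrCharacter G)} (hB : IsPBlock M B) {g : G} (hg : IsDefectClass M B g) :
    blockDefect p B = (Nat.card (Subgroup.centralizer ({g} : Set G))).factorization p := by
  unfold blockDefect
  rw [sInf_factorization_eq_of_isDefectClass hM hB hg]
  have hGC : Nat.card G = Nat.card (Subgroup.centralizer ({g} : Set G)) *
      (Subgroup.centralizer ({g} : Set G)).index := (Subgroup.card_mul_index _).symm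
  have hC0 : Nat.card (Subgroup.centralizer ({g} : Set G)) ≠ 0 := (Nat.card_pos).ne'
  have hi0 : (Subgroup.centralizer ({g} : Set G)).index ≠ 0 := Subgroup.index_ne_zero_of_finite
  rw [hGC, Nat.factorization_mul hC0 hi0]
  simp

/-- **The order of a defect group** is `p ^ d`, with `d` the defect of the block. -/
theorem card_defectGroup (hM : IsPModular p M) {B : Set (IrrCharacter G)} (hB : IsPBlock M B)
    {D : Subgroup G} (hD : IsDefectGroup p M B D) : Nat.card D = p ^ blockDefect p B := by
  haveI : Fact p.Prime := ⟨hM.1⟩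
  obtain ⟨g, hg, P, rfl⟩ := hD
  rw [blockDefect_eq_of_isDefectClass hM hB hg,
    Subgroup.card_map_of_injective (Subgroup.subtype_injective _)]
  exact P.card_eq_multiplicity

end Order

end Cfsg.Agent.Helper23.Blk
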