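import Mathlib
import Cfsg.Agent.Lib.Helper23.BlockConv
import Cfsg.Agent.Lib.Helper23.BlockDefect
import Cfsg.Agent.Lib.Helper16.Basic

/-!
# The min-max theorem for defect classes (helper23's shared library)
-/

set_option autoImplicit false
set_option linter.unusedSectionVars false

namespace Cfsg.Agent.Helper23.Blk

open Cfsg Cfsg.Agent.Helper24
open scoped ComplexConjugate

universe u

section FixedPoints

variable {M : Ideal AlgInt} {p : ℕ}

/-- **Fixed-point congruence**: the sum of an invariant local-integer valued function over a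
finite set on which a `p`-group acts lies in the local ideal as soon as the values at the fixed
points do. -/
theorem memLocalIdeal_sum_of_invariant (hM : IsPModular p M) {Q : Type*} [Group Q]
    (hQ : IsPGroup p Q) {X : Type*} [Fintype X] [MulAction Q X] (f : X → ℂ)
    (hinv : ∀ (q : Q) (x : X), f (q • x) = f x) (hR : ∀ x, MemLocalRing M (f x))
    (hfix : ∀ x, (∀ q : Q, q • x = x) → MemLocalIdeal M (f x)) :
    MemLocalIdeal M (∑ x, f x) := by
  classical
  haveI hMp : M.IsPrime := hM.2.1.isPrime
  haveI : Fact p.Prime := ⟨hM.1⟩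
  have h1 : ∑ x, f x = ∑ ω : Quotient (MulAction.orbitRel Q X),
      ∑ x ∈ Finset.univ.filter (fun x => (Quotient.mk (MulAction.orbitRel Q X) x) = ω), f x := by
    rw [Finset.sum_fiberwise]
  rw [h1]
  apply memLocalIdeal_sum
  intro ω _
  induction ω using Quotient.inductionOn with
  | h x₀ =>
    have hmem : ∀ x, x ∈ Finset.univ.filter
        (fun x => (Quotient.mk (MulAction.orbitRel Q X) x) =
          Quotient.mk (MulAction.orbitRel Q X) x₀) ↔ x ∈ MulAction.orbit Q x₀ := by
      intro x
      rw [Finset.mem_filter, Quotient.eq]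
      simp only [Finset.mem_univ, true_and]
      exact MulAction.orbitRel_apply
    have hval : ∀ x ∈ Finset.univ.filter
        (fun x => (Quotient.mk (MulAction.orbitRel Q X) x) =
          Quotient.mk (MulAction.orbitRel Q X) x₀), f x = f x₀ := by
      intro x hx
      obtain ⟨q, rfl⟩ := (hmem x).1 hx
      exact hinv q x₀
    rw [Finset.sum_congr rfl hval, Finset.sum_const, nsmul_eq_mul]
    have hcard : (Finset.univ.filter
        (fun x => (Quotient.mk (MulAction.orbitRel Q X) x) =
          Quotient.mk (MulAction.orbitRel Q X) x₀)).card = Nat.card (MulAction.orbit Q x₀) := by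
      rw [Nat.card_eq_fintype_card, Fintype.card_of_subtype]
      exact hmem
    rw [hcard]
    obtain ⟨k, hk⟩ := hQ.card_orbit x₀
    rw [hk]
    rcases k with _ | k
    · rw [pow_zero, Nat.cast_one, one_mul]
      apply hfix
      intro q
      rw [pow_zero] at hk
      have hsub := (Nat.card_eq_one_iff_unique.1 hk).1
      have := @Subsingleton.elim _ hsub
        (⟨q • x₀, MulAction.mem_orbit _ _⟩ : MulAction.orbit Q x₀)
        ⟨x₀, MulAction.mem_orbit_self _⟩
      exact congrArg Subtype.val this
    · apply memLocalIdeal_mul_right _ (hR x₀)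
      rw [memLocalIdeal_natCast_iff hM]
      exact dvd_pow_self p (Nat.succ_ne_zero k)

variable {G : Type u} [Group G] [Fintype G]

/-- Conjugation-invariant version: if the sum is outside the local ideal then some point
centralized by the `p`-subgroup has its value outside the local ideal. -/
theorem exists_fixed_of_not_memLocalIdeal_sum (hM : IsPModular p M) (Q : Subgroup G)
    (hQ : IsPGroup p Q) (f : G → ℂ) (hinv : ∀ q ∈ Q, ∀ x : G, f (q * x * q⁻¹) = f x)
    (hR : ∀ x, MemLocalRing M (f x)) (h : ¬ MemLocalIdeal M (∑ x, f x)) :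
    ∃ x : G, (∀ q ∈ Q, q * x * q⁻¹ = x) ∧ ¬ MemLocalIdeal M (f x) := by
  classical
  by_contra hcon
  push Not at hcon
  apply h
  letI : MulAction Q G := MulAction.compHom G ((MulAut.conj : G →* MulAut G).comp Q.subtype)
  have hsmul : ∀ (q : Q) (x : G), q • x = (q : G) * x * (q : G)⁻¹ := fun q x => rfl
  apply memLocalIdeal_sum_of_invariant hM hQ f
  · intro q x
    rw [hsmul]
    exact hinv q q.2 x
  · exact hR
  · intro x hx
    apply hcon x
    intro q hq
    have := hx ⟨q, hq⟩
    rw [hsmul] at this
    exact this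

end FixedPoints

section Ideal

variable {G : Type u} [Group G] [Fintype G] {M : Ideal AlgInt} {p : ℕ}

/-- `Q` is conjugate to a subgroup of `D` -/
def SubConj (Q D : Subgroup G) : Prop := ∃ c : G, ∀ q ∈ Q, c * q * c⁻¹ ∈ D

/-- the class function `z` lies, modulo the local ideal, in the ideal `I_D` of the centre of
the group algebra: every `p`-subgroup centralizing a point outside the local ideal is conjugate
into `D` -/
def InI (p : ℕ) (M : Ideal AlgInt) (z : G → ℂ) (D : Subgroup G) : Prop :=
  ∀ x : G, ¬ MemLocalIdeal M (z x) → ∀ Q : Subgroup G, IsPGroup p Q →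
    Q ≤ Subgroup.centralizer ({x} : Set G) → SubConj Q D

/-- `I_D` is an ideal. -/
theorem InI.conv (hM : IsPModular p M) {z y : G → ℂ} {D : Subgroup G} (hz : InI p M z D)
    (hzc : IsClassFunction G z) (hyc : IsClassFunction G y)
    (hzR : ∀ x, MemLocalRing M (z x)) (hyR : ∀ x, MemLocalRing M (y x)) :
    InI p M (conv z y) D := by
  haveI hMp : M.IsPrime := hM.2.1.isPrime
  intro n hn Q hQ hQn
  rw [conv_apply] at hn
  have hinv : ∀ q ∈ Q, ∀ x : G, z (q * x * q⁻¹) * y ((q * x * q⁻¹)⁻¹ * n) = z x * y (x⁻¹ * n) := by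
    intro q hq x
    have hqn : n * q = q * n := by
      have := hQn hq
      rw [Subgroup.mem_centralizer_iff] at this
      exact this n rfl
    rw [hzc x q]
    congr 1
    have : (q * x * q⁻¹)⁻¹ * n = q * (x⁻¹ * n) * q⁻¹ := by
      have h1 : n = q * n * q⁻¹ := by rw [← hqn]; group
      calc (q * x * q⁻¹)⁻¹ * n = q * x⁻¹ * q⁻¹ * n := by group
        _ = q * x⁻¹ * q⁻¹ * (q * n * q⁻¹) := by rw [← h1]
        _ = q * (x⁻¹ * n) * q⁻¹ := by group
    rw [this, hyc]
  obtain ⟨x, hxfix, hx⟩ := exists_fixed_of_not_memLocalIdeal_sum hM Q hQ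
    (fun x => z x * y (x⁻¹ * n)) hinv (fun x => memLocalRing_mul (hzR x) (hyR _)) hn
  have hzx : ¬ MemLocalIdeal M (z x) := fun h => hx (memLocalIdeal_mul_right h (hyR _))
  apply hz x hzx Q hQ
  intro q hq
  rw [Subgroup.mem_centralizer_iff]
  intro w hw
  rw [Set.mem_singleton_iff] at hw
  subst hw
  have := hxfix q hq
  calc w * q = (q * w * q⁻¹) * q := by rw [this]
    _ = q * w := by group

/-- The class sum of `h` lies in `I_D` for `D` a Sylow `p`-subgroup of the centralizer of `h`. -/
theorem inI_indicator (hM : IsPModular p M) (h : G) [DecidablePred (IsConj h)]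
    (P : Sylow p (Subgroup.centralizer ({h} : Set G))) :
    InI p M (fun x => if IsConj h x then (1 : ℂ) else 0)
      ((P : Subgroup (Subgroup.centralizer ({h} : Set G))).map
        (Subgroup.centralizer ({h} : Set G)).subtype) := by
  haveI hMp : M.IsPrime := hM.2.1.isPrime
  haveI : Fact p.Prime := ⟨hM.1⟩
  intro x hx Q hQ hQx
  have hconj : IsConj h x := by
    by_contra hc
    apply hx
    simp only [if_neg hc]
    exact memLocalIdeal_zero ne_top
  obtain ⟨c, hc⟩ := isConj_iff.1 hconj
  -- the conjugate of `Q` inside the centralizer of `h`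
  have hQ' : IsPGroup p ((Q.map (MulAut.conj c⁻¹).toMonoidHom).subgroupOf
      (Subgroup.centralizer ({h} : Set G))) :=
    (hQ.map _).comap_subtype
  obtain ⟨k, hk⟩ := Cfsg.Agent.Helper16.exists_conj_le_sylow hQ' P
  refine ⟨(k : G) * c⁻¹, ?_⟩
  intro q hq
  have hqc : c⁻¹ * q * c ∈ Subgroup.centralizer ({h} : Set G) := by
    rw [Subgroup.mem_centralizer_iff]
    intro w hw
    rw [Set.mem_singleton_iff] at hw
    subst hw
    have hqx : x * q = q * x := by
      have := hQx hq
      rw [Subgroup.mem_centralizer_iff] at this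
      exact this x rfl
    rw [← hc] at hqx
    calc w * (c⁻¹ * q * c) = c⁻¹ * ((c * w * c⁻¹) * q) * c := by group
      _ = c⁻¹ * (q * (c * w * c⁻¹)) * c := by rw [hqx]
      _ = c⁻¹ * q * c * w := by group
  have hmem : (⟨c⁻¹ * q * c, hqc⟩ : Subgroup.centralizer ({h} : Set G)) ∈
      (Q.map (MulAut.conj c⁻¹).toMonoidHom).subgroupOf (Subgroup.centralizer ({h} : Set G)) := by
    rw [Subgroup.mem_subgroupOf]
    refine ⟨q, hq, ?_⟩
    simp
  have := hk _ hmem
  refine ⟨_, this, ?_⟩
  simp only [Subgroup.subtype_apply, Subgroup.coe_mul, Subgroup.coe_inv]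
  group

end Ideal

section LocalInverse

variable {G : Type u} [Group G] [Fintype G] [Fintype (IrrCharacter G)] {M : Ideal AlgInt}
  [hMp : M.IsPrime]

/-- the polynomial identity behind the local inverse -/
theorem exists_quotient_remainder (S : Finset (IrrCharacter G)) {c : IrrCharacter G → ℂ}
    (hc : IsIntegralVec M c) (hcR : ∀ χ, MemLocalRing M (c χ)) :
    ∃ (q : IrrCharacter G → ℂ), IsIntegralVec M q ∧
      ∀ χ, ∏ ψ ∈ S, (c χ - c ψ) = c χ * q χ + ∏ ψ ∈ S, (- c ψ) := by
  classical
  induction S using Finset.induction_on with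
  | empty =>
    refine ⟨0, ?_, ?_⟩
    · have : (0 : IrrCharacter G → ℂ) = (0 : ℂ) • (fun _ : IrrCharacter G => (1 : ℂ)) := by
        funext χ
        simp
      rw [this]
      exact IsIntegralVec.smul (memLocalRing_zero ne_top) isIntegralVec_one
    · intro χ
      simp
  | insert φ S hφ ih =>
    obtain ⟨q, hq, hqe⟩ := ih
    refine ⟨(c - fun _ => c φ) * q + fun _ => ∏ ψ ∈ S, (- c ψ), ?_, ?_⟩
    · apply IsIntegralVec.add
      · exact IsIntegralVec.mul (IsIntegralVec.sub hc (isIntegralVec_const (hcR φ))) hq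
      · apply isIntegralVec_const
        exact memLocalRing_prod _ _ fun ψ _ => memLocalRing_neg (hcR ψ)
    · intro χ
      rw [Finset.prod_insert hφ, Finset.prod_insert hφ, hqe χ]
      simp only [Pi.add_apply, Pi.mul_apply, Pi.sub_apply]
      ring

/-- **Local inverses**: an integral vector whose entries on a set `A` are units of the local
ring can be inverted on `A` by an integral vector. -/
theorem exists_local_inverse (A : Finset (IrrCharacter G)) {c : IrrCharacter G → ℂ}
    (hc : IsIntegralVec M c) (hcR : ∀ χ, MemLocalRing M (c χ))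
    (hcu : ∀ χ ∈ A, ¬ MemLocalIdeal M (c χ)) :
    ∃ c' : IrrCharacter G → ℂ, IsIntegralVec M c' ∧ ∀ χ ∈ A, c χ * c' χ = 1 := by
  classical
  obtain ⟨q, hq, hqe⟩ := exists_quotient_remainder A hc hcR
  set r := ∏ ψ ∈ A, (- c ψ) with hr
  have hrR : MemLocalRing M r := memLocalRing_prod _ _ fun ψ _ => memLocalRing_neg (hcR ψ)
  have hru : ¬ MemLocalIdeal M r := by
    apply not_memLocalIdeal_prod
    · intro ψ _
      exact memLocalRing_neg (hcR ψ)
    · intro ψ hψ h
      apply hcu ψ hψ
      have := memLocalIdeal_neg h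
      rwa [neg_neg] at this
  have hr0 : r ≠ 0 := by
    rintro h
    rw [h] at hru
    exact hru (memLocalIdeal_zero ne_top)
  refine ⟨(-r⁻¹) • q, IsIntegralVec.smul (memLocalRing_neg (memLocalRing_inv hrR hru)) hq, ?_⟩
  intro χ hχ
  have h1 := hqe χ
  rw [Finset.prod_eq_zero hχ (sub_self _)] at h1
  have h2 : c χ * q χ = - r := by linear_combination -h1
  rw [Pi.smul_apply, smul_eq_mul, mul_comm (-r⁻¹), ← mul_assoc, h2]
  field_simp

end LocalInverse

section MinMax

variable {G : Type u} [Group G] [Finite G] {M : Ideal AlgInt} {p : ℕ}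

/-- all members of a block have central characters outside the local ideal at `h` as soon as
one of them has -/
theorem not_memLocalIdeal_centralChar_of_block (hM : IsPModular p M)
    {B : Set (IrrCharacter G)} (hB : IsPBlock M B) {h : G}
    (hh : ∃ χ ∈ B, ¬ MemLocalIdeal M (centralChar (χ : G → ℂ) h)) {ψ : IrrCharacter G}
    (hψ : ψ ∈ B) : ¬ MemLocalIdeal M (centralChar (ψ : G → ℂ) h) := by
  haveI hMp : M.IsPrime := hM.2.1.isPrime
  obtain ⟨χ₀, rfl⟩ := hB
  obtain ⟨χ, hχ, hχh⟩ := hh
  intro hcon
  apply hχh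
  have h1 : MemLocalIdeal M (centralChar (χ₀ : G → ℂ) h - centralChar (χ : G → ℂ) h) := hχ h
  have h2 : MemLocalIdeal M (centralChar (χ₀ : G → ℂ) h - centralChar (ψ : G → ℂ) h) := hψ h
  have h3 : centralChar (χ : G → ℂ) h =
      (centralChar (χ₀ : G → ℂ) h - centralChar (ψ : G → ℂ) h) -
      (centralChar (χ₀ : G → ℂ) h - centralChar (χ : G → ℂ) h) + centralChar (ψ : G → ℂ) h := by
    ring
  rw [h3]
  exact memLocalIdeal_add (memLocalIdeal_sub h2 h1) hcon

/-- **Key lemma**: if the central characters of `B` do not vanish at `h` modulo the local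
ideal, then the idempotent of `B` lies in `I_D`, `D` a Sylow `p`-subgroup of `C_G(h)`. -/
theorem inI_blockCoeff [Fintype G] (hM : IsPModular p M) {B : Set (IrrCharacter G)}
    (hB : IsPBlock M B) {h : G}
    (hh : ∃ χ ∈ B, ¬ MemLocalIdeal M (centralChar (χ : G → ℂ) h))
    (P : Sylow p (Subgroup.centralizer ({h} : Set G))) :
    InI p M (blockCoeff B)
      ((P : Subgroup (Subgroup.centralizer ({h} : Set G))).map
        (Subgroup.centralizer ({h} : Set G)).subtype) := by
  classical
  letI : Fintype (IrrCharacter G) := irrFintype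
  haveI hMp : M.IsPrime := hM.2.1.isPrime
  have hunit := fun ψ (hψ : ψ ∈ B) => not_memLocalIdeal_centralChar_of_block hM hB hh hψ
  obtain ⟨χ₀, rfl⟩ := hB
  set c : IrrCharacter G → ℂ := fun χ => centralChar (χ : G → ℂ) h with hc
  have hcI : IsIntegralVec M c := isIntegralVec_centralChar h
  have hcR : ∀ χ, MemLocalRing M (c χ) := fun χ => memLocalRing_centralChar χ h
  obtain ⟨c', hc'I, hc'⟩ := exists_local_inverse
    (Finset.univ.filter (fun χ => χ ∈ blockOf M (χ₀ : G → ℂ))) hcI hcR
    (by
      intro χ hχ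
      exact hunit χ (Finset.mem_filter.1 hχ).2)
  set b : IrrCharacter G → ℂ :=
    fun χ => if χ ∈ blockOf M (χ₀ : G → ℂ) then (1 : ℂ) else 0 with hb
  have hbI : IsIntegralVec M b := isIntegralVec_block χ₀
  have hfac : b = c * (c' * b) := by
    funext χ
    simp only [Pi.mul_apply, hb]
    by_cases hχ : χ ∈ blockOf M (χ₀ : G → ℂ)
    · rw [if_pos hχ, mul_one, hc' χ (Finset.mem_filter.2 ⟨Finset.mem_univ _, hχ⟩)]
    · rw [if_neg hχ, mul_zero, mul_zero]
  have heq : blockCoeff (blockOf M (χ₀ : G → ℂ)) =
      conv (fun x => if IsConj h x then (1 : ℂ) else 0) (synth (c' * b)) := by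
    funext g
    rw [blockCoeff_eq_synth, ← hb]
    have h1 : synth b g = synth (c * (c' * b)) g := congrArg (fun v => synth v g) hfac
    rw [h1, conv_apply, ← synth_conv]
    apply Finset.sum_congr rfl
    intro x _
    rw [hc, synth_centralChar h x]
  rw [heq]
  apply InI.conv hM (inI_indicator hM h P)
  · intro g x
    simp only
    have : IsConj h (x * g * x⁻¹) ↔ IsConj h g := by
      constructor
      · intro h1
        exact h1.trans (isConj_iff.2 ⟨x⁻¹, by group⟩)
      · intro h1
        exact h1.trans (isConj_iff.2 ⟨x, rfl⟩)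
    simp only [this]
  · exact synth_isClassFunction _
  · intro x
    split_ifs
    · exact memLocalRing_one ne_top
    · exact memLocalRing_zero ne_top
  · exact IsIntegralVec.mul hc'I hbI

theorem block_nonempty (hM : IsPModular p M) {B : Set (IrrCharacter G)} (hB : IsPBlock M B) :
    B.Nonempty := by
  haveI : Fintype G := Fintype.ofFinite G
  haveI hMp : M.IsPrime := hM.2.1.isPrime
  obtain ⟨χ₀, rfl⟩ := hB
  exact ⟨χ₀, mem_blockOf_self χ₀⟩

/-- **Min-max, first half**: the defect groups of the classes in the support (modulo the local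
ideal) of the block idempotent are conjugate into the defect groups of the block. -/
theorem minmax_support (hM : IsPModular p M) {B : Set (IrrCharacter G)} (hB : IsPBlock M B)
    {g : G} (hg : IsDefectClass M B g) (D : Sylow p (Subgroup.centralizer ({g} : Set G)))
    {h : G} (hh : ¬ MemLocalIdeal M (blockCoeff B h)) :
    ∃ (x : G) (Q : Sylow p (Subgroup.centralizer ({h} : Set G))),
      (Q : Subgroup (Subgroup.centralizer ({h} : Set G))).map
        (Subgroup.centralizer ({h} : Set G)).subtype ≤
      ((D : Subgroup (Subgroup.centralizer ({g} : Set G))).map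
        (Subgroup.centralizer ({g} : Set G)).subtype).map (MulAut.conj x).toMonoidHom := by
  classical
  haveI : Fintype G := Fintype.ofFinite G
  haveI : Fact p.Prime := ⟨hM.1⟩
  obtain ⟨χ, hχ⟩ := block_nonempty hM hB
  have hI := inI_blockCoeff hM hB ⟨χ, hχ, hg.2.2 χ hχ⟩ D
  obtain ⟨Q⟩ : Nonempty (Sylow p (Subgroup.centralizer ({h} : Set G))) := inferInstance
  have hQp : IsPGroup p ((Q : Subgroup (Subgroup.centralizer ({h} : Set G))).map
      (Subgroup.centralizer ({h} : Set G)).subtype) := Q.2.map _
  have hQle : (Q : Subgroup (Subgroup.centralizer ({h} : Set G))).map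
      (Subgroup.centralizer ({h} : Set G)).subtype ≤ Subgroup.centralizer ({h} : Set G) := by
    rintro _ ⟨y, -, rfl⟩
    exact y.2
  obtain ⟨c, hc⟩ := hI h hh _ hQp hQle
  refine ⟨c⁻¹, Q, ?_⟩
  intro q hq
  refine ⟨c * q * c⁻¹, hc q hq, ?_⟩
  simp only [MulEquiv.coe_toMonoidHom, MulAut.conj_apply]
  group

/-- **Min-max, second half**: the defect groups of the block are conjugate into the defect
groups of every class at which the central character of the block is nonzero modulo the local
ideal. -/
theorem minmax_centralChar (hM : IsPModular p M) {B : Set (IrrCharacter G)} (hB : IsPBlock M B)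
    {g : G} (hg : IsDefectClass M B g) (D : Sylow p (Subgroup.centralizer ({g} : Set G)))
    {h : G} (hh : ∃ χ ∈ B, ¬ MemLocalIdeal M (centralChar (χ : G → ℂ) h)) :
    ∃ (x : G) (Q : Sylow p (Subgroup.centralizer ({h} : Set G))),
      ((D : Subgroup (Subgroup.centralizer ({g} : Set G))).map
        (Subgroup.centralizer ({g} : Set G)).subtype).map (MulAut.conj x).toMonoidHom ≤
      (Q : Subgroup (Subgroup.centralizer ({h} : Set G))).map
        (Subgroup.centralizer ({h} : Set G)).subtype := by
  classical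
  haveI : Fintype G := Fintype.ofFinite G
  haveI : Fact p.Prime := ⟨hM.1⟩
  obtain ⟨Q⟩ : Nonempty (Sylow p (Subgroup.centralizer ({h} : Set G))) := inferInstance
  have hI := inI_blockCoeff hM hB hh Q
  have hDp : IsPGroup p ((D : Subgroup (Subgroup.centralizer ({g} : Set G))).map
      (Subgroup.centralizer ({g} : Set G)).subtype) := D.2.map _
  have hDle : (D : Subgroup (Subgroup.centralizer ({g} : Set G))).map
      (Subgroup.centralizer ({g} : Set G)).subtype ≤ Subgroup.centralizer ({g} : Set G) := by
    rintro _ ⟨y, -, rfl⟩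
    exact y.2
  obtain ⟨c, hc⟩ := hI g hg.2.1 _ hDp hDle
  refine ⟨c, Q, ?_⟩
  rintro _ ⟨q, hq, rfl⟩
  simp only [MulEquiv.coe_toMonoidHom, MulAut.conj_apply]
  exact hc q hq

end MinMax

end Cfsg.Agent.Helper23.Blk
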