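import Mathlib
import Cfsg.Agent.Lib.Helper23.BlockMinMax
import Cfsg.Agent.Lib.Helper23.BlockDefectGroup

/-!
# Numerical consequences of the min-max theorem (helper23's shared library)
-/

set_option autoImplicit false
set_option linter.unusedSectionVars false

namespace Cfsg.Agent.Helper23.Blk

open Cfsg Cfsg.Agent.Helper24
open scoped ComplexConjugate

universe u

section Numeric

variable {G : Type u} [Group G] [Finite G] {M : Ideal AlgInt} {p : ℕ}

theorem card_sylow_map_centralizer [Fact p.Prime] (h : G)
    (Q : Sylow p (Subgroup.centralizer ({h} : Set G))) :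
    Nat.card ((Q : Subgroup (Subgroup.centralizer ({h} : Set G))).map
      (Subgroup.centralizer ({h} : Set G)).subtype) =
      p ^ (Nat.card (Subgroup.centralizer ({h} : Set G))).factorization p := by
  rw [Subgroup.card_map_of_injective (Subgroup.subtype_injective _)]
  exact Q.card_eq_multiplicity

/-- The classes in the support of a block idempotent have defect at most the defect of the
block. -/
theorem factorization_card_centralizer_le_of_support (hM : IsPModular p M)
    {B : Set (IrrCharacter G)} (hB : IsPBlock M B) {h : G}
    (hh : ¬ MemLocalIdeal M (blockCoeff B h)) :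
    (Nat.card (Subgroup.centralizer ({h} : Set G))).factorization p ≤ blockDefect p B := by
  haveI : Fact p.Prime := ⟨hM.1⟩
  obtain ⟨g, hg⟩ := exists_isDefectClass hM.2.1.isPrime hB
  obtain ⟨D⟩ : Nonempty (Sylow p (Subgroup.centralizer ({g} : Set G))) := inferInstance
  obtain ⟨x, Q, hQ⟩ := minmax_support hM hB hg D hh
  have h1 := Subgroup.card_le_of_le hQ
  have e1 : Nat.card ((((D : Subgroup (Subgroup.centralizer ({g} : Set G))).map
      (Subgroup.centralizer ({g} : Set G)).subtype).map (MulAut.conj x).toMonoidHom :
        Subgroup G)) = Nat.card ((D : Subgroup (Subgroup.centralizer ({g} : Set G))).map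
      (Subgroup.centralizer ({g} : Set G)).subtype) :=
    Subgroup.card_map_of_injective (MulAut.conj x).injective
  rw [e1, card_sylow_map_centralizer,
    card_sylow_map_centralizer, ← blockDefect_eq_of_isDefectClass hM hB hg] at h1
  exact (Nat.pow_le_pow_iff_right hM.1.one_lt).1 h1

/-- The classes at which the central character of a block is nonzero modulo the local ideal
have defect at least the defect of the block. -/
theorem blockDefect_le_of_centralChar (hM : IsPModular p M)
    {B : Set (IrrCharacter G)} (hB : IsPBlock M B) {h : G}
    (hh : ∃ χ ∈ B, ¬ MemLocalIdeal M (centralChar (χ : G → ℂ) h)) :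
    blockDefect p B ≤ (Nat.card (Subgroup.centralizer ({h} : Set G))).factorization p := by
  haveI : Fact p.Prime := ⟨hM.1⟩
  obtain ⟨g, hg⟩ := exists_isDefectClass hM.2.1.isPrime hB
  obtain ⟨D⟩ : Nonempty (Sylow p (Subgroup.centralizer ({g} : Set G))) := inferInstance
  obtain ⟨x, Q, hQ⟩ := minmax_centralChar hM hB hg D hh
  have h1 := Subgroup.card_le_of_le hQ
  have e1 : Nat.card ((((D : Subgroup (Subgroup.centralizer ({g} : Set G))).map
      (Subgroup.centralizer ({g} : Set G)).subtype).map (MulAut.conj x).toMonoidHom :
        Subgroup G)) = Nat.card ((D : Subgroup (Subgroup.centralizer ({g} : Set G))).map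
      (Subgroup.centralizer ({g} : Set G)).subtype) :=
    Subgroup.card_map_of_injective (MulAut.conj x).injective
  rw [e1, card_sylow_map_centralizer,
    card_sylow_map_centralizer, ← blockDefect_eq_of_isDefectClass hM hB hg] at h1
  exact (Nat.pow_le_pow_iff_right hM.1.one_lt).1 h1

end Numeric

end Cfsg.Agent.Helper23.Blk
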