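import Mathlib
import Cfsg.Agent.Lib.Helper23.BlockLocal

/-!
# Reduction modulo the local ideal (helper23's shared library)

The residue field `AlgInt ⧸ M` of a maximal ideal `M` of the algebraic integers and the
reduction map `red M : ℂ → AlgInt ⧸ M`, which is additive and multiplicative on the local
integers, with kernel the local ideal.
-/

set_option autoImplicit false
set_option linter.unusedSectionVars false

namespace Cfsg.Agent.Helper23.Blk

open Cfsg

variable {M : Ideal AlgInt}

open Classical in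
/-- the reduction of a local integer modulo the local ideal (zero off the local ring) -/
noncomputable def red (M : Ideal AlgInt) [M.IsMaximal] (z : ℂ) : AlgInt ⧸ M :=
  letI : Field (AlgInt ⧸ M) := Ideal.Quotient.field M
  if h : MemLocalRing M z then
    Ideal.Quotient.mk M h.choose * (Ideal.Quotient.mk M h.choose_spec.choose)⁻¹
  else 0

section

variable [hMax : M.IsMaximal]

noncomputable instance resField : Field (AlgInt ⧸ M) := Ideal.Quotient.field M

theorem mk_ne_zero_of_not_mem {b : AlgInt} (hb : b ∉ M) : Ideal.Quotient.mk M b ≠ 0 := by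
  intro h
  exact hb (Ideal.Quotient.eq_zero_iff_mem.1 h)

theorem red_div (a b : AlgInt) (hb : b ∉ M) :
    red M ((a : ℂ) / (b : ℂ)) = Ideal.Quotient.mk M a * (Ideal.Quotient.mk M b)⁻¹ := by
  have h : MemLocalRing M ((a : ℂ) / (b : ℂ)) := ⟨a, b, hb, rfl⟩
  unfold red
  rw [dif_pos h]
  have hb₀ : h.choose_spec.choose ∉ M := h.choose_spec.choose_spec.1
  have he : (h.choose : ℂ) / (h.choose_spec.choose : ℂ) = (a : ℂ) / (b : ℂ) :=
    h.choose_spec.choose_spec.2
  set a₀ := h.choose
  set b₀ := h.choose_spec.choose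
  have hbc : (b : ℂ) ≠ 0 := coe_ne_zero_of_not_mem hb
  have hb₀c : (b₀ : ℂ) ≠ 0 := coe_ne_zero_of_not_mem hb₀
  have h1 : (a₀ : ℂ) * (b : ℂ) = (a : ℂ) * (b₀ : ℂ) := by
    rw [div_eq_div_iff hb₀c hbc] at he
    exact he
  have h2 : a₀ * b = a * b₀ := by
    apply Subtype.ext
    push_cast
    exact h1
  have h3 : Ideal.Quotient.mk M a₀ * Ideal.Quotient.mk M b =
      Ideal.Quotient.mk M a * Ideal.Quotient.mk M b₀ := by
    rw [← map_mul, ← map_mul, h2]
  have hmb := mk_ne_zero_of_not_mem hb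
  have hmb₀ := mk_ne_zero_of_not_mem hb₀
  show Ideal.Quotient.mk M a₀ * (Ideal.Quotient.mk M b₀)⁻¹ = _
  field_simp
  rw [h3, mul_comm]

theorem red_algInt (a : AlgInt) : red M (a : ℂ) = Ideal.Quotient.mk M a := by
  have h1 : (1 : AlgInt) ∉ M := fun h => hMax.ne_top ((Ideal.eq_top_iff_one M).2 h)
  have := red_div a 1 h1
  simpa using this

theorem red_zero : red M 0 = 0 := by
  have := red_algInt (M := M) 0
  simpa using this

theorem red_one : red M 1 = 1 := by
  have := red_algInt (M := M) 1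
  simpa using this

theorem red_add {z w : ℂ} (hz : MemLocalRing M z) (hw : MemLocalRing M w) :
    red M (z + w) = red M z + red M w := by
  haveI hMp : M.IsPrime := hMax.isPrime
  obtain ⟨a, b, hb, rfl⟩ := hz
  obtain ⟨a', b', hb', rfl⟩ := hw
  have hbb' : b * b' ∉ M := fun h => (hMp.mem_or_mem h).elim hb hb'
  have hbc : (b : ℂ) ≠ 0 := coe_ne_zero_of_not_mem hb
  have hb'c : (b' : ℂ) ≠ 0 := coe_ne_zero_of_not_mem hb'
  have h1 : (a : ℂ) / (b : ℂ) + (a' : ℂ) / (b' : ℂ) =
      ((a * b' + a' * b : AlgInt) : ℂ) / ((b * b' : AlgInt) : ℂ) := by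
    push_cast
    field_simp
  rw [h1, red_div _ _ hbb', red_div _ _ hb, red_div _ _ hb']
  have hmb := mk_ne_zero_of_not_mem hb
  have hmb' := mk_ne_zero_of_not_mem hb'
  rw [map_add, map_mul, map_mul, map_mul]
  field_simp

theorem red_mul {z w : ℂ} (hz : MemLocalRing M z) (hw : MemLocalRing M w) :
    red M (z * w) = red M z * red M w := by
  haveI hMp : M.IsPrime := hMax.isPrime
  obtain ⟨a, b, hb, rfl⟩ := hz
  obtain ⟨a', b', hb', rfl⟩ := hw
  have hbb' : b * b' ∉ M := fun h => (hMp.mem_or_mem h).elim hb hb'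
  have h1 : (a : ℂ) / (b : ℂ) * ((a' : ℂ) / (b' : ℂ)) =
      ((a * a' : AlgInt) : ℂ) / ((b * b' : AlgInt) : ℂ) := by
    push_cast
    rw [div_mul_div_comm]
  rw [h1, red_div _ _ hbb', red_div _ _ hb, red_div _ _ hb']
  have hmb := mk_ne_zero_of_not_mem hb
  have hmb' := mk_ne_zero_of_not_mem hb'
  rw [map_mul, map_mul]
  field_simp

theorem red_eq_zero_iff {z : ℂ} (hz : MemLocalRing M z) : red M z = 0 ↔ MemLocalIdeal M z := by
  constructor
  · intro h
    obtain ⟨a, b, hb, rfl⟩ := hz
    rw [red_div _ _ hb] at h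
    have hmb := mk_ne_zero_of_not_mem hb
    have : Ideal.Quotient.mk M a = 0 := by
      rcases mul_eq_zero.1 h with h | h
      · exact h
      · exact absurd (inv_eq_zero.1 h) hmb
    exact ⟨a, b, Ideal.Quotient.eq_zero_iff_mem.1 this, hb, rfl⟩
  · rintro ⟨a, b, ha, hb, rfl⟩
    rw [red_div _ _ hb, Ideal.Quotient.eq_zero_iff_mem.2 ha, zero_mul]

theorem red_sum {ι : Type*} (s : Finset ι) (f : ι → ℂ) (h : ∀ i ∈ s, MemLocalRing M (f i)) :
    red M (∑ i ∈ s, f i) = ∑ i ∈ s, red M (f i) := by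
  classical
  haveI hMp : M.IsPrime := hMax.isPrime
  induction s using Finset.induction_on with
  | empty => simpa using red_zero (M := M)
  | insert j s hj ih =>
    rw [Finset.sum_insert hj, Finset.sum_insert hj,
      red_add (h j (Finset.mem_insert_self j s))
        (memLocalRing_sum _ _ fun i hi => h i (Finset.mem_insert_of_mem hi)),
      ih fun i hi => h i (Finset.mem_insert_of_mem hi)]

theorem exists_red_eq (x : AlgInt ⧸ M) : ∃ z : ℂ, MemLocalRing M z ∧ red M z = x := by
  obtain ⟨a, rfl⟩ := Ideal.Quotient.mk_surjective x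
  exact ⟨(a : ℂ), memLocalRing_of_algInt a hMax.ne_top, red_algInt a⟩

end

end Cfsg.Agent.Helper23.Blk
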