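import Mathlib
import Cfsg.Agent.Lib.Helper23.BlockMinMax2
import Cfsg.Agent.Lib.Helper23.BlockResidue

/-!
# Counting blocks by defect (helper23's shared library)
-/

set_option autoImplicit false
set_option linter.unusedSectionVars false

namespace Cfsg.Agent.Helper23.Blk

open Cfsg Cfsg.Agent.Helper24
open scoped ComplexConjugate

universe u

section Fam

variable {G : Type u} [Group G] [Fintype G] {M : Ideal AlgInt} {p : ℕ}

/-- the class function `z` is supported, modulo the local ideal, on the elements all of whose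
centralizing `p`-subgroups lie in the family `𝒟` -/
def InFam (p : ℕ) (M : Ideal AlgInt) (𝒟 : Set (Subgroup G)) (z : G → ℂ) : Prop :=
  ∀ x : G, ¬ MemLocalIdeal M (z x) → ∀ Q : Subgroup G, IsPGroup p Q →
    Q ≤ Subgroup.centralizer ({x} : Set G) → Q ∈ 𝒟

/-- These class functions form an ideal. -/
theorem InFam.conv (hM : IsPModular p M) {z y : G → ℂ} {𝒟 : Set (Subgroup G)}
    (hz : InFam p M 𝒟 z)
    (hzc : IsClassFunction G z) (hyc : IsClassFunction G y)
    (hzR : ∀ x, MemLocalRing M (z x)) (hyR : ∀ x, MemLocalRing M (y x)) :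
    InFam p M 𝒟 (conv z y) := by
  haveI hMp : M.IsPrime := hM.2.1.isPrime
  intro n hn Q hQ hQn
  rw [conv_apply] at hn
  have hinv : ∀ q ∈ Q, ∀ x : G, z (q * x * q⁻¹) * y ((q * x * q⁻¹)⁻¹ * n) = z x * y (x⁻¹ * n) := by
    intro q hq x
    have hqn : n * q = q * n := by
      have := hQn hq
      rw [Subgroup.mem_centralizer_iff] at this
      exact this n rfl
    rw [hzc x q]
    congr 1
    have : (q * x * q⁻¹)⁻¹ * n = q * (x⁻¹ * n) * q⁻¹ := by
      have h1 : n = q * n * q⁻¹ := by rw [← hqn]; group
      calc (q * x * q⁻¹)⁻¹ * n = q * x⁻¹ * q⁻¹ * n := by group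
        _ = q * x⁻¹ * q⁻¹ * (q * n * q⁻¹) := by rw [← h1]
        _ = q * (x⁻¹ * n) * q⁻¹ := by group
    rw [this, hyc]
  obtain ⟨x, hxfix, hx⟩ := exists_fixed_of_not_memLocalIdeal_sum hM Q hQ
    (fun x => z x * y (x⁻¹ * n)) hinv (fun x => memLocalRing_mul (hzR x) (hyR _)) hn
  have hzx : ¬ MemLocalIdeal M (z x) := fun h => hx (memLocalIdeal_mul_right h (hyR _))
  apply hz x hzx Q hQ
  intro q hq
  rw [Subgroup.mem_centralizer_iff]
  intro w hw
  rw [Set.mem_singleton_iff] at hw
  subst hw
  have := hxfix q hq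
  calc w * q = (q * w * q⁻¹) * q := by rw [this]
    _ = q * w := by group

/-- the order of a `p`-subgroup of a centralizer is at most the `p`-part of its order -/
theorem card_le_of_le_centralizer (hp : p.Prime) {Q : Subgroup G} (hQ : IsPGroup p Q) {x : G}
    (hQx : Q ≤ Subgroup.centralizer ({x} : Set G)) :
    Nat.card Q ≤ p ^ (Nat.card (Subgroup.centralizer ({x} : Set G))).factorization p := by
  haveI : Fact p.Prime := ⟨hp⟩
  have hQ' : IsPGroup p (Q.subgroupOf (Subgroup.centralizer ({x} : Set G))) := hQ.comap_subtype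
  obtain ⟨P, hP⟩ := hQ'.exists_le_sylow
  have h1 := Subgroup.card_le_of_le hP
  rw [P.card_eq_multiplicity] at h1
  have h2 : Nat.card (Q.subgroupOf (Subgroup.centralizer ({x} : Set G))) = Nat.card Q :=
    Nat.card_congr (Subgroup.subgroupOfEquivOfLe hQx).toEquiv
  rw [h2] at h1
  exact h1

end Fam

section Disjoint

variable {G : Type u} [Group G] [Fintype G] {M : Ideal AlgInt}

/-- Blocks sharing a member are equal. -/
theorem isPBlock_eq_of_mem [hMp : M.IsPrime] {B B' : Set (IrrCharacter G)} (hB : IsPBlock M B)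
    (hB' : IsPBlock M B') {χ : IrrCharacter G} (hχ : χ ∈ B) (hχ' : χ ∈ B') : B = B' := by
  obtain ⟨χ₀, rfl⟩ := hB
  obtain ⟨χ₁, rfl⟩ := hB'
  rw [← blockOf_eq_of_mem hχ, ← blockOf_eq_of_mem hχ']

/-- The product of two block idempotents. -/
theorem conv_blockCoeff [hMp : M.IsPrime] {B B' : Set (IrrCharacter G)} (hB : IsPBlock M B)
    (hB' : IsPBlock M B') :
    conv (blockCoeff B) (blockCoeff B') = if B = B' then blockCoeff B else 0 := by
  classical
  letI : Fintype (IrrCharacter G) := irrFintype
  funext g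
  rw [conv_apply]
  have h1 : ∀ h : G, blockCoeff B h * blockCoeff B' (h⁻¹ * g) =
      synth (fun χ => if χ ∈ B then (1 : ℂ) else 0) h *
        synth (fun χ => if χ ∈ B' then (1 : ℂ) else 0) (h⁻¹ * g) := by
    intro h
    rw [blockCoeff_eq_synth, blockCoeff_eq_synth]
  rw [Finset.sum_congr rfl (fun h _ => h1 h), synth_conv]
  by_cases hBB : B = B'
  · subst hBB
    rw [if_pos rfl, blockCoeff_eq_synth]
    congr 1
    funext χ
    simp only [Pi.mul_apply]
    split_ifs <;> simp
  · rw [if_neg hBB]
    have : (fun χ : IrrCharacter G => if χ ∈ B then (1 : ℂ) else 0) *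
        (fun χ => if χ ∈ B' then (1 : ℂ) else 0) = 0 := by
      funext χ
      simp only [Pi.mul_apply, Pi.zero_apply]
      by_cases h1 : χ ∈ B
      · by_cases h2 : χ ∈ B'
        · exact absurd (isPBlock_eq_of_mem hB hB' h1 h2) hBB
        · rw [if_neg h2, mul_zero]
      · rw [if_neg h1, zero_mul]
    rw [this]
    unfold synth
    simp

end Disjoint

section Count

variable {G : Type u} [Group G] [Finite G] {M : Ideal AlgInt} {p : ℕ}

/-- **Counting blocks by classes**: a set `𝔅` of blocks whose defect groups have order at least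
`N`, and a set `𝒞` of classes containing every class in the support (modulo the local ideal) of
the idempotent of a member of `𝔅` whose defect group has order at least `N`. -/
theorem card_blocks_le_card_classes (hM : IsPModular p M) (𝔅 : Set (Set (IrrCharacter G)))
    (h𝔅 : ∀ B ∈ 𝔅, IsPBlock M B) (N : ℕ) (hN : ∀ B ∈ 𝔅, N ≤ p ^ blockDefect p B)
    (𝒞 : Set (ConjClasses G))
    (h𝒞 : ∀ B ∈ 𝔅, ∀ x : G, ¬ MemLocalIdeal M (blockCoeff B x) → ConjClasses.mk x ∉ 𝒞 →
      p ^ (Nat.card (Subgroup.centralizer ({x} : Set G))).factorization p < N) :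
    Nat.card 𝔅 ≤ Nat.card 𝒞 := by
  classical
  haveI : Fintype G := Fintype.ofFinite G
  haveI hMax : M.IsMaximal := hM.2.1
  haveI hMp : M.IsPrime := hMax.isPrime
  haveI : Fact p.Prime := ⟨hM.1⟩
  haveI : Finite (IrrCharacter G) := irr_finite'
  haveI : Fintype 𝔅 := Fintype.ofFinite _
  haveI : Fintype 𝒞 := Fintype.ofFinite _
  -- the vectors
  set v : 𝔅 → (𝒞 → AlgInt ⧸ M) :=
    fun B C => red M (blockCoeff (B : Set (IrrCharacter G)) (Quotient.out (C : ConjClasses G)))
    with hv
  have hli : LinearIndependent (AlgInt ⧸ M) v := by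
    rw [Fintype.linearIndependent_iff]
    intro l hl B₀
    choose c hcR hcred using fun B : 𝔅 => exists_red_eq (M := M) (l B)
    set z : G → ℂ := fun x => ∑ B : 𝔅, c B * blockCoeff (B : Set (IrrCharacter G)) x with hz
    have heR : ∀ (B : 𝔅) (x : G), MemLocalRing M (blockCoeff (B : Set (IrrCharacter G)) x) :=
      fun B x => memLocalRing_blockCoeff hMp (h𝔅 B B.2) x
    have hzR : ∀ x, MemLocalRing M (z x) := fun x =>
      memLocalRing_sum _ _ fun B _ => memLocalRing_mul (hcR B) (heR B x)
    have hzc : IsClassFunction G z := by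
      intro g h
      simp only [hz]
      apply Finset.sum_congr rfl
      intro B _
      rw [blockCoeff_conj]
    -- `z` vanishes modulo the local ideal on `𝒞`
    have hz𝒞 : ∀ C : 𝒞, MemLocalIdeal M (z (Quotient.out (C : ConjClasses G))) := by
      intro C
      rw [← red_eq_zero_iff (hzR _)]
      simp only [hz]
      rw [red_sum _ _ fun B _ => memLocalRing_mul (hcR B) (heR B _)]
      have h1 := congrFun hl C
      rw [Finset.sum_apply, Pi.zero_apply] at h1
      rw [← h1]
      apply Finset.sum_congr rfl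
      intro B _
      rw [red_mul (hcR B) (heR B _), hcred B, Pi.smul_apply, smul_eq_mul]
    -- the support of `z`
    have hzfam : InFam p M {Q : Subgroup G | Nat.card Q < N} z := by
      intro x hx Q hQ hQx
      have hex : ∃ B : 𝔅, ¬ MemLocalIdeal M (c B * blockCoeff (B : Set (IrrCharacter G)) x) := by
        by_contra hcon
        push Not at hcon
        exact hx (memLocalIdeal_sum _ _ fun B _ => hcon B)
      obtain ⟨B, hB⟩ := hex
      have hBx : ¬ MemLocalIdeal M (blockCoeff (B : Set (IrrCharacter G)) x) :=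
        fun h => hB (memLocalIdeal_mul_left (hcR B) h)
      have hnot : ConjClasses.mk x ∉ 𝒞 := by
        intro hC
        apply hx
        have h1 := hz𝒞 ⟨ConjClasses.mk x, hC⟩
        have h2 : ConjClasses.mk (Quotient.out (ConjClasses.mk x)) = ConjClasses.mk x :=
          Quotient.out_eq _
        rw [ConjClasses.mk_eq_mk_iff_isConj, isConj_iff] at h2
        obtain ⟨w, hw⟩ := h2
        rw [← hw, hzc]
        exact h1
      have h3 := h𝒞 B B.2 x hBx hnot
      exact lt_of_le_of_lt (card_le_of_le_centralizer hM.1 hQ hQx) h3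
    -- multiply by the idempotent of `B₀`
    have hconv : conv z (blockCoeff (B₀ : Set (IrrCharacter G))) =
        fun x => c B₀ * blockCoeff (B₀ : Set (IrrCharacter G)) x := by
      funext x
      rw [conv_apply]
      simp only [hz]
      have h1 : ∀ h : G, (∑ B : 𝔅, c B * blockCoeff (B : Set (IrrCharacter G)) h) *
          blockCoeff (B₀ : Set (IrrCharacter G)) (h⁻¹ * x) =
          ∑ B : 𝔅, c B * (blockCoeff (B : Set (IrrCharacter G)) h *
            blockCoeff (B₀ : Set (IrrCharacter G)) (h⁻¹ * x)) := by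
        intro h
        rw [Finset.sum_mul]
        apply Finset.sum_congr rfl
        intro B _
        ring
      rw [Finset.sum_congr rfl (fun h _ => h1 h), Finset.sum_comm]
      have h2 : ∀ B : 𝔅, ∑ h : G, c B * (blockCoeff (B : Set (IrrCharacter G)) h *
          blockCoeff (B₀ : Set (IrrCharacter G)) (h⁻¹ * x)) =
          if B = B₀ then c B₀ * blockCoeff (B₀ : Set (IrrCharacter G)) x else 0 := by
        intro B
        rw [← Finset.mul_sum, ← conv_apply, conv_blockCoeff (h𝔅 B B.2) (h𝔅 B₀ B₀.2)]
        by_cases hBB : B = B₀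
        · subst hBB
          rw [if_pos rfl, if_pos rfl]
        · have : (B : Set (IrrCharacter G)) ≠ (B₀ : Set (IrrCharacter G)) :=
            fun h => hBB (Subtype.ext h)
          rw [if_neg this, if_neg hBB, Pi.zero_apply, mul_zero]
      rw [Finset.sum_congr rfl (fun B _ => h2 B), Finset.sum_ite_eq', if_pos (Finset.mem_univ _)]
    have hfam2 := InFam.conv hM hzfam hzc
      (fun g h => blockCoeff_conj (B₀ : Set (IrrCharacter G)) g h) hzR (heR B₀)
    rw [hconv] at hfam2
    -- a defect class of `B₀`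
    obtain ⟨g, hg⟩ := exists_isDefectClass hMp (h𝔅 B₀ B₀.2)
    obtain ⟨D⟩ : Nonempty (Sylow p (Subgroup.centralizer ({g} : Set G))) := inferInstance
    have hmem : MemLocalIdeal M (c B₀ * blockCoeff (B₀ : Set (IrrCharacter G)) g) := by
      by_contra hcon
      have h1 := hfam2 g hcon
        ((D : Subgroup (Subgroup.centralizer ({g} : Set G))).map
          (Subgroup.centralizer ({g} : Set G)).subtype) (D.2.map _)
        (by
          rintro _ ⟨y, -, rfl⟩
          exact y.2)
      have h2 : Nat.card ((D : Subgroup (Subgroup.centralizer ({g} : Set G))).map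
          (Subgroup.centralizer ({g} : Set G)).subtype) < N := h1
      rw [card_sylow_map_centralizer,
        ← blockDefect_eq_of_isDefectClass hM (h𝔅 B₀ B₀.2) hg] at h2
      have := hN B₀ B₀.2
      omega
    rcases memLocalIdeal_or_of_mul (hcR B₀) (heR B₀ g) hmem with h | h
    · rw [← hcred B₀, red_eq_zero_iff (hcR B₀)]
      exact h
    · exact absurd h hg.2.1
  have h1 := hli.fintype_card_le_finrank
  rw [Module.finrank_fintype_fun_eq_card] at h1
  rw [Nat.card_eq_fintype_card, Nat.card_eq_fintype_card]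
  exact h1

end Count

end Cfsg.Agent.Helper23.Blk
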