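import Mathlib
import Cfsg.Agent.Lib.Helper23.BlockCount

/-!
# Central characters modulo the local ideal come from blocks (helper23's shared library)

Spectral completeness (`synth_omega`), multiplicativity of the central character on the centre
(`omega_conv`), and the main theorem `exists_irr_of_centralHom`: every functional on the class
functions that is multiplicative modulo the local ideal agrees, modulo the local ideal, with the
central character of an irreducible character.
-/

set_option autoImplicit false
set_option linter.unusedSectionVars false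

namespace Cfsg.Agent.Helper23.Blk

open Cfsg Cfsg.Agent.Helper24
open scoped ComplexConjugate

universe u

section Cong

variable {M : Ideal AlgInt} [hMp : M.IsPrime]

theorem cong_mul {x x' y y' : ℂ} (hx : MemLocalIdeal M (x - x')) (hy : MemLocalIdeal M (y - y'))
    (hx' : MemLocalRing M x') (hyR : MemLocalRing M y) :
    MemLocalIdeal M (x * y - x' * y') := by
  have h : x * y - x' * y' = (x - x') * y + x' * (y - y') := by ring
  rw [h]
  exact memLocalIdeal_add (memLocalIdeal_mul_right hx hyR) (memLocalIdeal_mul_left hx' hy)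

theorem cong_trans {x y z : ℂ} (hxy : MemLocalIdeal M (x - y)) (hyz : MemLocalIdeal M (y - z)) :
    MemLocalIdeal M (x - z) := by
  have := memLocalIdeal_add hxy hyz
  rwa [sub_add_sub_cancel] at this

theorem cong_symm {x y : ℂ} (hxy : MemLocalIdeal M (x - y)) : MemLocalIdeal M (y - x) := by
  have := memLocalIdeal_neg hxy
  rwa [neg_sub] at this

theorem cong_refl (x : ℂ) : MemLocalIdeal M (x - x) := by
  rw [sub_self]
  exact memLocalIdeal_zero ne_top

theorem memLocalRing_of_cong {x y : ℂ} (hxy : MemLocalIdeal M (x - y)) (hy : MemLocalRing M y) :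
    MemLocalRing M x := by
  have h : x = (x - y) + y := by ring
  rw [h]
  exact memLocalRing_add (memLocalRing_of_memLocalIdeal hxy) hy

theorem not_memLocalIdeal_of_cong {x y : ℂ} (hxy : MemLocalIdeal M (x - y))
    (hy : ¬ MemLocalIdeal M y) : ¬ MemLocalIdeal M x := by
  intro hx
  apply hy
  have h : y = x - (x - y) := by ring
  rw [h]
  exact memLocalIdeal_sub hx hxy

end Cong

section OmegaLinear

variable {G : Type u} [Group G] [Fintype G]

theorem omega_add (χ a b : G → ℂ) : omega χ (a + b) = omega χ a + omega χ b := by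
  unfold omega
  rw [← add_div, ← Finset.sum_add_distrib]
  congr 1
  apply Finset.sum_congr rfl
  intro g _
  rw [Pi.add_apply]
  ring

theorem omega_sub (χ a b : G → ℂ) : omega χ (a - b) = omega χ a - omega χ b := by
  unfold omega
  rw [← sub_div, ← Finset.sum_sub_distrib]
  congr 1
  apply Finset.sum_congr rfl
  intro g _
  rw [Pi.sub_apply]
  ring

theorem omega_smul (χ : G → ℂ) (r : ℂ) (a : G → ℂ) : omega χ (r • a) = r * omega χ a := by
  unfold omega
  rw [← mul_div_assoc, Finset.mul_sum]
  congr 1
  apply Finset.sum_congr rfl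
  intro g _
  rw [Pi.smul_apply, smul_eq_mul]
  ring

end OmegaLinear

section Spectral

variable {G : Type u} [Group G] [Fintype G] [Fintype (IrrCharacter G)]

theorem synth_zero (g : G) : synth (0 : IrrCharacter G → ℂ) g = 0 := by
  unfold synth
  simp

theorem synth_sum {ι : Type*} (s : Finset ι) (f : ι → IrrCharacter G → ℂ) (g : G) :
    synth (∑ i ∈ s, f i) g = ∑ i ∈ s, synth (f i) g := by
  classical
  induction s using Finset.induction_on with
  | empty => rw [Finset.sum_empty, Finset.sum_empty, synth_zero]
  | insert j s hj ih => rw [Finset.sum_insert hj, Finset.sum_insert hj, synth_add, ih]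

/-- **Spectral completeness**: a class function is recovered from its central-character
values. -/
theorem synth_omega {a : G → ℂ} (ha : IsClassFunction G a) (g : G) :
    synth (fun χ : IrrCharacter G => omega (χ : G → ℂ) a) g = a g := by
  classical
  haveI : Fintype (ConjClasses G) := Fintype.ofFinite _
  have h1 : (fun χ : IrrCharacter G => omega (χ : G → ℂ) a) =
      ∑ K : ConjClasses G, a (Quotient.out K) •
        (fun χ : IrrCharacter G => centralChar (χ : G → ℂ) (Quotient.out K)) := by
    funext χ
    rw [omega_eq_sum_classes (isClassFunction_of_isIrrCharacter χ.2) ha, Finset.sum_apply]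
    apply Finset.sum_congr rfl
    intro K _
    rw [Pi.smul_apply, smul_eq_mul]
  rw [h1, synth_sum]
  have h2 : ∀ K : ConjClasses G, synth (a (Quotient.out K) •
        (fun χ : IrrCharacter G => centralChar (χ : G → ℂ) (Quotient.out K))) g =
      if K = ConjClasses.mk g then a g else 0 := by
    intro K
    rw [synth_smul, synth_centralChar]
    have hK : ConjClasses.mk (Quotient.out K) = K := Quotient.out_eq K
    by_cases hKg : K = ConjClasses.mk g
    · rw [if_pos hKg]
      have hc : IsConj (Quotient.out K) g := by
        rw [← ConjClasses.mk_eq_mk_iff_isConj, hK, hKg]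
      rw [if_pos hc, mul_one]
      exact classFunction_eq_of_isConj ha hc
    · rw [if_neg hKg, if_neg, mul_zero]
      intro hc
      apply hKg
      rw [← hK]
      exact ConjClasses.mk_eq_mk_iff_isConj.2 hc
  rw [Finset.sum_congr rfl (fun K _ => h2 K), Finset.sum_ite_eq' , if_pos (Finset.mem_univ _)]

/-- the central character is multiplicative on the centre of the group algebra -/
theorem omega_conv (χ : IrrCharacter G) {a b : G → ℂ} (ha : IsClassFunction G a)
    (hb : IsClassFunction G b) :
    omega (χ : G → ℂ) (conv a b) = omega (χ : G → ℂ) a * omega (χ : G → ℂ) b := by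
  have h1 : conv a b = synth ((fun ψ : IrrCharacter G => omega (ψ : G → ℂ) a) *
      (fun ψ : IrrCharacter G => omega (ψ : G → ℂ) b)) := by
    funext g
    rw [← synth_conv, conv_apply]
    apply Finset.sum_congr rfl
    intro h _
    rw [synth_omega ha, synth_omega hb]
  rw [h1, omega_synth, Pi.mul_apply]

theorem isClassFunction_conv {a b : G → ℂ} (ha : IsClassFunction G a)
    (hb : IsClassFunction G b) : IsClassFunction G (conv a b) := by
  have h1 : conv a b = synth ((fun ψ : IrrCharacter G => omega (ψ : G → ℂ) a) *
      (fun ψ : IrrCharacter G => omega (ψ : G → ℂ) b)) := by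
    funext g
    rw [← synth_conv, conv_apply]
    apply Finset.sum_congr rfl
    intro h _
    rw [synth_omega ha, synth_omega hb]
  rw [h1]
  exact synth_isClassFunction _

variable {M : Ideal AlgInt} [hMp : M.IsPrime]

theorem memLocalRing_omega (χ : IrrCharacter G) {a : G → ℂ} (ha : IsClassFunction G a)
    (haR : ∀ g, MemLocalRing M (a g)) : MemLocalRing M (omega (χ : G → ℂ) a) := by
  classical
  haveI : Fintype (ConjClasses G) := Fintype.ofFinite _
  rw [omega_eq_sum_classes (isClassFunction_of_isIrrCharacter χ.2) ha]
  apply memLocalRing_sum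
  intro K _
  exact memLocalRing_mul (haR _) (memLocalRing_centralChar χ _)

theorem memLocalIdeal_omega (χ : IrrCharacter G) {a : G → ℂ} (ha : IsClassFunction G a)
    (haR : ∀ g, MemLocalIdeal M (a g)) : MemLocalIdeal M (omega (χ : G → ℂ) a) := by
  classical
  haveI : Fintype (ConjClasses G) := Fintype.ofFinite _
  rw [omega_eq_sum_classes (isClassFunction_of_isIrrCharacter χ.2) ha]
  apply memLocalIdeal_sum
  intro K _
  exact memLocalIdeal_mul_right (haR _) (memLocalRing_centralChar χ _)

theorem isIntegralVec_omega {a : G → ℂ} (ha : IsClassFunction G a)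
    (haR : ∀ g, MemLocalRing M (a g)) :
    IsIntegralVec M (fun χ : IrrCharacter G => omega (χ : G → ℂ) a) := by
  intro g
  rw [synth_omega ha]
  exact haR g

end Spectral

section CentralHom

variable {G : Type u} [Group G] [Fintype G] {M : Ideal AlgInt} {p : ℕ}

open Classical in
/-- a functional on coefficient functions that is, on the class functions with local-integer
values, a ring homomorphism modulo the local ideal -/
structure IsCentralHom (M : Ideal AlgInt) (L : (G → ℂ) → ℂ) : Prop where
  add : ∀ a b, L (a + b) = L a + L b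
  smul : ∀ (r : ℂ) a, L (r • a) = r * L a
  mem : ∀ a, IsClassFunction G a → (∀ g, MemLocalRing M (a g)) → MemLocalRing M (L a)
  mul : ∀ a b, IsClassFunction G a → IsClassFunction G b → (∀ g, MemLocalRing M (a g)) →
    (∀ g, MemLocalRing M (b g)) → MemLocalIdeal M (L (conv a b) - L a * L b)
  one : MemLocalIdeal M (L (fun g => if g = 1 then (1 : ℂ) else 0) - 1)

namespace IsCentralHom

variable {L : (G → ℂ) → ℂ}

theorem zero (hL : IsCentralHom M L) : L 0 = 0 := by
  have := hL.smul 0 0
  rwa [zero_smul, zero_mul] at this

theorem sub (hL : IsCentralHom M L) (a b : G → ℂ) : L (a - b) = L a - L b := by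
  have h1 : a - b = a + (-1 : ℂ) • b := by
    funext g
    simp [sub_eq_add_neg]
  rw [h1, hL.add, hL.smul]
  ring

end IsCentralHom

variable [Fintype (IrrCharacter G)]

theorem conv_synth (c c' : IrrCharacter G → ℂ) : conv (synth c) (synth c') = synth (c * c') := by
  funext g
  rw [conv_apply, synth_conv]

theorem synth_one' : synth (1 : IrrCharacter G → ℂ) =
    (by classical exact fun g : G => if g = 1 then (1 : ℂ) else 0) := by
  classical
  funext g
  exact synth_one g

/-- multiplicativity over finite products, in spectral form -/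
theorem IsCentralHom.prod [hMp : M.IsPrime] {L : (G → ℂ) → ℂ} (hL : IsCentralHom M L)
    {ι : Type*} (s : Finset ι) (f : ι → IrrCharacter G → ℂ)
    (h : ∀ i ∈ s, IsIntegralVec M (f i)) :
    MemLocalIdeal M (L (synth (∏ i ∈ s, f i)) - ∏ i ∈ s, L (synth (f i))) := by
  classical
  induction s using Finset.induction_on with
  | empty =>
    rw [Finset.prod_empty, Finset.prod_empty, synth_one']
    exact hL.one
  | insert j s hj ih =>
    rw [Finset.prod_insert hj, Finset.prod_insert hj, ← conv_synth]
    have hj' := h j (Finset.mem_insert_self j s)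
    have hs' : ∀ i ∈ s, IsIntegralVec M (f i) := fun i hi => h i (Finset.mem_insert_of_mem hi)
    have hP : IsIntegralVec M (∏ i ∈ s, f i) := isIntegralVec_prod s f hs'
    have h1 := hL.mul (synth (f j)) (synth (∏ i ∈ s, f i)) (synth_isClassFunction _)
      (synth_isClassFunction _) hj' hP
    refine cong_trans h1 ?_
    apply cong_mul (cong_refl _) (ih hs')
    · exact hL.mem _ (synth_isClassFunction _) hj'
    · exact hL.mem _ (synth_isClassFunction _) hP

/-- **Central characters modulo the local ideal come from blocks.** -/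
theorem IsCentralHom.exists_irr (hM : IsPModular p M) {L : (G → ℂ) → ℂ}
    (hL : IsCentralHom M L) :
    ∃ χ : IrrCharacter G, ∀ a, IsClassFunction G a → (∀ g, MemLocalRing M (a g)) →
      MemLocalIdeal M (L a - omega (χ : G → ℂ) a) := by
  classical
  haveI hMp : M.IsPrime := hM.2.1.isPrime
  -- the spectral indicator vectors of the blocks
  let ind : IrrCharacter G → IrrCharacter G → ℂ := fun χ ψ =>
    if ψ ∈ blockOf M (χ : G → ℂ) then (1 : ℂ) else 0
  have hind : ∀ χ, IsIntegralVec M (ind χ) := fun χ => isIntegralVec_block χ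
  have hone : IsIntegralVec M (1 : IrrCharacter G → ℂ) := isIntegralVec_one
  have hL1 : MemLocalIdeal M (L (synth (1 : IrrCharacter G → ℂ)) - 1) := by
    rw [synth_one']
    exact hL.one
  have hLsub : ∀ c c' : IrrCharacter G → ℂ, L (synth (c - c')) = L (synth c) - L (synth c') := by
    intro c c'
    have : synth (c - c') = synth c - synth c' := by
      funext g
      rw [synth_sub, Pi.sub_apply]
    rw [this, hL.sub]
  -- some block has `L e_B` outside the local ideal
  have hex : ∃ χ₀ : IrrCharacter G, ¬ MemLocalIdeal M (L (synth (ind χ₀))) := by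
    by_contra hcon
    push Not at hcon
    have hprod : (∏ χ : IrrCharacter G, ((1 : IrrCharacter G → ℂ) - ind χ)) = 0 := by
      funext ψ
      rw [Finset.prod_apply, Pi.zero_apply]
      apply Finset.prod_eq_zero (Finset.mem_univ ψ)
      rw [Pi.sub_apply, Pi.one_apply]
      simp only [ind]
      rw [if_pos (mem_blockOf_self ψ), sub_self]
    have h1 := hL.prod Finset.univ (fun χ : IrrCharacter G => (1 : IrrCharacter G → ℂ) - ind χ)
      (fun χ _ => IsIntegralVec.sub hone (hind χ))
    rw [hprod] at h1
    have h0 : synth (0 : IrrCharacter G → ℂ) = (0 : G → ℂ) := by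
      funext g
      rw [synth_zero, Pi.zero_apply]
    rw [h0, hL.zero, zero_sub] at h1
    have h2 := memLocalIdeal_neg h1
    rw [neg_neg] at h2
    have h3 : ¬ MemLocalIdeal M (∏ χ : IrrCharacter G,
        L (synth ((1 : IrrCharacter G → ℂ) - ind χ))) := by
      apply not_memLocalIdeal_prod
      · intro χ _
        exact hL.mem _ (synth_isClassFunction _) (IsIntegralVec.sub hone (hind χ))
      · intro χ _ hc
        rw [hLsub] at hc
        apply not_memLocalIdeal_one (M := M)
        have h4 : (1 : ℂ) = -(L (synth (1 : IrrCharacter G → ℂ)) - 1) +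
            (L (synth (1 : IrrCharacter G → ℂ)) - L (synth (ind χ))) + L (synth (ind χ)) := by
          ring
        rw [h4]
        exact memLocalIdeal_add (memLocalIdeal_add (memLocalIdeal_neg hL1) hc) (hcon χ)
    exact h3 h2
  obtain ⟨χ₀, hχ₀⟩ := hex
  refine ⟨χ₀, ?_⟩
  -- `L e_B ≡ 1`
  have hxR : MemLocalRing M (L (synth (ind χ₀))) := hL.mem _ (synth_isClassFunction _) (hind χ₀)
  have hidem : ind χ₀ * ind χ₀ = ind χ₀ := by
    funext ψ
    rw [Pi.mul_apply]
    simp only [ind]
    split_ifs <;> simp
  have hx1 : MemLocalIdeal M (L (synth (ind χ₀)) - 1) := by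
    have h1 := hL.mul (synth (ind χ₀)) (synth (ind χ₀)) (synth_isClassFunction _)
      (synth_isClassFunction _) (hind χ₀) (hind χ₀)
    rw [conv_synth, hidem] at h1
    have h2 : L (synth (ind χ₀)) - L (synth (ind χ₀)) * L (synth (ind χ₀)) =
        L (synth (ind χ₀)) * (-(L (synth (ind χ₀)) - 1)) := by ring
    rw [h2] at h1
    rcases memLocalIdeal_or_of_mul hxR
      (memLocalRing_neg (memLocalRing_sub hxR (memLocalRing_one ne_top))) h1 with h | h
    · exact absurd h hχ₀
    · have := memLocalIdeal_neg h
      rwa [neg_neg] at this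
  intro a ha haR
  -- the spectral vector of `a`
  set va : IrrCharacter G → ℂ := fun χ => omega (χ : G → ℂ) a with hva
  have hvaI : IsIntegralVec M va := isIntegralVec_omega ha haR
  have hsa : synth va = a := by
    funext g
    exact synth_omega ha g
  -- the factors
  let f : IrrCharacter G → IrrCharacter G → ℂ := fun ψ =>
    (va - omega (ψ : G → ℂ) a • (1 : IrrCharacter G → ℂ)) * ind χ₀
  have hωR : ∀ ψ : IrrCharacter G, MemLocalRing M (omega (ψ : G → ℂ) a) :=
    fun ψ => memLocalRing_omega ψ ha haR
  have hfI : ∀ ψ, IsIntegralVec M (f ψ) := fun ψ =>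
    IsIntegralVec.mul (IsIntegralVec.sub hvaI (IsIntegralVec.smul (hωR ψ) hone)) (hind χ₀)
  let S : Finset (IrrCharacter G) := Finset.univ.filter (fun ψ => ψ ∈ blockOf M (χ₀ : G → ℂ))
  have hprod : (∏ ψ ∈ S, f ψ) = 0 := by
    funext φ
    rw [Finset.prod_apply, Pi.zero_apply]
    by_cases hφ : φ ∈ blockOf M (χ₀ : G → ℂ)
    · apply Finset.prod_eq_zero (i := φ)
      · simp only [S, Finset.mem_filter, Finset.mem_univ, true_and]
        exact hφ
      · simp only [f, Pi.mul_apply, Pi.sub_apply, Pi.smul_apply, Pi.one_apply, smul_eq_mul,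
          mul_one, hva, sub_self, zero_mul]
    · apply Finset.prod_eq_zero (i := χ₀)
      · simp only [S, Finset.mem_filter, Finset.mem_univ, true_and]
        exact mem_blockOf_self χ₀
      · simp only [f, Pi.mul_apply, ind]
        rw [if_neg hφ, mul_zero]
  have h1 := hL.prod S f (fun ψ _ => hfI ψ)
  rw [hprod] at h1
  have h0 : synth (0 : IrrCharacter G → ℂ) = (0 : G → ℂ) := by
    funext g
    rw [synth_zero, Pi.zero_apply]
  rw [h0, hL.zero, zero_sub] at h1
  have h2 := memLocalIdeal_neg h1
  rw [neg_neg] at h2
  -- each factor is congruent to `L a - ω_{χ₀}(a)`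
  have hfac : ∀ ψ ∈ S, MemLocalIdeal M (L (synth (f ψ)) - (L a - omega (χ₀ : G → ℂ) a)) := by
    intro ψ hψ
    simp only [S, Finset.mem_filter, Finset.mem_univ, true_and] at hψ
    have hI1 : IsIntegralVec M (va - omega (ψ : G → ℂ) a • (1 : IrrCharacter G → ℂ)) :=
      IsIntegralVec.sub hvaI (IsIntegralVec.smul (hωR ψ) hone)
    have h3 := hL.mul (synth (va - omega (ψ : G → ℂ) a • (1 : IrrCharacter G → ℂ)))
      (synth (ind χ₀)) (synth_isClassFunction _) (synth_isClassFunction _) hI1 (hind χ₀)
    rw [conv_synth] at h3
    refine cong_trans h3 ?_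
    have h4 : L (synth (va - omega (ψ : G → ℂ) a • (1 : IrrCharacter G → ℂ))) =
        L a - omega (ψ : G → ℂ) a * L (synth (1 : IrrCharacter G → ℂ)) := by
      rw [hLsub, hsa]
      congr 1
      have : synth (omega (ψ : G → ℂ) a • (1 : IrrCharacter G → ℂ)) =
          omega (ψ : G → ℂ) a • synth (1 : IrrCharacter G → ℂ) := by
        funext g
        rw [synth_smul, Pi.smul_apply, smul_eq_mul]
      rw [this, hL.smul]
    have hLaR : MemLocalRing M (L a) := hL.mem a ha haR
    have h5 : MemLocalIdeal M (L (synth (va - omega (ψ : G → ℂ) a • (1 : IrrCharacter G → ℂ))) -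
        (L a - omega (χ₀ : G → ℂ) a)) := by
      rw [h4]
      have h6 : L a - omega (ψ : G → ℂ) a * L (synth (1 : IrrCharacter G → ℂ)) -
          (L a - omega (χ₀ : G → ℂ) a) =
          -(omega (ψ : G → ℂ) a * (L (synth (1 : IrrCharacter G → ℂ)) - 1)) +
            (omega (χ₀ : G → ℂ) a - omega (ψ : G → ℂ) a) := by ring
      rw [h6]
      exact memLocalIdeal_add (memLocalIdeal_neg (memLocalIdeal_mul_left (hωR ψ) hL1))
        (memLocalIdeal_omega_sub hψ ha haR)
    have h7 := cong_mul h5 hx1 (memLocalRing_sub hLaR (hωR χ₀)) hxR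
    rwa [mul_one] at h7
  by_contra hcon
  apply not_memLocalIdeal_prod S (fun ψ => L (synth (f ψ))) _ _ h2
  · intro ψ _
    exact hL.mem _ (synth_isClassFunction _) (hfI ψ)
  · intro ψ hψ
    exact not_memLocalIdeal_of_cong (hfac ψ hψ) hcon

end CentralHom

end Cfsg.Agent.Helper23.Blk
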