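import Mathlib
import Cfsg.Prelude.Def_Blocks
import Cfsg.Agent.Lib.Helper23.BlockConv

/-!
# Weak block orthogonality (helper23's shared library)
-/

set_option autoImplicit false
set_option linter.unusedSectionVars false

namespace Cfsg.Agent.Helper23.Blk

open Cfsg Cfsg.Agent.Helper24 Cfsg.Agent.Helper8
open scoped ComplexConjugate

universe u

section CyclicIdem

variable {G : Type u} [Group G] [Fintype G]

open Classical in
/-- the coefficient function of the idempotent of the subgroup `X` attached to the linear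
character `lam` -/
noncomputable def subgroupIdem (X : Subgroup G) (lam : X →* ℂˣ) : G → ℂ :=
  fun g => if h : g ∈ X then (Nat.card X : ℂ)⁻¹ * (((lam ⟨g, h⟩)⁻¹ : ℂˣ) : ℂ) else 0

theorem subgroupIdem_of_mem (X : Subgroup G) (lam : X →* ℂˣ) {g : G} (h : g ∈ X) :
    subgroupIdem X lam g = (Nat.card X : ℂ)⁻¹ * (((lam ⟨g, h⟩)⁻¹ : ℂˣ) : ℂ) := by
  unfold subgroupIdem
  rw [dif_pos h]

theorem subgroupIdem_of_not_mem (X : Subgroup G) (lam : X →* ℂˣ) {g : G} (h : g ∉ X) :
    subgroupIdem X lam g = 0 := by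
  unfold subgroupIdem
  rw [dif_neg h]

theorem isConvIdem_subgroupIdem (X : Subgroup G) (lam : X →* ℂˣ) :
    IsConvIdem (subgroupIdem X lam) := by
  classical
  haveI : Fintype X := Fintype.ofFinite X
  intro g
  have hX0 : (Nat.card X : ℂ) ≠ 0 := by exact_mod_cast (Nat.card_pos (α := X)).ne'
  by_cases hg : g ∈ X
  · rw [Helper24.sum_eq_sum_subgroup X]
    · have h1 : ∀ h : X, subgroupIdem X lam (h : G) * subgroupIdem X lam ((h : G)⁻¹ * g) =
          (Nat.card X : ℂ)⁻¹ * ((Nat.card X : ℂ)⁻¹ * (((lam ⟨g, hg⟩)⁻¹ : ℂˣ) : ℂ)) := by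
        intro h
        have hm : (h : G)⁻¹ * g ∈ X := X.mul_mem (X.inv_mem h.2) hg
        rw [subgroupIdem_of_mem X lam h.2, subgroupIdem_of_mem X lam hm]
        have e : (⟨(h : G)⁻¹ * g, hm⟩ : X) = h⁻¹ * ⟨g, hg⟩ := rfl
        rw [e, map_mul, map_inv]
        simp only [Subtype.coe_eta, mul_inv_rev, inv_inv, Units.val_mul]
        have hne : ((lam h : ℂˣ) : ℂ) ≠ 0 := Units.ne_zero _
        rw [Units.val_inv_eq_inv_val, Units.val_inv_eq_inv_val]
        field_simp
      rw [Finset.sum_congr rfl (fun h _ => h1 h), Finset.sum_const, Finset.card_univ,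
        nsmul_eq_mul, ← Nat.card_eq_fintype_card, subgroupIdem_of_mem X lam hg]
      field_simp
    · intro h hh
      rw [subgroupIdem_of_not_mem X lam hh, zero_mul]
  · rw [subgroupIdem_of_not_mem X lam hg]
    apply Finset.sum_eq_zero
    intro h _
    by_cases hh : h ∈ X
    · have : h⁻¹ * g ∉ X := by
        intro hm
        apply hg
        have := X.mul_mem hh hm
        rwa [mul_inv_cancel_left] at this
      rw [subgroupIdem_of_not_mem X lam this, mul_zero]
    · rw [subgroupIdem_of_not_mem X lam hh, zero_mul]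

theorem memLocalRing_subgroupIdem {M : Ideal AlgInt} {p : ℕ} (hM : IsPModular p M)
    (X : Subgroup G) (hX : ¬ p ∣ Nat.card X) (lam : X →* ℂˣ) (g : G) :
    MemLocalRing M (subgroupIdem X lam g) := by
  haveI hMp : M.IsPrime := hM.2.1.isPrime
  by_cases hg : g ∈ X
  · rw [subgroupIdem_of_mem X lam hg]
    apply memLocalRing_mul
    · exact memLocalRing_inv (memLocalRing_natCast _)
        (fun h => hX ((memLocalIdeal_natCast_iff hM _).1 h))
    · apply memLocalRing_of_isIntegral _ hMp.ne_top
      apply IsIntegral.of_pow (Nat.card_pos (α := X))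
      rw [← Units.val_pow_eq_pow_val, inv_pow, ← map_pow, pow_card_eq_one', map_one, inv_one,
        Units.val_one]
      exact isIntegral_one
  · rw [subgroupIdem_of_not_mem X lam hg]
    exact memLocalRing_zero hMp.ne_top

/-- the convolution with a subgroup idempotent, explicitly -/
theorem conv_subgroupIdem (a : G → ℂ) (X : Subgroup G) [Fintype X] (lam : X →* ℂˣ) (w : G) :
    conv a (subgroupIdem X lam) w =
      (Nat.card X : ℂ)⁻¹ * ∑ c : X, a (w * (c : G)⁻¹) * (((lam c)⁻¹ : ℂˣ) : ℂ) := by
  classical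
  rw [conv_apply, ← Equiv.sum_comp ((Equiv.inv G).trans (Equiv.mulLeft w))]
  simp only [Equiv.trans_apply, Equiv.inv_apply, Equiv.coe_mulLeft]
  have h1 : ∀ u : G, a (w * u⁻¹) * subgroupIdem X lam ((w * u⁻¹)⁻¹ * w) =
      a (w * u⁻¹) * subgroupIdem X lam u := by
    intro u
    congr 2
    group
  rw [Finset.sum_congr rfl (fun u _ => h1 u), Helper24.sum_eq_sum_subgroup X]
  · rw [Finset.mul_sum]
    apply Finset.sum_congr rfl
    intro c _
    rw [subgroupIdem_of_mem X lam c.2]
    simp only [Subtype.coe_eta]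
    ring
  · intro u hu
    rw [subgroupIdem_of_not_mem X lam hu, mul_zero]

end CyclicIdem

section WBO

variable {G : Type u} [Group G] [Fintype G] [Fintype (IrrCharacter G)] {M : Ideal AlgInt} {p : ℕ}

/-- the twisted class sums of a central idempotent with local-integer coefficients vanish -/
theorem sum_synth_conj_mul_eq_zero (hM : IsPModular p M) {c : IrrCharacter G → ℂ}
    (hc : c * c = c) (hR : ∀ g, MemLocalRing M (synth c g)) {x y : G}
    (hx : ¬ p ∣ orderOf x) (hy : p ∣ orderOf y) :
    ∑ t : G, synth c (t⁻¹ * y * t * x) = 0 := by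
  classical
  haveI hMp : M.IsPrime := hM.2.1.isPrime
  have hXc : ∀ u v : Subgroup.zpowers x, u * v = v * u := by
    rintro ⟨u, hu⟩ ⟨v, hv⟩
    obtain ⟨i, rfl⟩ := Subgroup.mem_zpowers_iff.1 hu
    obtain ⟨j, rfl⟩ := Subgroup.mem_zpowers_iff.1 hv
    apply Subtype.ext
    simp only [Subgroup.coe_mul]
    rw [← zpow_add, ← zpow_add, add_comm]
  haveI : Fintype (Subgroup.zpowers x) := Fintype.ofFinite _
  haveI : Finite ((Subgroup.zpowers x) →* ℂˣ) := finite_hom hXc
  haveI : Fintype ((Subgroup.zpowers x) →* ℂˣ) := Fintype.ofFinite _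
  have hXcard : ¬ p ∣ Nat.card (Subgroup.zpowers x) := by
    rw [Nat.card_zpowers]
    exact hx
  have hX0 : (Nat.card (Subgroup.zpowers x) : ℂ) ≠ 0 := by
    exact_mod_cast (Nat.card_pos (α := Subgroup.zpowers x)).ne'
  set Φ : Subgroup.zpowers x → ℂ := fun u => ∑ t : G, synth c (t⁻¹ * y * t * (u : G)⁻¹) with hΦ
  -- each character of `X` gives a vanishing Fourier coefficient
  have hF : ∀ lam : (Subgroup.zpowers x) →* ℂˣ,
      ∑ u : Subgroup.zpowers x, (((lam u)⁻¹ : ℂˣ) : ℂ) * Φ u = 0 := by
    intro lam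
    have hidem : IsConvIdem (conv (synth c) (subgroupIdem (Subgroup.zpowers x) lam)) :=
      isConvIdem_conv (synth_isClassFunction c) (isConvIdem_synth hc)
        (isConvIdem_subgroupIdem _ lam)
    have hint : ∀ g, MemLocalRing M (conv (synth c) (subgroupIdem (Subgroup.zpowers x) lam) g) := by
      intro g
      rw [conv_apply]
      exact memLocalRing_sum _ _ fun h _ =>
        memLocalRing_mul (hR h) (memLocalRing_subgroupIdem hM _ hXcard lam _)
    have h0 := sum_conj_eq_zero_of_idem hM hidem hint hy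
    simp only [conv_subgroupIdem] at h0
    rw [← Finset.mul_sum, Finset.sum_comm] at h0
    have h1 := (mul_eq_zero.1 h0).resolve_left (inv_ne_zero hX0)
    rw [← h1]
    apply Finset.sum_congr rfl
    intro u _
    rw [hΦ]
    simp only
    rw [Finset.mul_sum]
    apply Finset.sum_congr rfl
    intro t _
    ring
  -- Fourier inversion
  have hinv : ∀ u₀ : Subgroup.zpowers x, (Nat.card (Subgroup.zpowers x) : ℂ) * Φ u₀ = 0 := by
    intro u₀
    have h1 : ∑ lam : (Subgroup.zpowers x) →* ℂˣ, ((lam u₀ : ℂˣ) : ℂ) *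
        ∑ u : Subgroup.zpowers x, (((lam u)⁻¹ : ℂˣ) : ℂ) * Φ u = 0 := by
      apply Finset.sum_eq_zero
      intro lam _
      rw [hF lam, mul_zero]
    rw [← h1]
    have h2 : ∀ lam : (Subgroup.zpowers x) →* ℂˣ, ((lam u₀ : ℂˣ) : ℂ) *
        ∑ u : Subgroup.zpowers x, (((lam u)⁻¹ : ℂˣ) : ℂ) * Φ u =
        ∑ u : Subgroup.zpowers x, Φ u * ((lam (u₀ * u⁻¹) : ℂˣ) : ℂ) := by
      intro lam
      rw [Finset.mul_sum]
      apply Finset.sum_congr rfl
      intro u _
      rw [map_mul, map_inv, Units.val_mul]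
      ring
    rw [Finset.sum_congr rfl (fun lam _ => h2 lam), Finset.sum_comm]
    have h3 : ∀ u : Subgroup.zpowers x, ∑ lam : (Subgroup.zpowers x) →* ℂˣ,
        Φ u * ((lam (u₀ * u⁻¹) : ℂˣ) : ℂ) =
        if u = u₀ then (Nat.card (Subgroup.zpowers x) : ℂ) * Φ u₀ else 0 := by
      intro u
      rw [← Finset.mul_sum, sum_hom_apply hXc (u₀ * u⁻¹)]
      by_cases hu : u = u₀
      · subst hu
        rw [if_pos (mul_inv_cancel _), if_pos rfl, mul_comm]
      · rw [if_neg hu, if_neg, mul_zero]
        intro h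
        apply hu
        have := mul_inv_eq_one.1 h
        exact this.symm
    rw [Finset.sum_congr rfl (fun u _ => h3 u), Finset.sum_ite_eq', if_pos (Finset.mem_univ _)]
  have hx' : x⁻¹ ∈ Subgroup.zpowers x := (Subgroup.zpowers x).inv_mem (Subgroup.mem_zpowers x)
  have := (mul_eq_zero.1 (hinv ⟨x⁻¹, hx'⟩)).resolve_left hX0
  rw [hΦ] at this
  simpa using this

/-- **Weak block orthogonality** for a set of irreducible characters whose idempotent has
local-integer coefficients. -/
theorem sum_mul_conj_eq_zero (hM : IsPModular p M) (A : Set (IrrCharacter G))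
    [DecidablePred (· ∈ A)]
    (hR : ∀ g, MemLocalRing M (synth (fun χ : IrrCharacter G => if χ ∈ A then (1 : ℂ) else 0) g))
    {x y : G} (hx : ¬ p ∣ orderOf x) (hy : p ∣ orderOf y) :
    ∑ χ : IrrCharacter G, (if χ ∈ A then (χ : G → ℂ) x * conj ((χ : G → ℂ) y) else 0) = 0 := by
  have hc : (fun χ : IrrCharacter G => if χ ∈ A then (1 : ℂ) else 0) *
      (fun χ : IrrCharacter G => if χ ∈ A then (1 : ℂ) else 0) =
      (fun χ : IrrCharacter G => if χ ∈ A then (1 : ℂ) else 0) := by
    funext χ
    rw [Pi.mul_apply]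
    split_ifs <;> simp
  have hy' : p ∣ orderOf y⁻¹ := by rwa [orderOf_inv]
  have h0 := sum_synth_conj_mul_eq_zero hM hc hR hx hy'
  unfold synth idemCoeff at h0
  rw [Finset.sum_comm] at h0
  have h1 : ∀ χ : IrrCharacter G, ∑ t : G, (if χ ∈ A then (1 : ℂ) else 0) *
      ((Nat.card G : ℂ)⁻¹ * ((χ : G → ℂ) 1 * conj ((χ : G → ℂ) (t⁻¹ * y⁻¹ * t * x)))) =
      conj (if χ ∈ A then (χ : G → ℂ) x * conj ((χ : G → ℂ) y) else 0) := by
    intro χ
    by_cases hχ : χ ∈ A
    · rw [if_pos hχ]
      simp only [if_pos hχ, one_mul]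
      rw [← Finset.mul_sum, ← Finset.mul_sum, ← map_sum]
      have h2 : ∑ t : G, (χ : G → ℂ) (t⁻¹ * y⁻¹ * t * x) =
          (Nat.card G : ℂ) * (χ : G → ℂ) x * (χ : G → ℂ) y⁻¹ / (χ : G → ℂ) 1 := by
        rw [← sum_char_mul_conj χ.2 x y⁻¹, ← Equiv.sum_comp (Equiv.inv G)]
        apply Finset.sum_congr rfl
        intro t _
        simp only [Equiv.inv_apply, inv_inv]
        have hcf := isClassFunction_of_isIrrCharacter χ.2
        rw [← hcf (t * y⁻¹ * t⁻¹ * x) x]
        congr 1
        group
      rw [h2, irr_inv (isCharacter_of_isIrrCharacter χ.2) y]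
      have hχ1 := irr_one_ne_zero χ.2
      have hG := card_ne_zero (G := G)
      rw [map_div₀, map_mul, map_mul, Complex.conj_natCast, conj_irr_one χ.2, map_mul]
      field_simp
    · simp only [if_neg hχ, zero_mul, Finset.sum_const_zero, map_zero]
  rw [Finset.sum_congr rfl (fun χ _ => h1 χ), ← map_sum] at h0
  have := congrArg conj h0
  rwa [Complex.conj_conj, map_zero] at this

end WBO

section Regular

variable {G : Type u} [Group G] [Fintype G] [Fintype (IrrCharacter G)] {M : Ideal AlgInt} {p : ℕ}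

theorem sum_mul_conj_irr (χ φ : IrrCharacter G) :
    ∑ y : G, (χ : G → ℂ) y * conj ((φ : G → ℂ) y) = if χ = φ then (Nat.card G : ℂ) else 0 := by
  have h := irr_orthogonality' χ φ
  unfold classInner at h
  have hG := card_ne_zero (G := G)
  by_cases hχφ : χ = φ
  · rw [if_pos hχφ] at h ⊢
    field_simp at h
    rw [h]
  · rw [if_neg hχφ] at h ⊢
    exact (mul_eq_zero.1 h).resolve_left (inv_ne_zero hG)

/-- Characters of different "blocks" (with respect to a set `A` whose idempotent has
local-integer coefficients) are orthogonal on the `p`-regular elements. -/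
theorem sum_regular_mul_conj_eq_zero (hM : IsPModular p M) (A : Set (IrrCharacter G))
    [DecidablePred (· ∈ A)]
    (hR : ∀ g, MemLocalRing M (synth (fun χ : IrrCharacter G => if χ ∈ A then (1 : ℂ) else 0) g))
    {χ ψ : IrrCharacter G} (hχ : χ ∈ A) (hψ : ψ ∉ A) :
    ∑ x : G, (if p ∣ orderOf x then 0 else (χ : G → ℂ) x * conj ((ψ : G → ℂ) x)) = 0 := by
  classical
  set F : G → G → ℂ := fun x y => ∑ φ : IrrCharacter G,
    (if φ ∈ A then (φ : G → ℂ) x * conj ((φ : G → ℂ) y) else 0) with hF
  have hFconj : ∀ x y, F y x = conj (F x y) := by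
    intro x y
    rw [hF]
    simp only
    rw [map_sum]
    apply Finset.sum_congr rfl
    intro φ _
    split_ifs
    · rw [map_mul, Complex.conj_conj, mul_comm]
    · rw [map_zero]
  have hF1 : ∀ x y, ¬ p ∣ orderOf x → p ∣ orderOf y → F x y = 0 :=
    fun x y hx hy => sum_mul_conj_eq_zero hM A hR hx hy
  have hF2 : ∀ x y, p ∣ orderOf x → ¬ p ∣ orderOf y → F x y = 0 := by
    intro x y hx hy
    rw [hFconj y x, hF1 y x hy hx, map_zero]
  -- first evaluation
  have hT1 : ∑ x : G, ∑ y : G, (if p ∣ orderOf x then 0 else F x y * conj ((ψ : G → ℂ) x) *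
      (χ : G → ℂ) y) = (Nat.card G : ℂ) *
      ∑ x : G, (if p ∣ orderOf x then 0 else (χ : G → ℂ) x * conj ((ψ : G → ℂ) x)) := by
    rw [Finset.mul_sum]
    apply Finset.sum_congr rfl
    intro x _
    by_cases hx : p ∣ orderOf x
    · simp only [if_pos hx, Finset.sum_const_zero, mul_zero]
    · simp only [if_neg hx]
      have h1 : ∑ y : G, F x y * conj ((ψ : G → ℂ) x) * (χ : G → ℂ) y =
          conj ((ψ : G → ℂ) x) * ∑ φ : IrrCharacter G, (if φ ∈ A then (φ : G → ℂ) x *
            ∑ y : G, (χ : G → ℂ) y * conj ((φ : G → ℂ) y) else 0) := by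
        rw [hF]
        simp only
        rw [Finset.mul_sum]
        have : ∀ y : G, (∑ φ : IrrCharacter G, (if φ ∈ A then (φ : G → ℂ) x *
            conj ((φ : G → ℂ) y) else 0)) * conj ((ψ : G → ℂ) x) * (χ : G → ℂ) y =
            ∑ φ : IrrCharacter G, conj ((ψ : G → ℂ) x) * (if φ ∈ A then (φ : G → ℂ) x *
              ((χ : G → ℂ) y * conj ((φ : G → ℂ) y)) else 0) := by
          intro y
          rw [Finset.sum_mul, Finset.sum_mul]
          apply Finset.sum_congr rfl
          intro φ _
          split_ifs <;> ring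
        rw [Finset.sum_congr rfl (fun y _ => this y), Finset.sum_comm]
        apply Finset.sum_congr rfl
        intro φ _
        rw [← Finset.mul_sum]
        congr 1
        split_ifs
        · rw [Finset.mul_sum]
        · exact Finset.sum_const_zero
      rw [h1]
      simp only [sum_mul_conj_irr]
      rw [Finset.sum_eq_single χ]
      · rw [if_pos hχ, if_pos rfl]
        ring
      · intro φ _ hφ
        rw [if_neg (Ne.symm hφ), mul_zero]
        split_ifs <;> rfl
      · intro h
        exact absurd (Finset.mem_univ _) h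
  -- second evaluation
  have hT2 : ∑ x : G, ∑ y : G, (if p ∣ orderOf x then 0 else F x y * conj ((ψ : G → ℂ) x) *
      (χ : G → ℂ) y) = 0 := by
    rw [Finset.sum_comm]
    apply Finset.sum_eq_zero
    intro y _
    by_cases hy : p ∣ orderOf y
    · apply Finset.sum_eq_zero
      intro x _
      by_cases hx : p ∣ orderOf x
      · rw [if_pos hx]
      · rw [if_neg hx, hF1 x y hx hy, zero_mul, zero_mul]
    · have h1 : ∀ x : G, (if p ∣ orderOf x then 0 else F x y * conj ((ψ : G → ℂ) x) *
          (χ : G → ℂ) y) = F x y * conj ((ψ : G → ℂ) x) * (χ : G → ℂ) y := by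
        intro x
        by_cases hx : p ∣ orderOf x
        · rw [if_pos hx, hF2 x y hx hy, zero_mul, zero_mul]
        · rw [if_neg hx]
      rw [Finset.sum_congr rfl (fun x _ => h1 x), ← Finset.sum_mul]
      have h2 : ∑ x : G, F x y * conj ((ψ : G → ℂ) x) = 0 := by
        rw [hF]
        simp only
        have : ∀ x : G, (∑ φ : IrrCharacter G, (if φ ∈ A then (φ : G → ℂ) x *
            conj ((φ : G → ℂ) y) else 0)) * conj ((ψ : G → ℂ) x) =
            ∑ φ : IrrCharacter G, (if φ ∈ A then conj ((φ : G → ℂ) y) *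
              ((φ : G → ℂ) x * conj ((ψ : G → ℂ) x)) else 0) := by
          intro x
          rw [Finset.sum_mul]
          apply Finset.sum_congr rfl
          intro φ _
          split_ifs <;> ring
        rw [Finset.sum_congr rfl (fun x _ => this x), Finset.sum_comm]
        apply Finset.sum_eq_zero
        intro φ _
        by_cases hφ : φ ∈ A
        · simp only [if_pos hφ]
          rw [← Finset.mul_sum, sum_mul_conj_irr, if_neg, mul_zero]
          intro h
          rw [h] at hφ
          exact hψ hφ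
        · simp only [if_neg hφ]
          exact Finset.sum_const_zero
      rw [h2, zero_mul]
  rw [hT1] at hT2
  exact (mul_eq_zero.1 hT2).resolve_left card_ne_zero

end Regular

section WBOFinite

variable {G : Type u} [Group G] [Finite G] {M : Ideal AlgInt} {p : ℕ}

/-- **Weak block orthogonality**, for any set of irreducible characters whose idempotent has
local-integer coefficients. -/
theorem weak_orthogonality_of_memLocalRing (hM : IsPModular p M) {A : Set (IrrCharacter G)}
    (hA : ∀ g : G, MemLocalRing M (blockCoeff A g)) {x y : G}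
    (hx : ¬ p ∣ orderOf x) (hy : p ∣ orderOf y) :
    ∑ᶠ χ ∈ A, (χ : G → ℂ) x * conj ((χ : G → ℂ) y) = 0 := by
  classical
  haveI : Fintype G := Fintype.ofFinite G
  letI : Fintype (IrrCharacter G) := irrFintype
  have hR : ∀ g, MemLocalRing M
      (synth (fun χ : IrrCharacter G => if χ ∈ A then (1 : ℂ) else 0) g) := by
    intro g
    rw [← blockCoeff_eq_synth]
    exact hA g
  have h := sum_mul_conj_eq_zero hM A hR hx hy
  rw [finsum_mem_def, finsum_eq_sum_of_fintype, ← h]
  apply Finset.sum_congr rfl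
  intro χ _
  rw [Set.indicator_apply]

/-- **Weak block orthogonality**. -/
theorem weak_block_orthogonality (hM : IsPModular p M) {B : Set (IrrCharacter G)}
    (hB : IsPBlock M B) {x y : G} (hx : ¬ p ∣ orderOf x) (hy : p ∣ orderOf y) :
    ∑ᶠ χ ∈ B, (χ : G → ℂ) x * conj ((χ : G → ℂ) y) = 0 :=
  weak_orthogonality_of_memLocalRing hM
    (fun g => memLocalRing_blockCoeff hM.2.1.isPrime hB g) hx hy

/-- Irreducible characters in different blocks are orthogonal on the `p`-regular elements. -/
theorem sum_regular_eq_zero_of_not_sameBlock (hM : IsPModular p M) {χ ψ : IrrCharacter G}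
    (h : ¬ SameBlock M (χ : G → ℂ) (ψ : G → ℂ)) :
    ∑ᶠ x ∈ {x : G | ¬ p ∣ orderOf x}, (χ : G → ℂ) x * conj ((ψ : G → ℂ) x) = 0 := by
  classical
  haveI hMp : M.IsPrime := hM.2.1.isPrime
  haveI : Fintype G := Fintype.ofFinite G
  letI : Fintype (IrrCharacter G) := irrFintype
  have hR : ∀ g, MemLocalRing M (synth (fun φ : IrrCharacter G =>
      if φ ∈ blockOf M (χ : G → ℂ) then (1 : ℂ) else 0) g) := by
    intro g
    rw [← blockCoeff_eq_synth]
    exact memLocalRing_blockCoeff hMp ⟨χ, rfl⟩ g
  have h0 := sum_regular_mul_conj_eq_zero hM (blockOf M (χ : G → ℂ)) hR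
    (mem_blockOf_self χ) (show ψ ∉ blockOf M (χ : G → ℂ) from h)
  rw [finsum_mem_def, finsum_eq_sum_of_fintype, ← h0]
  apply Finset.sum_congr rfl
  intro x _
  rw [Set.indicator_apply]
  by_cases hx : p ∣ orderOf x
  · rw [if_pos hx, if_neg]
    simpa using hx
  · rw [if_neg hx, if_pos]
    simpa using hx

end WBOFinite

end Cfsg.Agent.Helper23.Blk
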