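import Mathlib
import Cfsg.Agent.Lib.Helper23.BlockOrtho
import Cfsg.Agent.Lib.Helper23.BlockConv
import Cfsg.Agent.Lib.Helper23.BlockDefect

/-!
# Block idempotents and normal `p`-subgroups (helper23's shared library)

The idempotent of a block is supported on the centralizer of every normal `p`-subgroup.
-/

set_option autoImplicit false
set_option linter.unusedSectionVars false

namespace Cfsg.Agent.Helper23.Blk

open Cfsg Cfsg.Agent.Helper24
open scoped ComplexConjugate

universe u

section

variable {G : Type u} [Group G] [Fintype G] {M : Ideal AlgInt} {p : ℕ}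

/-- `∑_g e_B(y · g u g⁻¹) = 0` for `y` a `p`-regular and `u` a `p`-singular element. -/
theorem sum_blockCoeff_mul_conj_eq_zero (hM : IsPModular p M) {B : Set (IrrCharacter G)}
    (hB : IsPBlock M B) {y u : G} (hy : ¬ p ∣ orderOf y) (hu : p ∣ orderOf u) :
    ∑ g : G, blockCoeff B (y * (g * u * g⁻¹)) = 0 := by
  classical
  letI : Fintype (IrrCharacter G) := irrFintype
  have hfs : ∀ z : G, blockCoeff B z = (Nat.card G : ℂ)⁻¹ *
      ∑ χ : IrrCharacter G, if χ ∈ B then (χ : G → ℂ) 1 * conj ((χ : G → ℂ) z) else 0 := by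
    intro z
    unfold blockCoeff
    rw [finsum_mem_def, finsum_eq_sum_of_fintype]
    congr 1
  simp only [hfs]
  rw [← Finset.mul_sum, Finset.sum_comm]
  have hu' : p ∣ orderOf u⁻¹ := by rwa [orderOf_inv]
  have hwbo := weak_block_orthogonality hM hB hy hu'
  rw [finsum_mem_def, finsum_eq_sum_of_fintype] at hwbo
  have h1 : ∀ χ : IrrCharacter G, (∑ g : G, if χ ∈ B then
      (χ : G → ℂ) 1 * conj ((χ : G → ℂ) (y * (g * u * g⁻¹))) else 0) =
      (Nat.card G : ℂ) * conj (Set.indicator B
        (fun χ : IrrCharacter G => (χ : G → ℂ) y * conj ((χ : G → ℂ) u⁻¹)) χ) := by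
    intro χ
    rw [Set.indicator_apply]
    by_cases hχ : χ ∈ B
    · simp only [if_pos hχ]
      rw [← Finset.mul_sum, ← map_sum, sum_char_mul_conj χ.2 y u,
        irr_inv (isCharacter_of_isIrrCharacter χ.2), Complex.conj_conj]
      have h1 := irr_one_ne_zero χ.2
      have h2 : conj ((χ : G → ℂ) 1) = (χ : G → ℂ) 1 := by
        rw [irr_one_eq_charDegree χ.2, Complex.conj_natCast]
      rw [map_div₀, map_mul, map_mul, h2, Complex.conj_natCast]
      field_simp
      rw [map_mul]
    · simp only [if_neg hχ, Finset.sum_const_zero, map_zero, mul_zero]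
  rw [Finset.sum_congr rfl (fun χ _ => h1 χ), ← Finset.mul_sum, ← map_sum, hwbo, map_zero,
    mul_zero, mul_zero]

/-- The sum of a block idempotent over a coset of a normal `p`-subgroup, at a `p`-regular
element, is its value there. -/
theorem sum_blockCoeff_coset (hM : IsPModular p M) {B : Set (IrrCharacter G)}
    (hB : IsPBlock M B) (P : Subgroup G) [P.Normal] [Fintype P] (hP : IsPGroup p P) {y : G}
    (hy : ¬ p ∣ orderOf y) :
    ∑ u : P, blockCoeff B (y * (u : G)) = blockCoeff B y := by
  classical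
  haveI : Fact p.Prime := ⟨hM.1⟩
  have h1 : ∑ u : P, ∑ g : G, blockCoeff B (y * (g * (u : G) * g⁻¹)) =
      (Nat.card G : ℂ) * blockCoeff B y := by
    rw [Finset.sum_eq_single (1 : P)]
    · simp only [OneMemClass.coe_one, mul_one, mul_inv_cancel, Finset.sum_const,
        Finset.card_univ, nsmul_eq_mul, Nat.card_eq_fintype_card]
    · intro u _ hu
      apply sum_blockCoeff_mul_conj_eq_zero hM hB hy
      rw [Subgroup.orderOf_coe]
      exact hP.dvd_orderOf hu
    · intro h
      exact absurd (Finset.mem_univ _) h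
  have h2 : ∑ u : P, ∑ g : G, blockCoeff B (y * (g * (u : G) * g⁻¹)) =
      (Nat.card G : ℂ) * ∑ u : P, blockCoeff B (y * (u : G)) := by
    rw [Finset.sum_comm]
    have : ∀ g : G, ∑ u : P, blockCoeff B (y * (g * (u : G) * g⁻¹)) =
        ∑ u : P, blockCoeff B (y * (u : G)) := by
      intro g
      rw [← Equiv.sum_comp (MulAut.conjNormal g : P ≃* P).toEquiv
        (fun u : P => blockCoeff B (y * (u : G)))]
      apply Finset.sum_congr rfl
      intro u _
      simp [MulAut.conjNormal_apply]
    rw [Finset.sum_congr rfl (fun g _ => this g)]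
    simp only [Finset.sum_const, Finset.card_univ, nsmul_eq_mul, Nat.card_eq_fintype_card]
  rw [h1] at h2
  exact (mul_left_cancel₀ card_ne_zero h2).symm

/-- **Block idempotents are supported on the centralizers of the normal `p`-subgroups.** -/
theorem blockCoeff_eq_zero_of_not_mem_centralizer (hM : IsPModular p M)
    {B : Set (IrrCharacter G)} (hB : IsPBlock M B) (P : Subgroup G) [P.Normal]
    (hP : IsPGroup p P) {g : G} (hg : g ∉ Subgroup.centralizer (P : Set G)) :
    blockCoeff B g = 0 := by
  classical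
  haveI : Fintype P := Fintype.ofFinite P
  by_cases hgp : p ∣ orderOf g
  · exact blockCoeff_eq_zero_of_pSingular hM hB hgp
  -- an element of `P` not commuting with `g`
  have hw : ∃ w : P, (w : G) * g ≠ g * (w : G) := by
    by_contra hcon
    push Not at hcon
    apply hg
    rw [Subgroup.mem_centralizer_iff]
    intro w hw
    exact hcon ⟨w, hw⟩
  obtain ⟨w, hw⟩ := hw
  set s := ∑ u : P, blockCoeff B (g * (u : G)) with hs
  -- the values on the coset
  have hval : ∀ u : P, blockCoeff B (g * (u : G)) =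
      if p ∣ orderOf (g * (u : G)) then 0 else s := by
    intro u
    by_cases hu : p ∣ orderOf (g * (u : G))
    · rw [if_pos hu]
      exact blockCoeff_eq_zero_of_pSingular hM hB hu
    · rw [if_neg hu, ← sum_blockCoeff_coset hM hB P hP hu, hs,
        ← Equiv.sum_comp (Equiv.mulLeft u) (fun v : P => blockCoeff B (g * (v : G)))]
      apply Finset.sum_congr rfl
      intro v _
      simp only [Equiv.coe_mulLeft, Subgroup.coe_mul, mul_assoc]
  -- two regular elements of the coset
  let u₁ : P := ⟨g⁻¹ * (w : G)⁻¹ * g * (w : G), by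
    have h1 : g⁻¹ * (w : G)⁻¹ * g ∈ P := by
      have := ‹P.Normal›.conj_mem (w : G)⁻¹ (P.inv_mem w.2) g⁻¹
      simpa using this
    exact P.mul_mem h1 w.2⟩
  have hu₁ : u₁ ≠ 1 := by
    intro h
    have h1 : g⁻¹ * (w : G)⁻¹ * g * (w : G) = 1 := congrArg Subtype.val h
    apply hw
    have h2 : g * (g⁻¹ * (w : G)⁻¹ * g * (w : G)) = g * 1 := by rw [h1]
    have h3 : (w : G)⁻¹ * g * (w : G) = g := by
      rw [mul_one] at h2
      calc (w : G)⁻¹ * g * (w : G) = g * (g⁻¹ * (w : G)⁻¹ * g * (w : G)) := by group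
        _ = g := h2
    calc (w : G) * g = (w : G) * ((w : G)⁻¹ * g * (w : G)) := by rw [h3]
      _ = g * (w : G) := by group
  have hreg₁ : ¬ p ∣ orderOf (g * (u₁ : G)) := by
    have h1 : g * (u₁ : G) = (w : G)⁻¹ * g * ((w : G)⁻¹)⁻¹ := by
      show g * (g⁻¹ * (w : G)⁻¹ * g * (w : G)) = _
      group
    rw [h1]
    have ho : orderOf ((w : G)⁻¹ * g * ((w : G)⁻¹)⁻¹) = orderOf g := by
      have := (MulAut.conj (w : G)⁻¹).orderOf_eq g
      rwa [MulAut.conj_apply] at this
    rwa [ho]
  have hreg₀ : ¬ p ∣ orderOf (g * ((1 : P) : G)) := by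
    rwa [OneMemClass.coe_one, mul_one]
  -- count
  have hsum : s = ((Finset.univ.filter (fun u : P => ¬ p ∣ orderOf (g * (u : G)))).card : ℂ) * s := by
    conv_lhs => rw [hs, Finset.sum_congr rfl (fun u _ => hval u)]
    rw [← Finset.sum_filter_not_add_sum_filter _ (fun u : P => p ∣ orderOf (g * (u : G)))]
    rw [Finset.sum_congr rfl (g := fun _ => s), Finset.sum_const, nsmul_eq_mul,
      Finset.sum_congr rfl (g := fun _ => (0 : ℂ)), Finset.sum_const_zero, add_zero]
    · intro u hu
      rw [if_pos (Finset.mem_filter.1 hu).2]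
    · intro u hu
      rw [if_neg (Finset.mem_filter.1 hu).2]
  have hcard : 2 ≤ (Finset.univ.filter (fun u : P => ¬ p ∣ orderOf (g * (u : G)))).card := by
    have hsub : ({1, u₁} : Finset P) ⊆
        Finset.univ.filter (fun u : P => ¬ p ∣ orderOf (g * (u : G))) := by
      intro u hu
      rw [Finset.mem_insert, Finset.mem_singleton] at hu
      rw [Finset.mem_filter]
      rcases hu with rfl | rfl
      · exact ⟨Finset.mem_univ _, hreg₀⟩
      · exact ⟨Finset.mem_univ _, hreg₁⟩
    have := Finset.card_le_card hsub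
    rwa [Finset.card_pair (Ne.symm hu₁)] at this
  have hs0 : s = 0 := by
    set n := (Finset.univ.filter (fun u : P => ¬ p ∣ orderOf (g * (u : G)))).card with hn
    have h1 : ((n : ℂ) - 1) * s = 0 := by
      rw [sub_mul, one_mul, ← hsum, sub_self]
    rcases mul_eq_zero.1 h1 with h | h
    · exfalso
      have h2 : (n : ℂ) = 1 := by linear_combination h
      have h3 : n = 1 := by exact_mod_cast h2
      omega
    · exact h
  have := hval 1
  rw [if_neg hreg₀, OneMemClass.coe_one, mul_one] at this
  rw [this, hs0]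

end

end Cfsg.Agent.Helper23.Blk
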