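import Mathlib
import Cfsg.Agent.Lib.Helper23.BlockBrauer
import Cfsg.Agent.Lib.Helper23.BlockMinMax
import Cfsg.Agent.Lib.Helper23.BlockNormalP
import Cfsg.Agent.Lib.Helper12.PGroup
import Cfsg.Agent.Lib.Helper24.CharInduced

/-!
# The Brauer homomorphism on central characters (helper23's shared library)

* `normal_pgroup_le_defectGroup`: normal `p`-subgroups lie in all defect groups.
* `memLocalIdeal_centralChar_of_not_mem_centralizer`: central characters vanish modulo the local
  ideal on the classes outside the centralizer of a normal `p`-subgroup.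
* `isCentralHom_brauer`: for `C_G(P) ≤ H ≤ N_G(P)` and `ξ ∈ Irr(H)`, the functional
  `a ↦ ω_ξ (a restricted to C_G(P))` is a central homomorphism of `G` modulo the local ideal.
-/

set_option autoImplicit false
set_option linter.unusedSectionVars false

namespace Cfsg.Agent.Helper23.Blk

open Cfsg Cfsg.Agent.Helper24
open scoped ComplexConjugate

universe u

section NormalP

variable {G : Type u} [Group G] [Finite G] {M : Ideal AlgInt} {p : ℕ}

/-- a normal `p`-subgroup lies in every defect group -/
theorem normal_pgroup_le_defectGroup (hM : IsPModular p M) {B : Set (IrrCharacter G)}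
    (hB : IsPBlock M B) (P : Subgroup G) [P.Normal] (hP : IsPGroup p P) {g : G}
    (hg : IsDefectClass M B g) (D : Sylow p (Subgroup.centralizer ({g} : Set G))) :
    P ≤ (D : Subgroup (Subgroup.centralizer ({g} : Set G))).map
      (Subgroup.centralizer ({g} : Set G)).subtype := by
  classical
  haveI : Fintype G := Fintype.ofFinite G
  haveI hMp : M.IsPrime := hM.2.1.isPrime
  haveI : Fact p.Prime := ⟨hM.1⟩
  have hgc : g ∈ Subgroup.centralizer (P : Set G) := by
    by_contra hcon
    have h0 := blockCoeff_eq_zero_of_not_mem_centralizer hM hB P hP hcon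
    apply hg.2.1
    rw [h0]
    exact memLocalIdeal_zero ne_top
  have hle : P ≤ Subgroup.centralizer ({g} : Set G) := by
    intro x hx
    rw [Subgroup.mem_centralizer_iff]
    intro y hy
    rw [Set.mem_singleton_iff] at hy
    subst hy
    rw [Subgroup.mem_centralizer_iff] at hgc
    exact (hgc x hx).symm
  have hsub : IsPGroup p (P.subgroupOf (Subgroup.centralizer ({g} : Set G))) :=
    hP.comap_subtype
  haveI : (P.subgroupOf (Subgroup.centralizer ({g} : Set G))).Normal := inferInstance
  have h1 := Cfsg.Agent.Helper12.normal_pgroup_le_sylow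
    (P.subgroupOf (Subgroup.centralizer ({g} : Set G))) hsub D
  intro x hx
  have h2 : (⟨x, hle hx⟩ : Subgroup.centralizer ({g} : Set G)) ∈
      P.subgroupOf (Subgroup.centralizer ({g} : Set G)) := by
    rw [Subgroup.mem_subgroupOf]
    exact hx
  exact ⟨⟨x, hle hx⟩, h1 h2, rfl⟩

/-- the central characters vanish, modulo the local ideal, on the classes outside the
centralizer of a normal `p`-subgroup -/
theorem memLocalIdeal_centralChar_of_not_mem_centralizer (hM : IsPModular p M)
    (P : Subgroup G) [P.Normal] (hP : IsPGroup p P) (χ : IrrCharacter G) {h : G}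
    (hh : h ∉ Subgroup.centralizer (P : Set G)) :
    MemLocalIdeal M (centralChar (χ : G → ℂ) h) := by
  classical
  haveI : Fintype G := Fintype.ofFinite G
  haveI hMp : M.IsPrime := hM.2.1.isPrime
  haveI : Fact p.Prime := ⟨hM.1⟩
  by_contra hcon
  have hB : IsPBlock M (blockOf M (χ : G → ℂ)) := ⟨χ, rfl⟩
  obtain ⟨g, hg⟩ := exists_isDefectClass hMp hB
  obtain ⟨D⟩ : Nonempty (Sylow p (Subgroup.centralizer ({g} : Set G))) := inferInstance
  obtain ⟨x, Q, hxQ⟩ := minmax_centralChar hM hB hg D ⟨χ, mem_blockOf_self χ, hcon⟩
  have hPD := normal_pgroup_le_defectGroup hM hB P hP hg D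
  apply hh
  rw [Subgroup.mem_centralizer_iff]
  intro w hw
  -- `w = x (x⁻¹ w x) x⁻¹` with `x⁻¹ w x ∈ P ≤ D`
  have hw' : x⁻¹ * w * x ∈ P := by
    have := ‹P.Normal›.conj_mem w hw x⁻¹
    rwa [inv_inv] at this
  have h1 : w ∈ ((D : Subgroup (Subgroup.centralizer ({g} : Set G))).map
      (Subgroup.centralizer ({g} : Set G)).subtype).map (MulAut.conj x).toMonoidHom := by
    refine ⟨x⁻¹ * w * x, hPD hw', ?_⟩
    simp only [MulEquiv.coe_toMonoidHom, MulAut.conj_apply]
    group
  obtain ⟨⟨y, hy⟩, -, rfl⟩ := hxQ h1
  rw [Subgroup.mem_centralizer_iff] at hy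
  exact (hy h rfl).symm

end NormalP

section Brauer

variable {G : Type u} [Group G] [Fintype G] {M : Ideal AlgInt} {p : ℕ}

open Classical in
/-- restriction to `H ∩ C_G(P)`, extended by zero on `H` -/
noncomputable def resC (P H : Subgroup G) (a : G → ℂ) : H → ℂ :=
  fun h => if (h : G) ∈ Subgroup.centralizer (P : Set G) then a h else 0

theorem centralizer_conj_mem_of_mem_normalizer {P : Subgroup G} {x c : G}
    (hx : x ∈ Subgroup.normalizer (P : Set G)) (hc : c ∈ Subgroup.centralizer (P : Set G)) :
    x * c * x⁻¹ ∈ Subgroup.centralizer (P : Set G) := by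
  rw [Subgroup.mem_centralizer_iff] at hc ⊢
  intro w hw
  have hw' : x⁻¹ * w * x⁻¹⁻¹ ∈ P := by
    have hx' : x⁻¹ ∈ Subgroup.normalizer (P : Set G) := Subgroup.inv_mem _ hx
    rw [Subgroup.mem_normalizer_iff] at hx'
    exact (hx' w).1 hw
  rw [inv_inv] at hw'
  have h1 := hc _ hw'
  calc w * (x * c * x⁻¹) = x * ((x⁻¹ * w * x) * c) * x⁻¹ := by group
    _ = x * (c * (x⁻¹ * w * x)) * x⁻¹ := by rw [h1]
    _ = x * c * x⁻¹ * w := by group

theorem centralizer_conj_mem_iff_of_mem_normalizer {P : Subgroup G} {x c : G}
    (hx : x ∈ Subgroup.normalizer (P : Set G)) :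
    x * c * x⁻¹ ∈ Subgroup.centralizer (P : Set G) ↔ c ∈ Subgroup.centralizer (P : Set G) := by
  constructor
  · intro h
    have := centralizer_conj_mem_of_mem_normalizer (Subgroup.inv_mem _ hx) h
    have h2 : x⁻¹ * (x * c * x⁻¹) * x⁻¹⁻¹ = c := by group
    rwa [h2] at this
  · exact centralizer_conj_mem_of_mem_normalizer hx

variable (P H : Subgroup G)

theorem isClassFunction_resC (hHN : H ≤ Subgroup.normalizer (P : Set G)) {a : G → ℂ}
    (ha : IsClassFunction G a) : IsClassFunction H (resC P H a) := by
  intro h x
  unfold resC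
  have h1 : ((x * h * x⁻¹ : H) : G) = (x : G) * (h : G) * (x : G)⁻¹ := by
    push_cast
    rfl
  rw [h1, centralizer_conj_mem_iff_of_mem_normalizer (hHN x.2), ha]

theorem resC_add (a b : G → ℂ) : resC P H (a + b) = resC P H a + resC P H b := by
  funext h
  unfold resC
  rw [Pi.add_apply, Pi.add_apply]
  split_ifs <;> simp

theorem resC_smul (r : ℂ) (a : G → ℂ) : resC P H (r • a) = r • resC P H a := by
  funext h
  unfold resC
  rw [Pi.smul_apply, Pi.smul_apply]
  split_ifs <;> simp

/-- restriction to `C_G(P)` is multiplicative modulo the local ideal, pointwise -/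
theorem resC_conv_cong' [Fintype H] (hM : IsPModular p M) (hP : IsPGroup p P)
    (hCH : Subgroup.centralizer (P : Set G) ≤ H) {a b : G → ℂ}
    (ha : ∀ q ∈ P, ∀ x, a (q * x * q⁻¹) = a x) (hb : ∀ q ∈ P, ∀ x, b (q * x * q⁻¹) = b x)
    (haR : ∀ g, MemLocalRing M (a g)) (hbR : ∀ g, MemLocalRing M (b g))
    (y : H) :
    MemLocalIdeal M (resC P H (conv a b) y - conv (resC P H a) (resC P H b) y) := by
  classical
  haveI hMp : M.IsPrime := hM.2.1.isPrime
  by_cases hy : (y : G) ∈ Subgroup.centralizer (P : Set G)
  · -- the centralizing case: fixed-point congruence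
    have h1 : resC P H (conv a b) y = ∑ x : G, a x * b (x⁻¹ * (y : G)) := by
      unfold resC
      rw [if_pos hy, conv_apply]
    have h2 : conv (resC P H a) (resC P H b) y =
        ∑ x : G, if x ∈ Subgroup.centralizer (P : Set G) then a x * b (x⁻¹ * (y : G))
          else 0 := by
      rw [conv_apply, sum_eq_sum_subgroup H
        (fun x => if x ∈ Subgroup.centralizer (P : Set G) then a x * b (x⁻¹ * (y : G))
          else 0)]
      · apply Finset.sum_congr rfl
        intro x _
        unfold resC
        by_cases hx : (x : G) ∈ Subgroup.centralizer (P : Set G)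
        · have hxy : ((x⁻¹ * y : H) : G) ∈ Subgroup.centralizer (P : Set G) := by
            push_cast
            exact Subgroup.mul_mem _ (Subgroup.inv_mem _ hx) hy
          rw [if_pos hx, if_pos hxy, if_pos hx]
          push_cast
          rfl
        · rw [if_neg hx, if_neg hx, zero_mul]
      · intro x hx
        rw [if_neg]
        intro hxC
        exact hx (hCH hxC)
    rw [h1, h2, ← Finset.sum_sub_distrib]
    by_contra hcon
    have hinv : ∀ q ∈ P, ∀ x : G,
        (a (q * x * q⁻¹) * b ((q * x * q⁻¹)⁻¹ * (y : G)) -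
          if q * x * q⁻¹ ∈ Subgroup.centralizer (P : Set G) then
            a (q * x * q⁻¹) * b ((q * x * q⁻¹)⁻¹ * (y : G)) else 0) =
        (a x * b (x⁻¹ * (y : G)) -
          if x ∈ Subgroup.centralizer (P : Set G) then a x * b (x⁻¹ * (y : G)) else 0) := by
      intro q hq x
      have hqN : q ∈ Subgroup.normalizer (P : Set G) := Subgroup.le_normalizer hq
      have hqy : (y : G) * q = q * (y : G) := by
        rw [Subgroup.mem_centralizer_iff] at hy
        exact (hy q hq).symm
      have e1 : (q * x * q⁻¹)⁻¹ * (y : G) = q * (x⁻¹ * (y : G)) * q⁻¹ := by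
        have h3 : (y : G) = q * (y : G) * q⁻¹ := by rw [← hqy]; group
        calc (q * x * q⁻¹)⁻¹ * (y : G) = q * x⁻¹ * q⁻¹ * (y : G) := by group
          _ = q * x⁻¹ * q⁻¹ * (q * (y : G) * q⁻¹) := by rw [← h3]
          _ = q * (x⁻¹ * (y : G)) * q⁻¹ := by group
      rw [e1, ha q hq x, hb q hq _, centralizer_conj_mem_iff_of_mem_normalizer hqN]
    obtain ⟨x, hxfix, hx⟩ := exists_fixed_of_not_memLocalIdeal_sum hM P hP _ hinv
      (by
        intro x
        split_ifs
        · rw [sub_self]; exact memLocalRing_zero ne_top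
        · rw [sub_zero]; exact memLocalRing_mul (haR _) (hbR _)) hcon
    apply hx
    have hxC : x ∈ Subgroup.centralizer (P : Set G) := by
      rw [Subgroup.mem_centralizer_iff]
      intro w hw
      have := hxfix w hw
      calc w * x = (w * x * w⁻¹) * w := by group
        _ = x * w := by rw [this]
    rw [if_pos hxC, sub_self]
    exact memLocalIdeal_zero ne_top
  · -- outside the centralizer both sides vanish
    have h1 : resC P H (conv a b) y = 0 := by
      unfold resC
      rw [if_neg hy]
    have h2 : conv (resC P H a) (resC P H b) y = 0 := by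
      rw [conv_apply]
      apply Finset.sum_eq_zero
      intro x _
      unfold resC
      by_cases hx : (x : G) ∈ Subgroup.centralizer (P : Set G)
      · have hxy : ¬ ((x⁻¹ * y : H) : G) ∈ Subgroup.centralizer (P : Set G) := by
          intro hc
          apply hy
          have := Subgroup.mul_mem _ hx hc
          have e : (x : G) * ((x⁻¹ * y : H) : G) = (y : G) := by
            push_cast
            group
          rwa [e] at this
        rw [if_neg hxy, mul_zero]
      · rw [if_neg hx, zero_mul]
    rw [h1, h2, sub_self]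
    exact memLocalIdeal_zero ne_top

/-- restriction to `C_G(P)` is multiplicative modulo the local ideal, pointwise -/
theorem resC_conv_cong [Fintype H] (hM : IsPModular p M) (hP : IsPGroup p P)
    (hCH : Subgroup.centralizer (P : Set G) ≤ H) {a b : G → ℂ} (ha : IsClassFunction G a)
    (hb : IsClassFunction G b) (haR : ∀ g, MemLocalRing M (a g)) (hbR : ∀ g, MemLocalRing M (b g))
    (y : H) :
    MemLocalIdeal M (resC P H (conv a b) y - conv (resC P H a) (resC P H b) y) :=
  resC_conv_cong' P H hM hP hCH (fun q _ x => ha x q) (fun q _ x => hb x q) haR hbR y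

variable [Fintype H] [Fintype (IrrCharacter H)]

/-- **The Brauer homomorphism**, on central characters: for `C_G(P) ≤ H ≤ N_G(P)` and `ξ` an
irreducible character of `H`, `a ↦ ω_ξ(a restricted to C_G(P))` is a central homomorphism
modulo the local ideal. -/
theorem isCentralHom_brauer (hM : IsPModular p M) (hP : IsPGroup p P)
    (hCH : Subgroup.centralizer (P : Set G) ≤ H) (hHN : H ≤ Subgroup.normalizer (P : Set G))
    (ξ : IrrCharacter H) :
    IsCentralHom M (fun a : G → ℂ => omega (ξ : H → ℂ) (resC P H a)) := by
  classical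
  haveI hMp : M.IsPrime := hM.2.1.isPrime
  letI : Fintype (IrrCharacter G) := irrFintype
  refine ⟨?_, ?_, ?_, ?_, ?_⟩
  · intro a b
    rw [resC_add, omega_add]
  · intro r a
    rw [resC_smul, omega_smul]
  · intro a ha haR
    apply memLocalRing_omega ξ (isClassFunction_resC P H hHN ha)
    intro h
    unfold resC
    split_ifs
    · exact haR _
    · exact memLocalRing_zero ne_top
  · intro a b ha hb haR hbR
    have hcA := isClassFunction_resC P H hHN ha
    have hcB := isClassFunction_resC P H hHN hb
    rw [← omega_conv ξ hcA hcB, ← omega_sub]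
    apply memLocalIdeal_omega ξ
    · intro h x
      rw [Pi.sub_apply, Pi.sub_apply,
        isClassFunction_resC P H hHN (isClassFunction_conv ha hb) h x,
        isClassFunction_conv hcA hcB h x]
    · intro y
      rw [Pi.sub_apply]
      exact resC_conv_cong P H hM hP hCH ha hb haR hbR y
  · have h1 : resC P H (fun g : G => if g = 1 then (1 : ℂ) else 0) =
        fun h : H => if h = 1 then (1 : ℂ) else 0 := by
      funext h
      unfold resC
      by_cases hh : h = 1
      · subst hh
        simp [Subgroup.one_mem]
      · have : ¬ ((h : G) = 1) := fun hc => hh (Subtype.ext hc)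
        simp [hh]
    rw [h1]
    have h2 : omega (ξ : H → ℂ) (fun h : H => if h = 1 then (1 : ℂ) else 0) = 1 := by
      unfold omega
      have : ∑ g : H, (if g = 1 then (1 : ℂ) else 0) * (ξ : H → ℂ) g = (ξ : H → ℂ) 1 := by
        simp
      rw [this, div_self (irr_one_ne_zero ξ.2)]
    rw [h2, sub_self]
    exact memLocalIdeal_zero ne_top

end Brauer

section Induced

variable {G : Type u} [Group G] [Fintype G] {M : Ideal AlgInt} {p : ℕ}

open Classical in
/-- the indicator function of the conjugacy class of `g` -/
noncomputable def classInd (g : G) : G → ℂ := fun x => if IsConj g x then 1 else 0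

theorem isClassFunction_classInd (g : G) : IsClassFunction G (classInd g) := by
  classical
  intro x h
  unfold classInd
  have : IsConj g (h * x * h⁻¹) ↔ IsConj g x := by
    constructor
    · intro hc
      exact hc.trans (isConj_iff.2 ⟨h⁻¹, by group⟩)
    · intro hc
      exact hc.trans (isConj_iff.2 ⟨h, rfl⟩)
  exact if_congr this rfl rfl

theorem memLocalRing_classInd [hMp : M.IsPrime] (g x : G) : MemLocalRing M (classInd g x) := by
  unfold classInd
  split_ifs
  · exact memLocalRing_one ne_top
  · exact memLocalRing_zero ne_top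

theorem omega_classInd [Fintype (IrrCharacter G)] (χ : IrrCharacter G) (g : G) :
    omega (χ : G → ℂ) (classInd g) = centralChar (χ : G → ℂ) g := by
  classical
  have h1 : classInd g = synth (fun ψ : IrrCharacter G => centralChar (ψ : G → ℂ) g) := by
    funext x
    rw [synth_centralChar]
    unfold classInd
    congr
  rw [h1, omega_synth]

variable (P H : Subgroup G) [Fintype H]

theorem inducedCentralChar_eq_omega (ξ : H → ℂ) (g : G) :
    inducedCentralChar H ξ g = omega ξ (fun h : H => classInd g (h : G)) := by
  classical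
  unfold inducedCentralChar omega classInd
  rw [finsum_mem_def, finsum_eq_sum_of_fintype, Finset.sum_div]
  apply Finset.sum_congr rfl
  intro h _
  rw [Set.indicator_apply]
  beta_reduce
  by_cases hc : IsConj g (h : G)
  · rw [if_pos (by exact hc), if_pos hc, one_mul]
  · rw [if_neg (by exact hc), if_neg hc, zero_mul, zero_div]

theorem brauerCentralChar_eq_omega (ξ : H → ℂ) (g : G) :
    brauerCentralChar P H ξ g = omega ξ (resC P H (classInd g)) := by
  classical
  unfold brauerCentralChar omega classInd resC
  rw [finsum_mem_def, finsum_eq_sum_of_fintype, Finset.sum_div]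
  apply Finset.sum_congr rfl
  intro h _
  rw [Set.indicator_apply]
  beta_reduce
  by_cases hc : IsConj g (h : G)
  · by_cases hC : (h : G) ∈ Subgroup.centralizer (P : Set G)
    · rw [if_pos (by exact ⟨hc, hC⟩), if_pos hC, if_pos hc, one_mul]
    · rw [if_neg (by exact fun h' => hC h'.2), if_neg hC, zero_mul, zero_div]
  · rw [if_neg (by exact fun h' => hc h'.1)]
    by_cases hC : (h : G) ∈ Subgroup.centralizer (P : Set G)
    · rw [if_pos hC, if_neg hc, zero_mul, zero_div]
    · rw [if_neg hC, zero_mul, zero_div]

variable [Fintype (IrrCharacter H)]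

/-- the induced central character agrees with its Brauer truncation modulo the local ideal -/
theorem induced_cong_brauer (hM : IsPModular p M) (hP : IsPGroup p P) (hPH : P ≤ H)
    (hHN : H ≤ Subgroup.normalizer (P : Set G)) (ξ : IrrCharacter H) {a : G → ℂ}
    (ha : IsClassFunction G a) (haR : ∀ g, MemLocalRing M (a g)) :
    MemLocalIdeal M (omega (ξ : H → ℂ) (fun h : H => a (h : G)) -
      omega (ξ : H → ℂ) (resC P H a)) := by
  classical
  haveI hMp : M.IsPrime := hM.2.1.isPrime
  haveI : Fintype (ConjClasses H) := Fintype.ofFinite _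
  haveI hN : (P.subgroupOf H).Normal := Subgroup.normal_subgroupOf_of_le_normalizer hHN
  have hP' : IsPGroup p (P.subgroupOf H) := hP.comap_subtype
  rw [← omega_sub]
  have hcf : IsClassFunction H ((fun h : H => a (h : G)) - resC P H a) := by
    intro h x
    rw [Pi.sub_apply, Pi.sub_apply, isClassFunction_resC P H hHN ha h x]
    congr 1
    have h1 : ((x * h * x⁻¹ : H) : G) = (x : G) * (h : G) * (x : G)⁻¹ := by
      push_cast
      rfl
    rw [h1, ha]
  rw [omega_eq_sum_classes (isClassFunction_of_isIrrCharacter ξ.2) hcf]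
  apply memLocalIdeal_sum
  intro K _
  rw [Pi.sub_apply]
  by_cases hK : ((Quotient.out K : H) : G) ∈ Subgroup.centralizer (P : Set G)
  · have : resC P H a (Quotient.out K) = a ((Quotient.out K : H) : G) := by
      unfold resC
      rw [if_pos hK]
    rw [this, sub_self, zero_mul]
    exact memLocalIdeal_zero ne_top
  · apply memLocalIdeal_mul_left
    · have : resC P H a (Quotient.out K) = 0 := by
        unfold resC
        rw [if_neg hK]
      rw [this, sub_zero]
      exact haR _
    · apply memLocalIdeal_centralChar_of_not_mem_centralizer hM (P.subgroupOf H) hP' ξ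
      intro hc
      apply hK
      rw [Subgroup.mem_centralizer_iff] at hc ⊢
      intro w hw
      have := hc ⟨w, hPH hw⟩ (by
        rw [SetLike.mem_coe, Subgroup.mem_subgroupOf]
        exact hw)
      exact congrArg Subtype.val this

/-- **Existence of the induced block** for `C_G(P) ≤ H ≤ N_G(P)`: the induced central character
of `ξ ∈ Irr(H)` is, modulo the local ideal, the central character of some `χ ∈ Irr(G)`. -/
theorem exists_irr_induced (hM : IsPModular p M) (hP : IsPGroup p P) (hPH : P ≤ H)
    (hCH : Subgroup.centralizer (P : Set G) ≤ H) (hHN : H ≤ Subgroup.normalizer (P : Set G))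
    [Fintype (IrrCharacter G)] (ξ : IrrCharacter H) :
    ∃ χ : IrrCharacter G, ∀ a, IsClassFunction G a → (∀ g, MemLocalRing M (a g)) →
      MemLocalIdeal M (omega (ξ : H → ℂ) (fun h : H => a (h : G)) - omega (χ : G → ℂ) a) := by
  haveI hMp : M.IsPrime := hM.2.1.isPrime
  obtain ⟨χ, hχ⟩ := (isCentralHom_brauer P H hM hP hCH hHN ξ).exists_irr hM
  refine ⟨χ, fun a ha haR => ?_⟩
  exact cong_trans (induced_cong_brauer P H hM hP hPH hHN ξ ha haR) (hχ a ha haR)

end Induced

end Cfsg.Agent.Helper23.Blk
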