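import Mathlib
import Cfsg.Prelude.Def_Blocks
import Cfsg.Agent.Lib.Helper24.CharHom

/-!
# Class multiplication constants against a `p`-subgroup (helper23's shared library)

* `sum_char_subgroup'`: the sum of a character over a subgroup is `|H|` times a natural number.
* `class_const_identity`: if no product `x * (w y w⁻¹)` is conjugate to a non-identity element
  of the subgroup `P`, then `#{c | c y⁻¹ c⁻¹ = x} = |P| * ∑_χ χ(x) χ(y) m_χ / χ(1)`,
  where `m_χ = [χ_P, 1_P]`.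
* `pow_dvd_of_degree_bound`: the arithmetic consequence: if all `ν_p(χ(1)) ≤ f` then
  `p ^ c ∣ p ^ f * N`.
-/

set_option autoImplicit false

namespace Cfsg.Agent.Helper23

open Cfsg Cfsg.Agent.Helper24
open scoped ComplexConjugate

/-- The sum of a character over a subgroup is the order of the subgroup times a natural number. -/
theorem sum_char_subgroup' {G : Type*} [Group G] [Finite G] (ψ : G → ℂ) (hψ : IsCharacter G ψ)
    (H : Subgroup G) [Fintype H] : ∃ m : ℕ, ∑ g : H, ψ g = (Nat.card H : ℂ) * m := by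
  obtain ⟨n, ρ, rfl⟩ := hψ
  obtain ⟨σ, hσ⟩ : ∃ σ : Representation ℂ H (Fin n → ℂ), ∀ g : H, σ g = ρ g :=
    ⟨ρ.comp H.subtype, fun g => rfl⟩
  have hne : (Nat.card H : ℂ) ≠ 0 := by exact_mod_cast (Nat.card_pos (α := H)).ne'
  haveI : Invertible (Nat.card H : ℂ) := invertibleOfNonzero hne
  have key := Representation.card_inv_mul_sum_char_eq_finrank σ
  refine ⟨Module.finrank ℂ (Representation.invariants σ), ?_⟩
  rw [← key, mul_inv_cancel_left₀ hne]
  refine Finset.sum_congr rfl fun g _ => ?_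
  unfold Representation.character
  rw [hσ]

/-- If `A` is an algebraic integer with `A * b = N` for naturals `b ≠ 0`, `N`, then `b ∣ N`. -/
theorem dvd_of_isIntegral_mul_eq' {A : ℂ} (hA : IsIntegral ℤ A) {b N : ℕ} (hb : b ≠ 0)
    (h : A * (b : ℂ) = (N : ℂ)) : b ∣ N := by
  have hb0 : (b : ℚ) ≠ 0 := by exact_mod_cast hb
  have hbc : (b : ℂ) ≠ 0 := by exact_mod_cast hb
  have h2 : A = algebraMap ℚ ℂ ((N : ℚ) / (b : ℚ)) := by
    rw [eq_div_of_mul_eq hbc h]
    simp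
  rw [h2, isIntegral_algebraMap_iff (algebraMap ℚ ℂ).injective] at hA
  obtain ⟨m, hm⟩ := IsIntegrallyClosed.isIntegral_iff.mp hA
  have h3 : (m : ℚ) * b = N := by
    have : (algebraMap ℤ ℚ m) = (m : ℚ) := rfl
    rw [this] at hm
    rw [hm]
    field_simp
  have h4 : (m * (b : ℤ)) = (N : ℤ) := by exact_mod_cast h3
  have h5 : (b : ℤ) ∣ (N : ℤ) := ⟨m, by rw [← h4]; ring⟩
  exact_mod_cast h5

theorem class_const_identity {G : Type*} [Group G] [Fintype G] [Fintype (IrrCharacter G)]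
    (x y : G) (P : Subgroup G) [Fintype P]
    (hno : ∀ z ∈ P, z ≠ 1 → ∀ w : G, ¬ IsConj z (x * (w * y * w⁻¹)))
    (m : IrrCharacter G → ℕ)
    (hm : ∀ χ : IrrCharacter G, ∑ z : P, (χ : G → ℂ) z = (Nat.card P : ℂ) * m χ) :
    (Nat.card {c : G // c * y⁻¹ * c⁻¹ = x} : ℂ) =
      (Nat.card P : ℂ) *
        ∑ χ : IrrCharacter G, (χ : G → ℂ) x * (χ : G → ℂ) y * (m χ : ℂ) / (χ : G → ℂ) 1 := by
  classical
  have hcard : (Nat.card G : ℂ) ≠ 0 := by exact_mod_cast (Nat.card_pos (α := G)).ne'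
  have hne : ∀ χ : IrrCharacter G, (χ : G → ℂ) 1 ≠ 0 := by
    intro χ
    obtain ⟨n, hn, hn1⟩ := irr_one_eq χ.2
    rw [hn1]; exact_mod_cast hn.ne'
  obtain ⟨F, hF⟩ : ∃ F : G → ℂ, ∀ z, F z =
      ∑ χ : IrrCharacter G, (χ : G → ℂ) x * (χ : G → ℂ) y * conj ((χ : G → ℂ) z) / (χ : G → ℂ) 1 :=
    ⟨_, fun _ => rfl⟩
  -- (i)
  have h1 : ∀ z ∈ P, z ≠ 1 → F z = 0 := by
    intro z hz hz1
    have hzero : ∀ w : G, Nat.card {c : G // c * z * c⁻¹ = x * (w * y * w⁻¹)} = 0 :=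
      fun w => card_conj_eq_zero_of_not_isConj (hno z hz hz1 w)
    have h2 : (Nat.card G : ℂ) * F z = 0 := by
      rw [hF, Finset.mul_sum]
      have : ∀ χ : IrrCharacter G, (Nat.card G : ℂ) *
          ((χ : G → ℂ) x * (χ : G → ℂ) y * conj ((χ : G → ℂ) z) / (χ : G → ℂ) 1) =
          ∑ w : G, (χ : G → ℂ) (x * (w * y * w⁻¹)) * conj ((χ : G → ℂ) z) := by
        intro χ
        rw [← Finset.sum_mul, sum_char_mul_conj χ.2 x y]
        field_simp
      simp only [this]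
      rw [Finset.sum_comm]
      apply Finset.sum_eq_zero
      intro w _
      rw [second_orthogonality, hzero w, Nat.cast_zero]
    rcases mul_eq_zero.mp h2 with h | h
    · exact absurd h hcard
    · exact h
  -- (ii)
  have h2 : F 1 = (Nat.card {c : G // c * y⁻¹ * c⁻¹ = x} : ℂ) := by
    rw [hF, ← second_orthogonality]
    refine Finset.sum_congr rfl fun χ _ => ?_
    have hyinv : conj ((χ : G → ℂ) y⁻¹) = (χ : G → ℂ) y := by
      obtain ⟨n, ρ, -, hρ⟩ := χ.2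
      rw [← hρ, char_inv ρ y, Complex.conj_conj]
    have h11 : conj ((χ : G → ℂ) 1) = (χ : G → ℂ) 1 := by
      obtain ⟨n, hn, hn1⟩ := irr_one_eq χ.2
      rw [hn1]; simp
    rw [hyinv, h11, mul_div_assoc, div_self (hne χ), mul_one]
  -- (iii)
  have h3 : ∑ z : P, F (z : G) = F 1 := by
    rw [Finset.sum_eq_single (1 : P)]
    · rfl
    · intro z _ hz
      exact h1 z z.2 (fun h => hz (Subtype.ext h))
    · intro h
      exact absurd (Finset.mem_univ _) h
  -- (iv)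
  have h4 : ∑ z : P, F (z : G) = (Nat.card P : ℂ) *
      ∑ χ : IrrCharacter G, (χ : G → ℂ) x * (χ : G → ℂ) y * (m χ : ℂ) / (χ : G → ℂ) 1 := by
    simp only [hF]
    rw [Finset.sum_comm, Finset.mul_sum]
    refine Finset.sum_congr rfl fun χ _ => ?_
    have : ∑ z : P, conj ((χ : G → ℂ) (z : G)) = (Nat.card P : ℂ) * m χ := by
      rw [← map_sum, hm χ]
      simp
    calc ∑ z : P, (χ : G → ℂ) x * (χ : G → ℂ) y * conj ((χ : G → ℂ) (z : G)) / (χ : G → ℂ) 1
        = (χ : G → ℂ) x * (χ : G → ℂ) y / (χ : G → ℂ) 1 *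
            ∑ z : P, conj ((χ : G → ℂ) (z : G)) := by
          rw [Finset.mul_sum]
          refine Finset.sum_congr rfl fun z _ => ?_
          ring
      _ = (Nat.card P : ℂ) *
            ((χ : G → ℂ) x * (χ : G → ℂ) y * (m χ : ℂ) / (χ : G → ℂ) 1) := by
          rw [this]; ring
  rw [← h2, ← h3, h4]

/-- Arithmetic consequence of a class-constant identity: if `N = p^c ∑_χ A_χ m_χ / χ(1)` with
algebraic integers `A_χ` and all `ν_p(χ(1)) ≤ f`, then `p ^ c ∣ p ^ f * N`. -/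
theorem pow_dvd_of_degree_bound {G : Type*} [Group G] [Fintype G] [Fintype (IrrCharacter G)]
    (p : ℕ) [Fact p.Prime] (A : IrrCharacter G → ℂ) (hA : ∀ χ, IsIntegral ℤ (A χ))
    (m : IrrCharacter G → ℕ) (N c f : ℕ)
    (hf : ∀ χ : IrrCharacter G, (charDegree (χ : G → ℂ)).factorization p ≤ f)
    (h : (N : ℂ) = ((p ^ c : ℕ) : ℂ) *
      ∑ χ : IrrCharacter G, A χ * (m χ : ℂ) / (χ : G → ℂ) 1) :
    p ^ c ∣ p ^ f * N := by
  classical
  have hp : p.Prime := Fact.out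
  obtain ⟨W, hWdef⟩ : ∃ W : ℕ, W = ∏ χ : IrrCharacter G, ordCompl[p] (charDegree (χ : G → ℂ)) :=
    ⟨_, rfl⟩
  have hdpos : ∀ χ : IrrCharacter G, 0 < charDegree (χ : G → ℂ) := fun χ => charDegree_pos χ.2
  have hW : ¬ p ∣ W := by
    rw [hWdef, Prime.dvd_finset_prod_iff hp.prime]
    rintro ⟨χ, -, hχ⟩
    exact Nat.not_dvd_ordCompl hp (hdpos χ).ne' hχ
  have hdvd : ∀ χ : IrrCharacter G, charDegree (χ : G → ℂ) ∣ p ^ f * W := by
    intro χ
    have h1 : charDegree (χ : G → ℂ) =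
        p ^ (charDegree (χ : G → ℂ)).factorization p * ordCompl[p] (charDegree (χ : G → ℂ)) :=
      (Nat.ordProj_mul_ordCompl_eq_self _ p).symm
    rw [h1]
    refine Nat.mul_dvd_mul (pow_dvd_pow p (hf χ)) ?_
    rw [hWdef]
    exact Finset.dvd_prod_of_mem _ (Finset.mem_univ χ)
  choose q hq using hdvd
  have hAint : IsIntegral ℤ (∑ χ : IrrCharacter G, A χ * (m χ : ℂ) * (q χ : ℂ)) := by
    apply IsIntegral.sum
    intro χ _
    exact ((hA χ).mul (isIntegral_natCast _)).mul (isIntegral_natCast _)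
  have hAeq : (∑ χ : IrrCharacter G, A χ * (m χ : ℂ) * (q χ : ℂ)) * ((p ^ c : ℕ) : ℂ) =
      ((p ^ f * W * N : ℕ) : ℂ) := by
    push_cast
    push_cast at h
    rw [h]
    have : ∀ χ : IrrCharacter G, A χ * (m χ : ℂ) / (χ : G → ℂ) 1 *
        ((p : ℂ) ^ f * (W : ℂ)) = A χ * (m χ : ℂ) * (q χ : ℂ) := by
      intro χ
      have hd0 : ((charDegree (χ : G → ℂ) : ℕ) : ℂ) ≠ 0 := by exact_mod_cast (hdpos χ).ne'
      have hq' : ((p : ℂ) ^ f * (W : ℂ)) = (charDegree (χ : G → ℂ) : ℂ) * (q χ : ℂ) := by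
        exact_mod_cast congrArg (fun n : ℕ => (n : ℂ)) (hq χ)
      rw [hq', irr_one_eq_charDegree χ.2]
      field_simp
    calc (∑ χ : IrrCharacter G, A χ * (m χ : ℂ) * (q χ : ℂ)) * (p : ℂ) ^ c
        = (p : ℂ) ^ c * ∑ χ : IrrCharacter G, (A χ * (m χ : ℂ) / (χ : G → ℂ) 1 *
            ((p : ℂ) ^ f * (W : ℂ))) := by
          rw [mul_comm]
          congr 1
          exact Finset.sum_congr rfl fun χ _ => (this χ).symm
      _ = (p : ℂ) ^ f * (W : ℂ) * ((p : ℂ) ^ c *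
            ∑ χ : IrrCharacter G, A χ * (m χ : ℂ) / (χ : G → ℂ) 1) := by
          rw [← Finset.sum_mul]; ring
  have hdvdN := dvd_of_isIntegral_mul_eq' hAint (pow_pos hp.pos c).ne' hAeq
  have hcop : Nat.Coprime (p ^ c) W :=
    Nat.Coprime.pow_left c ((Nat.Prime.coprime_iff_not_dvd hp).2 hW)
  have : p ^ f * W * N = W * (p ^ f * N) := by ring
  rw [this] at hdvdN
  exact hcop.dvd_of_dvd_mul_left hdvdN

end Cfsg.Agent.Helper23
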