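import Mathlib
import Cfsg.Prelude.Def_Blocks
import Cfsg.Agent.Lib.Helper23.BlockConv
import Cfsg.Agent.Lib.Helper23.ClassConst

/-!
# Characters of defect zero (helper23's shared library)
-/

set_option autoImplicit false
set_option linter.unusedSectionVars false

namespace Cfsg.Agent.Helper23.Blk

open Cfsg Cfsg.Agent.Helper24 Cfsg.Agent.Helper23
open scoped ComplexConjugate

universe u

variable {G : Type u} [Group G] [Finite G] {p : ℕ} [hp : Fact p.Prime]

/-- An irreducible character vanishing on all `p`-singular elements has defect zero. -/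
theorem not_dvd_card_div_degree_of_vanish {χ : G → ℂ} (hχ : IsIrrCharacter G χ)
    (hv : ∀ y : G, p ∣ orderOf y → χ y = 0) : ¬ p ∣ Nat.card G / charDegree χ := by
  classical
  haveI : Fintype G := Fintype.ofFinite G
  obtain ⟨P⟩ : Nonempty (Sylow p G) := inferInstance
  haveI : Fintype (P : Subgroup G) := Fintype.ofFinite _
  obtain ⟨m, hm⟩ := sum_char_subgroup' χ (isCharacter_of_isIrrCharacter hχ) (P : Subgroup G)
  have h1 : ∑ g : (P : Subgroup G), χ g = χ 1 := by
    rw [Finset.sum_eq_single (1 : (P : Subgroup G))]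
    · rfl
    · intro x _ hx
      apply hv
      obtain ⟨k, hk⟩ := (IsPGroup.iff_orderOf.1 P.2) x
      rw [← Subgroup.orderOf_coe] at hk
      rw [hk]
      cases k with
      | zero =>
        exfalso
        rw [pow_zero, orderOf_eq_one_iff] at hk
        exact hx (Subtype.ext hk)
      | succ k => exact dvd_pow_self p (Nat.succ_ne_zero k)
    · intro h
      exact absurd (Finset.mem_univ _) h
  rw [h1, irr_one_eq_charDegree hχ] at hm
  have hm' : charDegree χ = Nat.card (P : Subgroup G) * m := by exact_mod_cast hm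
  have hdvd := charDegree_dvd_card hχ
  have hpos := charDegree_pos hχ
  have hPcard := P.card_eq_multiplicity
  intro hd
  -- `|G| = |P| * r` with `p ∤ r`
  have hr : ¬ p ∣ Nat.card G / Nat.card (P : Subgroup G) := by
    rw [hPcard]
    exact Nat.not_dvd_ordCompl hp.out Nat.card_pos.ne'
  apply hr
  obtain ⟨c, hc⟩ := hdvd
  have hc' : Nat.card G / charDegree χ = c := by
    rw [hc, Nat.mul_div_cancel_left _ hpos]
  rw [hc'] at hd
  have : Nat.card G / Nat.card (P : Subgroup G) = m * c := by
    rw [hc, hm', mul_assoc, Nat.mul_div_cancel_left _ Nat.card_pos]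
  rw [this]
  exact Dvd.dvd.mul_left hd m

theorem blockCoeff_singleton (χ : IrrCharacter G) (g : G) :
    blockCoeff {χ} g = (Nat.card G : ℂ)⁻¹ * ((χ : G → ℂ) 1 * conj ((χ : G → ℂ) g)) := by
  unfold blockCoeff
  rw [finsum_mem_singleton]

/-- `χ` has defect zero iff it is alone in its block. -/
theorem not_dvd_iff_blockOf_eq_singleton {M : Ideal AlgInt} (hM : IsPModular p M)
    (χ : IrrCharacter G) :
    ¬ p ∣ Nat.card G / charDegree (χ : G → ℂ) ↔ blockOf M (χ : G → ℂ) = {χ} := by
  classical
  haveI hMp : M.IsPrime := hM.2.1.isPrime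
  haveI : Fintype G := Fintype.ofFinite G
  constructor
  · intro hnd
    have hA : ∀ g : G, MemLocalRing M (blockCoeff ({χ} : Set (IrrCharacter G)) g) := by
      intro g
      rw [blockCoeff_singleton]
      obtain ⟨c, hc⟩ := charDegree_dvd_card χ.2
      have hpos := charDegree_pos χ.2
      have hc' : Nat.card G / charDegree (χ : G → ℂ) = c := by
        rw [hc, Nat.mul_div_cancel_left _ hpos]
      rw [hc'] at hnd
      have hcR : MemLocalRing M ((c : ℂ)⁻¹) :=
        memLocalRing_inv (memLocalRing_natCast c)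
          (fun h => hnd ((memLocalIdeal_natCast_iff hM c).1 h))
      have hd0 : ((charDegree (χ : G → ℂ) : ℕ) : ℂ) ≠ 0 := by exact_mod_cast hpos.ne'
      have hc0 : (c : ℂ) ≠ 0 := by
        intro h0
        have : c = 0 := by exact_mod_cast h0
        rw [this, mul_zero] at hc
        exact (Nat.card_pos (α := G)).ne' hc
      have : (Nat.card G : ℂ)⁻¹ * ((χ : G → ℂ) 1 * conj ((χ : G → ℂ) g)) =
          (c : ℂ)⁻¹ * conj ((χ : G → ℂ) g) := by
        rw [irr_one_eq_charDegree χ.2, hc]
        push_cast
        field_simp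
      rw [this]
      apply memLocalRing_mul hcR
      apply memLocalRing_of_isIntegral _ hMp.ne_top
      rw [← irr_inv (isCharacter_of_isIrrCharacter χ.2)]
      obtain ⟨n, ρ, -, hρ⟩ := χ.2
      rw [← hρ]
      exact isIntegral_char ρ _
    apply Set.Subset.antisymm
    · exact blockOf_subset_of_memLocalRing hMp hA (Set.mem_singleton χ)
    · intro ψ hψ
      rw [Set.mem_singleton_iff] at hψ
      rw [hψ]
      exact mem_blockOf_self χ
  · intro hB
    apply not_dvd_card_div_degree_of_vanish χ.2
    intro y hy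
    have hblock : IsPBlock M ({χ} : Set (IrrCharacter G)) := ⟨χ, hB.symm⟩
    have h0 := blockCoeff_eq_zero_of_pSingular hM hblock hy
    rw [blockCoeff_singleton] at h0
    have hcard : (Nat.card G : ℂ)⁻¹ ≠ 0 := inv_ne_zero card_ne_zero
    have h1 := (mul_eq_zero.1 h0).resolve_left hcard
    have h2 := (mul_eq_zero.1 h1).resolve_left (irr_one_ne_zero χ.2)
    have := congrArg conj h2
    rwa [Complex.conj_conj, map_zero] at this

end Cfsg.Agent.Helper23.Blk
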