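import Mathlib
import Cfsg.Agent.Lib.Helper23.BlockBrauer

/-!
# Idempotents modulo the local ideal (helper23's shared library)

`null_of_idem_of_omega`: a central element with local-integer coefficients that is idempotent
modulo the local ideal and on which all central characters vanish modulo the local ideal has all
its coefficients in the local ideal.
-/

set_option autoImplicit false
set_option linter.unusedSectionVars false

namespace Cfsg.Agent.Helper23.Blk

open Cfsg Cfsg.Agent.Helper24
open scoped ComplexConjugate

universe u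

section Null

variable {G : Type u} [Group G] [Fintype G] [Fintype (IrrCharacter G)] {M : Ideal AlgInt}

/-- the spectral vector `c` represents a central element with coefficients in the local ideal -/
def IsNullVec (M : Ideal AlgInt) (c : IrrCharacter G → ℂ) : Prop :=
  ∀ g : G, MemLocalIdeal M (synth c g)

variable [hMp : M.IsPrime]

theorem isNullVec_zero : IsNullVec M (0 : IrrCharacter G → ℂ) := by
  intro g
  rw [synth_zero]
  exact memLocalIdeal_zero ne_top

theorem IsNullVec.add {c c' : IrrCharacter G → ℂ} (hc : IsNullVec M c) (hc' : IsNullVec M c') :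
    IsNullVec M (c + c') := by
  intro g
  rw [synth_add]
  exact memLocalIdeal_add (hc g) (hc' g)

theorem IsNullVec.sub {c c' : IrrCharacter G → ℂ} (hc : IsNullVec M c) (hc' : IsNullVec M c') :
    IsNullVec M (c - c') := by
  intro g
  rw [synth_sub]
  exact memLocalIdeal_sub (hc g) (hc' g)

theorem IsNullVec.neg {c : IrrCharacter G → ℂ} (hc : IsNullVec M c) : IsNullVec M (-c) := by
  have : -c = 0 - c := by simp
  rw [this]
  exact isNullVec_zero.sub hc

theorem IsNullVec.integral_mul {c c' : IrrCharacter G → ℂ} (hc : IsIntegralVec M c)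
    (hc' : IsNullVec M c') : IsNullVec M (c * c') := by
  intro g
  rw [← synth_conv]
  exact memLocalIdeal_sum _ _ fun h _ => memLocalIdeal_mul_left (hc h) (hc' _)

theorem IsNullVec.smul_integral {r : ℂ} (hr : MemLocalIdeal M r) {c : IrrCharacter G → ℂ}
    (hc : IsIntegralVec M c) : IsNullVec M (r • c) := by
  intro g
  rw [synth_smul]
  exact memLocalIdeal_mul_right hr (hc g)

/-- **Idempotent and nilpotent modulo the local ideal implies zero.** -/
theorem isNullVec_of_idem {U : IrrCharacter G → ℂ} (hU : IsIntegralVec M U)
    (hidem : IsNullVec M (U * U - U)) (hω : ∀ ξ, MemLocalIdeal M (U ξ)) : IsNullVec M U := by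
  classical
  have hone : IsIntegralVec M (1 : IrrCharacter G → ℂ) := isIntegralVec_one
  have hfI : ∀ ξ : IrrCharacter G, IsIntegralVec M (U - U ξ • (1 : IrrCharacter G → ℂ)) :=
    fun ξ => hU.sub (IsIntegralVec.smul (memLocalRing_of_memLocalIdeal (hω ξ)) hone)
  have key : ∀ S : Finset (IrrCharacter G),
      IsNullVec M (U * (∏ ξ ∈ S, (U - U ξ • (1 : IrrCharacter G → ℂ))) - U) := by
    intro S
    induction S using Finset.induction_on with
    | empty =>
      rw [Finset.prod_empty, mul_one, sub_self]
      exact isNullVec_zero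
    | insert j S hj ih =>
      rw [Finset.prod_insert hj]
      have e : U * ((U - U j • (1 : IrrCharacter G → ℂ)) *
          ∏ ξ ∈ S, (U - U ξ • (1 : IrrCharacter G → ℂ))) - U =
          (U - U j • (1 : IrrCharacter G → ℂ)) *
            (U * (∏ ξ ∈ S, (U - U ξ • (1 : IrrCharacter G → ℂ))) - U) +
          ((U * U - U) - U j • U) := by
        funext ψ
        simp only [Pi.mul_apply, Pi.sub_apply, Pi.add_apply, Pi.smul_apply, Pi.one_apply,
          smul_eq_mul]
        ring
      rw [e]
      exact (IsNullVec.integral_mul (hfI j) ih).add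
        (hidem.sub (IsNullVec.smul_integral (hω j) hU))
  have h1 := key Finset.univ
  have hprod : (∏ ξ : IrrCharacter G, (U - U ξ • (1 : IrrCharacter G → ℂ))) = 0 := by
    funext ψ
    rw [Finset.prod_apply, Pi.zero_apply]
    apply Finset.prod_eq_zero (Finset.mem_univ ψ)
    simp
  rw [hprod, mul_zero, zero_sub] at h1
  have := h1.neg
  rwa [neg_neg] at this

/-- function form of `isNullVec_of_idem` -/
theorem null_of_idem_of_omega {u : G → ℂ} (hu : IsClassFunction G u)
    (huR : ∀ g, MemLocalRing M (u g)) (hidem : ∀ g, MemLocalIdeal M (conv u u g - u g))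
    (hω : ∀ ξ : IrrCharacter G, MemLocalIdeal M (omega (ξ : G → ℂ) u)) :
    ∀ g, MemLocalIdeal M (u g) := by
  have hsu : synth (fun ξ : IrrCharacter G => omega (ξ : G → ℂ) u) = u := by
    funext g
    exact synth_omega hu g
  have hU : IsIntegralVec M (fun ξ : IrrCharacter G => omega (ξ : G → ℂ) u) :=
    isIntegralVec_omega hu huR
  have h1 : IsNullVec M ((fun ξ : IrrCharacter G => omega (ξ : G → ℂ) u) *
      (fun ξ : IrrCharacter G => omega (ξ : G → ℂ) u) -
      (fun ξ : IrrCharacter G => omega (ξ : G → ℂ) u)) := by
    intro g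
    rw [synth_sub, ← conv_synth, hsu]
    exact hidem g
  have h2 := isNullVec_of_idem hU h1 hω
  intro g
  have := h2 g
  rwa [hsu] at this

end Null

end Cfsg.Agent.Helper23.Blk
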