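import Mathlib
import Cfsg.Agent.Lib.Helper23.BlockBrauer2

/-!
# Induced blocks, in terms of central characters on class functions (helper23's shared library)
-/

set_option autoImplicit false
set_option linter.unusedSectionVars false

namespace Cfsg.Agent.Helper23.Blk

open Cfsg Cfsg.Agent.Helper24
open scoped ComplexConjugate

universe u

section InducedBlock

variable {G : Type u} [Group G] [Fintype G] {M : Ideal AlgInt} {p : ℕ}

theorem isClassFunction_comp_subtype (H : Subgroup G) {a : G → ℂ} (ha : IsClassFunction G a) :
    IsClassFunction H (fun h : H => a (h : G)) := by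
  intro h x
  have h1 : ((x * h * x⁻¹ : H) : G) = (x : G) * (h : G) * (x : G)⁻¹ := by
    push_cast
    rfl
  simp only
  rw [h1, ha]

/-- a class function is the combination of the class indicators -/
theorem eq_sum_classInd [Fintype (ConjClasses G)] {a : G → ℂ} (ha : IsClassFunction G a) :
    a = ∑ K : ConjClasses G, a (Quotient.out K) • classInd (Quotient.out K) := by
  classical
  funext x
  rw [Finset.sum_apply]
  have h2 : ∀ K : ConjClasses G, (a (Quotient.out K) • classInd (Quotient.out K)) x =
      if K = ConjClasses.mk x then a x else 0 := by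
    intro K
    rw [Pi.smul_apply, smul_eq_mul]
    unfold classInd
    have hK : ConjClasses.mk (Quotient.out K) = K := Quotient.out_eq K
    by_cases hKg : K = ConjClasses.mk x
    · rw [if_pos hKg]
      have hc : IsConj (Quotient.out K) x := by
        rw [← ConjClasses.mk_eq_mk_iff_isConj, hK, hKg]
      rw [if_pos hc, mul_one]
      exact classFunction_eq_of_isConj ha hc
    · rw [if_neg hKg, if_neg, mul_zero]
      intro hc
      apply hKg
      rw [← hK]
      exact ConjClasses.mk_eq_mk_iff_isConj.2 hc
  rw [Finset.sum_congr rfl (fun K _ => h2 K), Finset.sum_ite_eq', if_pos (Finset.mem_univ _)]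

variable (H : Subgroup G) [Fintype H]

theorem omega_comp_sum {ι : Type*} (s : Finset ι) (ξ : H → ℂ) (c : ι → ℂ) (f : ι → G → ℂ) :
    omega ξ (fun h : H => (∑ i ∈ s, c i • f i) (h : G)) =
      ∑ i ∈ s, c i * omega ξ (fun h : H => f i (h : G)) := by
  classical
  induction s using Finset.induction_on with
  | empty =>
    simp only [Finset.sum_empty, Pi.zero_apply]
    unfold omega
    simp
  | insert j s hj ih =>
    rw [Finset.sum_insert hj, Finset.sum_insert hj, ← ih]
    have : (fun h : H => (c j • f j + ∑ i ∈ s, c i • f i) (h : G)) =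
        c j • (fun h : H => f j (h : G)) + (fun h : H => (∑ i ∈ s, c i • f i) (h : G)) := by
      funext h
      simp
    rw [this, omega_add, omega_smul]

variable [Fintype (IrrCharacter G)] [Fintype (IrrCharacter H)]

/-- an induced block controls the induced central characters on all class functions with
local-integer values -/
theorem IsInducedBlock.omega_cong [hMp : M.IsPrime] {b : Set (IrrCharacter H)}
    {B : Set (IrrCharacter G)} (hind : IsInducedBlock M H b B) {ξ : IrrCharacter H} (hξ : ξ ∈ b)
    {χ : IrrCharacter G} (hχ : χ ∈ B) {a : G → ℂ} (ha : IsClassFunction G a)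
    (haR : ∀ g, MemLocalRing M (a g)) :
    MemLocalIdeal M (omega (ξ : H → ℂ) (fun h : H => a (h : G)) - omega (χ : G → ℂ) a) := by
  classical
  haveI : Fintype (ConjClasses G) := Fintype.ofFinite _
  rw [omega_eq_sum_classes (isClassFunction_of_isIrrCharacter χ.2) ha]
  have h1 : omega (ξ : H → ℂ) (fun h : H => a (h : G)) =
      ∑ K : ConjClasses G, a (Quotient.out K) *
        inducedCentralChar H (ξ : H → ℂ) (Quotient.out K) := by
    conv_lhs => rw [eq_sum_classInd ha]
    rw [omega_comp_sum]
    apply Finset.sum_congr rfl
    intro K _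
    rw [inducedCentralChar_eq_omega]
  rw [h1, ← Finset.sum_sub_distrib]
  apply memLocalIdeal_sum
  intro K _
  rw [← mul_sub]
  exact memLocalIdeal_mul_left (haR _) (hind.2.2 ξ hξ χ hχ _)

/-- congruence of central characters on class functions gives an induced block -/
theorem isInducedBlock_of_forall [hMp : M.IsPrime] {ξ₀ : IrrCharacter H} {χ₀ : IrrCharacter G}
    (h : ∀ g : G, MemLocalIdeal M (omega (ξ₀ : H → ℂ) (fun h : H => classInd g (h : G)) -
      omega (χ₀ : G → ℂ) (classInd g))) :
    IsInducedBlock M H (blockOf M (ξ₀ : H → ℂ)) (blockOf M (χ₀ : G → ℂ)) := by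
  classical
  refine ⟨⟨ξ₀, rfl⟩, ⟨χ₀, rfl⟩, ?_⟩
  intro ξ hξ χ hχ g
  rw [inducedCentralChar_eq_omega]
  have hcf : IsClassFunction H (fun h : H => classInd g (h : G)) :=
    isClassFunction_comp_subtype H (isClassFunction_classInd g)
  have h1 := memLocalIdeal_omega_sub (M := M) hξ hcf (fun h => memLocalRing_classInd g _)
  have h2 := h g
  rw [omega_classInd] at h2
  have h3 : MemLocalIdeal M (centralChar (χ₀ : G → ℂ) g - centralChar (χ : G → ℂ) g) := hχ g
  exact cong_trans (cong_trans (cong_symm h1) h2) h3

end InducedBlock

end Cfsg.Agent.Helper23.Blk
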