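import Mathlib
import Cfsg.Agent.Lib.Helper23.BlockBrauer3
import Cfsg.Agent.Lib.Helper23.BlockMinMax2
import Cfsg.Agent.Lib.Helper23.BlockDefectGroup

/-!
# Defect groups: working characterization, conjugacy (helper23's shared library)
-/

set_option autoImplicit false
set_option linter.unusedSectionVars false

namespace Cfsg.Agent.Helper23.Blk

open Cfsg Cfsg.Agent.Helper24
open scoped ComplexConjugate

universe u

section Sylow

variable {G : Type u} [Group G] [Finite G] {p : ℕ} [Fact p.Prime]

/-- a subgroup of `C` of the order of a Sylow subgroup is the image of a Sylow subgroup of `C` -/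
theorem exists_sylow_map_eq {C Q : Subgroup G} (hQC : Q ≤ C)
    (hcard : Nat.card Q = p ^ (Nat.card C).factorization p) :
    ∃ P : Sylow p C, (P : Subgroup C).map C.subtype = Q := by
  have h1 : Nat.card (Q.subgroupOf C) = p ^ (Nat.card C).factorization p := by
    rw [← hcard]
    exact Nat.card_congr (Subgroup.subgroupOfEquivOfLe hQC).toEquiv
  refine ⟨Sylow.ofCard (Q.subgroupOf C) h1, ?_⟩
  rw [Sylow.coe_ofCard, Subgroup.map_subgroupOf_eq_of_le hQC]

theorem card_centralizer_conj (g x : G) :
    Nat.card (Subgroup.centralizer ({x * g * x⁻¹} : Set G)) =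
      Nat.card (Subgroup.centralizer ({g} : Set G)) := by
  rw [centralizer_conj]
  exact Subgroup.card_map_of_injective (MulAut.conj x).injective

end Sylow

section DefectGroup

variable {G : Type u} [Group G] [Finite G] {M : Ideal AlgInt} {p : ℕ}

/-- working characterization of defect groups -/
theorem isDefectGroup_iff (hM : IsPModular p M) {B : Set (IrrCharacter G)} (hB : IsPBlock M B)
    {D : Subgroup G} :
    IsDefectGroup p M B D ↔ ∃ g : G, IsDefectClass M B g ∧
      D ≤ Subgroup.centralizer ({g} : Set G) ∧ Nat.card D = p ^ blockDefect p B := by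
  haveI : Fact p.Prime := ⟨hM.1⟩
  constructor
  · intro hD
    have hc := card_defectGroup hM hB hD
    obtain ⟨g, hg, P, rfl⟩ := hD
    refine ⟨g, hg, ?_, hc⟩
    rintro _ ⟨y, -, rfl⟩
    exact y.2
  · rintro ⟨g, hg, hle, hc⟩
    rw [blockDefect_eq_of_isDefectClass hM hB hg] at hc
    obtain ⟨P, hP⟩ := exists_sylow_map_eq hle hc
    exact ⟨g, hg, P, hP.symm⟩

theorem isPGroup_of_isDefectGroup (hM : IsPModular p M) {B : Set (IrrCharacter G)}
    {D : Subgroup G} (hD : IsDefectGroup p M B D) : IsPGroup p D := by
  haveI : Fact p.Prime := ⟨hM.1⟩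
  obtain ⟨g, hg, P, rfl⟩ := hD
  exact P.2.map _

theorem exists_isDefectGroup (hM : IsPModular p M) {B : Set (IrrCharacter G)}
    (hB : IsPBlock M B) : ∃ D : Subgroup G, IsDefectGroup p M B D := by
  haveI : Fact p.Prime := ⟨hM.1⟩
  obtain ⟨g, hg⟩ := exists_isDefectClass hM.2.1.isPrime hB
  obtain ⟨P⟩ : Nonempty (Sylow p (Subgroup.centralizer ({g} : Set G))) := inferInstance
  exact ⟨_, g, hg, P, rfl⟩

/-- conjugates of defect groups are defect groups -/
theorem isDefectGroup_conj (hM : IsPModular p M) {B : Set (IrrCharacter G)} (hB : IsPBlock M B)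
    {D : Subgroup G} (hD : IsDefectGroup p M B D) (x : G) :
    IsDefectGroup p M B (D.map (MulAut.conj x).toMonoidHom) := by
  rw [isDefectGroup_iff hM hB] at hD ⊢
  obtain ⟨g, hg, hle, hc⟩ := hD
  refine ⟨x * g * x⁻¹, isDefectClass_conj hg x, ?_, ?_⟩
  · rw [centralizer_conj]
    exact Subgroup.map_mono hle
  · rw [Subgroup.card_map_of_injective (MulAut.conj x).injective, hc]

/-- `p`-subgroups centralizing a point of the support of the block idempotent are conjugate into
the defect groups -/
theorem subConj_of_blockCoeff (hM : IsPModular p M) {B : Set (IrrCharacter G)}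
    (hB : IsPBlock M B) {D : Subgroup G} (hD : IsDefectGroup p M B D) {x : G}
    (hx : ¬ MemLocalIdeal M (blockCoeff B x)) {Q : Subgroup G} (hQ : IsPGroup p Q)
    (hQx : Q ≤ Subgroup.centralizer ({x} : Set G)) : SubConj Q D := by
  classical
  haveI : Fintype G := Fintype.ofFinite G
  obtain ⟨g, hg, P, rfl⟩ := hD
  obtain ⟨χ, hχ⟩ := block_nonempty hM hB
  exact inI_blockCoeff hM hB ⟨χ, hχ, hg.2.2 χ hχ⟩ P x hx Q hQ hQx

/-- the defect groups are conjugate into the centralizer-Sylow subgroups of the points where the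
central character of the block does not vanish -/
theorem subConj_of_centralChar (hM : IsPModular p M) {B : Set (IrrCharacter G)}
    (hB : IsPBlock M B) {D : Subgroup G} (hD : IsDefectGroup p M B D) {x : G}
    (hx : ∃ χ ∈ B, ¬ MemLocalIdeal M (centralChar (χ : G → ℂ) x))
    (P : Sylow p (Subgroup.centralizer ({x} : Set G))) :
    SubConj D ((P : Subgroup (Subgroup.centralizer ({x} : Set G))).map
      (Subgroup.centralizer ({x} : Set G)).subtype) := by
  classical
  haveI : Fintype G := Fintype.ofFinite G
  have hDp := isPGroup_of_isDefectGroup hM hD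
  obtain ⟨g, hg, hle, -⟩ := (isDefectGroup_iff hM hB).1 hD
  exact inI_blockCoeff hM hB hx P g hg.2.1 D hDp hle

/-- a subgroup conjugate into another one of the same order is conjugate to it -/
theorem map_conj_eq_of_subConj {Q D : Subgroup G} (h : SubConj Q D)
    (hc : Nat.card D ≤ Nat.card Q) : ∃ c : G, Q.map (MulAut.conj c).toMonoidHom = D := by
  obtain ⟨c, hc'⟩ := h
  refine ⟨c, ?_⟩
  have hle : Q.map (MulAut.conj c).toMonoidHom ≤ D := by
    rintro _ ⟨q, hq, rfl⟩
    simp only [MulEquiv.coe_toMonoidHom, MulAut.conj_apply]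
    exact hc' q hq
  apply Subgroup.eq_of_le_of_card_ge hle
  rw [Subgroup.card_map_of_injective (MulAut.conj c).injective]
  exact hc

/-- the defect groups of a block are conjugate -/
theorem isDefectGroup_conj_of (hM : IsPModular p M) {B : Set (IrrCharacter G)}
    (hB : IsPBlock M B) {D D' : Subgroup G} (hD : IsDefectGroup p M B D)
    (hD' : IsDefectGroup p M B D') : ∃ c : G, D'.map (MulAut.conj c).toMonoidHom = D := by
  obtain ⟨g, hg, hle, hc⟩ := (isDefectGroup_iff hM hB).1 hD'
  have h1 := subConj_of_blockCoeff hM hB hD hg.2.1 (isPGroup_of_isDefectGroup hM hD') hle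
  apply map_conj_eq_of_subConj h1
  rw [hc, card_defectGroup hM hB hD]

end DefectGroup

section Omega

variable {G : Type u} [Group G] [Fintype G] {M : Ideal AlgInt} [hMp : M.IsPrime]

/-- a nonvanishing central character value comes from a class where both the coefficient and
the central character are nonvanishing -/
theorem exists_of_not_memLocalIdeal_omega (ξ : IrrCharacter G) {a : G → ℂ}
    (ha : IsClassFunction G a) (haR : ∀ g, MemLocalRing M (a g))
    (h : ¬ MemLocalIdeal M (omega (ξ : G → ℂ) a)) :
    ∃ x : G, ¬ MemLocalIdeal M (a x) ∧ ¬ MemLocalIdeal M (centralChar (ξ : G → ℂ) x) := by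
  classical
  haveI : Fintype (ConjClasses G) := Fintype.ofFinite _
  letI : Fintype (IrrCharacter G) := irrFintype
  by_contra hcon
  push Not at hcon
  apply h
  rw [omega_eq_sum_classes (isClassFunction_of_isIrrCharacter ξ.2) ha]
  apply memLocalIdeal_sum
  intro K _
  by_cases hK : MemLocalIdeal M (a (Quotient.out K))
  · exact memLocalIdeal_mul_right hK (memLocalRing_centralChar ξ _)
  · exact memLocalIdeal_mul_left (haR _) (hcon _ hK)

end Omega

end Cfsg.Agent.Helper23.Blk
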