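import Mathlib
import Cfsg.Agent.Lib.Helper23.BlockDefectGroup2
import Cfsg.Agent.Lib.Helper23.BlockNull
import Cfsg.Agent.S0916

/-!
# Brauer's first main theorem (helper23's shared library)
-/

set_option autoImplicit false
set_option linter.unusedSectionVars false

namespace Cfsg.Agent.Helper23.Blk

open Cfsg Cfsg.Agent.Helper24
open scoped ComplexConjugate

universe u

section Centralizer

variable {G : Type u} [Group G]

theorem map_centralizer_subtype (H : Subgroup G) (h : H) :
    (Subgroup.centralizer ({h} : Set H)).map H.subtype =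
      Subgroup.centralizer ({(h : G)} : Set G) ⊓ H := by
  ext y
  rw [Subgroup.mem_map, Subgroup.mem_inf, Subgroup.mem_centralizer_singleton_iff]
  constructor
  · rintro ⟨z, hz, rfl⟩
    rw [Subgroup.mem_centralizer_singleton_iff] at hz
    exact ⟨congrArg Subtype.val hz, z.2⟩
  · rintro ⟨h1, h2⟩
    refine ⟨⟨y, h2⟩, ?_, rfl⟩
    rw [Subgroup.mem_centralizer_singleton_iff]
    exact Subtype.ext h1

theorem card_centralizer_subgroup (H : Subgroup G) (h : H) :
    Nat.card (Subgroup.centralizer ({h} : Set H)) =
      Nat.card ↥(Subgroup.centralizer ({(h : G)} : Set G) ⊓ H) := by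
  rw [← map_centralizer_subtype, Subgroup.card_map_of_injective (Subgroup.subtype_injective _)]

end Centralizer

section KeyLemma

variable {G : Type u} [Group G] [Fintype G] {M : Ideal AlgInt} {p : ℕ} (D : Subgroup G)

/-- if `D` is a Sylow subgroup of `C_{N(D)}(h)` then it is a Sylow subgroup of `C_G(h)` -/
theorem card_eq_of_sylow_in_normalizer [Fact p.Prime] (hD : IsPGroup p D)
    (h : Subgroup.normalizer (D : Set G))
    (hh : (h : G) ∈ Subgroup.centralizer (D : Set G))
    (hcard : Nat.card D = p ^ (Nat.card (Subgroup.centralizer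
      ({h} : Set (Subgroup.normalizer (D : Set G))))).factorization p) :
    Nat.card D = p ^ (Nat.card (Subgroup.centralizer ({(h : G)} : Set G))).factorization p := by
  rw [card_centralizer_subgroup] at hcard
  have hle : D ≤ Subgroup.centralizer ({(h : G)} : Set G) ⊓ Subgroup.normalizer (D : Set G) := by
    intro w hw
    rw [Subgroup.mem_inf]
    refine ⟨?_, Subgroup.le_normalizer hw⟩
    rw [Subgroup.mem_centralizer_singleton_iff]
    rw [Subgroup.mem_centralizer_iff] at hh
    exact hh w hw
  obtain ⟨S, hS⟩ := exists_sylow_map_eq hle hcard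
  obtain ⟨S', hS'⟩ := (Cfsg.Agent.S0916.result p D hD).2 (h : G) hh ⟨S, hS⟩
  have h3 := card_sylow_map_centralizer (h : G) S'
  rw [hS'] at h3
  exact h3

/-- under the Sylow condition, the part of the class of `h` inside `C_G(D)` is the class of `h`
in `N_G(D)` -/
theorem resC_classInd [Fact p.Prime] (hD : IsPGroup p D)
    [Fintype (Subgroup.normalizer (D : Set G))]
    (h : Subgroup.normalizer (D : Set G))
    (hh : (h : G) ∈ Subgroup.centralizer (D : Set G))
    (hcard : Nat.card D = p ^ (Nat.card (Subgroup.centralizer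
      ({h} : Set (Subgroup.normalizer (D : Set G))))).factorization p) :
    resC D (Subgroup.normalizer (D : Set G)) (classInd (h : G)) = classInd h := by
  classical
  have hc := card_eq_of_sylow_in_normalizer D hD h hh hcard
  have hle : D ≤ Subgroup.centralizer ({(h : G)} : Set G) := by
    intro w hw
    rw [Subgroup.mem_centralizer_singleton_iff]
    rw [Subgroup.mem_centralizer_iff] at hh
    exact hh w hw
  obtain ⟨S, hS⟩ := exists_sylow_map_eq hle hc
  have key := ((Cfsg.Agent.S0916.result p D hD).1 (h : G) ⟨S, hS⟩).2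
  funext y
  unfold resC classInd
  by_cases hy : (y : G) ∈ Subgroup.centralizer (D : Set G)
  · rw [if_pos hy]
    by_cases hc1 : IsConj (h : G) (y : G)
    · rw [if_pos hc1, if_pos]
      obtain ⟨n, hn, hn'⟩ := key (h : G) (y : G) (IsConj.refl _) hc1 hh hy
      rw [isConj_iff]
      exact ⟨⟨n, hn⟩, Subtype.ext hn'⟩
    · rw [if_neg hc1, if_neg]
      intro hc2
      apply hc1
      obtain ⟨n, hn⟩ := isConj_iff.1 hc2
      rw [isConj_iff]
      exact ⟨(n : G), congrArg Subtype.val hn⟩
  · rw [if_neg hy, if_neg]
    intro hc2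
    apply hy
    obtain ⟨n, hn⟩ := isConj_iff.1 hc2
    rw [← hn]
    exact centralizer_conj_mem_of_mem_normalizer n.2 hh

variable [Fintype (Subgroup.normalizer (D : Set G))]
  [Fintype (IrrCharacter G)] [Fintype (IrrCharacter (Subgroup.normalizer (D : Set G)))]

/-- **Key lemma for the first main theorem**: under the Sylow condition, the central characters
of Brauer correspondents agree at `h`. -/
theorem centralChar_cong_of_induced (hM : IsPModular p M) (hD : IsPGroup p D)
    {b : Set (IrrCharacter (Subgroup.normalizer (D : Set G)))} {B : Set (IrrCharacter G)}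
    (hind : IsInducedBlock M (Subgroup.normalizer (D : Set G)) b B)
    {ξ : IrrCharacter (Subgroup.normalizer (D : Set G))} (hξ : ξ ∈ b)
    {χ : IrrCharacter G} (hχ : χ ∈ B)
    (h : Subgroup.normalizer (D : Set G))
    (hh : (h : G) ∈ Subgroup.centralizer (D : Set G))
    (hcard : Nat.card D = p ^ (Nat.card (Subgroup.centralizer
      ({h} : Set (Subgroup.normalizer (D : Set G))))).factorization p) :
    MemLocalIdeal M (centralChar (ξ : Subgroup.normalizer (D : Set G) → ℂ) h -
      centralChar (χ : G → ℂ) (h : G)) := by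
  haveI hMp : M.IsPrime := hM.2.1.isPrime
  haveI : Fact p.Prime := ⟨hM.1⟩
  rw [← omega_classInd ξ h, ← resC_classInd D hD h hh hcard]
  have h1 := induced_cong_brauer D (Subgroup.normalizer (D : Set G)) hM hD Subgroup.le_normalizer
    le_rfl ξ (isClassFunction_classInd (h : G)) (fun x => memLocalRing_classInd (h : G) x)
  have h2 := hind.2.2 ξ hξ χ hχ (h : G)
  rw [inducedCentralChar_eq_omega] at h2
  exact cong_trans (cong_symm h1) h2

end KeyLemma

section Aux

variable {G : Type u} [Group G] [Finite G] {p : ℕ}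

theorem card_le_of_subConj {Q D : Subgroup G} (h : SubConj Q D) : Nat.card Q ≤ Nat.card D := by
  obtain ⟨c, hc⟩ := h
  have hle : Q.map (MulAut.conj c).toMonoidHom ≤ D := by
    rintro _ ⟨q, hq, rfl⟩
    simp only [MulEquiv.coe_toMonoidHom, MulAut.conj_apply]
    exact hc q hq
  have := Subgroup.card_le_of_le hle
  rwa [Subgroup.card_map_of_injective (MulAut.conj c).injective] at this

/-- a `p`-subgroup of `C` has order at most that of a Sylow `p`-subgroup -/
theorem card_le_pow_factorization (hp : p.Prime) {Q C : Subgroup G} (hQ : IsPGroup p Q)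
    (hQC : Q ≤ C) : Nat.card Q ≤ p ^ (Nat.card C).factorization p := by
  haveI : Fact p.Prime := ⟨hp⟩
  obtain ⟨k, hk⟩ := hQ.exists_card_eq
  have hdvd : Nat.card Q ∣ Nat.card C := Subgroup.card_dvd_of_le hQC
  rw [hk] at hdvd ⊢
  have hC0 : Nat.card C ≠ 0 := Nat.card_pos.ne'
  exact Nat.pow_le_pow_right hp.pos ((hp.pow_dvd_iff_le_factorization hC0).1 hdvd)

/-- a subgroup between a Sylow-order subgroup and the ambient group has the same `p`-part -/
theorem factorization_card_eq_of_le (hp : p.Prime) {D K C : Subgroup G} (hDK : D ≤ K)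
    (hKC : K ≤ C) (hc : Nat.card D = p ^ (Nat.card C).factorization p) :
    (Nat.card K).factorization p = (Nat.card C).factorization p := by
  have hC0 : Nat.card C ≠ 0 := Nat.card_pos.ne'
  have hK0 : Nat.card K ≠ 0 := Nat.card_pos.ne'
  apply le_antisymm
  · exact (Nat.factorization_le_iff_dvd hK0 hC0).2 (Subgroup.card_dvd_of_le hKC) p
  · have hdvd : Nat.card D ∣ Nat.card K := Subgroup.card_dvd_of_le hDK
    rw [hc] at hdvd
    exact (hp.pow_dvd_iff_le_factorization hK0).1 hdvd

end Aux

section BlockCoeff

variable {G : Type u} [Group G] [Fintype G] [Fintype (IrrCharacter G)]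

theorem isClassFunction_blockCoeff (B : Set (IrrCharacter G)) :
    IsClassFunction G (blockCoeff B) := fun g x => blockCoeff_conj B g x

open Classical in
theorem omega_blockCoeff (χ : IrrCharacter G) (B : Set (IrrCharacter G)) :
    omega (χ : G → ℂ) (blockCoeff B) = if χ ∈ B then 1 else 0 := by
  have : blockCoeff B = synth (fun ψ : IrrCharacter G => if ψ ∈ B then (1 : ℂ) else 0) := by
    funext g
    exact blockCoeff_eq_synth B g
  rw [this, omega_synth]

end BlockCoeff

section FirstMain

variable {G : Type u} [Group G] [Fintype G] {M : Ideal AlgInt} {p : ℕ} (D : Subgroup G)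
  [Fintype (Subgroup.normalizer (D : Set G))]
  [Fintype (IrrCharacter G)] [Fintype (IrrCharacter (Subgroup.normalizer (D : Set G)))]

theorem card_subgroupOf_normalizer :
    Nat.card (D.subgroupOf (Subgroup.normalizer (D : Set G))) = Nat.card D :=
  Nat.card_congr (Subgroup.subgroupOfEquivOfLe Subgroup.le_normalizer).toEquiv

theorem mem_centralizer_of_subgroupOf_le {h : Subgroup.normalizer (D : Set G)}
    (hle : D.subgroupOf (Subgroup.normalizer (D : Set G)) ≤
      Subgroup.centralizer ({h} : Set (Subgroup.normalizer (D : Set G)))) :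
    (h : G) ∈ Subgroup.centralizer (D : Set G) := by
  rw [Subgroup.mem_centralizer_iff]
  intro w hw
  have h1 : (⟨w, Subgroup.le_normalizer hw⟩ : Subgroup.normalizer (D : Set G)) ∈
      D.subgroupOf (Subgroup.normalizer (D : Set G)) := by
    rw [Subgroup.mem_subgroupOf]
    exact hw
  have h2 := hle h1
  rw [Subgroup.mem_centralizer_singleton_iff] at h2
  have h3 := congrArg Subtype.val h2
  push_cast at h3
  exact h3

/-- **First main theorem, forward direction**: the Brauer correspondent of a block of `N_G(D)`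
with defect group `D` has defect group `D`. -/
theorem firstMain_forward (hM : IsPModular p M) (hD : IsPGroup p D)
    {b : Set (IrrCharacter (Subgroup.normalizer (D : Set G)))} (hb : IsPBlock M b)
    (hDb : IsDefectGroup p M b (D.subgroupOf (Subgroup.normalizer (D : Set G))))
    {B : Set (IrrCharacter G)} (hB : IsPBlock M B)
    (hind : IsInducedBlock M (Subgroup.normalizer (D : Set G)) b B) :
    IsDefectGroup p M B D := by
  classical
  haveI hMp : M.IsPrime := hM.2.1.isPrime
  haveI : Fact p.Prime := ⟨hM.1⟩
  obtain ⟨ξ, hξ⟩ := block_nonempty hM hb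
  obtain ⟨χ, hχ⟩ := block_nonempty hM hB
  obtain ⟨g', hg', hle, hc⟩ := (isDefectGroup_iff hM hb).1 hDb
  rw [card_subgroupOf_normalizer, blockDefect_eq_of_isDefectClass hM hb hg'] at hc
  have hh := mem_centralizer_of_subgroupOf_le D hle
  have hK := centralChar_cong_of_induced D hM hD hind hξ hχ g' hh hc
  have h1 : ¬ MemLocalIdeal M (centralChar (χ : G → ℂ) (g' : G)) :=
    not_memLocalIdeal_of_cong (cong_symm hK) (hg'.2.2 ξ hξ)
  have h2 := blockDefect_le_of_centralChar hM hB ⟨χ, hχ, h1⟩
  have hcG := card_eq_of_sylow_in_normalizer D hD g' hh hc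
  -- a point of the support of `e_B` centralizing `D`
  have ha := isClassFunction_blockCoeff B
  have haR : ∀ g, MemLocalRing M (blockCoeff B g) := memLocalRing_blockCoeff hMp hB
  have h3 := IsInducedBlock.omega_cong (Subgroup.normalizer (D : Set G)) hind hξ hχ ha haR
  rw [omega_blockCoeff, if_pos hχ] at h3
  have h4 := induced_cong_brauer D (Subgroup.normalizer (D : Set G)) hM hD Subgroup.le_normalizer
    le_rfl ξ ha haR
  have h5 : ¬ MemLocalIdeal M (omega (ξ : Subgroup.normalizer (D : Set G) → ℂ)
      (resC D (Subgroup.normalizer (D : Set G)) (blockCoeff B))) :=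
    not_memLocalIdeal_of_cong (cong_symm (cong_trans (cong_symm h3) h4)) not_memLocalIdeal_one
  obtain ⟨h, hh1, -⟩ := exists_of_not_memLocalIdeal_omega ξ
    (isClassFunction_resC D _ le_rfl ha) (by
      intro y
      unfold resC
      split_ifs
      · exact haR _
      · exact memLocalRing_zero ne_top) h5
  have hhC : (h : G) ∈ Subgroup.centralizer (D : Set G) := by
    by_contra hcon
    apply hh1
    unfold resC
    rw [if_neg hcon]
    exact memLocalIdeal_zero ne_top
  have hh2 : ¬ MemLocalIdeal M (blockCoeff B (h : G)) := by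
    intro hcon
    apply hh1
    unfold resC
    rw [if_pos hhC]
    exact hcon
  obtain ⟨D_B, hD_B⟩ := exists_isDefectGroup hM hB
  have hDle : D ≤ Subgroup.centralizer ({(h : G)} : Set G) := by
    intro w hw
    rw [Subgroup.mem_centralizer_singleton_iff]
    rw [Subgroup.mem_centralizer_iff] at hhC
    exact hhC w hw
  have h6 := subConj_of_blockCoeff hM hB hD_B hh2 hD hDle
  have h7 : Nat.card D_B ≤ Nat.card D := by
    rw [card_defectGroup hM hB hD_B, hcG]
    exact Nat.pow_le_pow_right hM.1.pos h2
  obtain ⟨c, hc'⟩ := map_conj_eq_of_subConj h6 h7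
  have h8 := isDefectGroup_conj hM hB hD_B c⁻¹
  have h9 : D_B.map (MulAut.conj c⁻¹).toMonoidHom = D := by
    rw [← hc', Subgroup.map_map]
    ext y
    simp only [Subgroup.mem_map, MonoidHom.coe_comp, MulEquiv.coe_toMonoidHom,
      Function.comp_apply, MulAut.conj_apply, inv_inv]
    constructor
    · rintro ⟨x, hx, rfl⟩
      have : c⁻¹ * (c * x * c⁻¹) * c = x := by group
      rw [this]
      exact hx
    · intro hy
      exact ⟨y, hy, by group⟩
  rwa [h9] at h8

/-- **First main theorem, existence**: a block of `G` with defect group `D` is induced from a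
block of `N_G(D)` with defect group `D`. -/
theorem firstMain_exists (hM : IsPModular p M) (hD : IsPGroup p D)
    {B : Set (IrrCharacter G)} (hB : IsPBlock M B) (hDB : IsDefectGroup p M B D) :
    ∃ b : Set (IrrCharacter (Subgroup.normalizer (D : Set G))), IsPBlock M b ∧
      IsDefectGroup p M b (D.subgroupOf (Subgroup.normalizer (D : Set G))) ∧
      IsInducedBlock M (Subgroup.normalizer (D : Set G)) b B := by
  classical
  haveI hMp : M.IsPrime := hM.2.1.isPrime
  haveI : Fact p.Prime := ⟨hM.1⟩
  obtain ⟨g, hg, hle, hc⟩ := (isDefectGroup_iff hM hB).1 hDB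
  rw [blockDefect_eq_of_isDefectClass hM hB hg] at hc
  have hgC : g ∈ Subgroup.centralizer (D : Set G) := by
    rw [Subgroup.mem_centralizer_iff]
    intro w hw
    have := hle hw
    rw [Subgroup.mem_centralizer_singleton_iff] at this
    exact this
  have hgN : g ∈ Subgroup.normalizer (D : Set G) := Subgroup.centralizer_le_normalizer _ hgC
  have ha := isClassFunction_blockCoeff B
  have haR : ∀ g, MemLocalRing M (blockCoeff B g) := memLocalRing_blockCoeff hMp hB
  set u : Subgroup.normalizer (D : Set G) → ℂ :=
    resC D (Subgroup.normalizer (D : Set G)) (blockCoeff B) with hu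
  have hucf : IsClassFunction (Subgroup.normalizer (D : Set G)) u :=
    isClassFunction_resC D _ le_rfl ha
  have huR : ∀ y, MemLocalRing M (u y) := by
    intro y
    rw [hu]
    unfold resC
    split_ifs
    · exact haR _
    · exact memLocalRing_zero ne_top
  have hidem : ∀ y, MemLocalIdeal M (conv u u y - u y) := by
    intro y
    have h1 := resC_conv_cong D (Subgroup.normalizer (D : Set G)) hM hD
      (Subgroup.centralizer_le_normalizer _) ha ha haR haR y
    rw [conv_blockCoeff hB hB, if_pos rfl] at h1
    exact cong_symm h1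
  have hug : ¬ MemLocalIdeal M (u ⟨g, hgN⟩) := by
    rw [hu]
    unfold resC
    rw [if_pos hgC]
    exact hg.2.1
  -- a character of `N` not vanishing at `u`
  have hex : ∃ ξ₁ : IrrCharacter (Subgroup.normalizer (D : Set G)),
      ¬ MemLocalIdeal M (omega (ξ₁ : Subgroup.normalizer (D : Set G) → ℂ) u) := by
    by_contra hcon
    push Not at hcon
    exact hug (null_of_idem_of_omega hucf huR hidem hcon _)
  obtain ⟨ξ₁, hξ₁⟩ := hex
  obtain ⟨χ', hχ'⟩ := exists_irr_induced D (Subgroup.normalizer (D : Set G)) hM hD
    Subgroup.le_normalizer (Subgroup.centralizer_le_normalizer _) le_rfl ξ₁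
  have h1 := hχ' _ ha haR
  have h2 := induced_cong_brauer D (Subgroup.normalizer (D : Set G)) hM hD Subgroup.le_normalizer
    le_rfl ξ₁ ha haR
  have h3 : ¬ MemLocalIdeal M (omega (χ' : G → ℂ) (blockCoeff B)) :=
    not_memLocalIdeal_of_cong (cong_trans (cong_symm h1) h2) hξ₁
  have hχ'B : χ' ∈ B := by
    by_contra hcon
    apply h3
    rw [omega_blockCoeff, if_neg hcon]
    exact memLocalIdeal_zero ne_top
  have hBeq : blockOf M (χ' : G → ℂ) = B := isPBlock_eq_of_mem ⟨χ', rfl⟩ hB (mem_blockOf_self χ') hχ'B
  have hb : IsPBlock M (blockOf M (ξ₁ : Subgroup.normalizer (D : Set G) → ℂ)) := ⟨ξ₁, rfl⟩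
  have hind : IsInducedBlock M (Subgroup.normalizer (D : Set G))
      (blockOf M (ξ₁ : Subgroup.normalizer (D : Set G) → ℂ)) B := by
    rw [← hBeq]
    apply isInducedBlock_of_forall
    intro x
    exact hχ' _ (isClassFunction_classInd x) (fun y => memLocalRing_classInd x y)
  refine ⟨_, hb, ?_, hind⟩
  -- the defect group
  have hξ₁b : ξ₁ ∈ blockOf M (ξ₁ : Subgroup.normalizer (D : Set G) → ℂ) := mem_blockOf_self ξ₁
  haveI hN : (D.subgroupOf (Subgroup.normalizer (D : Set G))).Normal :=
    Subgroup.normal_subgroupOf_of_le_normalizer le_rfl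
  have hD'p : IsPGroup p (D.subgroupOf (Subgroup.normalizer (D : Set G))) := hD.comap_subtype
  obtain ⟨D_b, hD_b⟩ := exists_isDefectGroup hM hb
  have hcb := card_defectGroup hM hb hD_b
  have hD'le : D.subgroupOf (Subgroup.normalizer (D : Set G)) ≤ D_b := by
    obtain ⟨g_b, hg_b, P, rfl⟩ := hD_b
    exact normal_pgroup_le_defectGroup hM hb _ hD'p hg_b P
  -- the Sylow condition at `g`
  have hcN : Nat.card D = p ^ (Nat.card (Subgroup.centralizer
      ({(⟨g, hgN⟩ : Subgroup.normalizer (D : Set G))} :
        Set (Subgroup.normalizer (D : Set G))))).factorization p := by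
    rw [card_centralizer_subgroup]
    have hDK : D ≤ Subgroup.centralizer ({g} : Set G) ⊓ Subgroup.normalizer (D : Set G) :=
      le_inf hle Subgroup.le_normalizer
    rw [factorization_card_eq_of_le hM.1 hDK inf_le_left hc]
    exact hc
  have hK := centralChar_cong_of_induced D hM hD hind hξ₁b hχ'B ⟨g, hgN⟩ hgC hcN
  have h4 : ¬ MemLocalIdeal M (centralChar (ξ₁ : Subgroup.normalizer (D : Set G) → ℂ) ⟨g, hgN⟩) :=
    not_memLocalIdeal_of_cong hK (hg.2.2 χ' hχ'B)
  have h5 := blockDefect_le_of_centralChar hM hb ⟨ξ₁, hξ₁b, h4⟩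
  have h6 : Nat.card D_b ≤ Nat.card (D.subgroupOf (Subgroup.normalizer (D : Set G))) := by
    rw [hcb, card_subgroupOf_normalizer, hcN]
    exact Nat.pow_le_pow_right hM.1.pos h5
  have h7 := Subgroup.eq_of_le_of_card_ge hD'le h6
  rw [h7]
  exact hD_b

/-- **First main theorem, uniqueness**. -/
theorem firstMain_unique (hM : IsPModular p M) (hD : IsPGroup p D)
    {B : Set (IrrCharacter G)}
    {b₁ b₂ : Set (IrrCharacter (Subgroup.normalizer (D : Set G)))}
    (hb₁ : IsPBlock M b₁) (hb₂ : IsPBlock M b₂)
    (hD₁ : IsDefectGroup p M b₁ (D.subgroupOf (Subgroup.normalizer (D : Set G))))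
    (hD₂ : IsDefectGroup p M b₂ (D.subgroupOf (Subgroup.normalizer (D : Set G))))
    (hind₁ : IsInducedBlock M (Subgroup.normalizer (D : Set G)) b₁ B)
    (hind₂ : IsInducedBlock M (Subgroup.normalizer (D : Set G)) b₂ B) : b₁ = b₂ := by
  classical
  haveI hMp : M.IsPrime := hM.2.1.isPrime
  haveI : Fact p.Prime := ⟨hM.1⟩
  haveI : Fintype (ConjClasses (Subgroup.normalizer (D : Set G))) := Fintype.ofFinite _
  have hB : IsPBlock M B := hind₁.2.1
  obtain ⟨ξ₁, hξ₁⟩ := block_nonempty hM hb₁
  obtain ⟨ξ₂, hξ₂⟩ := block_nonempty hM hb₂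
  obtain ⟨χ, hχ⟩ := block_nonempty hM hB
  haveI hN : (D.subgroupOf (Subgroup.normalizer (D : Set G))).Normal :=
    Subgroup.normal_subgroupOf_of_le_normalizer le_rfl
  have hD'p : IsPGroup p (D.subgroupOf (Subgroup.normalizer (D : Set G))) := hD.comap_subtype
  have ha := isClassFunction_blockCoeff b₂
  have haR : ∀ g, MemLocalRing M (blockCoeff b₂ g) := memLocalRing_blockCoeff hMp hb₂
  have key : MemLocalIdeal M (omega (ξ₁ : Subgroup.normalizer (D : Set G) → ℂ) (blockCoeff b₂) -
      omega (ξ₂ : Subgroup.normalizer (D : Set G) → ℂ) (blockCoeff b₂)) := by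
    rw [omega_eq_sum_classes (isClassFunction_of_isIrrCharacter ξ₁.2) ha,
      omega_eq_sum_classes (isClassFunction_of_isIrrCharacter ξ₂.2) ha, ← Finset.sum_sub_distrib]
    apply memLocalIdeal_sum
    intro K _
    rw [← mul_sub]
    set h : Subgroup.normalizer (D : Set G) := Quotient.out K with hh
    by_cases hcoef : MemLocalIdeal M (blockCoeff b₂ h)
    · exact memLocalIdeal_mul_right hcoef
        (memLocalRing_sub (memLocalRing_centralChar ξ₁ _) (memLocalRing_centralChar ξ₂ _))
    · apply memLocalIdeal_mul_left (haR _)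
      -- `h` centralizes `D`
      have hhC' : h ∈ Subgroup.centralizer
          ((D.subgroupOf (Subgroup.normalizer (D : Set G)) :
            Subgroup (Subgroup.normalizer (D : Set G))) : Set (Subgroup.normalizer (D : Set G))) := by
        by_contra hcon
        apply hcoef
        rw [blockCoeff_eq_zero_of_not_mem_centralizer hM hb₂ _ hD'p hcon]
        exact memLocalIdeal_zero ne_top
      have hle : D.subgroupOf (Subgroup.normalizer (D : Set G)) ≤
          Subgroup.centralizer ({h} : Set (Subgroup.normalizer (D : Set G))) := by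
        intro w hw
        rw [Subgroup.mem_centralizer_singleton_iff]
        rw [Subgroup.mem_centralizer_iff] at hhC'
        exact hhC' w hw
      have hhC := mem_centralizer_of_subgroupOf_le D hle
      -- the Sylow condition
      obtain ⟨Q⟩ : Nonempty (Sylow p (Subgroup.centralizer
        ({h} : Set (Subgroup.normalizer (D : Set G))))) := inferInstance
      have hQle : (Q : Subgroup (Subgroup.centralizer
          ({h} : Set (Subgroup.normalizer (D : Set G))))).map
          (Subgroup.centralizer ({h} : Set (Subgroup.normalizer (D : Set G)))).subtype ≤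
          Subgroup.centralizer ({h} : Set (Subgroup.normalizer (D : Set G))) := by
        rintro _ ⟨y, -, rfl⟩
        exact y.2
      have h1 := card_le_of_subConj
        (subConj_of_blockCoeff hM hb₂ hD₂ hcoef (Q.2.map _) hQle)
      rw [card_sylow_map_centralizer, card_subgroupOf_normalizer] at h1
      have h2 := card_le_pow_factorization hM.1 hD'p hle
      rw [card_subgroupOf_normalizer] at h2
      have hcard := le_antisymm h2 h1
      have hK₁ := centralChar_cong_of_induced D hM hD hind₁ hξ₁ hχ h hhC hcard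
      have hK₂ := centralChar_cong_of_induced D hM hD hind₂ hξ₂ hχ h hhC hcard
      exact cong_trans hK₁ (cong_symm hK₂)
  rw [omega_blockCoeff, omega_blockCoeff, if_pos hξ₂] at key
  have hξ₁b₂ : ξ₁ ∈ b₂ := by
    by_contra hcon
    rw [if_neg hcon, zero_sub] at key
    have := memLocalIdeal_neg key
    rw [neg_neg] at this
    exact not_memLocalIdeal_one this
  exact isPBlock_eq_of_mem hb₁ hb₂ hξ₁ hξ₁b₂

end FirstMain

end Cfsg.Agent.Helper23.Blk
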