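import Mathlib
import Cfsg.Prelude.Def_Characters
import Cfsg.Prelude.Def_Blocks
import Cfsg.Agent.Lib.Helper24.CharBasic
import Cfsg.Agent.Lib.Helper24.CharInduced
import Cfsg.Agent.Lib.Helper24.CharOrtho
import Cfsg.Agent.Lib.Helper8.Clifford2
import Cfsg.Agent.Lib.Helper23.ClassConst

/-!
# Congruences of character values modulo `p` and separation of `p`-regular classes
(helper23's shared library)

* `exists_sum_pow_prime_pow_eq`: `(∑ f i)^(p^n) = ∑ (f i)^(p^n) + p * r` in a commutative ring.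
* `frobenius_congr`: `χ(g)^(p^a) - χ(g^(p^a)) ∈ p * AlgInt` for a character `χ`.
* `isConj_of_pRegular_of_congr`: two `p`-regular elements whose irreducible character values
  are all congruent modulo `p * AlgInt` are conjugate.
-/

set_option autoImplicit false

namespace Cfsg.Agent.Helper23

open Cfsg Cfsg.Agent.Helper24 Cfsg.Agent.Helper8

theorem exists_sum_pow_prime_pow_eq {R : Type*} [CommRing R] {p : ℕ} (hp : p.Prime) (n : ℕ)
    {ι : Type*} (s : Finset ι) (f : ι → R) :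
    ∃ r : R, (∑ i ∈ s, f i) ^ p ^ n = ∑ i ∈ s, f i ^ p ^ n + (p : R) * r := by
  classical
  induction s using Finset.induction_on with
  | empty =>
    refine ⟨0, ?_⟩
    have : p ^ n ≠ 0 := (pow_pos hp.pos n).ne'
    simp [zero_pow this]
  | insert j s hj ih =>
    obtain ⟨r, hr⟩ := ih
    obtain ⟨r', hr'⟩ := exists_add_pow_prime_pow_eq hp (f j) (∑ i ∈ s, f i) n
    refine ⟨r + f j * (∑ i ∈ s, f i) * r', ?_⟩
    rw [Finset.sum_insert hj, Finset.sum_insert hj, hr', hr]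
    ring

/-- `χ(g)^(p^a) ≡ χ(g^(p^a))` modulo `p` in the ring of algebraic integers. -/
theorem frobenius_congr {G : Type*} [Group G] [Finite G] {p : ℕ} (hp : p.Prime) (a : ℕ)
    {χ : G → ℂ} (hχ : IsCharacter G χ) (g : G) :
    ∃ γ : AlgInt, χ g ^ p ^ a - χ (g ^ p ^ a) = (p : ℂ) * (γ : ℂ) := by
  obtain ⟨n, ρ, rfl⟩ := hχ
  obtain ⟨μ, hμ, hk, -⟩ := exists_roots_of_unity ρ g
  have hint : ∀ i, IsIntegral ℤ (μ i) := fun i =>
    IsIntegral.of_pow Nat.card_pos (by rw [hμ i]; exact isIntegral_one)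
  obtain ⟨r, hr⟩ := exists_sum_pow_prime_pow_eq hp a Finset.univ
    (fun i => (⟨μ i, hint i⟩ : AlgInt))
  refine ⟨r, ?_⟩
  have h1 := hk 1
  simp only [pow_one] at h1
  rw [h1, hk (p ^ a)]
  have h2 := congrArg (fun z : AlgInt => (z : ℂ)) hr
  push_cast at h2
  rw [h2]
  ring

/-- A `p`-element `z` commuting with a `p`-regular element `u` such that `u * z` is `p`-regular
is trivial. -/
theorem eq_one_of_pRegular_mul {G : Type*} [Group G] {p : ℕ} (hp : p.Prime) {u z : G}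
    (hcomm : Commute u z) (hu : ¬ p ∣ orderOf u) {k : ℕ} (hz : orderOf z = p ^ k)
    (huz : ¬ p ∣ orderOf (u * z)) : z = 1 := by
  have hcop : Nat.Coprime (orderOf u) (orderOf z) := by
    rw [hz]
    exact Nat.Coprime.pow_right k ((Nat.Prime.coprime_iff_not_dvd hp).2 hu).symm
  have h1 := hcomm.orderOf_mul_eq_mul_orderOf_of_coprime hcop
  rw [h1, hz] at huz
  cases k with
  | zero =>
    rw [pow_zero] at hz
    exact orderOf_eq_one_iff.1 hz
  | succ k =>
    exfalso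
    apply huz
    exact Dvd.dvd.mul_left (dvd_pow_self p (Nat.succ_ne_zero k)) _

/-- If all irreducible character values at `u` and `v` are congruent modulo `p`, so are the
values of all characters. -/
theorem congr_of_isCharacter {G : Type*} [Group G] [Finite G] {p : ℕ} {u v : G}
    (h : ∀ χ : IrrCharacter G, ∃ γ : AlgInt, (χ : G → ℂ) u - (χ : G → ℂ) v = (p : ℂ) * (γ : ℂ))
    {φ : G → ℂ} (hφ : IsCharacter G φ) :
    ∃ γ : AlgInt, φ u - φ v = (p : ℂ) * (γ : ℂ) := by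
  classical
  haveI : Fintype G := Fintype.ofFinite G
  letI : Fintype (IrrCharacter G) := irrFintype
  obtain ⟨hm, hdec⟩ := isCharacter_decomp hφ
  choose m hm using hm
  choose γ hγ using h
  refine ⟨∑ χ : IrrCharacter G, (m χ : AlgInt) * γ χ, ?_⟩
  have hu : ∀ w : G, φ w = ∑ χ : IrrCharacter G, (m χ : ℂ) * (χ : G → ℂ) w := by
    intro w
    conv_lhs => rw [hdec]
    rw [Finset.sum_apply]
    apply Finset.sum_congr rfl
    intro χ _
    rw [Pi.smul_apply, hm χ, smul_eq_mul]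
  rw [hu u, hu v, ← Finset.sum_sub_distrib]
  push_cast
  rw [Finset.mul_sum]
  apply Finset.sum_congr rfl
  intro χ _
  rw [← mul_sub, hγ χ]
  ring

section Elem

variable {G : Type*} [Group G]

/-- The subgroup `P * ⟨u⟩` for an element `u` centralizing the subgroup `P`. -/
def elemSubgroup (P : Subgroup G) (u : G) (hu : ∀ z ∈ P, Commute z u) : Subgroup G where
  carrier := {g | ∃ z ∈ P, ∃ k : ℤ, g = z * u ^ k}
  mul_mem' := by
    rintro _ _ ⟨z, hz, k, rfl⟩ ⟨z', hz', k', rfl⟩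
    refine ⟨z * z', P.mul_mem hz hz', k + k', ?_⟩
    have hc : Commute (u ^ k) z' := ((hu z' hz').zpow_right k).symm
    calc z * u ^ k * (z' * u ^ k') = z * (u ^ k * z') * u ^ k' := by group
      _ = z * (z' * u ^ k) * u ^ k' := by rw [hc.eq]
      _ = z * z' * u ^ (k + k') := by rw [zpow_add]; group
  one_mem' := ⟨1, P.one_mem, 0, by simp⟩
  inv_mem' := by
    rintro _ ⟨z, hz, k, rfl⟩
    refine ⟨z⁻¹, P.inv_mem hz, -k, ?_⟩
    have hc : Commute (u ^ (-k)) z⁻¹ := (((hu z hz).zpow_right (-k)).symm).inv_right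
    rw [mul_inv_rev, ← zpow_neg, hc.eq]

theorem mem_elemSubgroup {P : Subgroup G} {u : G} {hu : ∀ z ∈ P, Commute z u} {g : G} :
    g ∈ elemSubgroup P u hu ↔ ∃ z ∈ P, ∃ k : ℤ, g = z * u ^ k := Iff.rfl

theorem le_elemSubgroup (P : Subgroup G) (u : G) (hu : ∀ z ∈ P, Commute z u) :
    P ≤ elemSubgroup P u hu := fun z hz => ⟨z, hz, 0, by simp⟩

theorem self_mem_elemSubgroup (P : Subgroup G) (u : G) (hu : ∀ z ∈ P, Commute z u) :
    u ∈ elemSubgroup P u hu := ⟨1, P.one_mem, 1, by simp⟩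

theorem commute_of_mem_elemSubgroup {P : Subgroup G} {u : G} {hu : ∀ z ∈ P, Commute z u} {g : G}
    (hg : g ∈ elemSubgroup P u hu) : Commute g u := by
  obtain ⟨z, hz, k, rfl⟩ := hg
  exact (hu z hz).mul_left ((Commute.refl u).zpow_left k)

theorem normal_subgroupOf_elemSubgroup (P : Subgroup G) (u : G) (hu : ∀ z ∈ P, Commute z u) :
    (P.subgroupOf (elemSubgroup P u hu)).Normal := by
  rw [Subgroup.normal_subgroupOf_iff_le_normalizer (le_elemSubgroup P u hu)]
  rintro _ ⟨z, hz, k, rfl⟩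
  apply Subgroup.mul_mem _ (Subgroup.le_normalizer hz)
  apply Subgroup.zpow_mem
  rw [Subgroup.mem_normalizer_iff]
  intro n
  constructor
  · intro hn
    have : u * n * u⁻¹ = n := by
      rw [← (hu n hn).eq, mul_assoc, mul_inv_cancel, mul_one]
    rwa [this]
  · intro hn
    have h1 : u * (u * n * u⁻¹) = (u * n * u⁻¹) * u := ((hu _ hn).eq).symm
    have : n = u * n * u⁻¹ := by
      have h2 : u * n = u * n * u⁻¹ * u := by
        rw [inv_mul_cancel_right]
      rw [← h1] at h2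
      have h3 := mul_left_cancel h2
      have : u * n * u⁻¹ = u * n * u⁻¹ := rfl
      calc n = u⁻¹ * (u * n) := by group
        _ = u⁻¹ * (u * (u * n * u⁻¹)) := by rw [← h3]
        _ = u * n * u⁻¹ := by group
    rwa [this]

theorem commutator_mem_of_elemSubgroup (P : Subgroup G) (u : G) (hu : ∀ z ∈ P, Commute z u)
    (x y : elemSubgroup P u hu) : x * y * x⁻¹ * y⁻¹ ∈ P.subgroupOf (elemSubgroup P u hu) := by
  rw [Subgroup.mem_subgroupOf]
  obtain ⟨x, hx⟩ := x
  obtain ⟨y, hy⟩ := y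
  simp only [Subgroup.coe_mul, Subgroup.coe_inv]
  have hyu : Commute y u := commute_of_mem_elemSubgroup hy
  obtain ⟨z, hz, k, rfl⟩ := hx
  obtain ⟨z', hz', k', rfl⟩ := hy
  have h1 : Commute (u ^ k) (z' * u ^ k') := (hyu.zpow_right k).symm
  have h2 : Commute (u ^ k') z⁻¹ := ((hu z hz).zpow_right k').symm.inv_right
  have : z * u ^ k * (z' * u ^ k') * (z * u ^ k)⁻¹ * (z' * u ^ k')⁻¹ = z * z' * z⁻¹ * z'⁻¹ := by
    calc z * u ^ k * (z' * u ^ k') * (z * u ^ k)⁻¹ * (z' * u ^ k')⁻¹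
        = z * (u ^ k * (z' * u ^ k')) * (u ^ k)⁻¹ * z⁻¹ * (z' * u ^ k')⁻¹ := by group
      _ = z * ((z' * u ^ k') * u ^ k) * (u ^ k)⁻¹ * z⁻¹ * (z' * u ^ k')⁻¹ := by rw [h1.eq]
      _ = z * z' * (u ^ k' * z⁻¹) * (u ^ k')⁻¹ * z'⁻¹ := by group
      _ = z * z' * (z⁻¹ * u ^ k') * (u ^ k')⁻¹ * z'⁻¹ := by rw [h2.eq]
      _ = z * z' * z⁻¹ * z'⁻¹ := by group
  rw [this]
  exact P.mul_mem (P.mul_mem (P.mul_mem hz hz') (P.inv_mem hz)) (P.inv_mem hz')

end Elem

section Separation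

universe u

variable {G : Type u} [Group G] [Fintype G]

open Classical in
/-- The class function `∑_λ conj(λ(u)) • Ind_E^G λ`, for `λ` running over the linear characters
of `E ⧸ N` (abelian), evaluated explicitly. -/
theorem sum_conj_mul_indFun (E : Subgroup G) [Fintype E] (N : Subgroup E) [N.Normal]
    (hab : ∀ x y : E, x * y * x⁻¹ * y⁻¹ ∈ N) [Fintype ((E ⧸ N) →* ℂˣ)] (uE : E) (g : G) :
    ∑ lam : (E ⧸ N) →* ℂˣ,
        (((lam (QuotientGroup.mk uE))⁻¹ : ℂˣ) : ℂ) * indFun E (liftLin N lam) g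
      = (Nat.card E : ℂ)⁻¹ * ∑ t : G, (if h : t⁻¹ * g * t ∈ E then
          (if uE⁻¹ * ⟨t⁻¹ * g * t, h⟩ ∈ N then (N.index : ℂ) else 0) else 0) := by
  classical
  have h1 : ∀ lam : (E ⧸ N) →* ℂˣ,
      (((lam (QuotientGroup.mk uE))⁻¹ : ℂˣ) : ℂ) * indFun E (liftLin N lam) g =
      (Nat.card E : ℂ)⁻¹ * ∑ t : G, (((lam (QuotientGroup.mk uE))⁻¹ : ℂˣ) : ℂ) *
        extendByZero E (liftLin N lam) (t⁻¹ * g * t) := by
    intro lam
    unfold indFun
    rw [Finset.mul_sum, Finset.mul_sum, Finset.mul_sum]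
    apply Finset.sum_congr rfl
    intro t _
    ring
  rw [Finset.sum_congr rfl (fun lam _ => h1 lam), ← Finset.mul_sum, Finset.sum_comm]
  congr 1
  apply Finset.sum_congr rfl
  intro t _
  by_cases h : t⁻¹ * g * t ∈ E
  · rw [dif_pos h]
    have h2 : ∀ lam : (E ⧸ N) →* ℂˣ, (((lam (QuotientGroup.mk uE))⁻¹ : ℂˣ) : ℂ) *
        extendByZero E (liftLin N lam) (t⁻¹ * g * t) =
        liftLin N lam (uE⁻¹ * ⟨t⁻¹ * g * t, h⟩) := by
      intro lam
      rw [Helper24.extendByZero_of_mem E _ h]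
      unfold liftLin
      rw [QuotientGroup.mk_mul, map_mul, QuotientGroup.mk_inv, map_inv, Units.val_mul]
    rw [Finset.sum_congr rfl (fun lam _ => h2 lam)]
    exact sum_liftLin N hab _
  · rw [dif_neg h]
    apply Finset.sum_eq_zero
    intro lam _
    rw [Helper24.extendByZero_of_not_mem E _ h, mul_zero]

theorem separation_aux2 {p : ℕ} (hp : p.Prime) {u v : G}
    (hu : ¬ p ∣ orderOf u) (hv : ¬ p ∣ orderOf v)
    (h : ∀ χ : IrrCharacter G, ∃ γ : AlgInt, (χ : G → ℂ) u - (χ : G → ℂ) v = (p : ℂ) * (γ : ℂ))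
    (hnc : ¬ IsConj u v) (P E : Subgroup G)
    (hPC : P ≤ Subgroup.centralizer ({u} : Set G)) (hPp : IsPGroup p P) (hPE : P ≤ E)
    (huE : u ∈ E) [(P.subgroupOf E).Normal]
    (hab : ∀ x y : E, x * y * x⁻¹ * y⁻¹ ∈ P.subgroupOf E) :
    ∃ γ : AlgInt, (γ : ℂ) * ((p * Nat.card P : ℕ) : ℂ) =
      (Nat.card (Subgroup.centralizer ({u} : Set G)) : ℂ) := by
  classical
  haveI : Fact p.Prime := ⟨hp⟩
  haveI : Fintype E := Fintype.ofFinite E
  haveI : Finite ((E ⧸ P.subgroupOf E) →* ℂˣ) := finite_hom (quotient_comm _ hab)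
  haveI : Fintype ((E ⧸ P.subgroupOf E) →* ℂˣ) := Fintype.ofFinite _
  -- the key group-theoretic fact
  have key : ∀ g : G, ¬ p ∣ orderOf g → ∀ t : G, ∀ hE : t⁻¹ * g * t ∈ E,
      (⟨u, huE⟩ : E)⁻¹ * ⟨t⁻¹ * g * t, hE⟩ ∈ P.subgroupOf E → t⁻¹ * g * t = u := by
    intro g hg t hE hN
    rw [Subgroup.mem_subgroupOf] at hN
    have hz : u⁻¹ * (t⁻¹ * g * t) ∈ P := by simpa using hN
    have hw : t⁻¹ * g * t = u * (u⁻¹ * (t⁻¹ * g * t)) := by group
    have hcomm : Commute u (u⁻¹ * (t⁻¹ * g * t)) :=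
      (Subgroup.mem_centralizer_singleton_iff.1 (hPC hz)).symm
    obtain ⟨k, hk⟩ := (IsPGroup.iff_orderOf.1 hPp) ⟨_, hz⟩
    rw [← Subgroup.orderOf_coe] at hk
    have hord : orderOf (t⁻¹ * g * t) = orderOf g := by
      have := (MulAut.conj t⁻¹).orderOf_eq g
      rwa [MulAut.conj_apply, inv_inv] at this
    have hz1 : u⁻¹ * (t⁻¹ * g * t) = 1 :=
      eq_one_of_pRegular_mul hp hcomm hu hk (by rw [← hw, hord]; exact hg)
    rw [hw, hz1, mul_one]
  -- value at `v`
  have hΨv := sum_conj_mul_indFun E (P.subgroupOf E) hab ⟨u, huE⟩ v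
  have hv0 : ∑ t : G, (if hE : t⁻¹ * v * t ∈ E then
      (if (⟨u, huE⟩ : E)⁻¹ * ⟨t⁻¹ * v * t, hE⟩ ∈ P.subgroupOf E then
        ((P.subgroupOf E).index : ℂ) else 0) else 0) = 0 := by
    apply Finset.sum_eq_zero
    intro t _
    by_cases hE : t⁻¹ * v * t ∈ E
    · rw [dif_pos hE]
      by_cases hN : (⟨u, huE⟩ : E)⁻¹ * ⟨t⁻¹ * v * t, hE⟩ ∈ P.subgroupOf E
      · exfalso
        apply hnc
        have := key v hv t hE hN
        rw [isConj_iff]
        refine ⟨t, ?_⟩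
        rw [← this]
        group
      · rw [if_neg hN]
    · rw [dif_neg hE]
  rw [hv0, mul_zero] at hΨv
  -- value at `u`
  have hΨu := sum_conj_mul_indFun E (P.subgroupOf E) hab ⟨u, huE⟩ u
  have hu0 : ∑ t : G, (if hE : t⁻¹ * u * t ∈ E then
      (if (⟨u, huE⟩ : E)⁻¹ * ⟨t⁻¹ * u * t, hE⟩ ∈ P.subgroupOf E then
        ((P.subgroupOf E).index : ℂ) else 0) else 0) =
      (Nat.card (Subgroup.centralizer ({u} : Set G)) : ℂ) * ((P.subgroupOf E).index : ℂ) := by
    have h1 : ∀ t : G, (if hE : t⁻¹ * u * t ∈ E then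
      (if (⟨u, huE⟩ : E)⁻¹ * ⟨t⁻¹ * u * t, hE⟩ ∈ P.subgroupOf E then
        ((P.subgroupOf E).index : ℂ) else 0) else 0) =
        if t ∈ Subgroup.centralizer ({u} : Set G) then ((P.subgroupOf E).index : ℂ) else 0 := by
      intro t
      by_cases ht : t ∈ Subgroup.centralizer ({u} : Set G)
      · rw [if_pos ht]
        have htu : t⁻¹ * u * t = u := by
          have := Subgroup.mem_centralizer_singleton_iff.1 ht
          rw [mul_assoc, ← this, inv_mul_cancel_left]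
        have hE : t⁻¹ * u * t ∈ E := by rw [htu]; exact huE
        rw [dif_pos hE, if_pos]
        rw [Subgroup.mem_subgroupOf]
        simp only [Subgroup.coe_mul, Subgroup.coe_inv]
        rw [htu, inv_mul_cancel]
        exact P.one_mem
      · rw [if_neg ht]
        by_cases hE : t⁻¹ * u * t ∈ E
        · rw [dif_pos hE]
          by_cases hN : (⟨u, huE⟩ : E)⁻¹ * ⟨t⁻¹ * u * t, hE⟩ ∈ P.subgroupOf E
          · exfalso
            apply ht
            have := key u hu t hE hN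
            rw [Subgroup.mem_centralizer_singleton_iff]
            calc t * u = t * (t⁻¹ * u * t) := by rw [this]
              _ = u * t := by group
          · rw [if_neg hN]
        · rw [dif_neg hE]
    rw [Finset.sum_congr rfl (fun t _ => h1 t), ← Finset.sum_filter, Finset.sum_const,
      nsmul_eq_mul]
    congr 2
    rw [Nat.card_eq_fintype_card, Fintype.card_subtype]
  rw [hu0] at hΨu
  -- integrality
  have hchar : ∀ lam : (E ⧸ P.subgroupOf E) →* ℂˣ, ∃ γ : AlgInt,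
      indFun E (liftLin (P.subgroupOf E) lam) u - indFun E (liftLin (P.subgroupOf E) lam) v =
        (p : ℂ) * (γ : ℂ) := fun lam =>
    congr_of_isCharacter h (isCharacter_indFun E (liftLin_isCharacter _ lam))
  choose γ hγ using hchar
  have hcint : ∀ lam : (E ⧸ P.subgroupOf E) →* ℂˣ,
      IsIntegral ℤ ((((lam (QuotientGroup.mk ⟨u, huE⟩))⁻¹ : ℂˣ) : ℂ)) := by
    intro lam
    apply IsIntegral.of_pow (Nat.card_pos (α := E ⧸ P.subgroupOf E))
    rw [← Units.val_pow_eq_pow_val, inv_pow, ← map_pow, pow_card_eq_one', map_one, inv_one,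
      Units.val_one]
    exact isIntegral_one
  obtain ⟨Γ, hΓ⟩ : ∃ Γ : AlgInt, (Γ : ℂ) = ∑ lam : (E ⧸ P.subgroupOf E) →* ℂˣ,
      (((lam (QuotientGroup.mk ⟨u, huE⟩))⁻¹ : ℂˣ) : ℂ) * (γ lam : ℂ) :=
    ⟨∑ lam : (E ⧸ P.subgroupOf E) →* ℂˣ, (⟨_, hcint lam⟩ : AlgInt) * γ lam, by push_cast; rfl⟩
  refine ⟨Γ, ?_⟩
  have hsub : (Nat.card E : ℂ)⁻¹ * ((Nat.card (Subgroup.centralizer ({u} : Set G)) : ℂ) *
      ((P.subgroupOf E).index : ℂ)) = (p : ℂ) * (Γ : ℂ) := by
    rw [hΓ, ← hΨu, ← sub_zero (∑ lam : (E ⧸ P.subgroupOf E) →* ℂˣ, _), ← hΨv,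
      ← Finset.sum_sub_distrib, Finset.mul_sum]
    apply Finset.sum_congr rfl
    intro lam _
    rw [← mul_sub, hγ lam]
    ring
  have hcardE : (Nat.card E : ℂ) = (Nat.card P : ℂ) * ((P.subgroupOf E).index : ℂ) := by
    have h1 := Subgroup.card_mul_index (P.subgroupOf E)
    have h2 : Nat.card (P.subgroupOf E) = Nat.card P :=
      Nat.card_congr (Subgroup.subgroupOfEquivOfLe hPE).toEquiv
    rw [h2] at h1
    rw [← h1]
    push_cast
    ring
  have hidx : ((P.subgroupOf E).index : ℂ) ≠ 0 := by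
    have : (P.subgroupOf E).index ≠ 0 := Subgroup.index_ne_zero_of_finite
    exact_mod_cast this
  have hP0 : (Nat.card P : ℂ) ≠ 0 := by
    have : Nat.card P ≠ 0 := Nat.card_pos.ne'
    exact_mod_cast this
  rw [hcardE] at hsub
  push_cast
  rw [mul_comm (Γ : ℂ), mul_comm (p : ℂ) (Nat.card P : ℂ), mul_assoc, ← hsub]
  field_simp

theorem separation_aux1 {p : ℕ} (hp : p.Prime) {u v : G}
    (hu : ¬ p ∣ orderOf u) (hv : ¬ p ∣ orderOf v)
    (h : ∀ χ : IrrCharacter G, ∃ γ : AlgInt, (χ : G → ℂ) u - (χ : G → ℂ) v = (p : ℂ) * (γ : ℂ))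
    (hnc : ¬ IsConj u v) (P : Subgroup G)
    (hPC : P ≤ Subgroup.centralizer ({u} : Set G)) (hPp : IsPGroup p P) :
    ∃ γ : AlgInt, (γ : ℂ) * ((p * Nat.card P : ℕ) : ℂ) =
      (Nat.card (Subgroup.centralizer ({u} : Set G)) : ℂ) := by
  have hcomm : ∀ z ∈ P, Commute z u := fun z hz =>
    Subgroup.mem_centralizer_singleton_iff.1 (hPC hz)
  haveI := normal_subgroupOf_elemSubgroup P u hcomm
  exact separation_aux2 hp hu hv h hnc P (elemSubgroup P u hcomm) hPC hPp
    (le_elemSubgroup P u hcomm) (self_mem_elemSubgroup P u hcomm)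
    (commutator_mem_of_elemSubgroup P u hcomm)

end Separation

/-- Two `p`-regular elements of a finite group such that `χ(u) ≡ χ(v)` modulo `p` (in the ring of
algebraic integers) for every irreducible character `χ` are conjugate. -/
theorem isConj_of_pRegular_of_congr {G : Type*} [Group G] [Finite G] {p : ℕ} (hp : p.Prime)
    {u v : G} (hu : ¬ p ∣ orderOf u) (hv : ¬ p ∣ orderOf v)
    (h : ∀ χ : IrrCharacter G, ∃ γ : AlgInt, (χ : G → ℂ) u - (χ : G → ℂ) v = (p : ℂ) * (γ : ℂ)) :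
    IsConj u v := by
  classical
  by_contra hnc
  haveI : Fact p.Prime := ⟨hp⟩
  haveI : Fintype G := Fintype.ofFinite G
  obtain ⟨Pu⟩ : Nonempty (Sylow p (Subgroup.centralizer ({u} : Set G))) := inferInstance
  have hcard : Nat.card ((Pu : Subgroup _).map (Subgroup.centralizer ({u} : Set G)).subtype) =
      p ^ (Nat.card (Subgroup.centralizer ({u} : Set G))).factorization p := by
    rw [Subgroup.card_subtype]
    exact Pu.card_eq_multiplicity
  obtain ⟨γ, hγ⟩ := separation_aux1 hp hu hv h hnc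
    ((Pu : Subgroup _).map (Subgroup.centralizer ({u} : Set G)).subtype)
    (Subgroup.map_subtype_le _) (Pu.2.map _)
  have hne : p * Nat.card ((Pu : Subgroup _).map (Subgroup.centralizer ({u} : Set G)).subtype)
      ≠ 0 := Nat.mul_ne_zero hp.pos.ne' Nat.card_pos.ne'
  have hdvd := dvd_of_isIntegral_mul_eq' γ.2 hne hγ
  rw [hcard, ← pow_succ'] at hdvd
  exact Nat.pow_succ_factorization_not_dvd Nat.card_pos.ne' hp hdvd

end Cfsg.Agent.Helper23
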