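import Mathlib
import Cfsg.Agent.Lib.Helper23.BlockMinMax
import Cfsg.Agent.Lib.Helper23.PRegularClass

/-!
# The number of `p`-regular elements is prime to `p` (helper23's shared library)
-/

set_option autoImplicit false
set_option linter.unusedSectionVars false

namespace Cfsg.Agent.Helper23.Blk

open Cfsg Cfsg.Agent.Helper24

universe u

section Central

variable {G : Type u} [Group G] [Finite G] {p : ℕ}

/-- in a group with a central `p`-subgroup `Z` of index prime to `p`, the `p`-regular elements
form a transversal of `Z` -/
theorem card_pRegular_of_central (hp : p.Prime) (Z : Subgroup G) (hZc : Z ≤ Subgroup.center G)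
    (hZp : IsPGroup p Z) (hZi : ¬ p ∣ Z.index) :
    Nat.card {y : G // ¬ p ∣ orderOf y} = Z.index := by
  haveI : Fact p.Prime := ⟨hp⟩
  haveI hZn : Z.Normal := by
    refine ⟨fun z hz g => ?_⟩
    have := Subgroup.mem_center_iff.1 (hZc hz) g
    have e : g * z * g⁻¹ = z := by
      rw [this]; group
    rw [e]
    exact hz
  rw [Subgroup.index_eq_card]
  apply Nat.card_eq_of_bijective (fun y : {y : G // ¬ p ∣ orderOf y} => (QuotientGroup.mk y.1 : G ⧸ Z))
  constructor
  · rintro ⟨y₁, h₁⟩ ⟨y₂, h₂⟩ h
    simp only at h
    rw [QuotientGroup.eq] at h
    have hz := h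
    set z := y₁⁻¹ * y₂ with hzdef
    have hy₂ : y₂ = y₁ * z := by rw [hzdef]; group
    have hcomm : Commute y₁ z := by
      have := Subgroup.mem_center_iff.1 (hZc hz) y₁
      exact this
    obtain ⟨k, hk⟩ := hZp ⟨z, hz⟩
    have hk' : z ^ p ^ k = 1 := by
      have := congrArg Subtype.val hk
      simpa using this
    obtain ⟨j, -, hj⟩ := (Nat.dvd_prime_pow hp).1 (orderOf_dvd_of_pow_eq_one hk')
    have hz1 : z = 1 := by
      apply eq_one_of_pRegular_mul hp hcomm h₁ hj
      rw [← hy₂]
      exact h₂
    apply Subtype.ext
    simp only
    rw [hy₂, hz1, mul_one]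
  · intro q
    induction q using QuotientGroup.induction_on with
    | H x =>
      obtain ⟨k, hk⟩ := hZp.exists_card_eq
      have hcop : Nat.Coprime (p ^ k) (orderOf (QuotientGroup.mk x : G ⧸ Z)) := by
        apply Nat.Coprime.pow_left
        rw [Nat.Prime.coprime_iff_not_dvd hp]
        intro hd
        apply hZi
        rw [Subgroup.index_eq_card]
        exact hd.trans (orderOf_dvd_natCard _)
      obtain ⟨n, hn⟩ := exists_pow_eq_self_of_coprime hcop
      have hcard : Nat.card G = p ^ k * Z.index := by
        rw [← hk]
        exact (Subgroup.card_mul_index Z).symm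
      have hreg : ¬ p ∣ orderOf ((x ^ p ^ k) ^ n) := by
        intro hd
        apply hZi
        have h1 : ((x ^ p ^ k) ^ n) ^ Z.index = 1 := by
          rw [← pow_mul, ← pow_mul]
          have : p ^ k * (n * Z.index) = Nat.card G * n := by
            rw [hcard]; ring
          rw [this, pow_mul, pow_card_eq_one', one_pow]
        exact hd.trans (orderOf_dvd_of_pow_eq_one h1)
      refine ⟨⟨(x ^ p ^ k) ^ n, hreg⟩, ?_⟩
      simp only
      rw [QuotientGroup.mk_pow, QuotientGroup.mk_pow]
      exact hn

end Central

section Count

variable {M : Ideal AlgInt} {p : ℕ}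

open Classical in
/-- **The number of `p`-regular elements is not divisible by `p`**, in the form needed for
central characters. -/
theorem not_memLocalIdeal_sum_pRegular (hM : IsPModular p M) :
    ∀ (n : ℕ) (G : Type u) [Group G] [Fintype G], Nat.card G = n →
      ¬ MemLocalIdeal M (∑ x : G, if p ∣ orderOf x then (0 : ℂ) else 1) := by
  haveI hMp : M.IsPrime := hM.2.1.isPrime
  have hp : p.Prime := hM.1
  haveI : Fact p.Prime := ⟨hp⟩
  intro n
  induction n using Nat.strong_induction_on with
  | _ n ih =>
    intro G _ _ hn
    obtain ⟨P⟩ : Nonempty (Sylow p G) := inferInstance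
    set C : Subgroup G := Subgroup.centralizer ((P : Subgroup G) : Set G) with hC
    set f : G → ℂ := fun x => if p ∣ orderOf x then (0 : ℂ) else 1 with hf
    have hsplit : ∑ x : G, f x = (∑ x : G, if x ∈ C then f x else 0) +
        ∑ x : G, if x ∈ C then 0 else f x := by
      rw [← Finset.sum_add_distrib]
      apply Finset.sum_congr rfl
      intro x _
      split_ifs <;> simp
    have h2 : MemLocalIdeal M (∑ x : G, if x ∈ C then 0 else f x) := by
      by_contra hcon
      obtain ⟨x, hxfix, hx⟩ := exists_fixed_of_not_memLocalIdeal_sum hM (P : Subgroup G) P.2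
        (fun x => if x ∈ C then 0 else f x) (by
          intro q hq x
          have hqN : q ∈ Subgroup.normalizer (((P : Subgroup G)) : Set G) :=
            Subgroup.le_normalizer hq
          have h1 : q * x * q⁻¹ ∈ C ↔ x ∈ C := by
            rw [hC]
            constructor
            · intro h
              rw [Subgroup.mem_centralizer_iff] at h ⊢
              intro w hw
              have hw' : q * w * q⁻¹ ∈ (P : Subgroup G) :=
                Subgroup.mul_mem _ (Subgroup.mul_mem _ hq hw) (Subgroup.inv_mem _ hq)
              have := h _ hw'
              have e1 : q * w * q⁻¹ * (q * x * q⁻¹) = q * (w * x) * q⁻¹ := by group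
              have e2 : q * x * q⁻¹ * (q * w * q⁻¹) = q * (x * w) * q⁻¹ := by group
              rw [e1, e2] at this
              exact mul_left_cancel (mul_right_cancel this)
            · intro h
              rw [Subgroup.mem_centralizer_iff] at h ⊢
              intro w hw
              have hw' : q⁻¹ * w * q ∈ (P : Subgroup G) :=
                Subgroup.mul_mem _ (Subgroup.mul_mem _ (Subgroup.inv_mem _ hq) hw) hq
              have := h _ hw'
              calc w * (q * x * q⁻¹) = q * ((q⁻¹ * w * q) * x) * q⁻¹ := by group
                _ = q * (x * (q⁻¹ * w * q)) * q⁻¹ := by rw [this]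
                _ = q * x * q⁻¹ * w := by group
          have h3 : orderOf (q * x * q⁻¹) = orderOf x := (MulAut.conj q).orderOf_eq x
          simp only [hf, h1, h3])
        (by
          intro x
          simp only [hf]
          split_ifs
          · exact memLocalRing_zero ne_top
          · exact memLocalRing_zero ne_top
          · exact memLocalRing_one ne_top) hcon
      apply hx
      have hxC : x ∈ C := by
        rw [hC, Subgroup.mem_centralizer_iff]
        intro w hw
        have := hxfix w hw
        calc w * x = (w * x * w⁻¹) * w := by group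
          _ = x * w := by rw [this]
      simp only [if_pos hxC]
      exact memLocalIdeal_zero ne_top
    have h1 : ¬ MemLocalIdeal M (∑ x : G, if x ∈ C then f x else 0) := by
      haveI : Fintype C := Fintype.ofFinite C
      rw [sum_eq_sum_subgroup C (fun x => if x ∈ C then f x else 0)
        (fun x hx => if_neg hx)]
      have e : ∑ c : C, (if (c : G) ∈ C then f (c : G) else 0) =
          ∑ c : C, if p ∣ orderOf c then (0 : ℂ) else 1 := by
        apply Finset.sum_congr rfl
        intro c _
        rw [if_pos c.2]
        simp only [hf, Subgroup.orderOf_coe]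
      rw [e]
      by_cases hCtop : C = ⊤
      · -- `P` is central
        have hPc : (P : Subgroup G) ≤ Subgroup.center G := by
          intro w hw
          rw [Subgroup.mem_center_iff]
          intro g
          have hg : g ∈ C := by rw [hCtop]; trivial
          rw [hC, Subgroup.mem_centralizer_iff] at hg
          exact (hg w hw).symm
        have hcount := card_pRegular_of_central hp (P : Subgroup G) hPc P.2 P.not_dvd_index
        have e2 : ∑ c : C, (if p ∣ orderOf c then (0 : ℂ) else 1) =
            (Nat.card {y : C // ¬ p ∣ orderOf y} : ℂ) := by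
          rw [Nat.card_eq_fintype_card, Fintype.card_subtype, Finset.card_filter,
            Nat.cast_sum]
          apply Finset.sum_congr rfl
          intro c _
          split_ifs <;> simp
        rw [e2, memLocalIdeal_natCast_iff hM]
        -- transport the count to `C = ⊤`
        have e3 : Nat.card {y : C // ¬ p ∣ orderOf y} = Nat.card {y : G // ¬ p ∣ orderOf y} := by
          apply Nat.card_congr
          refine ⟨fun y => ⟨(y.1 : G), by rw [Subgroup.orderOf_coe]; exact y.2⟩,
            fun y => ⟨⟨y.1, by rw [hCtop]; trivial⟩, by
              rw [← Subgroup.orderOf_coe]; exact y.2⟩, ?_, ?_⟩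
          · intro y; rfl
          · intro y; rfl
        rw [e3, hcount]
        exact P.not_dvd_index
      · -- induction
        have hlt : Nat.card C < n := by
          rw [← hn]
          apply lt_of_le_of_ne (Subgroup.card_le_card_group C)
          intro hcard
          exact hCtop ((Subgroup.card_eq_iff_eq_top C).1 hcard)
        exact ih (Nat.card C) hlt C rfl
    rw [hsplit]
    intro hcon
    apply h1
    have e : (∑ x : G, if x ∈ C then f x else 0) =
        ((∑ x : G, if x ∈ C then f x else 0) + ∑ x : G, if x ∈ C then 0 else f x) -
          ∑ x : G, if x ∈ C then 0 else f x := by ring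
    rw [e]
    exact memLocalIdeal_sub hcon h2

end Count

end Cfsg.Agent.Helper23.Blk
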