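import Mathlib
import Cfsg.Agent.Lib.Helper23.BlockBrauer3
import Cfsg.Agent.Lib.Helper23.BlockMinMax
import Cfsg.Agent.Lib.Helper23.PRegularCount
import Cfsg.Agent.S0952

/-!
# The sum of the `p`-regular elements detects the principal block (helper23's shared library)
-/

set_option autoImplicit false
set_option linter.unusedSectionVars false

namespace Cfsg.Agent.Helper23.Blk

open Cfsg Cfsg.Agent.Helper24
open scoped ComplexConjugate

universe u

section PRegInd

variable {G : Type u} [Group G] [Fintype G] {M : Ideal AlgInt} {p : ℕ}

open Classical in
/-- the indicator of the `p`-regular elements -/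
noncomputable def pRegInd (G : Type u) [Group G] (p : ℕ) : G → ℂ :=
  fun x => if p ∣ orderOf x then 0 else 1

theorem isClassFunction_pRegInd : IsClassFunction G (pRegInd G p) := by
  intro g h
  unfold pRegInd
  have h3 : orderOf (h * g * h⁻¹) = orderOf g := (MulAut.conj h).orderOf_eq g
  rw [h3]

theorem memLocalRing_pRegInd [hMp : M.IsPrime] (x : G) : MemLocalRing M (pRegInd G p x) := by
  unfold pRegInd
  split_ifs
  · exact memLocalRing_zero ne_top
  · exact memLocalRing_one ne_top

theorem pRegInd_comp_subtype (H : Subgroup G) :
    (fun h : H => pRegInd G p (h : G)) = pRegInd H p := by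
  funext h
  unfold pRegInd
  rw [Subgroup.orderOf_coe]

/-- the central character of the principal character does not vanish at the sum of the
`p`-regular elements -/
theorem not_memLocalIdeal_omega_principal (hM : IsPModular p M) :
    ¬ MemLocalIdeal M (omega ((principalChar G : IrrCharacter G) : G → ℂ) (pRegInd G p)) := by
  classical
  have h := not_memLocalIdeal_sum_pRegular hM (Nat.card G) G rfl
  unfold omega pRegInd principalChar
  simp only [mul_one, div_one]
  convert h

/-- outside the principal block the central characters vanish at the sum of the `p`-regular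
elements -/
theorem omega_pRegInd_eq_zero (hM : IsPModular p M) [Fact p.Prime] (χ : IrrCharacter G)
    (h : χ ∉ principalBlock M G) : omega (χ : G → ℂ) (pRegInd G p) = 0 := by
  classical
  haveI hMp : M.IsPrime := hM.2.1.isPrime
  have h1 : ¬ SameBlock M (χ : G → ℂ) ((principalChar G : IrrCharacter G) : G → ℂ) := by
    intro hs
    apply h
    exact sameBlock_symm hs
  have h2 := Cfsg.Agent.S0952.result p M hM χ (principalChar G) h1
  unfold omega pRegInd
  rw [finsum_mem_def, finsum_eq_sum_of_fintype] at h2
  have h3 : ∑ g : G, (if p ∣ orderOf g then (0 : ℂ) else 1) * (χ : G → ℂ) g = 0 := by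
    refine Eq.trans ?_ h2
    apply Finset.sum_congr rfl
    intro g _
    rw [Set.indicator_apply]
    by_cases hg : p ∣ orderOf g
    · rw [if_pos hg, if_neg (by exact fun h' => h' hg), zero_mul]
    · rw [if_neg hg, if_pos (by exact hg), one_mul]
      unfold principalChar
      simp
  rw [h3, zero_div]

end PRegInd

end Cfsg.Agent.Helper23.Blk
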