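import Mathlib
import Cfsg.Prelude.Def_BrauerPairs
import Cfsg.Agent.Lib.Helper23.BlockThirdMain
import Cfsg.Agent.Lib.Helper23.BlockFirstMain

/-!
# Brauer pairs: basics (helper23's shared library)
-/

set_option autoImplicit false
set_option linter.unusedSectionVars false

namespace Cfsg.Agent.Helper23.Blk

open Cfsg Cfsg.Agent.Helper24
open scoped ComplexConjugate

universe u

section Pairs

variable {G : Type u} [Group G] [Fintype G] {M : Ideal AlgInt} {p : ℕ} (Q : Subgroup G)
  [Fintype (Subgroup.centralizer (Q : Set G))]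

theorem brauerOmega_eq_omega (β : G → ℂ) (ξ : Subgroup.centralizer (Q : Set G) → ℂ) :
    brauerOmega Q β ξ = omega ξ (resC Q (Subgroup.centralizer (Q : Set G)) β) := by
  classical
  unfold brauerOmega omega resC
  rw [finsum_eq_sum_of_fintype, Finset.sum_div]
  apply Finset.sum_congr rfl
  intro x _
  rw [if_pos x.2]

theorem resC_pRegInd :
    resC Q (Subgroup.centralizer (Q : Set G)) (pRegInd G p) =
      pRegInd (Subgroup.centralizer (Q : Set G)) p := by
  classical
  funext c
  unfold resC
  rw [if_pos c.2]
  unfold pRegInd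
  rw [Subgroup.orderOf_coe]

variable [Fintype (IrrCharacter G)] [Fintype (IrrCharacter (Subgroup.centralizer (Q : Set G)))]

/-- every Brauer pair determines a central character of `G` modulo the local ideal, hence an
irreducible character of `G` up to block equivalence -/
theorem exists_irr_brauerPair (hM : IsPModular p M) (hQ : IsPGroup p Q)
    (ξ : IrrCharacter (Subgroup.centralizer (Q : Set G))) :
    ∃ χ : IrrCharacter G, ∀ a, IsClassFunction G a → (∀ g, MemLocalRing M (a g)) →
      MemLocalIdeal M (omega (ξ : Subgroup.centralizer (Q : Set G) → ℂ)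
        (resC Q (Subgroup.centralizer (Q : Set G)) a) - omega (χ : G → ℂ) a) :=
  (isCentralHom_brauer Q (Subgroup.centralizer (Q : Set G)) hM hQ le_rfl
    (Subgroup.centralizer_le_normalizer _) ξ).exists_irr hM

/-- characterization of the block of a Brauer pair -/
theorem isBrauerPairOf_iff (hM : IsPModular p M) (hQ : IsPGroup p Q)
    {e : Set (IrrCharacter (Subgroup.centralizer (Q : Set G)))} (he : IsPBlock M e)
    {ξ : IrrCharacter (Subgroup.centralizer (Q : Set G))} (hξ : ξ ∈ e) {χ : IrrCharacter G}
    (hχ : ∀ a, IsClassFunction G a → (∀ g, MemLocalRing M (a g)) →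
      MemLocalIdeal M (omega (ξ : Subgroup.centralizer (Q : Set G) → ℂ)
        (resC Q (Subgroup.centralizer (Q : Set G)) a) - omega (χ : G → ℂ) a))
    {B : Set (IrrCharacter G)} (hB : IsPBlock M B) :
    IsBrauerPairOf p M B Q e ↔ χ ∈ B := by
  classical
  haveI hMp : M.IsPrime := hM.2.1.isPrime
  have ha := isClassFunction_blockCoeff B
  have haR : ∀ g, MemLocalRing M (blockCoeff B g) := memLocalRing_blockCoeff hMp hB
  have h1 := hχ _ ha haR
  rw [omega_blockCoeff] at h1
  constructor
  · rintro ⟨-, -, h⟩
    have h2 := h ξ hξ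
    rw [brauerOmega_eq_omega] at h2
    by_contra hcon
    rw [if_neg hcon, sub_zero] at h1
    have := memLocalIdeal_sub h1 h2
    rw [sub_sub_cancel] at this
    exact not_memLocalIdeal_one this
  · intro hχB
    rw [if_pos hχB] at h1
    refine ⟨⟨hQ, he⟩, hB, ?_⟩
    intro ξ' hξ'
    rw [brauerOmega_eq_omega]
    have hsame : SameBlock M (ξ' : Subgroup.centralizer (Q : Set G) → ℂ)
        (ξ : Subgroup.centralizer (Q : Set G) → ℂ) := by
      obtain ⟨ξ₀, rfl⟩ := he
      exact sameBlock_trans (sameBlock_symm hξ') hξ
    have h3 := memLocalIdeal_omega_sub (M := M) hsame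
      (isClassFunction_resC Q _ (Subgroup.centralizer_le_normalizer _) ha)
      (by
        intro y
        unfold resC
        split_ifs
        · exact haR _
        · exact memLocalRing_zero ne_top)
    exact cong_trans h3 h1

end Pairs

end Cfsg.Agent.Helper23.Blk
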