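import Mathlib
import Cfsg.Agent.Lib.Helper23.BlockPairs

/-!
# Brauer pairs: normal subpairs belong to the same block (helper23's shared library)
-/

set_option autoImplicit false
set_option linter.unusedSectionVars false

namespace Cfsg.Agent.Helper23.Blk

open Cfsg Cfsg.Agent.Helper24
open scoped ComplexConjugate

universe u

section Ext0

variable {G : Type u} [Group G] [Fintype G] (K : Subgroup G)

open Classical in
/-- extension by zero of a function on a subgroup -/
noncomputable def ext0 (a : K → ℂ) : G → ℂ := fun g => if h : g ∈ K then a ⟨g, h⟩ else 0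

theorem ext0_of_mem (a : K → ℂ) {g : G} (h : g ∈ K) : ext0 K a g = a ⟨g, h⟩ := by
  unfold ext0
  rw [dif_pos h]

theorem ext0_coe (a : K → ℂ) (k : K) : ext0 K a (k : G) = a k := by
  rw [ext0_of_mem K a k.2]

theorem ext0_of_not_mem (a : K → ℂ) {g : G} (h : g ∉ K) : ext0 K a g = 0 := by
  unfold ext0
  rw [dif_neg h]

theorem subgroupBlockCoeff_eq_ext0 (e : Set (IrrCharacter K)) :
    subgroupBlockCoeff K e = ext0 K (blockCoeff e) := by
  funext g
  unfold subgroupBlockCoeff ext0
  rfl

theorem conv_ext0 [Fintype K] (a b : K → ℂ) :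
    conv (ext0 K a) (ext0 K b) = ext0 K (conv a b) := by
  classical
  funext g
  rw [conv_apply]
  by_cases hg : g ∈ K
  · rw [ext0_of_mem K _ hg, conv_apply,
      sum_eq_sum_subgroup K (fun x => ext0 K a x * ext0 K b (x⁻¹ * g))]
    · apply Finset.sum_congr rfl
      intro k _
      rw [ext0_coe]
      have h1 : (k : G)⁻¹ * g ∈ K := K.mul_mem (K.inv_mem k.2) hg
      rw [ext0_of_mem K b h1]
      rfl
    · intro x hx
      rw [ext0_of_not_mem K a hx, zero_mul]
  · rw [ext0_of_not_mem K _ hg]
    apply Finset.sum_eq_zero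
    intro x _
    by_cases hx : x ∈ K
    · have h1 : x⁻¹ * g ∉ K := by
        intro h
        apply hg
        have := K.mul_mem hx h
        rwa [mul_inv_cancel_left] at this
      rw [ext0_of_not_mem K b h1, mul_zero]
    · rw [ext0_of_not_mem K a hx, zero_mul]

end Ext0

section Stab

variable {G : Type u} [Group G] [Finite G] (K : Subgroup G)

/-- the idempotent of a block stabilized by `q` is invariant under conjugation by `q` -/
theorem blockCoeff_conj_of_stabilizes (f : Set (IrrCharacter K)) {q : G}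
    (hq : StabilizesBlock K f q) (k k' : K) (hk : (k' : G) = q * (k : G) * q⁻¹) :
    blockCoeff f k' = blockCoeff f k := by
  classical
  haveI : Fintype K := Fintype.ofFinite K
  letI : Fintype (IrrCharacter K) := irrFintype
  obtain ⟨hqN, hst⟩ := hq
  -- the conjugation map on `f`
  let φ : IrrCharacter K → IrrCharacter K := fun χ =>
    if h : χ ∈ f then Classical.choose (hst χ h) else χ
  have hφmem : ∀ χ ∈ f, φ χ ∈ f := by
    intro χ h
    simp only [φ, dif_pos h]
    exact (Classical.choose_spec (hst χ h)).1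
  have hφconj : ∀ χ ∈ f, IsConjCharOf K q (χ : K → ℂ) (φ χ : K → ℂ) := by
    intro χ h
    simp only [φ, dif_pos h]
    exact (Classical.choose_spec (hst χ h)).2
  have hconjK : ∀ k : K, q * (k : G) * q⁻¹ ∈ K := by
    intro k
    rw [Subgroup.mem_normalizer_iff] at hqN
    exact (hqN k).1 k.2
  have hinj : Set.InjOn φ f := by
    intro χ₁ h₁ χ₂ h₂ h12
    apply Subtype.ext
    funext k
    have e1 := hφconj χ₁ h₁ k ⟨q * (k : G) * q⁻¹, hconjK k⟩ rfl
    have e2 := hφconj χ₂ h₂ k ⟨q * (k : G) * q⁻¹, hconjK k⟩ rfl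
    rw [← e1, ← e2, h12]
  have hbij : Set.BijOn φ f f :=
    (Set.Finite.injOn_iff_bijOn_of_mapsTo (Set.toFinite f) hφmem).1 hinj
  unfold blockCoeff
  congr 1
  symm
  apply finsum_mem_eq_of_bijOn φ hbij
  intro χ hχ
  have e1 := hφconj χ hχ k k' hk
  have e2 := hφconj χ hχ 1 1 (by simp)
  rw [e1, e2]

end Stab

end Cfsg.Agent.Helper23.Blk
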