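import Mathlib
import Cfsg.Agent.Lib.Helper23.BlockPairs2
import Cfsg.Agent.Lib.Helper23.BlockNull

/-!
# Brauer pairs: a normal subpair belongs to the same block (helper23's shared library)
-/

set_option autoImplicit false
set_option linter.unusedSectionVars false

namespace Cfsg.Agent.Helper23.Blk

open Cfsg Cfsg.Agent.Helper24
open scoped ComplexConjugate

universe u

section Absorb

variable {G : Type u} [Group G] [Fintype G] [Fintype (IrrCharacter G)] {M : Ideal AlgInt}
  [hMp : M.IsPrime]

/-- if a central element `u`, idempotent modulo the local ideal, has `ω_ζ(u) ≡ 1` on the block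
`f`, then `u * ε_f ≡ ε_f` coefficientwise -/
theorem conv_blockCoeff_cong {u : G → ℂ} (hu : IsClassFunction G u)
    (huR : ∀ g, MemLocalRing M (u g)) (hidem : ∀ g, MemLocalIdeal M (conv u u g - u g))
    {f : Set (IrrCharacter G)} (hf : IsPBlock M f)
    (hω : ∀ ζ ∈ f, MemLocalIdeal M (omega (ζ : G → ℂ) u - 1)) (g : G) :
    MemLocalIdeal M (blockCoeff f g - conv u (blockCoeff f) g) := by
  classical
  set U : IrrCharacter G → ℂ := fun ζ => omega (ζ : G → ℂ) u with hU
  set E : IrrCharacter G → ℂ := fun ζ => if ζ ∈ f then (1 : ℂ) else 0 with hE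
  have hsU : synth U = u := by
    funext g
    exact synth_omega hu g
  have hsE : synth E = blockCoeff f := by
    funext g
    exact (blockCoeff_eq_synth f g).symm
  have hUi : IsIntegralVec M U := isIntegralVec_omega hu huR
  have hEi : IsIntegralVec M E := by
    intro g
    rw [hsE]
    exact memLocalRing_blockCoeff hMp hf g
  set V : IrrCharacter G → ℂ := E - U * E with hV
  have hVi : IsIntegralVec M V := hEi.sub (hUi.mul hEi)
  have hVV : V * V - V = E * (U * U - U) := by
    funext ζ
    simp only [hV, hE, Pi.mul_apply, Pi.sub_apply]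
    by_cases hζ : ζ ∈ f
    · simp only [if_pos hζ]; ring
    · simp only [if_neg hζ]; ring
  have hnull : IsNullVec M (U * U - U) := by
    intro g
    rw [synth_sub, ← conv_synth, hsU]
    exact hidem g
  have hidemV : IsNullVec M (V * V - V) := by
    rw [hVV]
    exact IsNullVec.integral_mul hEi hnull
  have hωV : ∀ ζ, MemLocalIdeal M (V ζ) := by
    intro ζ
    simp only [hV, hE, Pi.mul_apply, Pi.sub_apply]
    by_cases hζ : ζ ∈ f
    · simp only [if_pos hζ, mul_one]
      exact cong_symm (hω ζ hζ)
    · simp only [if_neg hζ, mul_zero, sub_zero]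
      exact memLocalIdeal_zero ne_top
  have := isNullVec_of_idem hVi hidemV hωV g
  rwa [hV, synth_sub, ← conv_synth, hsU, hsE] at this

end Absorb

section ExtInv

variable {G : Type u} [Group G] [Fintype G] (K : Subgroup G)

theorem ext0_conj_of_isClassFunction {a : K → ℂ} (ha : IsClassFunction K a) {x : G} (hx : x ∈ K)
    (g : G) : ext0 K a (x * g * x⁻¹) = ext0 K a g := by
  by_cases hg : g ∈ K
  · have h1 : x * g * x⁻¹ ∈ K := K.mul_mem (K.mul_mem hx hg) (K.inv_mem hx)
    rw [ext0_of_mem K a hg, ext0_of_mem K a h1]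
    exact ha ⟨g, hg⟩ ⟨x, hx⟩
  · have h1 : x * g * x⁻¹ ∉ K := by
      intro h
      apply hg
      have := K.mul_mem (K.mul_mem (K.inv_mem hx) h) hx
      have e : x⁻¹ * (x * g * x⁻¹) * x = g := by group
      rwa [e] at this
    rw [ext0_of_not_mem K a hg, ext0_of_not_mem K a h1]

theorem memLocalRing_ext0 {M : Ideal AlgInt} [hMp : M.IsPrime] {a : K → ℂ}
    (ha : ∀ k, MemLocalRing M (a k)) (g : G) : MemLocalRing M (ext0 K a g) := by
  by_cases hg : g ∈ K
  · rw [ext0_of_mem K a hg]
    exact ha _
  · rw [ext0_of_not_mem K a hg]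
    exact memLocalRing_zero hMp.ne_top

end ExtInv

section Step

variable {G : Type u} [Group G] [Fintype G] {M : Ideal AlgInt} {p : ℕ}

/-- **A normal subpair belongs to the same block** (forward direction). -/
theorem isBrauerPairOf_of_isNormalSubpair (hM : IsPModular p M) {Q P : Subgroup G}
    {f : Set (IrrCharacter (Subgroup.centralizer (Q : Set G)))}
    {e : Set (IrrCharacter (Subgroup.centralizer (P : Set G)))}
    (h : IsNormalSubpair p M Q f P e) {B : Set (IrrCharacter G)}
    (hB : IsBrauerPairOf p M B Q f) : IsBrauerPairOf p M B P e := by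
  classical
  haveI hMp : M.IsPrime := hM.2.1.isPrime
  haveI : Fintype (Subgroup.centralizer (Q : Set G)) := Fintype.ofFinite _
  haveI : Fintype (Subgroup.centralizer (P : Set G)) := Fintype.ofFinite _
  letI : Fintype (IrrCharacter G) := irrFintype
  letI : Fintype (IrrCharacter (Subgroup.centralizer (Q : Set G))) := irrFintype
  letI : Fintype (IrrCharacter (Subgroup.centralizer (P : Set G))) := irrFintype
  obtain ⟨⟨hQ, hf⟩, ⟨hP, he⟩, hQP, hPN, hstab, hbr⟩ := h
  obtain ⟨-, hBb, hBQ⟩ := hB
  refine ⟨⟨hP, he⟩, hBb, ?_⟩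
  intro ξ hξ
  have hCPQ : Subgroup.centralizer (P : Set G) ≤ Subgroup.centralizer (Q : Set G) :=
    Subgroup.centralizer_le hQP
  have hcf := isClassFunction_blockCoeff B
  have hR : ∀ g, MemLocalRing M (blockCoeff B g) := memLocalRing_blockCoeff hMp hBb
  -- the truncation of `ε_B` to `C_G(Q)`
  set u : Subgroup.centralizer (Q : Set G) → ℂ :=
    resC Q (Subgroup.centralizer (Q : Set G)) (blockCoeff B) with hu
  have hucf : IsClassFunction _ u :=
    isClassFunction_resC Q _ (Subgroup.centralizer_le_normalizer _) hcf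
  have hu_apply : ∀ c : Subgroup.centralizer (Q : Set G), u c = blockCoeff B (c : G) := by
    intro c
    rw [hu]
    unfold resC
    rw [if_pos c.2]
  have huR : ∀ c, MemLocalRing M (u c) := by
    intro c
    rw [hu_apply]
    exact hR _
  have hidem : ∀ c, MemLocalIdeal M (conv u u c - u c) := by
    intro c
    have h1 := resC_conv_cong Q (Subgroup.centralizer (Q : Set G)) hM hQ le_rfl hcf hcf hR hR c
    rw [conv_blockCoeff hBb hBb, if_pos rfl] at h1
    exact cong_symm h1
  have hω : ∀ ζ ∈ f, MemLocalIdeal M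
      (omega (ζ : Subgroup.centralizer (Q : Set G) → ℂ) u - 1) := by
    intro ζ hζ
    have := hBQ ζ hζ
    rwa [brauerOmega_eq_omega] at this
  have habs := conv_blockCoeff_cong hucf huR hidem hf hω
  have hfcf := isClassFunction_blockCoeff f
  have hfR : ∀ c, MemLocalRing M (blockCoeff f c) := memLocalRing_blockCoeff hMp hf
  -- extensions by zero
  set uh : G → ℂ := ext0 (Subgroup.centralizer (Q : Set G)) u with huh
  set eh : G → ℂ := ext0 (Subgroup.centralizer (Q : Set G)) (blockCoeff f) with heh
  have hconv : conv uh eh = ext0 (Subgroup.centralizer (Q : Set G)) (conv u (blockCoeff f)) :=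
    conv_ext0 _ _ _
  have huhR : ∀ g, MemLocalRing M (uh g) := memLocalRing_ext0 _ huR
  have hehR : ∀ g, MemLocalRing M (eh g) := memLocalRing_ext0 _ hfR
  have huhP : ∀ q ∈ P, ∀ x, uh (q * x * q⁻¹) = uh x := by
    intro q hq x
    have hqN := hPN hq
    by_cases hx : x ∈ Subgroup.centralizer (Q : Set G)
    · have hx' := centralizer_conj_mem_of_mem_normalizer hqN hx
      rw [huh, ext0_of_mem _ _ hx, ext0_of_mem _ _ hx', hu_apply, hu_apply]
      exact hcf x q
    · have hx' : q * x * q⁻¹ ∉ Subgroup.centralizer (Q : Set G) := by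
        rwa [centralizer_conj_mem_iff_of_mem_normalizer hqN]
      rw [huh, ext0_of_not_mem _ _ hx, ext0_of_not_mem _ _ hx']
  have hehP : ∀ q ∈ P, ∀ x, eh (q * x * q⁻¹) = eh x := by
    intro q hq x
    have hqN := hPN hq
    by_cases hx : x ∈ Subgroup.centralizer (Q : Set G)
    · have hx' := centralizer_conj_mem_of_mem_normalizer hqN hx
      rw [heh, ext0_of_mem _ _ hx, ext0_of_mem _ _ hx']
      exact blockCoeff_conj_of_stabilizes _ f (hstab q hq) ⟨x, hx⟩ ⟨q * x * q⁻¹, hx'⟩ rfl
    · have hx' : q * x * q⁻¹ ∉ Subgroup.centralizer (Q : Set G) := by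
        rwa [centralizer_conj_mem_iff_of_mem_normalizer hqN]
      rw [heh, ext0_of_not_mem _ _ hx, ext0_of_not_mem _ _ hx']
  -- truncations to `C_G(P)`
  set a : Subgroup.centralizer (P : Set G) → ℂ :=
    resC P (Subgroup.centralizer (P : Set G)) uh with ha
  set b : Subgroup.centralizer (P : Set G) → ℂ :=
    resC P (Subgroup.centralizer (P : Set G)) eh with hb
  have ha_eq : a = resC P (Subgroup.centralizer (P : Set G)) (blockCoeff B) := by
    funext y
    rw [ha]
    unfold resC
    rw [if_pos y.2, if_pos y.2, huh, ext0_of_mem _ _ (hCPQ y.2), hu_apply]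
  have hb_apply : ∀ y : Subgroup.centralizer (P : Set G),
      b y = blockCoeff f ⟨(y : G), hCPQ y.2⟩ := by
    intro y
    rw [hb]
    unfold resC
    rw [if_pos y.2, heh, ext0_of_mem _ _ (hCPQ y.2)]
  have hacf : IsClassFunction _ a := by
    rw [ha_eq]
    exact isClassFunction_resC P _ (Subgroup.centralizer_le_normalizer _) hcf
  have hbcf : IsClassFunction _ b := by
    intro y x
    rw [hb]
    unfold resC
    rw [if_pos y.2, if_pos (x * y * x⁻¹).2]
    have h1 : ((x * y * x⁻¹ : Subgroup.centralizer (P : Set G)) : G) =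
        (x : G) * (y : G) * (x : G)⁻¹ := by
      push_cast
      rfl
    rw [h1, heh]
    exact ext0_conj_of_isClassFunction _ hfcf (hCPQ x.2) _
  have haR : ∀ y, MemLocalRing M (a y) := by
    intro y
    rw [ha]
    unfold resC
    rw [if_pos y.2]
    exact huhR _
  have hbR : ∀ y, MemLocalRing M (b y) := by
    intro y
    rw [hb_apply]
    exact hfR _
  have hkey : ∀ y, MemLocalIdeal M (b y - conv a b y) := by
    intro y
    have h1 := resC_conv_cong' P (Subgroup.centralizer (P : Set G)) hM hP le_rfl huhP hehP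
      huhR hehR y
    have h2 : resC P (Subgroup.centralizer (P : Set G)) (conv uh eh) y =
        conv u (blockCoeff f) ⟨(y : G), hCPQ y.2⟩ := by
      unfold resC
      rw [if_pos y.2, hconv, ext0_of_mem _ _ (hCPQ y.2)]
    rw [h2] at h1
    have h3 := habs ⟨(y : G), hCPQ y.2⟩
    rw [← hb_apply] at h3
    exact cong_trans h3 h1
  -- apply the central character of `ξ`
  have h4 : MemLocalIdeal M (omega (ξ : Subgroup.centralizer (P : Set G) → ℂ) (b - conv a b)) := by
    apply memLocalIdeal_omega ξ
    · intro y x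
      rw [Pi.sub_apply, Pi.sub_apply, hbcf y x, isClassFunction_conv hacf hbcf y x]
    · intro y
      rw [Pi.sub_apply]
      exact hkey y
  rw [omega_sub, omega_conv ξ hacf hbcf] at h4
  have ht : MemLocalIdeal M (omega (ξ : Subgroup.centralizer (P : Set G) → ℂ) b - 1) := by
    have := hbr ξ hξ
    rw [brauerOmega_eq_omega, subgroupBlockCoeff_eq_ext0] at this
    exact this
  rw [brauerOmega_eq_omega, ← ha_eq]
  have hsR : MemLocalRing M (omega (ξ : Subgroup.centralizer (P : Set G) → ℂ) a) :=
    memLocalRing_omega ξ hacf haR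
  have e1 : omega (ξ : Subgroup.centralizer (P : Set G) → ℂ) a - 1 =
      -(omega (ξ : Subgroup.centralizer (P : Set G) → ℂ) b -
        omega (ξ : Subgroup.centralizer (P : Set G) → ℂ) a *
          omega (ξ : Subgroup.centralizer (P : Set G) → ℂ) b) -
      (omega (ξ : Subgroup.centralizer (P : Set G) → ℂ) a - 1) *
        (omega (ξ : Subgroup.centralizer (P : Set G) → ℂ) b - 1) := by
    ring
  rw [e1]
  apply memLocalIdeal_sub
  · have := memLocalIdeal_sub (memLocalIdeal_zero (M := M) hMp.ne_top) h4
    rwa [zero_sub] at this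
  · exact memLocalIdeal_mul_left
      (memLocalRing_sub hsR (memLocalRing_one hMp.ne_top)) ht

end Step

end Cfsg.Agent.Helper23.Blk
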