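import Mathlib
import Cfsg.Agent.Lib.Helper23.BlockPairs3
import Cfsg.Agent.Lib.Helper24.NormalizerAct

/-!
# Brauer pairs: conjugation action on the blocks of a normalized subgroup
(helper23's shared library)
-/

set_option autoImplicit false
set_option linter.unusedSectionVars false

namespace Cfsg.Agent.Helper23.Blk

open Cfsg Cfsg.Agent.Helper24
open scoped ComplexConjugate

universe u v

section Equiv

variable {K : Type u} [Group K] {K' : Type v} [Group K']

theorem index_centralizer_equiv (σ : K ≃* K') (k : K) :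
    (Subgroup.centralizer ({σ k} : Set K')).index =
      (Subgroup.centralizer ({k} : Set K)).index := by
  have h : Subgroup.centralizer ({σ k} : Set K') =
      (Subgroup.centralizer ({k} : Set K)).map (σ : K →* K') := by
    ext y
    rw [Subgroup.mem_map, Subgroup.mem_centralizer_iff]
    constructor
    · intro hy
      refine ⟨σ.symm y, ?_, by simp⟩
      rw [Subgroup.mem_centralizer_iff]
      intro z hz
      rw [Set.mem_singleton_iff] at hz
      subst hz
      apply σ.injective
      rw [map_mul, map_mul, σ.apply_symm_apply]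
      exact hy _ rfl
    · rintro ⟨z, hz, rfl⟩ w hw
      rw [Set.mem_singleton_iff] at hw
      subst hw
      rw [Subgroup.mem_centralizer_iff] at hz
      have := hz k rfl
      show σ k * σ z = σ z * σ k
      rw [← map_mul, ← map_mul, this]
  rw [h, Subgroup.index_map_equiv]

theorem centralChar_comp_equiv (σ : K ≃* K') (χ : K' → ℂ) (k : K) :
    centralChar (χ ∘ σ) k = centralChar χ (σ k) := by
  unfold centralChar
  rw [Function.comp_apply, Function.comp_apply, map_one, index_centralizer_equiv]

theorem sameBlock_comp_equiv {M : Ideal AlgInt} (σ : K ≃* K') {χ ψ : K' → ℂ}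
    (h : SameBlock M χ ψ) : SameBlock M (χ ∘ σ) (ψ ∘ σ) := by
  intro k
  rw [centralChar_comp_equiv, centralChar_comp_equiv]
  exact h _

end Equiv

section Act

variable {G : Type u} [Group G] (K : Subgroup G)

theorem conjIrr_one' (χ : IrrCharacter K) :
    conjIrr K 1 (Subgroup.one_mem _) χ = χ :=
  (normAct K).one_smul χ

theorem conjIrr_mul' {x y : G} (hx : x ∈ Subgroup.normalizer (K : Set G))
    (hy : y ∈ Subgroup.normalizer (K : Set G)) (χ : IrrCharacter K) :
    conjIrr K (x * y) (Subgroup.mul_mem _ hx hy) χ = conjIrr K x hx (conjIrr K y hy χ) :=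
  (normAct K).mul_smul ⟨x, hx⟩ ⟨y, hy⟩ χ

theorem conjIrr_inv_cancel {x : G} (hx : x ∈ Subgroup.normalizer (K : Set G))
    (χ : IrrCharacter K) :
    conjIrr K x hx (conjIrr K x⁻¹ (Subgroup.inv_mem _ hx) χ) = χ := by
  apply Subtype.ext
  funext k
  rw [conjIrr_apply, conjIrr_apply]
  apply congrArg (χ : K → ℂ)
  apply Subtype.ext
  rw [normConj_apply, normConj_apply]
  group

theorem conjIrr_cancel_inv {x : G} (hx : x ∈ Subgroup.normalizer (K : Set G))
    (χ : IrrCharacter K) :
    conjIrr K x⁻¹ (Subgroup.inv_mem _ hx) (conjIrr K x hx χ) = χ := by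
  apply Subtype.ext
  funext k
  rw [conjIrr_apply, conjIrr_apply]
  apply congrArg (χ : K → ℂ)
  apply Subtype.ext
  rw [normConj_apply, normConj_apply]
  group

theorem conjIrr_injective {x : G} (hx : x ∈ Subgroup.normalizer (K : Set G)) :
    Function.Injective (conjIrr K x hx) := by
  intro χ ψ h
  rw [← conjIrr_cancel_inv K hx χ, h, conjIrr_cancel_inv]

variable {M : Ideal AlgInt}

theorem image_conjIrr_blockOf [hMp : M.IsPrime] {x : G}
    (hx : x ∈ Subgroup.normalizer (K : Set G)) (χ : IrrCharacter K) :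
    conjIrr K x hx '' (blockOf M (χ : K → ℂ)) = blockOf M (conjIrr K x hx χ : K → ℂ) := by
  ext ψ'
  constructor
  · rintro ⟨ψ, hψ, rfl⟩
    exact sameBlock_comp_equiv _ hψ
  · intro hψ'
    refine ⟨conjIrr K x⁻¹ (Subgroup.inv_mem _ hx) ψ', ?_, conjIrr_inv_cancel K hx ψ'⟩
    have h1 : SameBlock M (conjIrr K x⁻¹ (Subgroup.inv_mem _ hx) (conjIrr K x hx χ) : K → ℂ)
        (conjIrr K x⁻¹ (Subgroup.inv_mem _ hx) ψ' : K → ℂ) :=
      sameBlock_comp_equiv _ hψ'
    rwa [conjIrr_cancel_inv] at h1

theorem isPBlock_image_conjIrr [hMp : M.IsPrime] {x : G}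
    (hx : x ∈ Subgroup.normalizer (K : Set G)) {f : Set (IrrCharacter K)} (hf : IsPBlock M f) :
    IsPBlock M (conjIrr K x hx '' f) := by
  obtain ⟨χ, rfl⟩ := hf
  exact ⟨conjIrr K x hx χ, image_conjIrr_blockOf K hx χ⟩

theorem blockCoeff_image_conjIrr [Finite G] {x : G} (hx : x ∈ Subgroup.normalizer (K : Set G))
    (f : Set (IrrCharacter K)) (k : K) :
    blockCoeff (conjIrr K x hx '' f) k =
      blockCoeff f (normConj K x⁻¹ (Subgroup.inv_mem _ hx) k) := by
  unfold blockCoeff
  congr 1
  rw [finsum_mem_image ((conjIrr_injective K hx).injOn)]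
  apply finsum_mem_congr rfl
  intro χ _
  rw [conjIrr_apply, conjIrr_apply, map_one]

theorem stabilizesBlock_of_image_subset {x : G} (hx : x ∈ Subgroup.normalizer (K : Set G))
    {f : Set (IrrCharacter K)} (h : conjIrr K x hx '' f ⊆ f) : StabilizesBlock K f x := by
  refine ⟨hx, ?_⟩
  intro χ hχ
  refine ⟨conjIrr K x hx χ, h ⟨χ, hχ, rfl⟩, ?_⟩
  intro k k' hk
  rw [conjIrr_apply]
  apply congrArg (χ : K → ℂ)
  apply Subtype.ext
  rw [normConj_apply, hk]
  group

end Act

section SumBlocks

variable {K : Type u} [Group K] [Fintype K] [Fintype (IrrCharacter K)] {M : Ideal AlgInt}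
  [hMp : M.IsPrime]

/-- the block idempotents sum to one -/
theorem sum_blockCoeff_blocks (𝔅 : Finset (Set (IrrCharacter K)))
    (h𝔅 : ∀ f, f ∈ 𝔅 ↔ IsPBlock M f) (k : K) :
    ∑ f ∈ 𝔅, blockCoeff f k = synth (fun _ : IrrCharacter K => (1 : ℂ)) k := by
  classical
  have h1 : ∀ f ∈ 𝔅, blockCoeff f k =
      ∑ χ ∈ Finset.univ.filter (fun χ : IrrCharacter K => blockOf M (χ : K → ℂ) = f),
        idemCoeff (χ : K → ℂ) k := by
    intro f hf
    rw [blockCoeff_eq_synth f k]
    unfold synth
    rw [Finset.sum_filter]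
    apply Finset.sum_congr rfl
    intro χ _
    have hiff : χ ∈ f ↔ blockOf M (χ : K → ℂ) = f := by
      obtain ⟨χ₀, rfl⟩ := (h𝔅 f).1 hf
      constructor
      · exact blockOf_eq_of_mem
      · intro h
        rw [← h]
        exact mem_blockOf_self χ
    beta_reduce
    by_cases hχ : χ ∈ f
    · rw [if_pos hχ, if_pos (hiff.1 hχ), one_mul]
    · rw [if_neg hχ, if_neg (fun h => hχ (hiff.2 h)), zero_mul]
  rw [Finset.sum_congr rfl h1, Finset.sum_fiberwise_of_maps_to]
  · unfold synth
    simp
  · intro χ _
    exact (h𝔅 _).2 ⟨χ, rfl⟩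

end SumBlocks

section ConjInv

variable {G : Type u} [Group G] [Fintype G]

/-- invariance of a coefficient function under conjugation by the elements of a subgroup -/
def ConjInv (S : Subgroup G) (a : G → ℂ) : Prop := ∀ s ∈ S, ∀ g, a (s * g * s⁻¹) = a g

theorem ConjInv.conv {S : Subgroup G} {a b : G → ℂ} (ha : ConjInv S a) (hb : ConjInv S b) :
    ConjInv S (conv a b) := by
  intro s hs g
  rw [conv_apply, conv_apply, ← Equiv.sum_comp (MulAut.conj s).toEquiv]
  apply Finset.sum_congr rfl
  intro h _
  have e1 : (MulAut.conj s).toEquiv h = s * h * s⁻¹ := rfl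
  have e : (s * h * s⁻¹)⁻¹ * (s * g * s⁻¹) = s * (h⁻¹ * g) * s⁻¹ := by group
  rw [e1, e, hb s hs, ha s hs]

theorem ConjInv.mono {S S' : Subgroup G} (h : S' ≤ S) {a : G → ℂ} (ha : ConjInv S a) :
    ConjInv S' a := fun s hs g => ha s (h hs) g

theorem conjInv_of_isClassFunction (S : Subgroup G) {a : G → ℂ} (ha : IsClassFunction G a) :
    ConjInv S a := fun s _ g => ha g s

theorem conjInv_ext0 (K : Subgroup G) {a : K → ℂ} (ha : IsClassFunction K a) :
    ConjInv K (ext0 K a) := fun _ hs g => ext0_conj_of_isClassFunction K ha hs g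

theorem isClassFunction_resC_of_conjInv (P H : Subgroup G)
    (hHN : H ≤ Subgroup.normalizer (P : Set G)) {a : G → ℂ} (ha : ConjInv H a) :
    IsClassFunction H (resC P H a) := by
  intro h x
  unfold resC
  have h1 : ((x * h * x⁻¹ : H) : G) = (x : G) * (h : G) * (x : G)⁻¹ := by
    push_cast
    rfl
  rw [h1, centralizer_conj_mem_iff_of_mem_normalizer (hHN x.2), ha x x.2]

theorem conjInv_ext0_blockCoeff_of_stabilizes (K P : Subgroup G)
    (hPK : P ≤ Subgroup.normalizer (K : Set G)) {f : Set (IrrCharacter K)}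
    (hstab : ∀ x ∈ P, StabilizesBlock K f x) : ConjInv P (ext0 K (blockCoeff f)) := by
  intro q hq x
  have hqN := hPK hq
  by_cases hx : x ∈ K
  · have hx' : q * x * q⁻¹ ∈ K := (Subgroup.mem_normalizer_iff.1 hqN x).1 hx
    rw [ext0_of_mem _ _ hx, ext0_of_mem _ _ hx']
    exact blockCoeff_conj_of_stabilizes _ f (hstab q hq) ⟨x, hx⟩ ⟨q * x * q⁻¹, hx'⟩ rfl
  · have hx' : q * x * q⁻¹ ∉ K := by
      intro h
      exact hx ((Subgroup.mem_normalizer_iff.1 hqN x).2 h)
    rw [ext0_of_not_mem _ _ hx, ext0_of_not_mem _ _ hx']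

variable {M : Ideal AlgInt} {p : ℕ} (P : Subgroup G)
  [Fintype (Subgroup.centralizer (P : Set G))]
  [Fintype (IrrCharacter (Subgroup.centralizer (P : Set G)))]

/-- the Brauer map at `P` followed by a central character of `C_G(P)` is multiplicative modulo
the local ideal on `P`-invariant elements whose truncations are central -/
theorem omega_resC_conv_cong (hM : IsPModular p M) (hP : IsPGroup p P)
    (ξ : IrrCharacter (Subgroup.centralizer (P : Set G))) {a b : G → ℂ}
    (haP : ConjInv P a) (hbP : ConjInv P b)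
    (haC : ConjInv (Subgroup.centralizer (P : Set G)) a)
    (hbC : ConjInv (Subgroup.centralizer (P : Set G)) b)
    (haR : ∀ g, MemLocalRing M (a g)) (hbR : ∀ g, MemLocalRing M (b g)) :
    MemLocalIdeal M
      (omega (ξ : Subgroup.centralizer (P : Set G) → ℂ)
        (resC P (Subgroup.centralizer (P : Set G)) (conv a b)) -
       omega (ξ : Subgroup.centralizer (P : Set G) → ℂ)
        (resC P (Subgroup.centralizer (P : Set G)) a) *
       omega (ξ : Subgroup.centralizer (P : Set G) → ℂ)
        (resC P (Subgroup.centralizer (P : Set G)) b)) := by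
  classical
  haveI hMp : M.IsPrime := hM.2.1.isPrime
  have hN := Subgroup.centralizer_le_normalizer (P : Set G)
  have hacf := isClassFunction_resC_of_conjInv P _ hN haC
  have hbcf := isClassFunction_resC_of_conjInv P _ hN hbC
  have hccf := isClassFunction_resC_of_conjInv P _ hN (haC.conv hbC)
  rw [← omega_conv ξ hacf hbcf, ← omega_sub]
  apply memLocalIdeal_omega ξ
  · intro y x
    rw [Pi.sub_apply, Pi.sub_apply, hccf y x, isClassFunction_conv hacf hbcf y x]
  · intro y
    rw [Pi.sub_apply]
    exact resC_conv_cong' P _ hM hP le_rfl haP hbP haR hbR y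

end ConjInv

section OmegaSum

variable {G : Type u} [Group G] [Fintype G]

theorem omega_zero (χ : G → ℂ) : omega χ (0 : G → ℂ) = 0 := by
  unfold omega
  simp

theorem omega_finset_sum {ι : Type*} (s : Finset ι) (χ : G → ℂ) (F : ι → G → ℂ) :
    omega χ (∑ i ∈ s, F i) = ∑ i ∈ s, omega χ (F i) := by
  classical
  induction s using Finset.induction_on with
  | empty => rw [Finset.sum_empty, Finset.sum_empty, omega_zero]
  | insert j s hj ih => rw [Finset.sum_insert hj, Finset.sum_insert hj, omega_add, ih]

theorem omega_delta_one [DecidableEq G] {χ : G → ℂ} (hχ : IsIrrCharacter G χ) :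
    omega χ (fun g : G => if g = 1 then (1 : ℂ) else 0) = 1 := by
  unfold omega
  have : ∑ g : G, (if g = 1 then (1 : ℂ) else 0) * χ g = χ 1 := by
    simp
  rw [this, div_self (irr_one_ne_zero hχ)]

end OmegaSum

section Stable

variable {G : Type u} [Group G] [Fintype G] {M : Ideal AlgInt} {p : ℕ} (P K : Subgroup G)
  [Fintype (Subgroup.centralizer (P : Set G))]
  [Fintype (IrrCharacter (Subgroup.centralizer (P : Set G)))]

theorem resC_ext0_apply (hCK : Subgroup.centralizer (P : Set G) ≤ K) (a : K → ℂ)
    (y : Subgroup.centralizer (P : Set G)) :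
    resC P (Subgroup.centralizer (P : Set G)) (ext0 K a) y = a ⟨(y : G), hCK y.2⟩ := by
  unfold resC
  rw [if_pos y.2, ext0_of_mem _ _ (hCK y.2)]

/-- **Existence of a stable block under the Brauer map.** -/
theorem exists_stable_block (hM : IsPModular p M) (hP : IsPGroup p P)
    (hCK : Subgroup.centralizer (P : Set G) ≤ K) (hPK : P ≤ Subgroup.normalizer (K : Set G))
    (ξ : IrrCharacter (Subgroup.centralizer (P : Set G))) :
    ∃ f : Set (IrrCharacter K), IsPBlock M f ∧ (∀ x ∈ P, StabilizesBlock K f x) ∧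
      MemLocalIdeal M (omega (ξ : Subgroup.centralizer (P : Set G) → ℂ)
        (resC P (Subgroup.centralizer (P : Set G)) (ext0 K (blockCoeff f))) - 1) := by
  classical
  haveI hMp : M.IsPrime := hM.2.1.isPrime
  haveI : Fintype K := Fintype.ofFinite _
  letI : Fintype (IrrCharacter K) := irrFintype
  haveI : Fintype (Set (IrrCharacter K)) := Fintype.ofFinite _
  letI act : MulAction P (Set (IrrCharacter K)) :=
    { smul := fun q f => conjIrr K (q : G) (hPK q.2) '' f
      one_smul := fun f => by
        show conjIrr K ((1 : P) : G) _ '' f = f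
        have : conjIrr K ((1 : P) : G) (hPK (1 : P).2) = id := by
          funext χ
          exact conjIrr_one' K χ
        rw [this, Set.image_id]
      mul_smul := fun q q' f => by
        show conjIrr K ((q * q' : P) : G) _ '' f =
          conjIrr K (q : G) _ '' (conjIrr K (q' : G) _ '' f)
        rw [Set.image_image]
        apply Set.image_congr'
        intro χ
        exact conjIrr_mul' K (hPK q.2) (hPK q'.2) χ }
  have hsmul : ∀ (q : P) (f : Set (IrrCharacter K)),
      q • f = conjIrr K (q : G) (hPK q.2) '' f := fun _ _ => rfl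
  have hblk_smul : ∀ (q : P) (f : Set (IrrCharacter K)),
      IsPBlock M (q • f) ↔ IsPBlock M f := by
    intro q f
    constructor
    · intro h
      have h1 : IsPBlock M (q⁻¹ • (q • f)) := isPBlock_image_conjIrr K (hPK (q⁻¹).2) h
      rwa [inv_smul_smul] at h1
    · intro h
      exact isPBlock_image_conjIrr K (hPK q.2) h
  have hstab_smul : ∀ (q : P) (f : Set (IrrCharacter K)),
      (∀ q' : P, q' • (q • f) = q • f) ↔ (∀ q' : P, q' • f = f) := by
    have key : ∀ (q : P) (f : Set (IrrCharacter K)),
        (∀ q' : P, q' • f = f) → (∀ q' : P, q' • (q • f) = q • f) := by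
      intro q f h q'
      rw [h q, h q']
    intro q f
    constructor
    · intro h
      have := key q⁻¹ _ h
      rwa [inv_smul_smul] at this
    · exact key q f
  have hcoef : ∀ (y : Subgroup.centralizer (P : Set G)) (q : P) (f : Set (IrrCharacter K)),
      blockCoeff (q • f) (⟨(y : G), hCK y.2⟩ : K) = blockCoeff f ⟨(y : G), hCK y.2⟩ := by
    intro y q f
    rw [hsmul, blockCoeff_image_conjIrr]
    congr 1
    apply Subtype.ext
    rw [normConj_apply]
    have hy := y.2
    rw [Subgroup.mem_centralizer_iff] at hy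
    have h1 := hy (q : G) q.2
    show (q : G)⁻¹ * (y : G) * (q : G)⁻¹⁻¹ = (y : G)
    rw [inv_inv]
    calc (q : G)⁻¹ * (y : G) * (q : G) = (q : G)⁻¹ * ((y : G) * (q : G)) := by group
      _ = (q : G)⁻¹ * ((q : G) * (y : G)) := by rw [h1]
      _ = (y : G) := by group
  have hfp : ∀ y : Subgroup.centralizer (P : Set G), MemLocalIdeal M
      (∑ f : Set (IrrCharacter K), if IsPBlock M f ∧ ¬ (∀ q : P, q • f = f) then
        blockCoeff f (⟨(y : G), hCK y.2⟩ : K) else 0) := by
    intro y
    apply memLocalIdeal_sum_of_invariant hM hP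
    · intro q f
      simp only [hblk_smul, hstab_smul, hcoef]
    · intro f
      split_ifs with h
      · exact memLocalRing_blockCoeff hMp h.1 _
      · exact memLocalRing_zero ne_top
    · intro f hfix
      rw [if_neg]
      · exact memLocalIdeal_zero ne_top
      · intro h
        exact h.2 hfix
  set 𝔅 : Finset (Set (IrrCharacter K)) := Finset.univ.filter (fun f => IsPBlock M f) with h𝔅
  set 𝔉 : Finset (Set (IrrCharacter K)) :=
    Finset.univ.filter (fun f => IsPBlock M f ∧ ∀ q : P, q • f = f) with h𝔉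
  have hsplit : ∀ y : Subgroup.centralizer (P : Set G),
      (∑ f : Set (IrrCharacter K), if IsPBlock M f ∧ ¬ (∀ q : P, q • f = f) then
        blockCoeff f (⟨(y : G), hCK y.2⟩ : K) else 0) =
      (if y = 1 then (1 : ℂ) else 0) - ∑ f ∈ 𝔉, blockCoeff f (⟨(y : G), hCK y.2⟩ : K) := by
    intro y
    have h1 := sum_blockCoeff_blocks (M := M) 𝔅 (by intro f; simp [h𝔅])
      (⟨(y : G), hCK y.2⟩ : K)
    rw [synth_one] at h1
    have h2 : (⟨(y : G), hCK y.2⟩ : K) = 1 ↔ y = 1 := by
      constructor <;> intro h
      · apply Subtype.ext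
        have := congrArg Subtype.val h
        exact this
      · apply Subtype.ext
        have := congrArg Subtype.val h
        exact this
    have h3 : (if y = 1 then (1 : ℂ) else 0) =
        if (⟨(y : G), hCK y.2⟩ : K) = 1 then (1 : ℂ) else 0 := by
      simp only [h2]
    rw [h3, ← h1, h𝔅, h𝔉, Finset.sum_filter, Finset.sum_filter, ← Finset.sum_sub_distrib]
    apply Finset.sum_congr rfl
    intro f _
    by_cases hb : IsPBlock M f
    · by_cases hs : (∀ q : P, q • f = f)
      · rw [if_neg (fun h => h.2 hs), if_pos hb, if_pos ⟨hb, hs⟩, sub_self]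
      · rw [if_pos ⟨hb, hs⟩, if_pos hb, if_neg (fun h => hs h.2), sub_zero]
    · rw [if_neg (fun h => hb h.1), if_neg hb, if_neg (fun h => hb h.1), sub_zero]
  -- the truncated idempotents
  have hbcf : ∀ f : Set (IrrCharacter K), IsClassFunction (Subgroup.centralizer (P : Set G))
      (resC P (Subgroup.centralizer (P : Set G)) (ext0 K (blockCoeff f))) := by
    intro f
    exact isClassFunction_resC_of_conjInv P _ (Subgroup.centralizer_le_normalizer _)
      ((conjInv_ext0 K (isClassFunction_blockCoeff f)).mono hCK)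
  have hdelta : ∀ y x : Subgroup.centralizer (P : Set G),
      (if x * y * x⁻¹ = 1 then (1 : ℂ) else 0) = if y = 1 then (1 : ℂ) else 0 := by
    intro y x
    have : x * y * x⁻¹ = 1 ↔ y = 1 := by
      constructor
      · intro h
        have : y = x⁻¹ * (x * y * x⁻¹) * x := by group
        rw [this, h]
        group
      · rintro rfl
        group
    simp only [this]
  have h5 : MemLocalIdeal M (omega (ξ : Subgroup.centralizer (P : Set G) → ℂ)
      ((fun y : Subgroup.centralizer (P : Set G) => if y = 1 then (1 : ℂ) else 0) -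
        ∑ f ∈ 𝔉, resC P (Subgroup.centralizer (P : Set G)) (ext0 K (blockCoeff f)))) := by
    apply memLocalIdeal_omega ξ
    · intro y x
      rw [Pi.sub_apply, Pi.sub_apply, Finset.sum_apply, Finset.sum_apply]
      beta_reduce
      rw [hdelta y x]
      congr 1
      apply Finset.sum_congr rfl
      intro f _
      exact hbcf f y x
    · intro y
      rw [Pi.sub_apply, Finset.sum_apply]
      have := hfp y
      rw [hsplit y] at this
      have e : ∑ f ∈ 𝔉, resC P (Subgroup.centralizer (P : Set G)) (ext0 K (blockCoeff f)) y =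
          ∑ f ∈ 𝔉, blockCoeff f (⟨(y : G), hCK y.2⟩ : K) := by
        apply Finset.sum_congr rfl
        intro f _
        exact resC_ext0_apply P K hCK _ y
      rw [e]
      exact this
  rw [omega_sub, omega_delta_one ξ.2, omega_finset_sum] at h5
  -- some stable block has value outside the ideal
  have hex : ∃ f ∈ 𝔉, ¬ MemLocalIdeal M (omega (ξ : Subgroup.centralizer (P : Set G) → ℂ)
      (resC P (Subgroup.centralizer (P : Set G)) (ext0 K (blockCoeff f)))) := by
    by_contra hcon
    push Not at hcon
    have h6 := memLocalIdeal_sum 𝔉 _ hcon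
    have := memLocalIdeal_add h5 h6
    rw [sub_add_cancel] at this
    exact not_memLocalIdeal_one this
  obtain ⟨f, hf𝔉, hft⟩ := hex
  rw [h𝔉, Finset.mem_filter] at hf𝔉
  obtain ⟨-, hf, hfst⟩ := hf𝔉
  have hstab : ∀ x ∈ P, StabilizesBlock K f x := by
    intro x hx
    apply stabilizesBlock_of_image_subset K (hPK hx)
    have := hfst ⟨x, hx⟩
    rw [hsmul] at this
    exact this.le
  refine ⟨f, hf, hstab, ?_⟩
  have haP := conjInv_ext0_blockCoeff_of_stabilizes K P hPK hstab
  have haC : ConjInv (Subgroup.centralizer (P : Set G)) (ext0 K (blockCoeff f)) :=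
    (conjInv_ext0 K (isClassFunction_blockCoeff f)).mono hCK
  have haR : ∀ g, MemLocalRing M (ext0 K (blockCoeff f) g) :=
    memLocalRing_ext0 K (memLocalRing_blockCoeff hMp hf)
  have h7 := omega_resC_conv_cong P hM hP ξ haP haP haC haC haR haR
  rw [conv_ext0, conv_blockCoeff hf hf, if_pos rfl] at h7
  set t := omega (ξ : Subgroup.centralizer (P : Set G) → ℂ)
      (resC P (Subgroup.centralizer (P : Set G)) (ext0 K (blockCoeff f))) with ht
  have htR : MemLocalRing M t := by
    apply memLocalRing_omega ξ (hbcf f)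
    intro y
    rw [resC_ext0_apply P K hCK]
    exact memLocalRing_blockCoeff hMp hf _
  have e : t - t * t = t * (1 - t) := by ring
  rw [e] at h7
  rcases memLocalIdeal_or_of_mul htR
    (memLocalRing_sub (memLocalRing_one ne_top) htR) h7 with h | h
  · exact absurd h hft
  · exact cong_symm h

/-- **Uniqueness of the stable block under the Brauer map.** -/
theorem stable_block_unique (hM : IsPModular p M) (hP : IsPGroup p P)
    (hCK : Subgroup.centralizer (P : Set G) ≤ K) (hPK : P ≤ Subgroup.normalizer (K : Set G))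
    (ξ : IrrCharacter (Subgroup.centralizer (P : Set G))) {f f' : Set (IrrCharacter K)}
    (hf : IsPBlock M f) (hf' : IsPBlock M f') (hstab : ∀ x ∈ P, StabilizesBlock K f x)
    (hstab' : ∀ x ∈ P, StabilizesBlock K f' x)
    (h : MemLocalIdeal M (omega (ξ : Subgroup.centralizer (P : Set G) → ℂ)
        (resC P (Subgroup.centralizer (P : Set G)) (ext0 K (blockCoeff f))) - 1))
    (h' : MemLocalIdeal M (omega (ξ : Subgroup.centralizer (P : Set G) → ℂ)
        (resC P (Subgroup.centralizer (P : Set G)) (ext0 K (blockCoeff f'))) - 1)) :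
    f = f' := by
  classical
  haveI hMp : M.IsPrime := hM.2.1.isPrime
  haveI : Fintype K := Fintype.ofFinite _
  letI : Fintype (IrrCharacter K) := irrFintype
  by_contra hne
  have haP := conjInv_ext0_blockCoeff_of_stabilizes K P hPK hstab
  have haC : ConjInv (Subgroup.centralizer (P : Set G)) (ext0 K (blockCoeff f)) :=
    (conjInv_ext0 K (isClassFunction_blockCoeff f)).mono hCK
  have haR : ∀ g, MemLocalRing M (ext0 K (blockCoeff f) g) :=
    memLocalRing_ext0 K (memLocalRing_blockCoeff hMp hf)
  have hbP := conjInv_ext0_blockCoeff_of_stabilizes K P hPK hstab'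
  have hbC : ConjInv (Subgroup.centralizer (P : Set G)) (ext0 K (blockCoeff f')) :=
    (conjInv_ext0 K (isClassFunction_blockCoeff f')).mono hCK
  have hbR : ∀ g, MemLocalRing M (ext0 K (blockCoeff f') g) :=
    memLocalRing_ext0 K (memLocalRing_blockCoeff hMp hf')
  have h7 := omega_resC_conv_cong P hM hP ξ haP hbP haC hbC haR hbR
  rw [conv_ext0, conv_blockCoeff hf hf', if_neg hne] at h7
  have e0 : resC P (Subgroup.centralizer (P : Set G)) (ext0 K (0 : K → ℂ)) = 0 := by
    funext y
    rw [resC_ext0_apply P K hCK]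
    rfl
  rw [e0, omega_zero, zero_sub] at h7
  have h8 := cong_mul h h' (memLocalRing_one ne_top)
    (memLocalRing_of_cong h' (memLocalRing_one ne_top))
  rw [one_mul] at h8
  have h9 := memLocalIdeal_neg (memLocalIdeal_add h7 h8)
  have e9 : ∀ z : ℂ, -(-z + (z - 1)) = 1 := fun z => by ring
  rw [e9] at h9
  exact not_memLocalIdeal_one h9

end Stable

end Cfsg.Agent.Helper23.Blk
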