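import Mathlib
import Cfsg.Agent.Lib.Helper23.BlockPairs4

/-!
# Brauer pairs: transitivity of normal inclusion (helper23's shared library)
-/

set_option autoImplicit false
set_option linter.unusedSectionVars false

namespace Cfsg.Agent.Helper23.Blk

open Cfsg Cfsg.Agent.Helper24
open scoped ComplexConjugate

universe u

section Absorb

variable {G : Type u} [Group G] [Fintype G] [Fintype (IrrCharacter G)] {M : Ideal AlgInt}
  [hMp : M.IsPrime]

/-- if a central element `u`, idempotent modulo the local ideal, has `ω_ζ(u) ≡ 0` on the block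
`f`, then `u * ε_f ≡ 0` coefficientwise -/
theorem conv_blockCoeff_null {u : G → ℂ} (hu : IsClassFunction G u)
    (huR : ∀ g, MemLocalRing M (u g)) (hidem : ∀ g, MemLocalIdeal M (conv u u g - u g))
    {f : Set (IrrCharacter G)} (hf : IsPBlock M f)
    (hω : ∀ ζ ∈ f, MemLocalIdeal M (omega (ζ : G → ℂ) u)) (g : G) :
    MemLocalIdeal M (conv u (blockCoeff f) g) := by
  classical
  set U : IrrCharacter G → ℂ := fun ζ => omega (ζ : G → ℂ) u with hU
  set E : IrrCharacter G → ℂ := fun ζ => if ζ ∈ f then (1 : ℂ) else 0 with hE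
  have hsU : synth U = u := by
    funext g
    exact synth_omega hu g
  have hsE : synth E = blockCoeff f := by
    funext g
    exact (blockCoeff_eq_synth f g).symm
  have hUi : IsIntegralVec M U := isIntegralVec_omega hu huR
  have hEi : IsIntegralVec M E := by
    intro g
    rw [hsE]
    exact memLocalRing_blockCoeff hMp hf g
  set V : IrrCharacter G → ℂ := U * E with hV
  have hVi : IsIntegralVec M V := hUi.mul hEi
  have hVV : V * V - V = E * (U * U - U) := by
    funext ζ
    simp only [hV, hE, Pi.mul_apply, Pi.sub_apply]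
    by_cases hζ : ζ ∈ f
    · simp only [if_pos hζ]; ring
    · simp only [if_neg hζ]; ring
  have hnull : IsNullVec M (U * U - U) := by
    intro g
    rw [synth_sub, ← conv_synth, hsU]
    exact hidem g
  have hidemV : IsNullVec M (V * V - V) := by
    rw [hVV]
    exact IsNullVec.integral_mul hEi hnull
  have hωV : ∀ ζ, MemLocalIdeal M (V ζ) := by
    intro ζ
    simp only [hV, hE, Pi.mul_apply]
    by_cases hζ : ζ ∈ f
    · simp only [if_pos hζ, mul_one]
      exact hω ζ hζ
    · simp only [if_neg hζ, mul_zero]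
      exact memLocalIdeal_zero ne_top
  have := isNullVec_of_idem hVi hidemV hωV g
  rwa [hV, ← conv_synth, hsU, hsE] at this

end Absorb

section Trunc

variable {G : Type u} [Group G] [Fintype G]

theorem resC_self_eq (T : Subgroup G) (a : G → ℂ) :
    resC T (Subgroup.centralizer (T : Set G)) a =
      fun k : Subgroup.centralizer (T : Set G) => a (k : G) := by
  funext k
  unfold resC
  rw [if_pos k.2]

theorem conjInv_ext0_comp (K S : Subgroup G) (hSK : S ≤ Subgroup.normalizer (K : Set G))
    {a : G → ℂ} (ha : ConjInv S a) : ConjInv S (ext0 K (fun k : K => a (k : G))) := by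
  intro s hs x
  have hsN := hSK hs
  by_cases hx : x ∈ K
  · have hx' : s * x * s⁻¹ ∈ K := (Subgroup.mem_normalizer_iff.1 hsN x).1 hx
    rw [ext0_of_mem _ _ hx, ext0_of_mem _ _ hx']
    exact ha s hs x
  · have hx' : s * x * s⁻¹ ∉ K := by
      intro h
      exact hx ((Subgroup.mem_normalizer_iff.1 hsN x).2 h)
    rw [ext0_of_not_mem _ _ hx, ext0_of_not_mem _ _ hx']

theorem normalizer_le_normalizer_centralizer (Q : Subgroup G) :
    Subgroup.normalizer (Q : Set G) ≤
      Subgroup.normalizer ((Subgroup.centralizer (Q : Set G) : Subgroup G) : Set G) := by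
  intro x hx
  rw [Subgroup.mem_normalizer_iff]
  intro c
  exact (centralizer_conj_mem_iff_of_mem_normalizer hx).symm

end Trunc

section NormalPairs

variable {G : Type u} [Group G] [Fintype G] {M : Ideal AlgInt} {p : ℕ}

theorem resC_ext0_self (Q : Subgroup G) (a : Subgroup.centralizer (Q : Set G) → ℂ) :
    resC Q (Subgroup.centralizer (Q : Set G)) (ext0 (Subgroup.centralizer (Q : Set G)) a) = a := by
  funext y
  unfold resC
  rw [if_pos y.2, ext0_coe]

/-- every Brauer pair is normally included in itself -/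
theorem isNormalSubpair_refl (hM : IsPModular p M) {Q : Subgroup G}
    {f : Set (IrrCharacter (Subgroup.centralizer (Q : Set G)))} (h : IsBrauerPair p M Q f) :
    IsNormalSubpair p M Q f Q f := by
  classical
  haveI hMp : M.IsPrime := hM.2.1.isPrime
  haveI : Fintype (Subgroup.centralizer (Q : Set G)) := Fintype.ofFinite _
  letI : Fintype (IrrCharacter (Subgroup.centralizer (Q : Set G))) := irrFintype
  refine ⟨h, h, le_rfl, Subgroup.le_normalizer, ?_, ?_⟩
  · intro x hx
    refine ⟨normalizer_le_normalizer_centralizer Q (Subgroup.le_normalizer hx), ?_⟩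
    intro χ hχ
    refine ⟨χ, hχ, ?_⟩
    intro k k' hk
    have hkc := k.2
    rw [Subgroup.mem_centralizer_iff] at hkc
    have h1 := hkc x hx
    have h2 : k' = k := by
      apply Subtype.ext
      rw [hk, h1]
      group
    rw [h2]
  · intro ξ hξ
    rw [brauerOmega_eq_omega, subgroupBlockCoeff_eq_ext0, resC_ext0_self, omega_blockCoeff,
      if_pos hξ, sub_self]
    exact memLocalIdeal_zero ne_top

/-- a normal inclusion between pairs on the same subgroup is an equality -/
theorem eq_of_isNormalSubpair_self (hM : IsPModular p M) {Q : Subgroup G}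
    {f f₁ : Set (IrrCharacter (Subgroup.centralizer (Q : Set G)))}
    (h : IsNormalSubpair p M Q f Q f₁) : f = f₁ := by
  classical
  haveI hMp : M.IsPrime := hM.2.1.isPrime
  haveI : Fintype (Subgroup.centralizer (Q : Set G)) := Fintype.ofFinite _
  letI : Fintype (IrrCharacter (Subgroup.centralizer (Q : Set G))) := irrFintype
  obtain ⟨⟨-, hf⟩, ⟨-, hf₁⟩, -, -, -, hbr⟩ := h
  obtain ⟨ξ, hξ⟩ := block_nonempty hM hf₁
  have h1 := hbr ξ hξ
  rw [brauerOmega_eq_omega, subgroupBlockCoeff_eq_ext0, resC_ext0_self, omega_blockCoeff] at h1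
  by_cases hξf : ξ ∈ f
  · exact isPBlock_eq_of_mem hf hf₁ hξf hξ
  · rw [if_neg hξf, zero_sub] at h1
    have := memLocalIdeal_neg h1
    rw [neg_neg] at this
    exact absurd this not_memLocalIdeal_one

/-- **Existence of the normal subpair** (S4656, existence). -/
theorem exists_isNormalSubpair (hM : IsPModular p M) {P Q : Subgroup G}
    {e : Set (IrrCharacter (Subgroup.centralizer (P : Set G)))} (hPe : IsBrauerPair p M P e)
    (hQP : Q ≤ P) (hPN : P ≤ Subgroup.normalizer (Q : Set G)) :
    ∃ f : Set (IrrCharacter (Subgroup.centralizer (Q : Set G))), IsNormalSubpair p M Q f P e := by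
  classical
  haveI hMp : M.IsPrime := hM.2.1.isPrime
  haveI : Fintype (Subgroup.centralizer (Q : Set G)) := Fintype.ofFinite _
  haveI : Fintype (Subgroup.centralizer (P : Set G)) := Fintype.ofFinite _
  letI : Fintype (IrrCharacter (Subgroup.centralizer (Q : Set G))) := irrFintype
  letI : Fintype (IrrCharacter (Subgroup.centralizer (P : Set G))) := irrFintype
  obtain ⟨hP, he⟩ := hPe
  obtain ⟨ξ₀, hξ₀⟩ := block_nonempty hM he
  have hCK : Subgroup.centralizer (P : Set G) ≤ Subgroup.centralizer (Q : Set G) :=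
    Subgroup.centralizer_le hQP
  have hPK : P ≤ Subgroup.normalizer
      ((Subgroup.centralizer (Q : Set G) : Subgroup G) : Set G) :=
    hPN.trans (normalizer_le_normalizer_centralizer Q)
  obtain ⟨f, hf, hstab, ht⟩ :=
    exists_stable_block P (Subgroup.centralizer (Q : Set G)) hM hP hCK hPK ξ₀
  have hQ : IsPGroup p Q := hP.to_le hQP
  refine ⟨f, ⟨hQ, hf⟩, ⟨hP, he⟩, hQP, hPN, hstab, ?_⟩
  intro ξ hξ
  rw [brauerOmega_eq_omega, subgroupBlockCoeff_eq_ext0]
  have hsame : SameBlock M (ξ : Subgroup.centralizer (P : Set G) → ℂ)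
      (ξ₀ : Subgroup.centralizer (P : Set G) → ℂ) := by
    obtain ⟨ξ₁, rfl⟩ := he
    exact sameBlock_trans (sameBlock_symm hξ) hξ₀
  refine cong_trans (memLocalIdeal_omega_sub hsame ?_ ?_) ht
  · exact isClassFunction_resC_of_conjInv P _ (Subgroup.centralizer_le_normalizer _)
      ((conjInv_ext0 _ (isClassFunction_blockCoeff f)).mono hCK)
  · intro y
    rw [resC_ext0_apply P _ hCK]
    exact memLocalRing_blockCoeff hMp hf _

/-- **Uniqueness of the normal subpair** (S4656, uniqueness). -/
theorem isNormalSubpair_unique (hM : IsPModular p M) {P Q : Subgroup G}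
    {e : Set (IrrCharacter (Subgroup.centralizer (P : Set G)))}
    {f f' : Set (IrrCharacter (Subgroup.centralizer (Q : Set G)))}
    (h : IsNormalSubpair p M Q f P e) (h' : IsNormalSubpair p M Q f' P e) : f = f' := by
  classical
  haveI hMp : M.IsPrime := hM.2.1.isPrime
  haveI : Fintype (Subgroup.centralizer (Q : Set G)) := Fintype.ofFinite _
  haveI : Fintype (Subgroup.centralizer (P : Set G)) := Fintype.ofFinite _
  letI : Fintype (IrrCharacter (Subgroup.centralizer (Q : Set G))) := irrFintype
  letI : Fintype (IrrCharacter (Subgroup.centralizer (P : Set G))) := irrFintype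
  obtain ⟨⟨-, hf⟩, ⟨hP, he⟩, hQP, hPN, hstab, hbr⟩ := h
  obtain ⟨⟨-, hf'⟩, -, -, -, hstab', hbr'⟩ := h'
  obtain ⟨ξ₀, hξ₀⟩ := block_nonempty hM he
  have hCK : Subgroup.centralizer (P : Set G) ≤ Subgroup.centralizer (Q : Set G) :=
    Subgroup.centralizer_le hQP
  have hPK : P ≤ Subgroup.normalizer
      ((Subgroup.centralizer (Q : Set G) : Subgroup G) : Set G) :=
    hPN.trans (normalizer_le_normalizer_centralizer Q)
  have h1 := hbr ξ₀ hξ₀
  have h1' := hbr' ξ₀ hξ₀
  rw [brauerOmega_eq_omega, subgroupBlockCoeff_eq_ext0] at h1 h1'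
  exact stable_block_unique P _ hM hP hCK hPK ξ₀ hf hf' hstab hstab' h1 h1'

/-- **Intermediate normal subpairs**: if `(Q, f)` and `(T, g)` are both normally below `(P, e)`
and `Q ≤ T`, then `(Q, f)` is normally below `(T, g)`. -/
theorem isNormalSubpair_of_le_of_normal (hM : IsPModular p M) {Q T P : Subgroup G}
    {f : Set (IrrCharacter (Subgroup.centralizer (Q : Set G)))}
    {g : Set (IrrCharacter (Subgroup.centralizer (T : Set G)))}
    {e : Set (IrrCharacter (Subgroup.centralizer (P : Set G)))}
    (hQT : Q ≤ T) (hQP : IsNormalSubpair p M Q f P e) (hTP : IsNormalSubpair p M T g P e) :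
    IsNormalSubpair p M Q f T g := by
  classical
  haveI hMp : M.IsPrime := hM.2.1.isPrime
  haveI : Fintype (Subgroup.centralizer (Q : Set G)) := Fintype.ofFinite _
  haveI : Fintype (Subgroup.centralizer (T : Set G)) := Fintype.ofFinite _
  haveI : Fintype (Subgroup.centralizer (P : Set G)) := Fintype.ofFinite _
  letI : Fintype (IrrCharacter (Subgroup.centralizer (Q : Set G))) := irrFintype
  letI : Fintype (IrrCharacter (Subgroup.centralizer (T : Set G))) := irrFintype
  letI : Fintype (IrrCharacter (Subgroup.centralizer (P : Set G))) := irrFintype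
  obtain ⟨⟨hQ, hf⟩, ⟨hP, he⟩, hQleP, hPNQ, hstabf, hbrf⟩ := hQP
  obtain ⟨⟨hT, hg⟩, -, hTleP, hPNT, hstabg, hbrg⟩ := hTP
  refine ⟨⟨hQ, hf⟩, ⟨hT, hg⟩, hQT, hTleP.trans hPNQ, fun x hx => hstabf x (hTleP hx), ?_⟩
  intro ζ hζ
  have hKPT : Subgroup.centralizer (P : Set G) ≤ Subgroup.centralizer (T : Set G) :=
    Subgroup.centralizer_le hTleP
  have hKTQ : Subgroup.centralizer (T : Set G) ≤ Subgroup.centralizer (Q : Set G) :=
    Subgroup.centralizer_le hQT
  have hPKQ : P ≤ Subgroup.normalizer
      ((Subgroup.centralizer (Q : Set G) : Subgroup G) : Set G) :=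
    hPNQ.trans (normalizer_le_normalizer_centralizer Q)
  have hPKT : P ≤ Subgroup.normalizer
      ((Subgroup.centralizer (T : Set G) : Subgroup G) : Set G) :=
    hPNT.trans (normalizer_le_normalizer_centralizer T)
  -- the idempotent of `f` on `G`
  set a : G → ℂ := ext0 (Subgroup.centralizer (Q : Set G)) (blockCoeff f) with ha
  have haR : ∀ x, MemLocalRing M (a x) := memLocalRing_ext0 _ (memLocalRing_blockCoeff hMp hf)
  have haP : ConjInv P a := conjInv_ext0_blockCoeff_of_stabilizes _ P hPKQ hstabf
  have haT : ConjInv T a := haP.mono hTleP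
  have haKQ : ConjInv (Subgroup.centralizer (Q : Set G)) a :=
    conjInv_ext0 _ (isClassFunction_blockCoeff f)
  have haKT : ConjInv (Subgroup.centralizer (T : Set G)) a := haKQ.mono hKTQ
  have haa : conv a a = a := by
    rw [ha, conv_ext0, conv_blockCoeff hf hf, if_pos rfl]
  -- its truncation to `C_G(T)`
  set c : Subgroup.centralizer (T : Set G) → ℂ :=
    resC T (Subgroup.centralizer (T : Set G)) a with hc
  have hccf : IsClassFunction _ c :=
    isClassFunction_resC_of_conjInv T _ (Subgroup.centralizer_le_normalizer _) haKT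
  have hc_apply : ∀ y : Subgroup.centralizer (T : Set G), c y = a (y : G) := by
    intro y
    rw [hc, resC_self_eq]
  have hcR : ∀ y, MemLocalRing M (c y) := by
    intro y
    rw [hc_apply]
    exact haR _
  have hcidem : ∀ y, MemLocalIdeal M (conv c c y - c y) := by
    intro y
    have h1 := resC_conv_cong' T (Subgroup.centralizer (T : Set G)) hM hT le_rfl haT haT haR haR y
    rw [haa] at h1
    exact cong_symm h1
  rw [brauerOmega_eq_omega, subgroupBlockCoeff_eq_ext0]
  show MemLocalIdeal M (omega (ζ : Subgroup.centralizer (T : Set G) → ℂ) c - 1)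
  have hs : MemLocalIdeal M (omega (ζ : Subgroup.centralizer (T : Set G) → ℂ) c *
      (omega (ζ : Subgroup.centralizer (T : Set G) → ℂ) c - 1)) := by
    have h1 : MemLocalIdeal M (omega (ζ : Subgroup.centralizer (T : Set G) → ℂ)
        (conv c c - c)) := by
      apply memLocalIdeal_omega ζ
      · intro y x
        rw [Pi.sub_apply, Pi.sub_apply, isClassFunction_conv hccf hccf y x, hccf y x]
      · intro y
        rw [Pi.sub_apply]
        exact hcidem y
    rw [omega_sub, omega_conv ζ hccf hccf] at h1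
    have e1 : omega (ζ : Subgroup.centralizer (T : Set G) → ℂ) c *
        (omega (ζ : Subgroup.centralizer (T : Set G) → ℂ) c - 1) =
        omega (ζ : Subgroup.centralizer (T : Set G) → ℂ) c *
          omega (ζ : Subgroup.centralizer (T : Set G) → ℂ) c -
        omega (ζ : Subgroup.centralizer (T : Set G) → ℂ) c := by ring
    rw [e1]
    exact h1
  have hsR : MemLocalRing M (omega (ζ : Subgroup.centralizer (T : Set G) → ℂ) c) :=
    memLocalRing_omega ζ hccf hcR
  rcases memLocalIdeal_or_of_mul hsR (memLocalRing_sub hsR (memLocalRing_one ne_top)) hs with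
    h0 | h1
  swap
  · exact h1
  exfalso
  have hall : ∀ ζ' ∈ g, MemLocalIdeal M
      (omega (ζ' : Subgroup.centralizer (T : Set G) → ℂ) c) := by
    intro ζ' hζ'
    have hsame : SameBlock M (ζ' : Subgroup.centralizer (T : Set G) → ℂ)
        (ζ : Subgroup.centralizer (T : Set G) → ℂ) := by
      obtain ⟨ζ₁, rfl⟩ := hg
      exact sameBlock_trans (sameBlock_symm hζ') hζ
    have := memLocalIdeal_add (memLocalIdeal_omega_sub hsame hccf hcR) h0
    rwa [sub_add_cancel] at this
  have hnull := conv_blockCoeff_null hccf hcR hcidem hg hall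
  -- extend to `G` and apply the Brauer map at `P`
  set ch : G → ℂ := ext0 (Subgroup.centralizer (T : Set G)) c with hch
  set gh : G → ℂ := ext0 (Subgroup.centralizer (T : Set G)) (blockCoeff g) with hgh
  have hconv : conv ch gh = ext0 (Subgroup.centralizer (T : Set G)) (conv c (blockCoeff g)) :=
    conv_ext0 _ _ _
  have hchR : ∀ x, MemLocalRing M (ch x) := memLocalRing_ext0 _ hcR
  have hghR : ∀ x, MemLocalRing M (gh x) :=
    memLocalRing_ext0 _ (memLocalRing_blockCoeff hMp hg)
  have hc_eq : c = fun k : Subgroup.centralizer (T : Set G) => a (k : G) := by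
    rw [hc, resC_self_eq]
  have hchP : ConjInv P ch := by
    rw [hch, hc_eq]
    exact conjInv_ext0_comp _ P hPKT haP
  have hchC : ConjInv (Subgroup.centralizer (P : Set G)) ch := by
    rw [hch, hc_eq]
    exact conjInv_ext0_comp _ _ (hKPT.trans Subgroup.le_normalizer) (haKQ.mono (hKPT.trans hKTQ))
  have hghP : ConjInv P gh := conjInv_ext0_blockCoeff_of_stabilizes _ P hPKT hstabg
  have hghC : ConjInv (Subgroup.centralizer (P : Set G)) gh :=
    (conjInv_ext0 _ (isClassFunction_blockCoeff g)).mono hKPT
  obtain ⟨ξ, hξ⟩ := block_nonempty hM he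
  have h7 := omega_resC_conv_cong P hM hP ξ hchP hghP hchC hghC hchR hghR
  have hL : MemLocalIdeal M (omega (ξ : Subgroup.centralizer (P : Set G) → ℂ)
      (resC P (Subgroup.centralizer (P : Set G)) (conv ch gh))) := by
    apply memLocalIdeal_omega ξ
    · exact isClassFunction_resC_of_conjInv P _ (Subgroup.centralizer_le_normalizer _)
        (hchC.conv hghC)
    · intro y
      rw [hconv, resC_ext0_apply P _ hKPT]
      exact hnull _
  have hch_res : resC P (Subgroup.centralizer (P : Set G)) ch =
      resC P (Subgroup.centralizer (P : Set G)) a := by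
    funext y
    rw [hch, resC_ext0_apply P _ hKPT, hc_apply]
    unfold resC
    rw [if_pos y.2]
  have h1' : MemLocalIdeal M (omega (ξ : Subgroup.centralizer (P : Set G) → ℂ)
      (resC P (Subgroup.centralizer (P : Set G)) ch) - 1) := by
    rw [hch_res]
    have := hbrf ξ hξ
    rwa [brauerOmega_eq_omega, subgroupBlockCoeff_eq_ext0] at this
  have h2' : MemLocalIdeal M (omega (ξ : Subgroup.centralizer (P : Set G) → ℂ)
      (resC P (Subgroup.centralizer (P : Set G)) gh) - 1) := by
    have := hbrg ξ hξ
    rwa [brauerOmega_eq_omega, subgroupBlockCoeff_eq_ext0] at this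
  have h8 := cong_mul h1' h2' (memLocalRing_one ne_top)
    (memLocalRing_of_cong h2' (memLocalRing_one ne_top))
  rw [one_mul] at h8
  have h9 := memLocalIdeal_sub hL h7
  rw [sub_sub_cancel] at h9
  have h10 := memLocalIdeal_sub h9 h8
  rw [sub_sub_cancel] at h10
  exact not_memLocalIdeal_one h10

/-- **Transitivity of normal inclusion** when the top group normalizes the bottom one. -/
theorem isNormalSubpair_trans (hM : IsPModular p M) {Q Q₁ Q₂ : Subgroup G}
    {f : Set (IrrCharacter (Subgroup.centralizer (Q : Set G)))}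
    {f₁ : Set (IrrCharacter (Subgroup.centralizer (Q₁ : Set G)))}
    {f₂ : Set (IrrCharacter (Subgroup.centralizer (Q₂ : Set G)))}
    (h1 : IsNormalSubpair p M Q f Q₁ f₁) (h2 : IsNormalSubpair p M Q₁ f₁ Q₂ f₂)
    (hN : Q₂ ≤ Subgroup.normalizer (Q : Set G)) : IsNormalSubpair p M Q f Q₂ f₂ := by
  have hQQ₁ : Q ≤ Q₁ := h1.2.2.1
  have hQ₁Q₂ : Q₁ ≤ Q₂ := h2.2.2.1
  obtain ⟨fs, hfs⟩ := exists_isNormalSubpair hM h2.2.1 (hQQ₁.trans hQ₁Q₂) hN
  have h3 := isNormalSubpair_of_le_of_normal hM hQQ₁ hfs h2
  have h4 : fs = f := isNormalSubpair_unique hM h3 h1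
  rw [← h4]
  exact hfs

end NormalPairs

end Cfsg.Agent.Helper23.Blk
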