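import Mathlib
import Cfsg.Agent.Lib.Helper23.BlockPairs5
import Cfsg.Agent.Lib.Helper12.PGroup

/-!
# Brauer pairs: existence and uniqueness of subpairs (helper23's shared library)
-/

set_option autoImplicit false
set_option linter.unusedSectionVars false

namespace Cfsg.Agent.Helper23.Blk

open Cfsg Cfsg.Agent.Helper24
open scoped ComplexConjugate

universe u

section Chains

variable {G : Type u} [Group G] [Fintype G] {M : Ideal AlgInt} {p : ℕ}

theorem chain_le {a b : BrauerPairIdx G}
    (h : Relation.ReflTransGen (NormalSubpairRel p M) a b) : a.1 ≤ b.1 := by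
  induction h with
  | refl => exact le_rfl
  | tail _ hstep ih => exact ih.trans hstep.2.2.1

theorem chain_isBrauerPair {a b : BrauerPairIdx G}
    (h : Relation.ReflTransGen (NormalSubpairRel p M) a b) (hb : IsBrauerPair p M b.1 b.2) :
    IsBrauerPair p M a.1 a.2 := by
  rcases Relation.ReflTransGen.cases_head h with rfl | ⟨c, hac, -⟩
  · exact hb
  · exact hac.1

/-- a chain ending in a subgroup normalizing the start collapses to one normal step -/
theorem normal_of_chain (hM : IsPModular p M) {a b : BrauerPairIdx G}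
    (h : Relation.ReflTransGen (NormalSubpairRel p M) a b) :
    ∀ (Q : Subgroup G) (f : Set (IrrCharacter (Subgroup.centralizer (Q : Set G)))),
      IsNormalSubpair p M Q f a.1 a.2 → b.1 ≤ Subgroup.normalizer (Q : Set G) →
        IsNormalSubpair p M Q f b.1 b.2 := by
  induction h with
  | refl => exact fun _ _ h _ => h
  | tail hab' hstep ih =>
    intro Q f hQa hN
    have h1 := ih Q f hQa (hstep.2.2.1.trans hN)
    exact isNormalSubpair_trans hM h1 hstep hN

/-- a chain between pairs on different subgroups starts with a strict step -/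
theorem exists_strict_head (hM : IsPModular p M) {a b : BrauerPairIdx G}
    (h : Relation.ReflTransGen (NormalSubpairRel p M) a b) :
    a.1 ≠ b.1 → ∃ c : BrauerPairIdx G, a.1 < c.1 ∧ NormalSubpairRel p M a c ∧
      Relation.ReflTransGen (NormalSubpairRel p M) c b := by
  refine Relation.ReflTransGen.head_induction_on h ?_ ?_
  · intro hne
    exact absurd rfl hne
  · intro a c hac hcb ih hne
    by_cases hac1 : a.1 = c.1
    · have hac' : a = c := by
        obtain ⟨Q, f⟩ := a
        obtain ⟨Q₁, f₁⟩ := c
        simp only at hac1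
        subst hac1
        have : f = f₁ := eq_of_isNormalSubpair_self hM hac
        subst this
        rfl
      subst hac'
      exact ih hne
    · exact ⟨c, lt_of_le_of_ne hac.2.2.1 hac1, hac, hcb⟩

end Chains

section Exists

variable {G : Type u} [Group G] [Fintype G] {M : Ideal AlgInt} {p : ℕ}

/-- **Existence of subpairs.** -/
theorem exists_subpairLE (hM : IsPModular p M) [Fact p.Prime] :
    ∀ (n : ℕ) (P Q : Subgroup G) (e : Set (IrrCharacter (Subgroup.centralizer (P : Set G)))),
      IsBrauerPair p M P e → Q ≤ P → Nat.card P - Nat.card Q = n →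
      ∃ f : Set (IrrCharacter (Subgroup.centralizer (Q : Set G))),
        IsPBlock M f ∧ SubpairLE p M Q f P e := by
  intro n
  induction n using Nat.strong_induction_on with
  | _ n ih =>
    intro P Q e hPe hQP hn
    rcases eq_or_lt_of_le hQP with rfl | hlt
    · exact ⟨e, hPe.2, Relation.ReflTransGen.refl⟩
    · obtain ⟨x, hxP, hxQ, hxN⟩ :=
        Cfsg.Agent.Helper12.exists_mem_normalizer_not_mem P hPe.1 Q hlt
      set R : Subgroup G := P ⊓ Subgroup.normalizer (Q : Set G) with hR
      have hQR : Q ≤ R := le_inf hQP Subgroup.le_normalizer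
      have hRP : R ≤ P := inf_le_left
      have hRN : R ≤ Subgroup.normalizer (Q : Set G) := inf_le_right
      have hQltR : Q < R := lt_of_le_of_ne hQR (by
        intro h
        apply hxQ
        rw [h]
        exact ⟨hxP, hxN⟩)
      have hcard1 : Nat.card Q < Nat.card R := Cfsg.Agent.Helper12.card_lt_card_of_lt hQltR
      have hcard2 : Nat.card R ≤ Nat.card P := Subgroup.card_le_of_le hRP
      obtain ⟨fR, hfR, hleR⟩ := ih (Nat.card P - Nat.card R) (by omega) P R e hPe hRP rfl
      have hRpair : IsBrauerPair p M R fR := ⟨hPe.1.to_le hRP, hfR⟩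
      obtain ⟨f, hf⟩ := exists_isNormalSubpair hM hRpair hQR hRN
      have hstep : NormalSubpairRel p M ⟨Q, f⟩ ⟨R, fR⟩ := hf
      exact ⟨f, hf.1.2, Relation.ReflTransGen.head hstep hleR⟩

/-- **Uniqueness of subpairs.** -/
theorem subpairLE_unique (hM : IsPModular p M) [Fact p.Prime] :
    ∀ (n : ℕ) (P Q : Subgroup G) (e : Set (IrrCharacter (Subgroup.centralizer (P : Set G)))),
      IsBrauerPair p M P e → Nat.card P - Nat.card Q = n →
      ∀ f f' : Set (IrrCharacter (Subgroup.centralizer (Q : Set G))),
        SubpairLE p M Q f P e → SubpairLE p M Q f' P e → f = f' := by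
  intro n
  induction n using Nat.strong_induction_on with
  | _ n ih =>
    intro P Q e hPe hn f f' hf hf'
    have hQP : Q ≤ P := chain_le hf
    by_cases hQeq : Q = P
    · subst hQeq
      have h1 := normal_of_chain hM hf Q f
        (isNormalSubpair_refl hM (chain_isBrauerPair hf hPe)) Subgroup.le_normalizer
      have h2 := normal_of_chain hM hf' Q f'
        (isNormalSubpair_refl hM (chain_isBrauerPair hf' hPe)) Subgroup.le_normalizer
      exact (eq_of_isNormalSubpair_self hM h1).trans (eq_of_isNormalSubpair_self hM h2).symm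
    · obtain ⟨⟨Q₁, f₁⟩, hlt₁, hstep₁, hchain₁⟩ := exists_strict_head hM hf hQeq
      obtain ⟨⟨Q₁', f₁'⟩, hlt₁', hstep₁', hchain₁'⟩ := exists_strict_head hM hf' hQeq
      simp only at hlt₁ hlt₁'
      set R : Subgroup G := P ⊓ Subgroup.normalizer (Q : Set G) with hR
      have hRP : R ≤ P := inf_le_left
      have hRN : R ≤ Subgroup.normalizer (Q : Set G) := inf_le_right
      have hQ₁R : Q₁ ≤ R := le_inf (chain_le hchain₁) hstep₁.2.2.2.1
      have hQ₁'R : Q₁' ≤ R := le_inf (chain_le hchain₁') hstep₁'.2.2.2.1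
      have hcardR : Nat.card R ≤ Nat.card P := Subgroup.card_le_of_le hRP
      obtain ⟨g, hg, hgle⟩ := exists_subpairLE hM _ P R e hPe hRP rfl
      have hRpair : IsBrauerPair p M R g := ⟨hPe.1.to_le hRP, hg⟩
      -- both first steps lie below `(R, g)`
      have key : ∀ (Q₂ : Subgroup G)
          (f₂ : Set (IrrCharacter (Subgroup.centralizer (Q₂ : Set G)))), Q < Q₂ → Q₂ ≤ R →
          Relation.ReflTransGen (NormalSubpairRel p M) ⟨Q₂, f₂⟩ ⟨P, e⟩ →
          Relation.ReflTransGen (NormalSubpairRel p M) ⟨Q₂, f₂⟩ ⟨R, g⟩ := by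
        intro Q₂ f₂ hlt hle hch
        obtain ⟨h₂, hh₂, hh₂le⟩ := exists_subpairLE hM _ R Q₂ g hRpair hle rfl
        have h3 : SubpairLE p M Q₂ h₂ P e := Relation.ReflTransGen.trans hh₂le hgle
        have hc1 : Nat.card Q < Nat.card Q₂ := Cfsg.Agent.Helper12.card_lt_card_of_lt hlt
        have hc2 : Nat.card Q₂ ≤ Nat.card P := Subgroup.card_le_of_le (hle.trans hRP)
        have h4 : h₂ = f₂ :=
          ih (Nat.card P - Nat.card Q₂) (by omega) P Q₂ e hPe rfl h₂ f₂ h3 hch
        rw [← h4]
        exact hh₂le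
      have hc₁ := key Q₁ f₁ hlt₁ hQ₁R hchain₁
      have hc₁' := key Q₁' f₁' hlt₁' hQ₁'R hchain₁'
      have hn₁ := normal_of_chain hM hc₁ Q f hstep₁ hRN
      have hn₁' := normal_of_chain hM hc₁' Q f' hstep₁' hRN
      exact isNormalSubpair_unique hM hn₁ hn₁'

end Exists

end Cfsg.Agent.Helper23.Blk
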