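import Mathlib
import Cfsg.Agent.Lib.Helper23.BlockPairs6

/-!
# Orbit sums of block idempotents of a normal subgroup are block idempotents
(helper23's shared library)

A Fong–Reynolds type statement: if every block idempotent of `L` is supported on the normal
subgroup `C`, then for a block `e` of `C` the sum of the distinct `L`-conjugates of the
idempotent of `e` is a block idempotent of `L`.
-/

set_option autoImplicit false
set_option linter.unusedSectionVars false

namespace Cfsg.Agent.Helper23.Blk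

open Cfsg Cfsg.Agent.Helper24
open scoped ComplexConjugate

universe u

section Spectral

variable {G : Type u} [Group G] [Fintype G] [Fintype (IrrCharacter G)]

/-- the central characters of a central idempotent take the values `0` and `1` -/
theorem omega_eq_zero_or_one_of_idem (ψ : IrrCharacter G) {z : G → ℂ}
    (hz : IsClassFunction G z) (hzz : conv z z = z) :
    omega (ψ : G → ℂ) z = 0 ∨ omega (ψ : G → ℂ) z = 1 := by
  have h1 : omega (ψ : G → ℂ) z * omega (ψ : G → ℂ) z = omega (ψ : G → ℂ) z := by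
    rw [← omega_conv ψ hz hz, hzz]
  have h2 : omega (ψ : G → ℂ) z * (omega (ψ : G → ℂ) z - 1) = 0 := by
    rw [mul_sub, h1, mul_one, sub_self]
  rcases mul_eq_zero.1 h2 with h | h
  · exact Or.inl h
  · exact Or.inr (sub_eq_zero.1 h)

/-- a central idempotent is the sum of the primitive central idempotents it contains -/
theorem eq_blockCoeff_of_idem {z : G → ℂ} (hz : IsClassFunction G z) (hzz : conv z z = z) :
    z = blockCoeff {ψ : IrrCharacter G | omega (ψ : G → ℂ) z = 1} := by
  classical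
  funext g
  rw [blockCoeff_eq_synth, ← synth_omega hz g]
  have : (fun χ : IrrCharacter G => omega (χ : G → ℂ) z) =
      fun χ : IrrCharacter G =>
        if χ ∈ {ψ : IrrCharacter G | omega (ψ : G → ℂ) z = 1} then (1 : ℂ) else 0 := by
    funext ψ
    rcases omega_eq_zero_or_one_of_idem ψ hz hzz with h | h
    · rw [if_neg, h]
      rw [Set.mem_setOf_eq, h]
      exact zero_ne_one
    · rw [if_pos, h]
      exact h
  rw [this]

end Spectral

section Support

variable {G : Type u} [Group G] [Fintype G] (K : Subgroup G)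

theorem ext0_comp_subtype {a : G → ℂ} (ha : ∀ g, g ∉ K → a g = 0) :
    ext0 K (fun k : K => a (k : G)) = a := by
  funext g
  by_cases hg : g ∈ K
  · rw [ext0_of_mem K _ hg]
  · rw [ext0_of_not_mem K _ hg, ha g hg]

theorem conv_comp_subtype [Fintype K] {a b : G → ℂ} (ha : ∀ g, g ∉ K → a g = 0)
    (hb : ∀ g, g ∉ K → b g = 0) (k : K) :
    conv (fun k : K => a (k : G)) (fun k : K => b (k : G)) k = conv a b (k : G) := by
  have h := conv_ext0 K (fun k : K => a (k : G)) (fun k : K => b (k : G))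
  rw [ext0_comp_subtype K ha, ext0_comp_subtype K hb] at h
  rw [h, ext0_coe]

theorem ext0_injective {a b : K → ℂ} (h : ext0 K a = ext0 K b) : a = b := by
  funext k
  have := congrFun h (k : G)
  rwa [ext0_coe, ext0_coe] at this

theorem ext0_ext0 {C : Subgroup G} (hCK : C ≤ K) (a : C → ℂ) :
    ext0 K (fun k : K => ext0 C a (k : G)) = ext0 C a := by
  apply ext0_comp_subtype
  intro g hg
  exact ext0_of_not_mem C a (fun h => hg (hCK h))

end Support

section Orbit

variable {G : Type u} [Group G] [Fintype G] {M : Ideal AlgInt} (C L : Subgroup G)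
  (hLN : L ≤ Subgroup.normalizer (C : Set G))

theorem ext0_blockCoeff_image_conjIrr {x : G} (hx : x ∈ Subgroup.normalizer (C : Set G))
    (f : Set (IrrCharacter C)) (g : G) :
    ext0 C (blockCoeff (conjIrr C x hx '' f)) g = ext0 C (blockCoeff f) (x⁻¹ * g * x) := by
  have hxinv : x⁻¹ ∈ Subgroup.normalizer (C : Set G) := Subgroup.inv_mem _ hx
  by_cases hg : g ∈ C
  · have hg' : x⁻¹ * g * x ∈ C := by
      have := (Subgroup.mem_normalizer_iff.1 hxinv g).1 hg
      rwa [inv_inv] at this
    rw [ext0_of_mem C _ hg, ext0_of_mem C _ hg', blockCoeff_image_conjIrr]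
    congr 1
    apply Subtype.ext
    rw [normConj_apply]
    simp
  · have hg' : x⁻¹ * g * x ∉ C := by
      intro h
      apply hg
      have := (Subgroup.mem_normalizer_iff.1 hx (x⁻¹ * g * x)).1 h
      have e : x * (x⁻¹ * g * x) * x⁻¹ = g := by group
      rwa [e] at this
    rw [ext0_of_not_mem C _ hg, ext0_of_not_mem C _ hg']

open Classical in
/-- the `L`-orbit of the block `e` of `C` -/
noncomputable def blockOrbit (e : Set (IrrCharacter C)) : Finset (Set (IrrCharacter C)) :=
  Finset.univ.image (fun x : L => conjIrr C (x : G) (hLN x.2) '' e)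

theorem mem_blockOrbit {e e' : Set (IrrCharacter C)} :
    e' ∈ blockOrbit C L hLN e ↔ ∃ x : L, conjIrr C (x : G) (hLN x.2) '' e = e' := by
  classical
  unfold blockOrbit
  rw [Finset.mem_image]
  simp

theorem self_mem_blockOrbit (e : Set (IrrCharacter C)) : e ∈ blockOrbit C L hLN e := by
  rw [mem_blockOrbit]
  refine ⟨1, ?_⟩
  have : conjIrr C ((1 : L) : G) (hLN (1 : L).2) = id := by
    funext χ
    exact conjIrr_one' C χ
  rw [this, Set.image_id]

theorem image_conjIrr_image {x y : G} (hx : x ∈ Subgroup.normalizer (C : Set G))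
    (hy : y ∈ Subgroup.normalizer (C : Set G)) (f : Set (IrrCharacter C)) :
    conjIrr C x hx '' (conjIrr C y hy '' f) =
      conjIrr C (x * y) (Subgroup.mul_mem _ hx hy) '' f := by
  rw [Set.image_image]
  apply Set.image_congr'
  intro χ
  exact (conjIrr_mul' C hx hy χ).symm

theorem image_conjIrr_inv_image {x : G} (hx : x ∈ Subgroup.normalizer (C : Set G))
    (f : Set (IrrCharacter C)) :
    conjIrr C x⁻¹ (Subgroup.inv_mem _ hx) '' (conjIrr C x hx '' f) = f := by
  rw [Set.image_image]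
  have : (fun χ => conjIrr C x⁻¹ (Subgroup.inv_mem _ hx) (conjIrr C x hx χ)) = id := by
    funext χ
    exact conjIrr_cancel_inv C hx χ
  rw [this, Set.image_id]

theorem image_conjIrr_image_inv {x : G} (hx : x ∈ Subgroup.normalizer (C : Set G))
    (f : Set (IrrCharacter C)) :
    conjIrr C x hx '' (conjIrr C x⁻¹ (Subgroup.inv_mem _ hx) '' f) = f := by
  rw [Set.image_image]
  have : (fun χ => conjIrr C x hx (conjIrr C x⁻¹ (Subgroup.inv_mem _ hx) χ)) = id := by
    funext χ
    exact conjIrr_inv_cancel C hx χ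
  rw [this, Set.image_id]

theorem image_mem_blockOrbit {e e' : Set (IrrCharacter C)} (h : e' ∈ blockOrbit C L hLN e)
    {x : G} (hx : x ∈ L) : conjIrr C x (hLN hx) '' e' ∈ blockOrbit C L hLN e := by
  rw [mem_blockOrbit] at h ⊢
  obtain ⟨y, rfl⟩ := h
  refine ⟨⟨x, hx⟩ * y, ?_⟩
  rw [image_conjIrr_image]
  rfl

theorem isPBlock_of_mem_blockOrbit [hMp : M.IsPrime] {e e' : Set (IrrCharacter C)}
    (he : IsPBlock M e) (h : e' ∈ blockOrbit C L hLN e) : IsPBlock M e' := by
  rw [mem_blockOrbit] at h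
  obtain ⟨x, rfl⟩ := h
  exact isPBlock_image_conjIrr C (hLN x.2) he

/-- the sum of the distinct `L`-conjugates of the idempotent of `e` -/
noncomputable def orbitSum (e : Set (IrrCharacter C)) : G → ℂ :=
  fun g => ∑ e' ∈ blockOrbit C L hLN e, ext0 C (blockCoeff e') g

theorem orbitSum_of_not_mem (e : Set (IrrCharacter C)) {g : G} (hg : g ∉ C) :
    orbitSum C L hLN e g = 0 := by
  unfold orbitSum
  apply Finset.sum_eq_zero
  intro e' _
  exact ext0_of_not_mem C _ hg

theorem orbitSum_conj (e : Set (IrrCharacter C)) {x : G} (hx : x ∈ L) (g : G) :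
    orbitSum C L hLN e (x * g * x⁻¹) = orbitSum C L hLN e g := by
  classical
  unfold orbitSum
  have hxN := hLN hx
  have hxinv : x⁻¹ ∈ L := L.inv_mem hx
  symm
  apply Finset.sum_bij (fun e' _ => conjIrr C x (hLN hx) '' e')
  · intro e' he'
    exact image_mem_blockOrbit C L hLN he' hx
  · intro e₁ _ e₂ _ h12
    have := congrArg (fun f => conjIrr C x⁻¹ (Subgroup.inv_mem _ hxN) '' f) h12
    simpa only [image_conjIrr_inv_image] using this
  · intro e'' he''
    refine ⟨conjIrr C x⁻¹ (hLN hxinv) '' e'', image_mem_blockOrbit C L hLN he'' hxinv, ?_⟩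
    exact image_conjIrr_image_inv C hxN e''
  · intro e' _
    rw [ext0_blockCoeff_image_conjIrr]
    congr 1
    group

theorem memLocalRing_orbitSum [hMp : M.IsPrime] {e : Set (IrrCharacter C)} (he : IsPBlock M e)
    (g : G) : MemLocalRing M (orbitSum C L hLN e g) := by
  unfold orbitSum
  apply memLocalRing_sum
  intro e' he'
  exact memLocalRing_ext0 C
    (memLocalRing_blockCoeff hMp (isPBlock_of_mem_blockOrbit C L hLN he he')) g

theorem orbitSum_eq_ext0 (e : Set (IrrCharacter C)) :
    orbitSum C L hLN e =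
      ext0 C (fun c => ∑ e' ∈ blockOrbit C L hLN e, blockCoeff e' c) := by
  funext g
  unfold orbitSum
  by_cases hg : g ∈ C
  · rw [ext0_of_mem C _ hg]
    apply Finset.sum_congr rfl
    intro e' _
    rw [ext0_of_mem C _ hg]
  · rw [ext0_of_not_mem C _ hg]
    apply Finset.sum_eq_zero
    intro e' _
    exact ext0_of_not_mem C _ hg

end Orbit

section OmegaEquiv

variable {K : Type u} [Group K] [Fintype K] {K' : Type u} [Group K'] [Fintype K']

theorem omega_comp_equiv (σ : K ≃* K') (χ a : K' → ℂ) :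
    omega (χ ∘ σ) (a ∘ σ) = omega χ a := by
  unfold omega
  rw [Function.comp_apply, map_one]
  congr 1
  exact Equiv.sum_comp σ.toEquiv (fun k' => a k' * χ k')

end OmegaEquiv

section OrbitC

variable {G : Type u} [Group G] [Fintype G] {M : Ideal AlgInt} (C L : Subgroup G)
  (hLN : L ≤ Subgroup.normalizer (C : Set G)) [Fintype C] [Fintype (IrrCharacter C)]

/-- the orbit sum as a function on `C` -/
noncomputable def orbitSumC (e : Set (IrrCharacter C)) : C → ℂ :=
  fun c => ∑ e' ∈ blockOrbit C L hLN e, blockCoeff e' c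

theorem orbitSum_eq_ext0' (e : Set (IrrCharacter C)) :
    orbitSum C L hLN e = ext0 C (orbitSumC C L hLN e) :=
  orbitSum_eq_ext0 C L hLN e

theorem orbitSumC_eq_sum (e : Set (IrrCharacter C)) :
    orbitSumC C L hLN e = ∑ e' ∈ blockOrbit C L hLN e, blockCoeff e' := by
  funext c
  rw [Finset.sum_apply]
  rfl

theorem isClassFunction_orbitSumC (e : Set (IrrCharacter C)) :
    IsClassFunction C (orbitSumC C L hLN e) := by
  intro c x
  unfold orbitSumC
  apply Finset.sum_congr rfl
  intro e' _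
  exact isClassFunction_blockCoeff e' c x

open Classical in
theorem omega_orbitSumC [hMp : M.IsPrime] {e : Set (IrrCharacter C)} (he : IsPBlock M e)
    (ξ : IrrCharacter C) :
    omega (ξ : C → ℂ) (orbitSumC C L hLN e) =
      if ∃ e' ∈ blockOrbit C L hLN e, ξ ∈ e' then 1 else 0 := by
  rw [orbitSumC_eq_sum, omega_finset_sum]
  simp only [omega_blockCoeff]
  split_ifs with h
  · obtain ⟨e', he', hξ⟩ := h
    rw [Finset.sum_eq_single_of_mem e' he', if_pos hξ]
    intro e'' he'' hne
    rw [if_neg]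
    intro hξ''
    exact hne (isPBlock_eq_of_mem (isPBlock_of_mem_blockOrbit C L hLN he he'')
      (isPBlock_of_mem_blockOrbit C L hLN he he') hξ'' hξ)
  · apply Finset.sum_eq_zero
    intro e' he'
    rw [if_neg]
    intro hξ
    exact h ⟨e', he', hξ⟩

theorem conv_orbitSumC [hMp : M.IsPrime] {e : Set (IrrCharacter C)} (he : IsPBlock M e) :
    conv (orbitSumC C L hLN e) (orbitSumC C L hLN e) = orbitSumC C L hLN e := by
  classical
  have hcf := isClassFunction_orbitSumC C L hLN e
  funext c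
  rw [← synth_omega (isClassFunction_conv hcf hcf) c, ← synth_omega hcf c]
  have : (fun χ : IrrCharacter C => omega (χ : C → ℂ)
      (conv (orbitSumC C L hLN e) (orbitSumC C L hLN e))) =
      fun χ : IrrCharacter C => omega (χ : C → ℂ) (orbitSumC C L hLN e) := by
    funext χ
    rw [omega_conv χ hcf hcf, omega_orbitSumC C L hLN he]
    split_ifs <;> simp
  rw [this]

theorem conv_orbitSum [hMp : M.IsPrime] {e : Set (IrrCharacter C)} (he : IsPBlock M e) :
    conv (orbitSum C L hLN e) (orbitSum C L hLN e) = orbitSum C L hLN e := by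
  rw [orbitSum_eq_ext0', conv_ext0, conv_orbitSumC C L hLN he]

end OrbitC

section Main

variable {G : Type u} [Group G] [Fintype G] {M : Ideal AlgInt} {p : ℕ} (C L : Subgroup G)
  (hLN : L ≤ Subgroup.normalizer (C : Set G))

/-- **Orbit sums are block idempotents** when all block idempotents of `L` are supported on
the normal subgroup `C`. -/
theorem exists_block_orbitSum (hM : IsPModular p M) (hCL : C ≤ L)
    (hsupp : ∀ B' : Set (IrrCharacter L), IsPBlock M B' → ∀ t : L, (t : G) ∉ C →
      blockCoeff B' t = 0)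
    {e : Set (IrrCharacter C)} (he : IsPBlock M e) :
    ∃ E : Set (IrrCharacter L), IsPBlock M E ∧
      ∀ t : L, blockCoeff E t = orbitSum C L hLN e (t : G) := by
  classical
  haveI hMp : M.IsPrime := hM.2.1.isPrime
  haveI : Fintype C := Fintype.ofFinite _
  haveI : Fintype L := Fintype.ofFinite _
  letI : Fintype (IrrCharacter C) := irrFintype
  letI : Fintype (IrrCharacter L) := irrFintype
  set s : G → ℂ := orbitSum C L hLN e with hs
  set sC : C → ℂ := orbitSumC C L hLN e with hsC
  set sL : L → ℂ := fun t => s (t : G) with hsL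
  have hs_ext : s = ext0 C sC := orbitSum_eq_ext0' C L hLN e
  have hs_supp : ∀ g, g ∉ L → s g = 0 := fun g hg =>
    orbitSum_of_not_mem C L hLN e (fun h => hg (hCL h))
  have hsLcf : IsClassFunction L sL := by
    intro t x
    show s ((x * t * x⁻¹ : L) : G) = s (t : G)
    have h1 : ((x * t * x⁻¹ : L) : G) = (x : G) * (t : G) * (x : G)⁻¹ := by
      push_cast
      rfl
    rw [h1]
    exact orbitSum_conj C L hLN e x.2 _
  have hsLR : ∀ t, MemLocalRing M (sL t) := fun t => memLocalRing_orbitSum C L hLN he _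
  have hss : conv s s = s := conv_orbitSum C L hLN he
  have hsLsL : conv sL sL = sL := by
    funext t
    rw [hsL, conv_comp_subtype L hs_supp hs_supp t, hss]
  have hsL_ext : ext0 L sL = s := ext0_comp_subtype L hs_supp
  set A : Set (IrrCharacter L) := {ψ | omega (ψ : L → ℂ) sL = 1} with hAdef
  have hA : sL = blockCoeff A := eq_blockCoeff_of_idem hsLcf hsLsL
  obtain ⟨ξe, hξe⟩ := block_nonempty hM he
  have hωe : omega (ξe : C → ℂ) sC = 1 := by
    rw [hsC, omega_orbitSumC C L hLN he, if_pos ⟨e, self_mem_blockOrbit C L hLN e, hξe⟩]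
  have hAne : ∃ ψ₀, ψ₀ ∈ A := by
    by_contra hcon
    push Not at hcon
    have hA0 : A = ∅ := Set.eq_empty_of_forall_notMem hcon
    have h0 : sL = 0 := by
      rw [hA, hA0]
      funext t
      unfold blockCoeff
      simp
    have hs0 : s = 0 := by
      rw [← hsL_ext, h0]
      funext g
      unfold ext0
      split_ifs <;> rfl
    have hsC0 : sC = 0 := by
      apply ext0_injective C
      rw [← hs_ext, hs0]
      funext g
      unfold ext0
      split_ifs <;> rfl
    rw [hsC0, omega_zero] at hωe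
    exact zero_ne_one hωe
  obtain ⟨ψ₀, hψ₀⟩ := hAne
  have hAR : ∀ t, MemLocalRing M (blockCoeff A t) := by
    intro t
    rw [← hA]
    exact hsLR t
  have hB₁A : blockOf M (ψ₀ : L → ℂ) ⊆ A := blockOf_subset_of_memLocalRing hMp hAR hψ₀
  have hB₁ : IsPBlock M (blockOf M (ψ₀ : L → ℂ)) := ⟨ψ₀, rfl⟩
  refine ⟨blockOf M (ψ₀ : L → ℂ), hB₁, ?_⟩
  set ε₁ : L → ℂ := blockCoeff (blockOf M (ψ₀ : L → ℂ)) with hε₁
  have hε₁cf : IsClassFunction L ε₁ := isClassFunction_blockCoeff _
  have hε₁R : ∀ t, MemLocalRing M (ε₁ t) := memLocalRing_blockCoeff hMp hB₁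
  have hε₁ε₁ : conv ε₁ ε₁ = ε₁ := by
    rw [hε₁, conv_blockCoeff hB₁ hB₁, if_pos rfl]
  have hε₁s : conv ε₁ sL = ε₁ := by
    funext t
    rw [← synth_omega (isClassFunction_conv hε₁cf hsLcf) t, ← synth_omega hε₁cf t]
    have : (fun χ : IrrCharacter L => omega (χ : L → ℂ) (conv ε₁ sL)) =
        fun χ : IrrCharacter L => omega (χ : L → ℂ) ε₁ := by
      funext χ
      rw [omega_conv χ hε₁cf hsLcf, hε₁, omega_blockCoeff]
      by_cases hχ : χ ∈ blockOf M (ψ₀ : L → ℂ)
      · rw [if_pos hχ, one_mul]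
        exact hB₁A hχ
      · rw [if_neg hχ, zero_mul]
    rw [this]
  -- transport to `C`
  set u : C → ℂ := fun c => ε₁ ⟨(c : G), hCL c.2⟩ with hu
  have hε₁G : ext0 L ε₁ = ext0 C u := by
    funext g
    by_cases hgC : g ∈ C
    · rw [ext0_of_mem L _ (hCL hgC), ext0_of_mem C _ hgC]
    · rw [ext0_of_not_mem C _ hgC]
      by_cases hgL : g ∈ L
      · rw [ext0_of_mem L _ hgL]
        exact hsupp _ hB₁ ⟨g, hgL⟩ hgC
      · rw [ext0_of_not_mem L _ hgL]
  have huu : conv u u = u := by
    apply ext0_injective C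
    rw [← conv_ext0, ← hε₁G, conv_ext0, hε₁ε₁]
  have hus : conv u sC = u := by
    apply ext0_injective C
    rw [← conv_ext0, ← hε₁G, ← hs_ext, ← hsL_ext, conv_ext0, hε₁s]
  have hucf : IsClassFunction C u := by
    intro c x
    show ε₁ ⟨((x * c * x⁻¹ : C) : G), _⟩ = ε₁ ⟨(c : G), _⟩
    have h1 : (⟨((x * c * x⁻¹ : C) : G), hCL (x * c * x⁻¹).2⟩ : L) =
        (⟨(x : G), hCL x.2⟩ : L) * ⟨(c : G), hCL c.2⟩ * (⟨(x : G), hCL x.2⟩ : L)⁻¹ := by
      apply Subtype.ext
      push_cast
      rfl
    rw [h1]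
    exact hε₁cf _ _
  have huR : ∀ c, MemLocalRing M (u c) := fun c => hε₁R _
  have hu_inv : ∀ (x : G) (hx : x ∈ L), u ∘ (normConj C x (hLN hx)) = u := by
    intro x hx
    funext c
    show ε₁ ⟨((normConj C x (hLN hx) c : C) : G), _⟩ = ε₁ ⟨(c : G), _⟩
    have h1 : (⟨((normConj C x (hLN hx) c : C) : G), hCL (normConj C x (hLN hx) c).2⟩ : L) =
        (⟨x, hx⟩ : L) * ⟨(c : G), hCL c.2⟩ * (⟨x, hx⟩ : L)⁻¹ := by
      apply Subtype.ext
      rw [normConj_apply]
      push_cast
      rfl
    rw [h1]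
    exact hε₁cf _ _
  have hU01 : ∀ ξ : IrrCharacter C, omega (ξ : C → ℂ) u = 0 ∨ omega (ξ : C → ℂ) u = 1 :=
    fun ξ => omega_eq_zero_or_one_of_idem ξ hucf huu
  have hscf : IsClassFunction C sC := isClassFunction_orbitSumC C L hLN e
  have h1 : ∀ ξ : IrrCharacter C, omega (ξ : C → ℂ) u = 1 →
      ∃ e' ∈ blockOrbit C L hLN e, ξ ∈ e' := by
    intro ξ hξ
    have h := omega_conv ξ hucf hscf
    rw [hus, hξ, one_mul, hsC, omega_orbitSumC C L hLN he] at h
    by_contra hcon
    rw [if_neg hcon] at h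
    exact one_ne_zero h
  have h2 : ∃ ξ₁ : IrrCharacter C, omega (ξ₁ : C → ℂ) u = 1 := by
    by_contra hcon
    push Not at hcon
    have hu0 : u = 0 := by
      funext c
      rw [← synth_omega hucf c]
      have : (fun χ : IrrCharacter C => omega (χ : C → ℂ) u) = 0 := by
        funext χ
        exact (hU01 χ).resolve_right (hcon χ)
      rw [this, synth_zero]
      rfl
    have hε0 : ε₁ = 0 := by
      apply ext0_injective L
      rw [hε₁G, hu0]
      funext g
      unfold ext0
      split_ifs <;> rfl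
    have h3 : omega (ψ₀ : L → ℂ) ε₁ = 1 := by
      rw [hε₁, omega_blockCoeff, if_pos (mem_blockOf_self ψ₀)]
    rw [hε0, omega_zero] at h3
    exact zero_ne_one h3
  have hUinv : ∀ (x : G) (hx : x ∈ L) (ξ : IrrCharacter C),
      omega (conjIrr C x (hLN hx) ξ : C → ℂ) u = omega (ξ : C → ℂ) u := by
    intro x hx ξ
    have hxinv : x⁻¹ ∈ L := L.inv_mem hx
    have h := omega_comp_equiv (normConj C x⁻¹ (hLN hxinv)) (ξ : C → ℂ) u
    rw [hu_inv x⁻¹ hxinv] at h
    exact h
  obtain ⟨ξ₁, hξ₁⟩ := h2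
  obtain ⟨e₁, he₁, hξ₁e₁⟩ := h1 ξ₁ hξ₁
  rw [mem_blockOrbit] at he₁
  obtain ⟨x₁, rfl⟩ := he₁
  obtain ⟨ξ₀, hξ₀e, rfl⟩ := hξ₁e₁
  have hξ₀ : omega (ξ₀ : C → ℂ) u = 1 := by
    rw [← hUinv (x₁ : G) x₁.2 ξ₀]
    exact hξ₁
  have h3 : ∀ ξ ∈ e, omega (ξ : C → ℂ) u = 1 := by
    intro ξ hξ
    have hsame : SameBlock M (ξ : C → ℂ) (ξ₀ : C → ℂ) := by
      obtain ⟨ξ₂, rfl⟩ := he
      exact sameBlock_trans (sameBlock_symm hξ) hξ₀e
    have h := memLocalIdeal_omega_sub (M := M) hsame hucf huR
    rcases hU01 ξ with h0 | h1'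
    · rw [h0, hξ₀, zero_sub] at h
      have := memLocalIdeal_neg h
      rw [neg_neg] at this
      exact absurd this not_memLocalIdeal_one
    · exact h1'
  have h4 : ∀ e' ∈ blockOrbit C L hLN e, ∀ ξ ∈ e', omega (ξ : C → ℂ) u = 1 := by
    intro e' he' ξ hξ
    rw [mem_blockOrbit] at he'
    obtain ⟨x, rfl⟩ := he'
    obtain ⟨ξ', hξ', rfl⟩ := hξ
    rw [hUinv (x : G) x.2 ξ']
    exact h3 ξ' hξ'
  have h5 : ∀ ξ : IrrCharacter C, omega (ξ : C → ℂ) u = omega (ξ : C → ℂ) sC := by
    intro ξ
    rw [hsC, omega_orbitSumC C L hLN he]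
    split_ifs with h
    · obtain ⟨e', he', hξ⟩ := h
      exact h4 e' he' ξ hξ
    · exact (hU01 ξ).resolve_right (fun h' => h (h1 ξ h'))
  have h6 : u = sC := by
    funext c
    rw [← synth_omega hucf c, ← synth_omega hscf c]
    have : (fun χ : IrrCharacter C => omega (χ : C → ℂ) u) =
        fun χ : IrrCharacter C => omega (χ : C → ℂ) sC := funext h5
    rw [this]
  intro t
  have h7 := congrFun hε₁G (t : G)
  rw [ext0_coe, h6, ← hs_ext] at h7
  exact h7

end Main

end Cfsg.Agent.Helper23.Blk
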