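import Mathlib
import Cfsg.Agent.Lib.Helper23.BlockFR

/-!
# Transport of blocks along isomorphisms; supports; stabilizers (helper23's shared library)
-/

set_option autoImplicit false
set_option linter.unusedSectionVars false

namespace Cfsg.Agent.Helper23.Blk

open Cfsg Cfsg.Agent.Helper24
open scoped ComplexConjugate

universe u v

section Transport

variable {K : Type u} [Group K] {K' : Type v} [Group K'] {M : Ideal AlgInt}

/-- pull back an irreducible character along an isomorphism -/
noncomputable def irrComp (σ : K ≃* K') (χ : IrrCharacter K') : IrrCharacter K :=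
  ⟨(χ : K' → ℂ) ∘ σ, Cfsg.Agent.Helper5.isIrrCharacter_comp_equiv σ χ.2⟩

theorem irrComp_apply (σ : K ≃* K') (χ : IrrCharacter K') (k : K) :
    (irrComp σ χ : K → ℂ) k = (χ : K' → ℂ) (σ k) := rfl

theorem irrComp_symm_irrComp (σ : K ≃* K') (χ : IrrCharacter K') :
    irrComp σ.symm (irrComp σ χ) = χ := by
  apply Subtype.ext
  funext k
  rw [irrComp_apply, irrComp_apply, σ.apply_symm_apply]

theorem irrComp_irrComp_symm (σ : K ≃* K') (χ : IrrCharacter K) :
    irrComp σ (irrComp σ.symm χ) = χ := by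
  apply Subtype.ext
  funext k
  rw [irrComp_apply, irrComp_apply, σ.symm_apply_apply]

theorem irrComp_injective (σ : K ≃* K') : Function.Injective (irrComp σ) := by
  intro χ ψ h
  rw [← irrComp_symm_irrComp σ χ, h, irrComp_symm_irrComp]

theorem image_irrComp_blockOf (σ : K ≃* K') (χ : IrrCharacter K') :
    irrComp σ '' (blockOf M (χ : K' → ℂ)) = blockOf M (irrComp σ χ : K → ℂ) := by
  ext ψ'
  constructor
  · rintro ⟨ψ, hψ, rfl⟩
    exact sameBlock_comp_equiv σ hψ
  · intro hψ'
    refine ⟨irrComp σ.symm ψ', ?_, irrComp_irrComp_symm σ ψ'⟩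
    have h1 : SameBlock M (irrComp σ.symm (irrComp σ χ) : K' → ℂ)
        (irrComp σ.symm ψ' : K' → ℂ) := sameBlock_comp_equiv σ.symm hψ'
    rwa [irrComp_symm_irrComp] at h1

theorem isPBlock_image_irrComp (σ : K ≃* K') {f : Set (IrrCharacter K')} (hf : IsPBlock M f) :
    IsPBlock M (irrComp σ '' f) := by
  obtain ⟨χ, rfl⟩ := hf
  exact ⟨irrComp σ χ, image_irrComp_blockOf σ χ⟩

theorem blockCoeff_image_irrComp [Finite K] [Finite K'] (σ : K ≃* K')
    (f : Set (IrrCharacter K')) (k : K) :
    blockCoeff (irrComp σ '' f) k = blockCoeff f (σ k) := by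
  unfold blockCoeff
  rw [Nat.card_congr σ.toEquiv]
  congr 1
  rw [finsum_mem_image ((irrComp_injective σ).injOn)]
  apply finsum_mem_congr rfl
  intro χ _
  rw [irrComp_apply, irrComp_apply, map_one]

end Transport

section SupportL

variable {G : Type u} [Group G] [Fintype G] {M : Ideal AlgInt} {p : ℕ}

/-- block idempotents of a subgroup `L` with `P ≤ L ≤ N_G(P)` vanish off `C_G(P)` -/
theorem blockCoeff_eq_zero_of_not_mem_centralizer' (hM : IsPModular p M) (P L : Subgroup G)
    (hP : IsPGroup p P) (hPL : P ≤ L) (hLN : L ≤ Subgroup.normalizer (P : Set G))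
    {B' : Set (IrrCharacter L)} (hB' : IsPBlock M B') (t : L)
    (ht : (t : G) ∉ Subgroup.centralizer (P : Set G)) : blockCoeff B' t = 0 := by
  classical
  haveI : Fintype L := Fintype.ofFinite _
  haveI : (P.subgroupOf L).Normal := Subgroup.normal_subgroupOf_of_le_normalizer hLN
  have hPL' : IsPGroup p (P.subgroupOf L) := hP.comap_subtype
  apply blockCoeff_eq_zero_of_not_mem_centralizer hM hB' (P.subgroupOf L) hPL'
  intro hc
  apply ht
  rw [Subgroup.mem_centralizer_iff] at hc ⊢
  intro w hw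
  have h1 := hc ⟨w, hPL hw⟩ (by
    show (⟨w, hPL hw⟩ : L) ∈ P.subgroupOf L
    rw [Subgroup.mem_subgroupOf]
    exact hw)
  have h2 := congrArg Subtype.val h1
  push_cast at h2
  exact h2

end SupportL

section Stab

variable {G : Type u} [Group G] [Fintype G] {M : Ideal AlgInt} (C : Subgroup G)

theorem image_conjIrr_eq_of_stabilizes [hMp : M.IsPrime] {f : Set (IrrCharacter C)}
    (hf : IsPBlock M f) (hne : f.Nonempty) {x : G} (h : StabilizesBlock C f x) :
    conjIrr C x h.1 '' f = f := by
  classical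
  haveI : Fintype C := Fintype.ofFinite _
  obtain ⟨hx, hst⟩ := h
  have hsub : conjIrr C x hx '' f ⊆ f := by
    rintro _ ⟨χ, hχ, rfl⟩
    obtain ⟨χ', hχ', hconj⟩ := hst χ hχ
    have : conjIrr C x hx χ = χ' := by
      apply Subtype.ext
      funext k
      rw [conjIrr_apply]
      symm
      apply hconj
      rw [normConj_apply]
      group
    rw [this]
    exact hχ'
  obtain ⟨χ, hχ⟩ := hne
  exact isPBlock_eq_of_mem (isPBlock_image_conjIrr C hx hf) hf ⟨χ, hχ, rfl⟩ (hsub ⟨χ, hχ, rfl⟩)

theorem stabilizesBlock_of_mem (f : Set (IrrCharacter C)) {c : G} (hc : c ∈ C) :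
    StabilizesBlock C f c := by
  refine ⟨Subgroup.le_normalizer hc, ?_⟩
  intro χ hχ
  refine ⟨χ, hχ, ?_⟩
  intro k k' hk
  have h1 : k' = (⟨c, hc⟩ : C) * k * (⟨c, hc⟩ : C)⁻¹ := by
    apply Subtype.ext
    rw [hk]
    push_cast
    rfl
  rw [h1]
  exact isClassFunction_of_isIrrCharacter χ.2 k ⟨c, hc⟩

theorem stabilizesBlock_of_commute (P : Subgroup G)
    (f : Set (IrrCharacter (Subgroup.centralizer (P : Set G)))) {x : G} (hx : x ∈ P) :
    StabilizesBlock (Subgroup.centralizer (P : Set G)) f x := by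
  refine ⟨normalizer_le_normalizer_centralizer P (Subgroup.le_normalizer hx), ?_⟩
  intro χ hχ
  refine ⟨χ, hχ, ?_⟩
  intro k k' hk
  have hkc := k.2
  rw [Subgroup.mem_centralizer_iff] at hkc
  have h1 := hkc x hx
  have h2 : k' = k := by
    apply Subtype.ext
    rw [hk, h1]
    group
  rw [h2]

end Stab

section OrbitCount

variable {G : Type u} [Group G] [Fintype G] {M : Ideal AlgInt} (C L : Subgroup G)
  (hLN : L ≤ Subgroup.normalizer (C : Set G))

theorem orbitSum_of_stable {e : Set (IrrCharacter C)}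
    (h : ∀ x : L, conjIrr C (x : G) (hLN x.2) '' e = e) :
    orbitSum C L hLN e = ext0 C (blockCoeff e) := by
  classical
  have horb : blockOrbit C L hLN e = {e} := by
    ext e'
    rw [mem_blockOrbit, Finset.mem_singleton]
    constructor
    · rintro ⟨x, rfl⟩
      exact h x
    · rintro rfl
      exact ⟨1, h 1⟩
  funext g
  unfold orbitSum
  rw [horb, Finset.sum_singleton]

/-- the full conjugation sum is the stabilizer order times the orbit sum -/
theorem sum_conj_eq_card_mul_orbitSum [Fintype L] (e : Set (IrrCharacter C)) (g : G) :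
    ∑ x : L, ext0 C (blockCoeff e) ((x : G)⁻¹ * g * (x : G)) =
      (Nat.card {x : L // conjIrr C (x : G) (hLN x.2) '' e = e} : ℂ) *
        orbitSum C L hLN e g := by
  classical
  have h1 : ∀ x : L, ext0 C (blockCoeff e) ((x : G)⁻¹ * g * (x : G)) =
      ext0 C (blockCoeff (conjIrr C (x : G) (hLN x.2) '' e)) g := by
    intro x
    rw [ext0_blockCoeff_image_conjIrr]
  rw [Finset.sum_congr rfl (fun x _ => h1 x)]
  have h2 := Finset.sum_comp (s := (Finset.univ : Finset L))
    (fun e' : Set (IrrCharacter C) => ext0 C (blockCoeff e') g)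
    (fun x : L => conjIrr C (x : G) (hLN x.2) '' e)
  rw [h2]
  unfold orbitSum blockOrbit
  rw [Finset.mul_sum]
  refine Finset.sum_congr (by ext b; simp only [Finset.mem_image, Finset.mem_univ, true_and]) ?_
  intro e' he'
  rw [Finset.mem_image] at he'
  obtain ⟨y, -, rfl⟩ := he'
  rw [nsmul_eq_mul]
  congr 2
  rw [Nat.card_eq_fintype_card, Fintype.card_subtype]
  apply Finset.card_bij (fun x _ => y⁻¹ * x)
  · intro x hx
    rw [Finset.mem_filter] at hx ⊢
    refine ⟨Finset.mem_univ _, ?_⟩
    have h3 : conjIrr C ((y⁻¹ * x : L) : G) (hLN (y⁻¹ * x).2) '' e =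
        conjIrr C ((y : G)⁻¹) (Subgroup.inv_mem _ (hLN y.2)) ''
          (conjIrr C (x : G) (hLN x.2) '' e) := by
      rw [image_conjIrr_image]
      rfl
    rw [h3, hx.2, image_conjIrr_inv_image]
  · intro x₁ _ x₂ _ h12
    exact mul_left_cancel h12
  · intro z hz
    rw [Finset.mem_filter] at hz
    refine ⟨y * z, ?_, by group⟩
    rw [Finset.mem_filter]
    refine ⟨Finset.mem_univ _, ?_⟩
    have h3 : conjIrr C ((y * z : L) : G) (hLN (y * z).2) '' e =
        conjIrr C (y : G) (hLN y.2) '' (conjIrr C (z : G) (hLN z.2) '' e) := by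
      rw [image_conjIrr_image]
      rfl
    rw [h3, hz.2]

end OrbitCount

end Cfsg.Agent.Helper23.Blk
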