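import Mathlib
import Cfsg.Agent.Lib.Helper23.BlockFR2
import Cfsg.Agent.S0919
import Cfsg.Agent.S4657

/-!
# Maximal Brauer pairs and defect groups (helper23's shared library)
-/

set_option autoImplicit false
set_option linter.unusedSectionVars false

namespace Cfsg.Agent.Helper23.Blk

open Cfsg Cfsg.Agent.Helper24
open scoped ComplexConjugate

universe u

section StableConj

variable {G : Type u} [Group G] [Fintype G] {M : Ideal AlgInt} {p : ℕ} (C L : Subgroup G)
  (hLN : L ≤ Subgroup.normalizer (C : Set G))

/-- if an orbit sum does not vanish at a point centralized by the `p`-subgroup `D ≤ L`, some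
conjugate of `D` stabilizes the block and the idempotent of the block does not vanish at the
corresponding conjugate of the point -/
theorem exists_stable_conj_of_orbitSum (hM : IsPModular p M) {e : Set (IrrCharacter C)}
    (he : IsPBlock M e) (D : Subgroup G) (hD : IsPGroup p D) (hDL : D ≤ L) {y : G}
    (hy : y ∈ Subgroup.centralizer (D : Set G))
    (h : ¬ MemLocalIdeal M (orbitSum C L hLN e y)) :
    ∃ n ∈ L, (∀ d ∈ D, StabilizesBlock C e (n⁻¹ * d * n)) ∧
      ¬ MemLocalIdeal M (ext0 C (blockCoeff e) (n⁻¹ * y * n)) := by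
  classical
  haveI hMp : M.IsPrime := hM.2.1.isPrime
  haveI : Fintype C := Fintype.ofFinite _
  letI : Fintype (IrrCharacter C) := irrFintype
  haveI : Fintype (Set (IrrCharacter C)) := Fintype.ofFinite _
  have hDN : D ≤ Subgroup.normalizer (C : Set G) := hDL.trans hLN
  letI act : MulAction D (Set (IrrCharacter C)) :=
    { smul := fun q f => conjIrr C (q : G) (hDN q.2) '' f
      one_smul := fun f => by
        show conjIrr C ((1 : D) : G) _ '' f = f
        have : conjIrr C ((1 : D) : G) (hDN (1 : D).2) = id := by
          funext χ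
          exact conjIrr_one' C χ
        rw [this, Set.image_id]
      mul_smul := fun q q' f => by
        show conjIrr C ((q * q' : D) : G) _ '' f =
          conjIrr C (q : G) _ '' (conjIrr C (q' : G) _ '' f)
        rw [Set.image_image]
        apply Set.image_congr'
        intro χ
        exact conjIrr_mul' C (hDN q.2) (hDN q'.2) χ }
  have hsmul : ∀ (q : D) (f : Set (IrrCharacter C)),
      q • f = conjIrr C (q : G) (hDN q.2) '' f := fun _ _ => rfl
  by_contra hcon
  push Not at hcon
  apply h
  have hsum : orbitSum C L hLN e y = ∑ e' : Set (IrrCharacter C),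
      if e' ∈ blockOrbit C L hLN e then ext0 C (blockCoeff e') y else 0 := by
    unfold orbitSum
    rw [← Finset.sum_filter]
    apply Finset.sum_congr
    · ext e'
      simp
    · intro _ _
      rfl
  rw [hsum]
  apply memLocalIdeal_sum_of_invariant hM hD
  · intro q e'
    have h1 : q • e' ∈ blockOrbit C L hLN e ↔ e' ∈ blockOrbit C L hLN e := by
      constructor
      · intro hq
        have := image_mem_blockOrbit C L hLN hq (L.inv_mem (hDL q.2))
        rw [hsmul] at this
        have e1 : conjIrr C ((q : G)⁻¹) (hLN (L.inv_mem (hDL q.2))) ''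
            (conjIrr C (q : G) (hDN q.2) '' e') = e' := image_conjIrr_inv_image C (hDN q.2) e'
        rwa [e1] at this
      · intro hq
        exact image_mem_blockOrbit C L hLN hq (hDL q.2)
    have h2 : ext0 C (blockCoeff (q • e')) y = ext0 C (blockCoeff e') y := by
      rw [hsmul, ext0_blockCoeff_image_conjIrr]
      congr 1
      rw [Subgroup.mem_centralizer_iff] at hy
      have h3 := hy (q : G) q.2
      calc (q : G)⁻¹ * y * (q : G) = (q : G)⁻¹ * ((q : G) * y) := by rw [h3]; group
        _ = y := by group
    simp only [h1, h2]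
  · intro e'
    split_ifs with h1
    · exact memLocalRing_ext0 C
        (memLocalRing_blockCoeff hMp (isPBlock_of_mem_blockOrbit C L hLN he h1)) y
    · exact memLocalRing_zero ne_top
  · intro e' hfix
    split_ifs with h1
    · rw [mem_blockOrbit] at h1
      obtain ⟨n, rfl⟩ := h1
      have hnN := hLN n.2
      have key := hcon (n : G) n.2 (by
        intro d hd
        apply stabilizesBlock_of_image_subset C
          (Subgroup.mul_mem _ (Subgroup.mul_mem _ (Subgroup.inv_mem _ hnN) (hDN hd)) hnN)
        have h2 := hfix ⟨d, hd⟩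
        rw [hsmul] at h2
        have h3 : conjIrr C ((n : G)⁻¹ * d * (n : G))
            (Subgroup.mul_mem _ (Subgroup.mul_mem _ (Subgroup.inv_mem _ hnN) (hDN hd)) hnN) '' e =
            conjIrr C ((n : G)⁻¹) (Subgroup.inv_mem _ hnN) ''
              (conjIrr C d (hDN hd) '' (conjIrr C (n : G) hnN '' e)) := by
          rw [image_conjIrr_image, image_conjIrr_image]
        rw [h3, h2, image_conjIrr_inv_image])
      rw [ext0_blockCoeff_image_conjIrr]
      exact key
    · exact memLocalIdeal_zero ne_top

end StableConj

section SuperPair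

variable {G : Type u} [Group G] [Fintype G] {M : Ideal AlgInt} {p : ℕ}

/-- **Extension of a Brauer pair** to a `p`-subgroup `R` normalizing it, when the idempotent
of the block survives the Brauer map at `R`. -/
theorem exists_normal_superpair (hM : IsPModular p M) {Q R : Subgroup G}
    {f : Set (IrrCharacter (Subgroup.centralizer (Q : Set G)))} (hQf : IsBrauerPair p M Q f)
    (hR : IsPGroup p R) (hQR : Q ≤ R) (hRN : R ≤ Subgroup.normalizer (Q : Set G))
    (hstab : ∀ x ∈ R, StabilizesBlock (Subgroup.centralizer (Q : Set G)) f x) {y : G}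
    (hy : y ∈ Subgroup.centralizer (R : Set G))
    (hfy : ¬ MemLocalIdeal M (ext0 (Subgroup.centralizer (Q : Set G)) (blockCoeff f) y)) :
    ∃ g : Set (IrrCharacter (Subgroup.centralizer (R : Set G))),
      IsNormalSubpair p M Q f R g := by
  classical
  haveI hMp : M.IsPrime := hM.2.1.isPrime
  haveI : Fintype (Subgroup.centralizer (Q : Set G)) := Fintype.ofFinite _
  haveI : Fintype (Subgroup.centralizer (R : Set G)) := Fintype.ofFinite _
  letI : Fintype (IrrCharacter (Subgroup.centralizer (Q : Set G))) := irrFintype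
  letI : Fintype (IrrCharacter (Subgroup.centralizer (R : Set G))) := irrFintype
  obtain ⟨hQ, hf⟩ := hQf
  have hKRQ : Subgroup.centralizer (R : Set G) ≤ Subgroup.centralizer (Q : Set G) :=
    Subgroup.centralizer_le hQR
  have hRKQ : R ≤ Subgroup.normalizer
      ((Subgroup.centralizer (Q : Set G) : Subgroup G) : Set G) :=
    hRN.trans (normalizer_le_normalizer_centralizer Q)
  set a : G → ℂ := ext0 (Subgroup.centralizer (Q : Set G)) (blockCoeff f) with ha
  have haR : ∀ x, MemLocalRing M (a x) := memLocalRing_ext0 _ (memLocalRing_blockCoeff hMp hf)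
  have haRR : ConjInv R a := conjInv_ext0_blockCoeff_of_stabilizes _ R hRKQ hstab
  have haK : ConjInv (Subgroup.centralizer (R : Set G)) a :=
    (conjInv_ext0 _ (isClassFunction_blockCoeff f)).mono hKRQ
  have haa : conv a a = a := by
    rw [ha, conv_ext0, conv_blockCoeff hf hf, if_pos rfl]
  set c : Subgroup.centralizer (R : Set G) → ℂ :=
    resC R (Subgroup.centralizer (R : Set G)) a with hc
  have hccf : IsClassFunction _ c :=
    isClassFunction_resC_of_conjInv R _ (Subgroup.centralizer_le_normalizer _) haK
  have hc_apply : ∀ z : Subgroup.centralizer (R : Set G), c z = a (z : G) := by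
    intro z
    rw [hc, resC_self_eq]
  have hcR : ∀ z, MemLocalRing M (c z) := by
    intro z
    rw [hc_apply]
    exact haR _
  have hcidem : ∀ z, MemLocalIdeal M (conv c c z - c z) := by
    intro z
    have h1 := resC_conv_cong' R (Subgroup.centralizer (R : Set G)) hM hR le_rfl haRR haRR
      haR haR z
    rw [haa] at h1
    exact cong_symm h1
  -- some central character does not vanish on `c`
  have hex : ∃ ζ : IrrCharacter (Subgroup.centralizer (R : Set G)),
      ¬ MemLocalIdeal M (omega (ζ : Subgroup.centralizer (R : Set G) → ℂ) c) := by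
    by_contra hcon
    push Not at hcon
    have := null_of_idem_of_omega hccf hcR hcidem hcon ⟨y, hy⟩
    rw [hc_apply] at this
    exact hfy this
  obtain ⟨ζ, hζ⟩ := hex
  have hζR : MemLocalRing M (omega (ζ : Subgroup.centralizer (R : Set G) → ℂ) c) :=
    memLocalRing_omega ζ hccf hcR
  have hζ1 : MemLocalIdeal M (omega (ζ : Subgroup.centralizer (R : Set G) → ℂ) c - 1) := by
    have h1 : MemLocalIdeal M (omega (ζ : Subgroup.centralizer (R : Set G) → ℂ)
        (conv c c - c)) := by
      apply memLocalIdeal_omega ζ
      · intro z x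
        rw [Pi.sub_apply, Pi.sub_apply, isClassFunction_conv hccf hccf z x, hccf z x]
      · intro z
        rw [Pi.sub_apply]
        exact hcidem z
    rw [omega_sub, omega_conv ζ hccf hccf] at h1
    have e1 : omega (ζ : Subgroup.centralizer (R : Set G) → ℂ) c *
        omega (ζ : Subgroup.centralizer (R : Set G) → ℂ) c -
        omega (ζ : Subgroup.centralizer (R : Set G) → ℂ) c =
        omega (ζ : Subgroup.centralizer (R : Set G) → ℂ) c *
          (omega (ζ : Subgroup.centralizer (R : Set G) → ℂ) c - 1) := by ring
    rw [e1] at h1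
    rcases memLocalIdeal_or_of_mul hζR (memLocalRing_sub hζR (memLocalRing_one ne_top)) h1 with
      h | h
    · exact absurd h hζ
    · exact h
  refine ⟨blockOf M (ζ : Subgroup.centralizer (R : Set G) → ℂ),
    ⟨hQ, hf⟩, ⟨hR, ⟨ζ, rfl⟩⟩, hQR, hRN, hstab, ?_⟩
  intro ζ' hζ'
  rw [brauerOmega_eq_omega, subgroupBlockCoeff_eq_ext0]
  have hsame : SameBlock M (ζ' : Subgroup.centralizer (R : Set G) → ℂ)
      (ζ : Subgroup.centralizer (R : Set G) → ℂ) := sameBlock_symm hζ'
  exact cong_trans (memLocalIdeal_omega_sub hsame hccf hcR) hζ1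

end SuperPair

section MaxPair

variable {G : Type u} [Group G] [Fintype G] {M : Ideal AlgInt} {p : ℕ}

/-- **The block of the normalizer attached to a Brauer pair without proper normal superpairs**:
its idempotent is the orbit sum of the idempotent of `e`, it has defect group `P`, and it induces
the block `B`. -/
theorem maxPair_block (hM : IsPModular p M) [Fact p.Prime]
    {B : Set (IrrCharacter G)} {P : Subgroup G}
    {e : Set (IrrCharacter (Subgroup.centralizer (P : Set G)))}
    (hBe : IsBrauerPairOf p M B P e)
    (hno : ∀ (R : Subgroup G) (g : Set (IrrCharacter (Subgroup.centralizer (R : Set G)))),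
      IsNormalSubpair p M P e R g → R = P) :
    ∃ b : Set (IrrCharacter (Subgroup.normalizer (P : Set G))), IsPBlock M b ∧
      (∀ t : Subgroup.normalizer (P : Set G), blockCoeff b t =
        orbitSum (Subgroup.centralizer (P : Set G)) (Subgroup.normalizer (P : Set G))
          (normalizer_le_normalizer_centralizer P) e (t : G)) ∧
      IsDefectGroup p M b (P.subgroupOf (Subgroup.normalizer (P : Set G))) ∧
      IsInducedBlock M (Subgroup.normalizer (P : Set G)) b B := by
  classical
  haveI hMp : M.IsPrime := hM.2.1.isPrime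
  haveI : Fintype (Subgroup.centralizer (P : Set G)) := Fintype.ofFinite _
  haveI : Fintype (Subgroup.normalizer (P : Set G)) := Fintype.ofFinite _
  letI : Fintype (IrrCharacter G) := irrFintype
  letI : Fintype (IrrCharacter (Subgroup.centralizer (P : Set G))) := irrFintype
  letI : Fintype (IrrCharacter (Subgroup.normalizer (P : Set G))) := irrFintype
  obtain ⟨⟨hP, he⟩, hB, hbr⟩ := hBe
  have hCN : Subgroup.centralizer (P : Set G) ≤ Subgroup.normalizer (P : Set G) :=
    Subgroup.centralizer_le_normalizer _
  have hPN : P ≤ Subgroup.normalizer (P : Set G) := Subgroup.le_normalizer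
  have hNN : Subgroup.normalizer (P : Set G) ≤ Subgroup.normalizer
      ((Subgroup.centralizer (P : Set G) : Subgroup G) : Set G) :=
    normalizer_le_normalizer_centralizer P
  have hsupp : ∀ B' : Set (IrrCharacter (Subgroup.normalizer (P : Set G))), IsPBlock M B' →
      ∀ t : Subgroup.normalizer (P : Set G), (t : G) ∉ Subgroup.centralizer (P : Set G) →
        blockCoeff B' t = 0 :=
    fun B' hB' t ht =>
      blockCoeff_eq_zero_of_not_mem_centralizer' hM P _ hP hPN le_rfl hB' t ht
  obtain ⟨b, hb, hbc⟩ := exists_block_orbitSum _ _ hNN hM hCN hsupp he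
  -- the defect group of `b`
  obtain ⟨D, hD⟩ := exists_isDefectGroup hM hb
  have hDp : IsPGroup p D := isPGroup_of_isDefectGroup hM hD
  have hDcard := card_defectGroup hM hb hD
  haveI hPNn : (P.subgroupOf (Subgroup.normalizer (P : Set G))).Normal :=
    Subgroup.normal_subgroupOf_of_le_normalizer le_rfl
  have hPNp : IsPGroup p (P.subgroupOf (Subgroup.normalizer (P : Set G))) := hP.comap_subtype
  obtain ⟨y, hy, S, rfl⟩ := hD
  have hPD := normal_pgroup_le_defectGroup hM hb
    (P.subgroupOf (Subgroup.normalizer (P : Set G))) hPNp hy S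
  set D : Subgroup (Subgroup.normalizer (P : Set G)) :=
    (S : Subgroup (Subgroup.centralizer ({y} : Set (Subgroup.normalizer (P : Set G))))).map
      (Subgroup.centralizer ({y} : Set (Subgroup.normalizer (P : Set G)))).subtype with hDdef
  have hDle : D ≤ Subgroup.centralizer ({y} : Set (Subgroup.normalizer (P : Set G))) := by
    rw [hDdef]
    exact Subgroup.map_subtype_le _
  set D' : Subgroup G := D.map (Subgroup.normalizer (P : Set G)).subtype with hD'def
  have hD'p : IsPGroup p D' := hDp.map _
  have hD'N : D' ≤ Subgroup.normalizer (P : Set G) := Subgroup.map_subtype_le _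
  have hPD' : P ≤ D' := by
    intro w hw
    refine ⟨⟨w, hPN hw⟩, hPD ?_, rfl⟩
    show (⟨w, hPN hw⟩ : Subgroup.normalizer (P : Set G)) ∈
      P.subgroupOf (Subgroup.normalizer (P : Set G))
    rw [Subgroup.mem_subgroupOf]
    exact hw
  have hyC : (y : G) ∈ Subgroup.centralizer (D' : Set G) := by
    rw [Subgroup.mem_centralizer_iff]
    rintro _ ⟨d, hd, rfl⟩
    have h1 := hDle hd
    rw [Subgroup.mem_centralizer_iff] at h1
    have h2 := h1 y rfl
    have h3 := congrArg Subtype.val h2
    push_cast at h3
    exact h3.symm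
  have h_orb : ¬ MemLocalIdeal M (orbitSum _ _ hNN e (y : G)) := by
    rw [← hbc y]
    exact hy.2.1
  obtain ⟨n, hnN, hstab, hny⟩ :=
    exists_stable_conj_of_orbitSum _ _ hNN hM he D' hD'p hD'N hyC h_orb
  set R : Subgroup G := D'.map (MulAut.conj n⁻¹).toMonoidHom with hRdef
  have hRmem : ∀ x, x ∈ R ↔ ∃ d ∈ D', x = n⁻¹ * d * n := by
    intro x
    rw [hRdef, Subgroup.mem_map]
    constructor
    · rintro ⟨d, hd, rfl⟩
      refine ⟨d, hd, ?_⟩
      simp [MulAut.conj_apply]
    · rintro ⟨d, hd, rfl⟩
      refine ⟨d, hd, ?_⟩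
      simp [MulAut.conj_apply]
  have hRp : IsPGroup p R := hD'p.map _
  have hninv : n⁻¹ ∈ Subgroup.normalizer (P : Set G) := Subgroup.inv_mem _ hnN
  have hPR : P ≤ R := by
    intro w hw
    rw [hRmem]
    refine ⟨n * w * n⁻¹, hPD' ((Subgroup.mem_normalizer_iff.1 hnN w).1 hw), ?_⟩
    group
  have hRN : R ≤ Subgroup.normalizer (P : Set G) := by
    intro x hx
    rw [hRmem] at hx
    obtain ⟨d, hd, rfl⟩ := hx
    exact Subgroup.mul_mem _ (Subgroup.mul_mem _ hninv (hD'N hd)) hnN
  have hstabR : ∀ x ∈ R, StabilizesBlock (Subgroup.centralizer (P : Set G)) e x := by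
    intro x hx
    rw [hRmem] at hx
    obtain ⟨d, hd, rfl⟩ := hx
    exact hstab d hd
  have hy' : n⁻¹ * (y : G) * n ∈ Subgroup.centralizer (R : Set G) := by
    rw [Subgroup.mem_centralizer_iff]
    intro x hx
    rw [SetLike.mem_coe, hRmem] at hx
    obtain ⟨d, hd, rfl⟩ := hx
    rw [Subgroup.mem_centralizer_iff] at hyC
    have h1 := hyC d hd
    calc n⁻¹ * d * n * (n⁻¹ * (y : G) * n) = n⁻¹ * (d * (y : G)) * n := by group
      _ = n⁻¹ * ((y : G) * d) * n := by rw [h1]
      _ = n⁻¹ * (y : G) * n * (n⁻¹ * d * n) := by group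
  obtain ⟨g', hsub⟩ := exists_normal_superpair hM ⟨hP, he⟩ hRp hPR hRN hstabR hy' hny
  have hRP : R = P := hno R g' hsub
  have hcard : Nat.card D = Nat.card (P.subgroupOf (Subgroup.normalizer (P : Set G))) := by
    have h1 : Nat.card D' = Nat.card D :=
      Subgroup.card_map_of_injective (Subgroup.subtype_injective _)
    have h2 : Nat.card R = Nat.card D' :=
      Subgroup.card_map_of_injective (MulAut.conj n⁻¹).injective
    have h3 : Nat.card R = Nat.card P := congrArg (fun H : Subgroup G => Nat.card H) hRP
    have h4 : Nat.card (P.subgroupOf (Subgroup.normalizer (P : Set G))) = Nat.card P :=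
      card_subgroupOf_normalizer P
    omega
  have hDeq : P.subgroupOf (Subgroup.normalizer (P : Set G)) = D :=
    Subgroup.eq_of_le_of_card_ge hPD (le_of_eq hcard)
  have hDb : IsDefectGroup p M b (P.subgroupOf (Subgroup.normalizer (P : Set G))) := by
    rw [hDeq]
    exact ⟨y, hy, S, rfl⟩
  -- the induced block
  obtain ⟨B', hind⟩ := Cfsg.Agent.S0919.result p M hM P _ hP hPN hCN le_rfl b hb
  have hB' : IsPBlock M B' := hind.2.1
  have hDB' : IsDefectGroup p M B' P := firstMain_forward P hM hP hb hDb hB' hind
  -- `(P, e)` is a Brauer pair of `B'`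
  have hpair : IsBrauerPairOf p M B' P e := by
    refine ⟨⟨hP, he⟩, hB', ?_⟩
    intro ξ hξ
    rw [brauerOmega_eq_omega]
    have hcf' := isClassFunction_blockCoeff B'
    have hR' : ∀ g, MemLocalRing M (blockCoeff B' g) := memLocalRing_blockCoeff hMp hB'
    obtain ⟨ψ, hψ⟩ := block_nonempty hM hb
    obtain ⟨χ', hχ'⟩ := block_nonempty hM hB'
    set z : Subgroup.normalizer (P : Set G) → ℂ :=
      resC P (Subgroup.normalizer (P : Set G)) (blockCoeff B') with hz
    set zC : Subgroup.centralizer (P : Set G) → ℂ :=
      resC P (Subgroup.centralizer (P : Set G)) (blockCoeff B') with hzC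
    set sC : Subgroup.centralizer (P : Set G) → ℂ := orbitSumC _ _ hNN e with hsC
    have hzcf : IsClassFunction _ z := isClassFunction_resC P _ le_rfl hcf'
    have hzCcf : IsClassFunction _ zC := isClassFunction_resC P _ hCN hcf'
    have hscf : IsClassFunction _ sC := isClassFunction_orbitSumC _ _ hNN e
    have hzR : ∀ t, MemLocalRing M (z t) := by
      intro t
      rw [hz]
      unfold resC
      split_ifs
      · exact hR' _
      · exact memLocalRing_zero ne_top
    have hzidem : ∀ t, MemLocalIdeal M (conv z z t - z t) := by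
      intro t
      have h1 := resC_conv_cong P (Subgroup.normalizer (P : Set G)) hM hP hCN hcf' hcf' hR' hR' t
      rw [conv_blockCoeff hB' hB', if_pos rfl] at h1
      exact cong_symm h1
    have hω : ∀ ψ' ∈ b, MemLocalIdeal M
        (omega (ψ' : Subgroup.normalizer (P : Set G) → ℂ) z - 1) := by
      intro ψ' hψ'
      have h1 := IsInducedBlock.omega_cong _ hind hψ' hχ' hcf' hR'
      rw [omega_blockCoeff, if_pos hχ'] at h1
      have h2 := induced_cong_brauer P _ hM hP hPN le_rfl ψ' hcf' hR'
      exact cong_trans (cong_symm h2) h1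
    have habs := conv_blockCoeff_cong hzcf hzR hzidem hb hω
    -- transfer to `C_G(P)`
    have hzG : z = fun t : Subgroup.normalizer (P : Set G) =>
        ext0 (Subgroup.centralizer (P : Set G)) zC (t : G) := by
      funext t
      rw [hz]
      unfold resC
      by_cases ht : (t : G) ∈ Subgroup.centralizer (P : Set G)
      · rw [if_pos ht, ext0_of_mem _ _ ht, hzC]
        unfold resC
        rw [if_pos ht]
      · rw [if_neg ht, ext0_of_not_mem _ _ ht]
    have hbG : blockCoeff b = fun t : Subgroup.normalizer (P : Set G) =>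
        ext0 (Subgroup.centralizer (P : Set G)) sC (t : G) := by
      funext t
      rw [hbc t, orbitSum_eq_ext0']
    have hpt : ∀ c : Subgroup.centralizer (P : Set G),
        MemLocalIdeal M (sC c - conv zC sC c) := by
      intro c
      have h1 := habs ⟨(c : G), hCN c.2⟩
      rw [hzG, hbG] at h1
      have hsuppz : ∀ g, g ∉ Subgroup.normalizer (P : Set G) →
          ext0 (Subgroup.centralizer (P : Set G)) zC g = 0 :=
        fun g hg => ext0_of_not_mem _ _ (fun h => hg (hCN h))
      have hsupps : ∀ g, g ∉ Subgroup.normalizer (P : Set G) →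
          ext0 (Subgroup.centralizer (P : Set G)) sC g = 0 :=
        fun g hg => ext0_of_not_mem _ _ (fun h => hg (hCN h))
      rw [conv_comp_subtype _ hsuppz hsupps, conv_ext0] at h1
      simp only [ext0_coe] at h1
      exact h1
    have h4 : MemLocalIdeal M (omega (ξ : Subgroup.centralizer (P : Set G) → ℂ)
        (sC - conv zC sC)) := by
      apply memLocalIdeal_omega ξ
      · intro c x
        rw [Pi.sub_apply, Pi.sub_apply, hscf c x, isClassFunction_conv hzCcf hscf c x]
      · intro c
        rw [Pi.sub_apply]
        exact hpt c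
    rw [omega_sub, omega_conv ξ hzCcf hscf, hsC, omega_orbitSumC _ _ hNN he,
      if_pos ⟨e, self_mem_blockOrbit _ _ hNN e, hξ⟩, mul_one] at h4
    exact cong_symm h4
  obtain ⟨B₀, -, huniq⟩ := Cfsg.Agent.S4657.result p M hM P e ⟨hP, he⟩
  have hBB' : B = B' := (huniq B ⟨⟨hP, he⟩, hB, hbr⟩).trans (huniq B' hpair).symm
  rw [hBB']
  exact ⟨b, hb, hbc, hDb, hind⟩

/-- **A Brauer pair without proper normal superpairs sits on a defect group.** -/
theorem isDefectGroup_of_no_proper_superpair (hM : IsPModular p M) [Fact p.Prime]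
    {B : Set (IrrCharacter G)} {P : Subgroup G}
    {e : Set (IrrCharacter (Subgroup.centralizer (P : Set G)))}
    (hBe : IsBrauerPairOf p M B P e)
    (hno : ∀ (R : Subgroup G) (g : Set (IrrCharacter (Subgroup.centralizer (R : Set G)))),
      IsNormalSubpair p M P e R g → R = P) :
    IsDefectGroup p M B P := by
  classical
  haveI : Fintype (Subgroup.normalizer (P : Set G)) := Fintype.ofFinite _
  letI : Fintype (IrrCharacter G) := irrFintype
  letI : Fintype (IrrCharacter (Subgroup.normalizer (P : Set G))) := irrFintype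
  obtain ⟨b, hb, -, hDb, hind⟩ := maxPair_block hM hBe hno
  exact firstMain_forward P hM hBe.1.1 hb hDb hBe.2.1 hind

end MaxPair

end Cfsg.Agent.Helper23.Blk
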