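import Mathlib
import Cfsg.Agent.Lib.Helper23.BlockFR3

/-!
# Conjugation of Brauer pairs (helper23's shared library)
-/

set_option autoImplicit false
set_option linter.unusedSectionVars false

namespace Cfsg.Agent.Helper23.Blk

open Cfsg Cfsg.Agent.Helper24
open scoped ComplexConjugate

universe u

section CentConj

variable {G : Type u} [Group G]

/-- conjugation by `x`, from `C_G(Q)` to `C_G(x Q x⁻¹)` -/
def centConj (Q : Subgroup G) (x : G) :
    Subgroup.centralizer (Q : Set G) ≃*
      Subgroup.centralizer ((Q.map (MulAut.conj x).toMonoidHom : Subgroup G) : Set G) where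
  toFun c := ⟨x * (c : G) * x⁻¹, by
    rw [Subgroup.mem_centralizer_iff]
    rintro w ⟨q, hq, rfl⟩
    have hc := (Subgroup.mem_centralizer_iff.mp c.2) q hq
    show x * q * x⁻¹ * (x * (c : G) * x⁻¹) = x * (c : G) * x⁻¹ * (x * q * x⁻¹)
    calc x * q * x⁻¹ * (x * (c : G) * x⁻¹) = x * (q * (c : G)) * x⁻¹ := by group
      _ = x * ((c : G) * q) * x⁻¹ := by rw [hc]
      _ = x * (c : G) * x⁻¹ * (x * q * x⁻¹) := by group⟩
  invFun c := ⟨x⁻¹ * (c : G) * x, by
    rw [Subgroup.mem_centralizer_iff]
    intro q hq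
    have hq' : x * q * x⁻¹ ∈ ((Q.map (MulAut.conj x).toMonoidHom : Subgroup G) : Set G) :=
      ⟨q, hq, rfl⟩
    have hc := (Subgroup.mem_centralizer_iff.mp c.2) _ hq'
    calc q * (x⁻¹ * (c : G) * x) = x⁻¹ * ((x * q * x⁻¹) * (c : G)) * x := by group
      _ = x⁻¹ * ((c : G) * (x * q * x⁻¹)) * x := by rw [hc]
      _ = x⁻¹ * (c : G) * x * q := by group⟩
  left_inv c := by
    apply Subtype.ext
    show x⁻¹ * (x * (c : G) * x⁻¹) * x = c
    group
  right_inv c := by
    apply Subtype.ext
    show x * (x⁻¹ * (c : G) * x) * x⁻¹ = c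
    group
  map_mul' a b := by
    apply Subtype.ext
    show x * ((a : G) * (b : G)) * x⁻¹ = (x * (a : G) * x⁻¹) * (x * (b : G) * x⁻¹)
    group

theorem centConj_coe (Q : Subgroup G) (x : G) (c : Subgroup.centralizer (Q : Set G)) :
    ((centConj Q x c : Subgroup.centralizer
      ((Q.map (MulAut.conj x).toMonoidHom : Subgroup G) : Set G)) : G) = x * (c : G) * x⁻¹ := rfl

theorem centConj_symm_coe (Q : Subgroup G) (x : G)
    (c : Subgroup.centralizer ((Q.map (MulAut.conj x).toMonoidHom : Subgroup G) : Set G)) :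
    (((centConj Q x).symm c : Subgroup.centralizer (Q : Set G)) : G) = x⁻¹ * (c : G) * x := rfl

theorem mem_centralizer_map_conj_iff (Q : Subgroup G) (x g : G) :
    g ∈ Subgroup.centralizer ((Q.map (MulAut.conj x).toMonoidHom : Subgroup G) : Set G) ↔
      x⁻¹ * g * x ∈ Subgroup.centralizer (Q : Set G) := by
  constructor
  · intro hg
    exact ((centConj Q x).symm ⟨g, hg⟩).2
  · intro hg
    have h := (centConj Q x ⟨x⁻¹ * g * x, hg⟩).2
    rw [centConj_coe] at h
    have h2 : x * (x⁻¹ * g * x) * x⁻¹ = g := by group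
    rwa [h2] at h

/-- the conjugate block is the image of the block under the conjugation isomorphism -/
theorem conjBlock_eq_image (Q : Subgroup G) (x : G)
    (f : Set (IrrCharacter (Subgroup.centralizer (Q : Set G)))) :
    conjBlock Q x f = irrComp (centConj Q x).symm '' f := by
  ext ξ'
  constructor
  · rintro ⟨ξ, hξ, h⟩
    refine ⟨ξ, hξ, ?_⟩
    apply Subtype.ext
    funext c'
    rw [irrComp_apply]
    symm
    apply h
    rw [centConj_symm_coe]
    group
  · rintro ⟨ξ, hξ, rfl⟩
    refine ⟨ξ, hξ, ?_⟩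
    intro c c' hcc
    rw [irrComp_apply]
    have h1 : (centConj Q x).symm c' = c := by
      apply Subtype.ext
      rw [centConj_symm_coe, hcc]
      group
    rw [h1]

variable {M : Ideal AlgInt} {p : ℕ} [Fintype G]

theorem isPBlock_conjBlock (Q : Subgroup G) (x : G)
    {f : Set (IrrCharacter (Subgroup.centralizer (Q : Set G)))} (hf : IsPBlock M f) :
    IsPBlock M (conjBlock Q x f) := by
  rw [conjBlock_eq_image]
  exact isPBlock_image_irrComp _ hf

theorem blockCoeff_conjBlock (Q : Subgroup G) (x : G)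
    (f : Set (IrrCharacter (Subgroup.centralizer (Q : Set G))))
    (c : Subgroup.centralizer ((Q.map (MulAut.conj x).toMonoidHom : Subgroup G) : Set G)) :
    blockCoeff (conjBlock Q x f) c = blockCoeff f ((centConj Q x).symm c) := by
  rw [conjBlock_eq_image, blockCoeff_image_irrComp]

/-- extension by zero of a function transported along conjugation -/
theorem ext0_comp_centConj_symm (Q : Subgroup G) (x : G)
    (φ : Subgroup.centralizer (Q : Set G) → ℂ) (g : G) :
    ext0 (Subgroup.centralizer ((Q.map (MulAut.conj x).toMonoidHom : Subgroup G) : Set G))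
      (fun c => φ ((centConj Q x).symm c)) g =
      ext0 (Subgroup.centralizer (Q : Set G)) φ (x⁻¹ * g * x) := by
  by_cases hg : g ∈ Subgroup.centralizer
      ((Q.map (MulAut.conj x).toMonoidHom : Subgroup G) : Set G)
  · have hg' := (mem_centralizer_map_conj_iff Q x g).1 hg
    rw [ext0_of_mem _ _ hg, ext0_of_mem _ _ hg']
    rfl
  · have hg' : x⁻¹ * g * x ∉ Subgroup.centralizer (Q : Set G) :=
      fun h => hg ((mem_centralizer_map_conj_iff Q x g).2 h)
    rw [ext0_of_not_mem _ _ hg, ext0_of_not_mem _ _ hg']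

theorem ext0_blockCoeff_conjBlock (Q : Subgroup G) (x : G)
    (f : Set (IrrCharacter (Subgroup.centralizer (Q : Set G)))) (g : G) :
    ext0 (Subgroup.centralizer ((Q.map (MulAut.conj x).toMonoidHom : Subgroup G) : Set G))
      (blockCoeff (conjBlock Q x f)) g =
      ext0 (Subgroup.centralizer (Q : Set G)) (blockCoeff f) (x⁻¹ * g * x) := by
  rw [← ext0_comp_centConj_symm]
  congr 1
  funext c
  exact blockCoeff_conjBlock Q x f c

theorem subgroupBlockCoeff_conjBlock (Q : Subgroup G) (x : G)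
    (f : Set (IrrCharacter (Subgroup.centralizer (Q : Set G)))) (g : G) :
    subgroupBlockCoeff
      (Subgroup.centralizer ((Q.map (MulAut.conj x).toMonoidHom : Subgroup G) : Set G))
      (conjBlock Q x f) (x * g * x⁻¹) =
      subgroupBlockCoeff (Subgroup.centralizer (Q : Set G)) f g := by
  rw [subgroupBlockCoeff_eq_ext0, subgroupBlockCoeff_eq_ext0, ext0_blockCoeff_conjBlock]
  congr 1
  group

/-- transport of the Brauer-map central character along conjugation -/
theorem brauerOmega_conj (P : Subgroup G) (x : G) (β β' : G → ℂ)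
    (hβ : ∀ g, β' (x * g * x⁻¹) = β g) (ξ : Subgroup.centralizer (P : Set G) → ℂ) :
    brauerOmega (P.map (MulAut.conj x).toMonoidHom) β'
      (fun c => ξ ((centConj P x).symm c)) = brauerOmega P β ξ := by
  unfold brauerOmega
  rw [← finsum_comp_equiv (centConj P x).toEquiv]
  apply finsum_congr
  intro c
  show β' ((centConj P x c : Subgroup.centralizer
      ((P.map (MulAut.conj x).toMonoidHom : Subgroup G) : Set G)) : G) *
      ξ ((centConj P x).symm (centConj P x c)) / ξ ((centConj P x).symm 1) = _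
  rw [centConj_coe, hβ, MulEquiv.symm_apply_apply, map_one]

theorem stabilizesBlock_conj (Q : Subgroup G) (x : G)
    {f : Set (IrrCharacter (Subgroup.centralizer (Q : Set G)))} {y : G}
    (h : StabilizesBlock (Subgroup.centralizer (Q : Set G)) f y) :
    StabilizesBlock
      (Subgroup.centralizer ((Q.map (MulAut.conj x).toMonoidHom : Subgroup G) : Set G))
      (conjBlock Q x f) (x * y * x⁻¹) := by
  obtain ⟨hy, hst⟩ := h
  refine ⟨?_, ?_⟩
  · rw [Subgroup.mem_normalizer_iff]
    intro g
    rw [mem_centralizer_map_conj_iff, mem_centralizer_map_conj_iff]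
    have h1 := Subgroup.mem_normalizer_iff.1 hy (x⁻¹ * g * x)
    rw [h1]
    have h2 : y * (x⁻¹ * g * x) * y⁻¹ = x⁻¹ * (x * y * x⁻¹ * g * (x * y * x⁻¹)⁻¹) * x := by
      group
    rw [h2]
  · rw [conjBlock_eq_image]
    rintro _ ⟨χ, hχ, rfl⟩
    obtain ⟨χ₂, hχ₂, hc⟩ := hst χ hχ
    refine ⟨irrComp (centConj Q x).symm χ₂, ⟨χ₂, hχ₂, rfl⟩, ?_⟩
    intro k k' hk
    rw [irrComp_apply, irrComp_apply]
    apply hc
    rw [centConj_symm_coe, centConj_symm_coe, hk]
    group

theorem map_conj_le_normalizer {Q P : Subgroup G} (x : G)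
    (hPN : P ≤ Subgroup.normalizer (Q : Set G)) :
    P.map (MulAut.conj x).toMonoidHom ≤
      Subgroup.normalizer ((Q.map (MulAut.conj x).toMonoidHom : Subgroup G) : Set G) := by
  rintro _ ⟨y, hy, rfl⟩
  have h1 := hPN hy
  rw [Subgroup.mem_normalizer_iff] at h1 ⊢
  intro g
  constructor
  · rintro ⟨q, hq, rfl⟩
    refine ⟨y * q * y⁻¹, (h1 q).1 hq, ?_⟩
    simp only [MulEquiv.coe_toMonoidHom, MulAut.conj_apply]
    group
  · rintro ⟨q, hq, hq'⟩
    refine ⟨y⁻¹ * q * y, ?_, ?_⟩
    · rw [SetLike.mem_coe, h1 (y⁻¹ * q * y)]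
      have h2 : y * (y⁻¹ * q * y) * y⁻¹ = q := by group
      rw [h2]
      exact hq
    · simp only [MulEquiv.coe_toMonoidHom, MulAut.conj_apply] at hq' ⊢
      have h3 : g = (x * y * x⁻¹)⁻¹ * (x * q * x⁻¹) * (x * y * x⁻¹) := by
        rw [hq']
        group
      rw [h3]
      group

/-- **conjugation preserves normal inclusion of Brauer pairs** -/
theorem isNormalSubpair_conj (x : G) {Q P : Subgroup G}
    {f : Set (IrrCharacter (Subgroup.centralizer (Q : Set G)))}
    {e : Set (IrrCharacter (Subgroup.centralizer (P : Set G)))}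
    (h : IsNormalSubpair p M Q f P e) :
    IsNormalSubpair p M (Q.map (MulAut.conj x).toMonoidHom) (conjBlock Q x f)
      (P.map (MulAut.conj x).toMonoidHom) (conjBlock P x e) := by
  obtain ⟨⟨hQ, hf⟩, ⟨hP, he⟩, hQP, hPN, hst, hbr⟩ := h
  refine ⟨⟨hQ.map _, isPBlock_conjBlock Q x hf⟩, ⟨hP.map _, isPBlock_conjBlock P x he⟩,
    Subgroup.map_mono hQP, map_conj_le_normalizer x hPN, ?_, ?_⟩
  · rintro _ ⟨y, hy, rfl⟩
    exact stabilizesBlock_conj Q x (hst y hy)
  · rw [conjBlock_eq_image P x e]
    rintro _ ⟨ξ, hξ, rfl⟩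
    have h1 := hbr ξ hξ
    rw [← brauerOmega_conj P x (subgroupBlockCoeff (Subgroup.centralizer (Q : Set G)) f)
      (subgroupBlockCoeff
        (Subgroup.centralizer ((Q.map (MulAut.conj x).toMonoidHom : Subgroup G) : Set G))
        (conjBlock Q x f)) (subgroupBlockCoeff_conjBlock Q x f)] at h1
    exact h1

/-- conjugation of Brauer pairs on the index type -/
def conjPair (x : G) (a : BrauerPairIdx G) : BrauerPairIdx G :=
  ⟨a.1.map (MulAut.conj x).toMonoidHom, conjBlock a.1 x a.2⟩

/-- **conjugation preserves inclusion of Brauer pairs** -/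
theorem subpairLE_conj (x : G) {Q P : Subgroup G}
    {f : Set (IrrCharacter (Subgroup.centralizer (Q : Set G)))}
    {e : Set (IrrCharacter (Subgroup.centralizer (P : Set G)))}
    (h : SubpairLE p M Q f P e) :
    SubpairLE p M (Q.map (MulAut.conj x).toMonoidHom) (conjBlock Q x f)
      (P.map (MulAut.conj x).toMonoidHom) (conjBlock P x e) :=
  Relation.ReflTransGen.lift (p := NormalSubpairRel p M) (conjPair x)
    (fun _ _ hab => isNormalSubpair_conj x hab) _ _ h

/-- **conjugation preserves the Brauer pairs of a block** -/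
theorem isBrauerPairOf_conj (x : G) {B : Set (IrrCharacter G)} {Q : Subgroup G}
    {f : Set (IrrCharacter (Subgroup.centralizer (Q : Set G)))}
    (h : IsBrauerPairOf p M B Q f) :
    IsBrauerPairOf p M B (Q.map (MulAut.conj x).toMonoidHom) (conjBlock Q x f) := by
  classical
  letI : Fintype (IrrCharacter G) := irrFintype
  obtain ⟨⟨hQ, hf⟩, hB, hbr⟩ := h
  refine ⟨⟨hQ.map _, isPBlock_conjBlock Q x hf⟩, hB, ?_⟩
  rw [conjBlock_eq_image Q x f]
  rintro _ ⟨ξ, hξ, rfl⟩
  have h1 := hbr ξ hξ
  rw [← brauerOmega_conj Q x (blockCoeff B) (blockCoeff B)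
    (fun g => isClassFunction_blockCoeff B g x)] at h1
  exact h1

end CentConj

section SigmaEq

variable {G : Type u} [Group G] [Fintype G] {M : Ideal AlgInt} {p : ℕ}

/-- the members of a set of characters of `C_G(Q)`, as functions on `G` extended by zero -/
def extSet (Q : Subgroup G) (f : Set (IrrCharacter (Subgroup.centralizer (Q : Set G)))) :
    Set (G → ℂ) :=
  (fun ξ : IrrCharacter (Subgroup.centralizer (Q : Set G)) =>
    ext0 (Subgroup.centralizer (Q : Set G)) (ξ : Subgroup.centralizer (Q : Set G) → ℂ)) '' f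

theorem eq_of_extSet_eq {Q : Subgroup G}
    {f f' : Set (IrrCharacter (Subgroup.centralizer (Q : Set G)))}
    (h : extSet Q f = extSet Q f') : f = f' := by
  have key : ∀ f₁ f₂ : Set (IrrCharacter (Subgroup.centralizer (Q : Set G))),
      extSet Q f₁ = extSet Q f₂ → f₁ ⊆ f₂ := by
    intro f₁ f₂ h12 ξ hξ
    have h1 : ext0 (Subgroup.centralizer (Q : Set G))
        (ξ : Subgroup.centralizer (Q : Set G) → ℂ) ∈ extSet Q f₂ := by
      rw [← h12]
      exact ⟨ξ, hξ, rfl⟩
    obtain ⟨ξ', hξ', h'⟩ := h1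
    have h2 : ξ' = ξ := Subtype.ext (ext0_injective _ h')
    rwa [← h2]
  exact Set.Subset.antisymm (key f f' h) (key f' f h.symm)

/-- equality of indexed Brauer pairs from equality of the subgroups and of the extended
characters -/
theorem pair_ext {Q Q' : Subgroup G}
    {f : Set (IrrCharacter (Subgroup.centralizer (Q : Set G)))}
    {f' : Set (IrrCharacter (Subgroup.centralizer (Q' : Set G)))}
    (hQ : Q = Q') (h : extSet Q f = extSet Q' f') :
    (⟨Q, f⟩ : BrauerPairIdx G) = ⟨Q', f'⟩ := by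
  subst hQ
  rw [eq_of_extSet_eq h]

theorem extSet_eq_of_pair_eq {a b : BrauerPairIdx G} (h : a = b) :
    extSet a.1 a.2 = extSet b.1 b.2 := by
  rw [h]

theorem extSet_conjBlock (Q : Subgroup G) (x : G)
    (f : Set (IrrCharacter (Subgroup.centralizer (Q : Set G)))) :
    extSet (Q.map (MulAut.conj x).toMonoidHom) (conjBlock Q x f) =
      (fun (φ : G → ℂ) (g : G) => φ (x⁻¹ * g * x)) '' extSet Q f := by
  rw [conjBlock_eq_image]
  unfold extSet
  rw [Set.image_image, Set.image_image]
  apply Set.image_congr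
  intro ξ _
  funext g
  exact ext0_comp_centConj_symm Q x (ξ : Subgroup.centralizer (Q : Set G) → ℂ) g

theorem extSet_image_conjIrr (P : Subgroup G) {n : G}
    (hn : n ∈ Subgroup.normalizer
      ((Subgroup.centralizer (P : Set G) : Subgroup G) : Set G))
    (e : Set (IrrCharacter (Subgroup.centralizer (P : Set G)))) :
    extSet P (conjIrr (Subgroup.centralizer (P : Set G)) n hn '' e) =
      (fun (φ : G → ℂ) (g : G) => φ (n⁻¹ * g * n)) '' extSet P e := by
  unfold extSet
  rw [Set.image_image, Set.image_image]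
  apply Set.image_congr
  intro ξ _
  funext g
  have hninv : n⁻¹ ∈ Subgroup.normalizer
      ((Subgroup.centralizer (P : Set G) : Subgroup G) : Set G) := Subgroup.inv_mem _ hn
  have hiff : g ∈ Subgroup.centralizer (P : Set G) ↔
      n⁻¹ * g * n ∈ Subgroup.centralizer (P : Set G) := by
    have h1 := Subgroup.mem_normalizer_iff.1 hninv g
    rw [inv_inv] at h1
    exact h1
  by_cases hg : g ∈ Subgroup.centralizer (P : Set G)
  · rw [ext0_of_mem _ _ hg, ext0_of_mem _ _ (hiff.1 hg), conjIrr_apply]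
    have h1 : (normConj (Subgroup.centralizer (P : Set G)) n⁻¹ hninv) ⟨g, hg⟩ =
        ⟨n⁻¹ * g * n, hiff.1 hg⟩ := by
      apply Subtype.ext
      rw [normConj_apply, inv_inv]
    rw [h1]
  · rw [ext0_of_not_mem _ _ hg, ext0_of_not_mem _ _ (fun h => hg (hiff.2 h))]

end SigmaEq

end Cfsg.Agent.Helper23.Blk
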