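import Mathlib
import Cfsg.Agent.Lib.Helper23.BlockConj

/-!
# Maximal Brauer pairs are conjugate (helper23's shared library)
-/

set_option autoImplicit false
set_option linter.unusedSectionVars false

namespace Cfsg.Agent.Helper23.Blk

open Cfsg Cfsg.Agent.Helper24
open scoped ComplexConjugate

universe u

section MaxConj

variable {G : Type u} [Group G] [Fintype G] {M : Ideal AlgInt} {p : ℕ}

/-- Brauer pairs of a block go up along inclusions -/
theorem isBrauerPairOf_of_subpairLE (hM : IsPModular p M) [Fact p.Prime]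
    {B : Set (IrrCharacter G)} {a b : BrauerPairIdx G}
    (hab : Relation.ReflTransGen (NormalSubpairRel p M) a b)
    (h : IsBrauerPairOf p M B a.1 a.2) : IsBrauerPairOf p M B b.1 b.2 := by
  induction hab with
  | refl => exact h
  | tail _ hstep ih => exact isBrauerPairOf_of_isNormalSubpair hM hstep ih

/-- the subgroup of a Brauer pair of `B` is conjugate into the defect groups of `B` -/
theorem subConj_of_isBrauerPairOf (hM : IsPModular p M) {B : Set (IrrCharacter G)}
    {S : Subgroup G} {h : Set (IrrCharacter (Subgroup.centralizer (S : Set G)))}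
    (hBS : IsBrauerPairOf p M B S h) {D : Subgroup G} (hD : IsDefectGroup p M B D) :
    SubConj S D := by
  classical
  haveI hMp : M.IsPrime := hM.2.1.isPrime
  haveI : Fintype (Subgroup.centralizer (S : Set G)) := Fintype.ofFinite _
  letI : Fintype (IrrCharacter G) := irrFintype
  obtain ⟨⟨hS, hh⟩, hB, hbr⟩ := hBS
  obtain ⟨ξ, hξ⟩ := block_nonempty hM hh
  have h1 := hbr ξ hξ
  rw [brauerOmega_eq_omega] at h1
  have h2 : ¬ MemLocalIdeal M (omega (ξ : Subgroup.centralizer (S : Set G) → ℂ)
      (resC S (Subgroup.centralizer (S : Set G)) (blockCoeff B))) :=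
    not_memLocalIdeal_of_cong h1 not_memLocalIdeal_one
  have hR : ∀ y, MemLocalRing M (resC S (Subgroup.centralizer (S : Set G)) (blockCoeff B) y) := by
    intro y
    unfold resC
    split_ifs
    · exact memLocalRing_blockCoeff hMp hB _
    · exact memLocalRing_zero ne_top
  obtain ⟨y, hy, -⟩ := exists_of_not_memLocalIdeal_omega ξ
    (isClassFunction_resC S _ (Subgroup.centralizer_le_normalizer _)
      (isClassFunction_blockCoeff B)) hR h2
  have hy' : ¬ MemLocalIdeal M (blockCoeff B (y : G)) := by
    unfold resC at hy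
    rwa [if_pos y.2] at hy
  apply subConj_of_blockCoeff hM hB hD hy' hS
  intro s hs
  rw [Subgroup.mem_centralizer_singleton_iff]
  exact ((Subgroup.mem_centralizer_iff.1 y.2) s hs)

/-- every Brauer pair lies below a Brauer pair without proper normal superpairs -/
theorem exists_maximal_above :
    ∀ (n : ℕ) (Q : Subgroup G) (f : Set (IrrCharacter (Subgroup.centralizer (Q : Set G)))),
      Nat.card G - Nat.card Q = n →
      ∃ (R : Subgroup G) (g : Set (IrrCharacter (Subgroup.centralizer (R : Set G)))),
        SubpairLE p M Q f R g ∧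
        ∀ (R' : Subgroup G) (g' : Set (IrrCharacter (Subgroup.centralizer (R' : Set G)))),
          IsNormalSubpair p M R g R' g' → R' = R := by
  intro n
  induction n using Nat.strong_induction_on with
  | _ n ih =>
    intro Q f hn
    by_cases h : ∀ (R' : Subgroup G)
        (g' : Set (IrrCharacter (Subgroup.centralizer (R' : Set G)))),
        IsNormalSubpair p M Q f R' g' → R' = Q
    · exact ⟨Q, f, Relation.ReflTransGen.refl, h⟩
    · push Not at h
      obtain ⟨R', g', hsub, hne⟩ := h
      have hlt : Q < R' := lt_of_le_of_ne hsub.2.2.1 (Ne.symm hne)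
      have hc1 : Nat.card Q < Nat.card R' := Cfsg.Agent.Helper12.card_lt_card_of_lt hlt
      have hc2 : Nat.card R' ≤ Nat.card G := Subgroup.card_le_card_group R'
      obtain ⟨R, g, hle, hmax⟩ := ih (Nat.card G - Nat.card R') (by omega) R' g' rfl
      have hsub' : NormalSubpairRel p M ⟨Q, f⟩ ⟨R', g'⟩ := hsub
      exact ⟨R, g, Relation.ReflTransGen.head hsub' hle, hmax⟩

/-- two Brauer pairs of `B` on the same subgroup, both without proper normal superpairs, are
conjugate under the normalizer of the subgroup -/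
theorem exists_conj_of_maxPairs (hM : IsPModular p M) [Fact p.Prime]
    {B : Set (IrrCharacter G)} {P : Subgroup G}
    {e e' : Set (IrrCharacter (Subgroup.centralizer (P : Set G)))}
    (hBe : IsBrauerPairOf p M B P e) (hBe' : IsBrauerPairOf p M B P e')
    (hno : ∀ (R : Subgroup G) (g : Set (IrrCharacter (Subgroup.centralizer (R : Set G)))),
      IsNormalSubpair p M P e R g → R = P)
    (hno' : ∀ (R : Subgroup G) (g : Set (IrrCharacter (Subgroup.centralizer (R : Set G)))),
      IsNormalSubpair p M P e' R g → R = P) :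
    ∃ (n : G) (hn : n ∈ Subgroup.normalizer (P : Set G)),
      conjIrr (Subgroup.centralizer (P : Set G)) n
        (normalizer_le_normalizer_centralizer P hn) '' e = e' := by
  classical
  haveI hMp : M.IsPrime := hM.2.1.isPrime
  haveI : Fintype (Subgroup.centralizer (P : Set G)) := Fintype.ofFinite _
  haveI : Fintype (Subgroup.normalizer (P : Set G)) := Fintype.ofFinite _
  letI : Fintype (IrrCharacter G) := irrFintype
  letI : Fintype (IrrCharacter (Subgroup.centralizer (P : Set G))) := irrFintype
  letI : Fintype (IrrCharacter (Subgroup.normalizer (P : Set G))) := irrFintype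
  have hCN : Subgroup.centralizer (P : Set G) ≤ Subgroup.normalizer (P : Set G) :=
    Subgroup.centralizer_le_normalizer _
  have hNN := normalizer_le_normalizer_centralizer P
  obtain ⟨b, hb, hbc, hDb, hind⟩ := maxPair_block hM hBe hno
  obtain ⟨b', hb', hbc', hDb', hind'⟩ := maxPair_block hM hBe' hno'
  have hP : IsPGroup p P := hBe.1.1
  have he : IsPBlock M e := hBe.1.2
  have he' : IsPBlock M e' := hBe'.1.2
  have hbb : b = b' := firstMain_unique P hM hP hb hb' hDb hDb' hind hind'
  have hsum : orbitSumC _ _ hNN e = orbitSumC _ _ hNN e' := by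
    funext c
    have h1 := hbc ⟨(c : G), hCN c.2⟩
    have h2 := hbc' ⟨(c : G), hCN c.2⟩
    rw [hbb] at h1
    rw [h1, orbitSum_eq_ext0', orbitSum_eq_ext0', ext0_coe, ext0_coe] at h2
    exact h2
  obtain ⟨ξ, hξ⟩ := block_nonempty hM he'
  have h3 := omega_orbitSumC _ _ hNN he' ξ
  rw [if_pos ⟨e', self_mem_blockOrbit _ _ hNN e', hξ⟩, ← hsum, omega_orbitSumC _ _ hNN he] at h3
  have h4 : ∃ e'' ∈ blockOrbit _ _ hNN e, ξ ∈ e'' := by
    by_contra hcon
    rw [if_neg hcon] at h3
    exact zero_ne_one h3
  obtain ⟨e'', he'', hξ''⟩ := h4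
  have h5 : e'' = e' :=
    isPBlock_eq_of_mem (isPBlock_of_mem_blockOrbit _ _ hNN he he'') he' hξ'' hξ
  rw [h5, mem_blockOrbit] at he''
  obtain ⟨x, hx⟩ := he''
  exact ⟨(x : G), x.2, hx⟩

theorem map_conj_mul (R : Subgroup G) (n x : G) :
    R.map (MulAut.conj (n * x)).toMonoidHom =
      (R.map (MulAut.conj x).toMonoidHom).map (MulAut.conj n).toMonoidHom := by
  ext g
  constructor
  · rintro ⟨r, hr, rfl⟩
    refine ⟨x * r * x⁻¹, ⟨r, hr, rfl⟩, ?_⟩
    simp only [MulEquiv.coe_toMonoidHom, MulAut.conj_apply]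
    group
  · rintro ⟨_, ⟨r, hr, rfl⟩, rfl⟩
    refine ⟨r, hr, ?_⟩
    simp only [MulEquiv.coe_toMonoidHom, MulAut.conj_apply]
    group

theorem map_conj_eq_of_mem_normalizer {P : Subgroup G} {n : G}
    (hn : n ∈ Subgroup.normalizer (P : Set G)) :
    P.map (MulAut.conj n).toMonoidHom = P := by
  ext g
  constructor
  · rintro ⟨r, hr, rfl⟩
    exact (Subgroup.mem_normalizer_iff.1 hn r).1 hr
  · intro hg
    refine ⟨n⁻¹ * g * n, ?_, ?_⟩
    · rw [SetLike.mem_coe, Subgroup.mem_normalizer_iff.1 hn (n⁻¹ * g * n)]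
      have h2 : n * (n⁻¹ * g * n) * n⁻¹ = g := by group
      rw [h2]
      exact hg
    · simp only [MulEquiv.coe_toMonoidHom, MulAut.conj_apply]
      group

/-- **Every Brauer pair of `B` is conjugate into a given maximal Brauer pair of `B`.** -/
theorem exists_conj_subpairLE_of_maximal (hM : IsPModular p M) [Fact p.Prime]
    {B : Set (IrrCharacter G)} {P Q : Subgroup G}
    {e : Set (IrrCharacter (Subgroup.centralizer (P : Set G)))}
    {f : Set (IrrCharacter (Subgroup.centralizer (Q : Set G)))}
    (hmax : IsMaximalBrauerPair p M B P e) (hQf : IsBrauerPairOf p M B Q f) :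
    ∃ x : G, SubpairLE p M (Q.map (MulAut.conj x).toMonoidHom) (conjBlock Q x f) P e := by
  classical
  have hBe : IsBrauerPairOf p M B P e := hmax.1
  have hB : IsPBlock M B := hBe.2.1
  have hno : ∀ (R : Subgroup G) (g : Set (IrrCharacter (Subgroup.centralizer (R : Set G)))),
      IsNormalSubpair p M P e R g → R = P :=
    fun R g hsub => hmax.2 R g (isBrauerPairOf_of_isNormalSubpair hM hsub hmax.1)
      (Relation.ReflTransGen.single hsub)
  have hPD : IsDefectGroup p M B P := isDefectGroup_of_no_proper_superpair hM hBe hno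
  obtain ⟨R, g, hle, hnoR⟩ := exists_maximal_above (p := p) (M := M) _ Q f rfl
  have hBR : IsBrauerPairOf p M B R g := isBrauerPairOf_of_subpairLE hM hle hQf
  have hRD : IsDefectGroup p M B R := isDefectGroup_of_no_proper_superpair hM hBR hnoR
  obtain ⟨x₀, hx₀⟩ := isDefectGroup_conj_of hM hB hPD hRD
  subst hx₀
  have hBe' := isBrauerPairOf_conj (p := p) (M := M) x₀ hBR
  have hno' : ∀ (S : Subgroup G) (h : Set (IrrCharacter (Subgroup.centralizer (S : Set G)))),
      IsNormalSubpair p M (R.map (MulAut.conj x₀).toMonoidHom) (conjBlock R x₀ g) S h →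
        S = R.map (MulAut.conj x₀).toMonoidHom := by
    intro S h hsub
    have hBS := isBrauerPairOf_of_isNormalSubpair hM hsub hBe'
    have hc := card_le_of_subConj (subConj_of_isBrauerPairOf hM hBS hPD)
    exact (Subgroup.eq_of_le_of_card_ge hsub.2.2.1 hc).symm
  obtain ⟨n, hn, hconj⟩ := exists_conj_of_maxPairs hM hBe' hBe hno' hno
  have h1 := subpairLE_conj (p := p) (M := M) (n * x₀) hle
  have hsub : R.map (MulAut.conj (n * x₀)).toMonoidHom = R.map (MulAut.conj x₀).toMonoidHom := by
    rw [map_conj_mul, map_conj_eq_of_mem_normalizer hn]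
  have heq : (⟨R.map (MulAut.conj (n * x₀)).toMonoidHom, conjBlock R (n * x₀) g⟩ :
      BrauerPairIdx G) = ⟨R.map (MulAut.conj x₀).toMonoidHom, e⟩ := by
    apply pair_ext hsub
    rw [← hconj, extSet_image_conjIrr, extSet_conjBlock, extSet_conjBlock, Set.image_image]
    apply Set.image_congr
    intro φ _
    funext y
    congr 1
    group
  refine ⟨n * x₀, ?_⟩
  unfold SubpairLE at h1 ⊢
  rw [heq] at h1
  exact h1

end MaxConj

end Cfsg.Agent.Helper23.Blk
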