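import Mathlib
import Cfsg.Agent.Lib.Helper23.BlockConj2
import Cfsg.Agent.S4657

/-!
# Centralizers of subpairs and defect groups of the local blocks (helper23's shared library)
-/

set_option autoImplicit false
set_option linter.unusedSectionVars false

namespace Cfsg.Agent.Helper23.Blk

open Cfsg Cfsg.Agent.Helper24
open scoped ComplexConjugate

universe u

section Collapse

variable {G : Type u} [Group G] [Fintype G] {M : Ideal AlgInt} {p : ℕ}

/-- a chain starting at `(Q, f)` and ending in a subgroup normalizing `Q` is one normal step -/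
theorem isNormalSubpair_of_chain (hM : IsPModular p M) {Q S : Subgroup G}
    {f : Set (IrrCharacter (Subgroup.centralizer (Q : Set G)))}
    {g : Set (IrrCharacter (Subgroup.centralizer (S : Set G)))}
    (hSg : IsBrauerPair p M S g)
    (h : SubpairLE p M Q f S g) (hSN : S ≤ Subgroup.normalizer (Q : Set G)) :
    IsNormalSubpair p M Q f S g := by
  have hQf : IsBrauerPair p M Q f := chain_isBrauerPair h hSg
  have h0 := isNormalSubpair_refl hM hQf
  exact normal_of_chain hM h Q f h0 hSN

/-- below `(P, e)`, the pair on `Q` is normally included in the pair on any intermediate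
subgroup normalizing `Q` -/
theorem exists_normal_middle (hM : IsPModular p M) [Fact p.Prime] {Q S P : Subgroup G}
    {f : Set (IrrCharacter (Subgroup.centralizer (Q : Set G)))}
    {e : Set (IrrCharacter (Subgroup.centralizer (P : Set G)))}
    (hPe : IsBrauerPair p M P e) (hle : SubpairLE p M Q f P e)
    (hQS : Q ≤ S) (hSP : S ≤ P) (hSN : S ≤ Subgroup.normalizer (Q : Set G)) :
    ∃ g : Set (IrrCharacter (Subgroup.centralizer (S : Set G))),
      IsNormalSubpair p M Q f S g ∧ SubpairLE p M S g P e := by
  obtain ⟨g, hg, hleS⟩ := exists_subpairLE hM _ P S e hPe hSP rfl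
  have hSg : IsBrauerPair p M S g := ⟨hPe.1.to_le hSP, hg⟩
  obtain ⟨f', hf', hle'⟩ := exists_subpairLE hM _ S Q g hSg hQS rfl
  have hle'' : SubpairLE p M Q f' P e := Relation.ReflTransGen.trans hle' hleS
  have hff : f' = f := subpairLE_unique hM _ P Q e hPe rfl f' f hle'' hle
  rw [hff] at hle'
  exact ⟨g, isNormalSubpair_of_chain hM hSg hle' hSN, hleS⟩

/-- a normal inclusion `(Q, f) ⊴ (S, g)` provides a point of `C_G(S)` at which the idempotent
of `f` does not vanish modulo the ideal -/
theorem exists_centralizer_not_memLocalIdeal (hM : IsPModular p M) {Q S : Subgroup G}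
    {f : Set (IrrCharacter (Subgroup.centralizer (Q : Set G)))}
    {g : Set (IrrCharacter (Subgroup.centralizer (S : Set G)))}
    (h : IsNormalSubpair p M Q f S g) :
    ∃ y : G, y ∈ Subgroup.centralizer (S : Set G) ∧
      ¬ MemLocalIdeal M (ext0 (Subgroup.centralizer (Q : Set G)) (blockCoeff f) y) := by
  classical
  haveI hMp : M.IsPrime := hM.2.1.isPrime
  haveI : Fintype (Subgroup.centralizer (Q : Set G)) := Fintype.ofFinite _
  haveI : Fintype (Subgroup.centralizer (S : Set G)) := Fintype.ofFinite _
  letI : Fintype (IrrCharacter (Subgroup.centralizer (Q : Set G))) := irrFintype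
  letI : Fintype (IrrCharacter (Subgroup.centralizer (S : Set G))) := irrFintype
  obtain ⟨⟨hQ, hf⟩, ⟨hS, hg⟩, hQS, hSN, hst, hbr⟩ := h
  obtain ⟨ξ, hξ⟩ := block_nonempty hM hg
  have h1 := hbr ξ hξ
  rw [brauerOmega_eq_omega, subgroupBlockCoeff_eq_ext0] at h1
  set a : G → ℂ := ext0 (Subgroup.centralizer (Q : Set G)) (blockCoeff f) with ha
  have h2 : ¬ MemLocalIdeal M (omega (ξ : Subgroup.centralizer (S : Set G) → ℂ)
      (resC S (Subgroup.centralizer (S : Set G)) a)) :=
    not_memLocalIdeal_of_cong h1 not_memLocalIdeal_one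
  have hKSQ : Subgroup.centralizer (S : Set G) ≤ Subgroup.centralizer (Q : Set G) :=
    Subgroup.centralizer_le hQS
  have haK : ConjInv (Subgroup.centralizer (S : Set G)) a :=
    (conjInv_ext0 _ (isClassFunction_blockCoeff f)).mono hKSQ
  have hcf : IsClassFunction _ (resC S (Subgroup.centralizer (S : Set G)) a) :=
    isClassFunction_resC_of_conjInv S _ (Subgroup.centralizer_le_normalizer _) haK
  have haR : ∀ x, MemLocalRing M (a x) := memLocalRing_ext0 _ (memLocalRing_blockCoeff hMp hf)
  have hR : ∀ y, MemLocalRing M (resC S (Subgroup.centralizer (S : Set G)) a y) := by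
    intro y
    rw [resC_self_eq]
    exact haR _
  obtain ⟨y, hy, -⟩ := exists_of_not_memLocalIdeal_omega ξ hcf hR h2
  rw [resC_self_eq] at hy
  exact ⟨(y : G), y.2, hy⟩

end Collapse

section Part1

variable {G : Type u} [Group G] [Fintype G] {M : Ideal AlgInt} {p : ℕ}

/-- a `p`-subgroup of `K` centralizing a point where the idempotent of the block `f` of `K`
does not vanish lies in a defect group of `f` -/
theorem exists_defectGroup_ge (hM : IsPModular p M) {K : Subgroup G}
    {f : Set (IrrCharacter K)} (hf : IsPBlock M f) {A : Subgroup G} (hA : IsPGroup p A)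
    {y : G} (hy : y ∈ Subgroup.centralizer (A : Set G))
    (hfy : ¬ MemLocalIdeal M (ext0 K (blockCoeff f) y)) :
    ∃ D : Subgroup K, IsDefectGroup p M f D ∧ A.subgroupOf K ≤ D := by
  classical
  haveI hMp : M.IsPrime := hM.2.1.isPrime
  haveI : Fintype K := Fintype.ofFinite _
  have hyK : y ∈ K := by
    by_contra hcon
    rw [ext0_of_not_mem _ _ hcon] at hfy
    exact hfy (memLocalIdeal_zero hMp.ne_top)
  rw [ext0_of_mem _ _ hyK] at hfy
  obtain ⟨D₀, hD₀⟩ := exists_isDefectGroup hM hf
  have hAp : IsPGroup p (A.subgroupOf K) := hA.comap_subtype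
  have hle : A.subgroupOf K ≤ Subgroup.centralizer ({(⟨y, hyK⟩ : K)} : Set K) := by
    intro c hc
    rw [Subgroup.mem_subgroupOf] at hc
    rw [Subgroup.mem_centralizer_singleton_iff]
    apply Subtype.ext
    have h1 := (Subgroup.mem_centralizer_iff.1 hy) (c : G) hc
    push_cast
    exact h1
  obtain ⟨c, hc⟩ := subConj_of_blockCoeff hM hf hD₀ hfy hAp hle
  refine ⟨D₀.map (MulAut.conj c⁻¹).toMonoidHom, isDefectGroup_conj hM hf hD₀ c⁻¹, ?_⟩
  intro q hq
  refine ⟨c * q * c⁻¹, hc q hq, ?_⟩
  simp only [MulEquiv.coe_toMonoidHom, MulAut.conj_apply]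
  group

/-- **`C_P(Q)` lies in a defect group of the block `f` of `C_G(Q)`** when `(Q, f) ≤ (P, e)` -/
theorem centralizer_le_defectGroup_of_subpairLE (hM : IsPModular p M) [Fact p.Prime]
    {Q P : Subgroup G}
    {f : Set (IrrCharacter (Subgroup.centralizer (Q : Set G)))}
    {e : Set (IrrCharacter (Subgroup.centralizer (P : Set G)))}
    (hPe : IsBrauerPair p M P e) (hle : SubpairLE p M Q f P e) :
    ∃ D : Subgroup (Subgroup.centralizer (Q : Set G)), IsDefectGroup p M f D ∧
      (P ⊓ Subgroup.centralizer (Q : Set G)).subgroupOf (Subgroup.centralizer (Q : Set G)) ≤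
        D := by
  have hQP : Q ≤ P := chain_le hle
  have hf : IsPBlock M f := (chain_isBrauerPair hle hPe).2
  set S : Subgroup G := Q ⊔ (P ⊓ Subgroup.centralizer (Q : Set G)) with hS
  have hQS : Q ≤ S := le_sup_left
  have hSP : S ≤ P := sup_le hQP inf_le_left
  have hSN : S ≤ Subgroup.normalizer (Q : Set G) :=
    sup_le Subgroup.le_normalizer
      (le_trans (inf_le_right : P ⊓ Subgroup.centralizer (Q : Set G) ≤
        Subgroup.centralizer (Q : Set G)) (Subgroup.centralizer_le_normalizer _))
  obtain ⟨g, hsub, -⟩ := exists_normal_middle hM hPe hle hQS hSP hSN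
  obtain ⟨y, hy, hfy⟩ := exists_centralizer_not_memLocalIdeal hM hsub
  have hA : IsPGroup p (P ⊓ Subgroup.centralizer (Q : Set G) : Subgroup G) :=
    hPe.1.to_le inf_le_left
  have hy' : y ∈ Subgroup.centralizer
      ((P ⊓ Subgroup.centralizer (Q : Set G) : Subgroup G) : Set G) :=
    Subgroup.centralizer_le (le_sup_right : P ⊓ Subgroup.centralizer (Q : Set G) ≤ S) hy
  exact exists_defectGroup_ge hM hf hA hy' hfy

end Part1

section Stab

variable {G : Type u} [Group G] [Fintype G] {M : Ideal AlgInt}

/-- the stabilizer of a set of irreducible characters of `K`, as a subgroup of `G` -/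
def blockStab (K : Subgroup G) (f : Set (IrrCharacter K)) : Subgroup G where
  carrier := {x | ∃ hx : x ∈ Subgroup.normalizer (K : Set G), conjIrr K x hx '' f = f}
  one_mem' := by
    refine ⟨Subgroup.one_mem _, ?_⟩
    have : conjIrr K 1 (Subgroup.one_mem _) = id := by
      funext χ
      exact conjIrr_one' K χ
    rw [this, Set.image_id]
  mul_mem' := by
    rintro x y ⟨hx, hfx⟩ ⟨hy, hfy⟩
    refine ⟨Subgroup.mul_mem _ hx hy, ?_⟩
    rw [← image_conjIrr_image K hx hy, hfy, hfx]
  inv_mem' := by
    rintro x ⟨hx, hfx⟩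
    refine ⟨Subgroup.inv_mem _ hx, ?_⟩
    have h1 := image_conjIrr_inv_image K hx f
    rw [hfx] at h1
    exact h1

theorem stabilizesBlock_of_mem_blockStab {K : Subgroup G} {f : Set (IrrCharacter K)} {x : G}
    (h : x ∈ blockStab K f) : StabilizesBlock K f x := by
  obtain ⟨hx, hfx⟩ := h
  exact stabilizesBlock_of_image_subset K hx (le_of_eq hfx)

theorem mem_blockStab_of_stabilizesBlock [hMp : M.IsPrime] {K : Subgroup G}
    {f : Set (IrrCharacter K)} (hf : IsPBlock M f) (hne : f.Nonempty) {x : G}
    (h : StabilizesBlock K f x) : x ∈ blockStab K f :=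
  ⟨h.1, image_conjIrr_eq_of_stabilizes K hf hne h⟩

end Stab

section DefectTransport

variable {K : Type u} [Group K] [Finite K] {K' : Type u} [Group K'] [Finite K']
  {M : Ideal AlgInt} {p : ℕ}

theorem blockDefect_image_irrComp (σ : K ≃* K') (f : Set (IrrCharacter K')) :
    blockDefect p (irrComp σ '' f) = blockDefect p f := by
  unfold blockDefect
  rw [Nat.card_congr σ.toEquiv, Set.image_image]
  congr 2
  apply Set.image_congr
  intro χ _
  unfold charDegree
  rw [irrComp_apply, map_one]

theorem isDefectClass_image_irrComp (σ : K ≃* K') {f : Set (IrrCharacter K')} {g : K}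
    (h : IsDefectClass M f (σ g)) : IsDefectClass M (irrComp σ '' f) g := by
  obtain ⟨h1, h2, h3⟩ := h
  refine ⟨by rwa [blockCoeff_image_irrComp], by rwa [blockCoeff_image_irrComp], ?_⟩
  rintro _ ⟨χ, hχ, rfl⟩
  have h4 := h3 χ hχ
  show ¬ MemLocalIdeal M (centralChar ((χ : K' → ℂ) ∘ σ) g)
  rwa [centralChar_comp_equiv]

/-- defect groups are transported by group isomorphisms -/
theorem isDefectGroup_image_irrComp (hM : IsPModular p M) (σ : K ≃* K')
    {f : Set (IrrCharacter K')} (hf : IsPBlock M f) {D : Subgroup K'}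
    (hD : IsDefectGroup p M f D) :
    IsDefectGroup p M (irrComp σ '' f) (D.map σ.symm.toMonoidHom) := by
  rw [isDefectGroup_iff hM (isPBlock_image_irrComp σ hf)]
  obtain ⟨g, hg, hle, hc⟩ := (isDefectGroup_iff hM hf).1 hD
  refine ⟨σ.symm g, isDefectClass_image_irrComp σ (by rwa [σ.apply_symm_apply]), ?_, ?_⟩
  · rintro _ ⟨d, hd, rfl⟩
    have h1 := hle hd
    rw [Subgroup.mem_centralizer_singleton_iff] at h1 ⊢
    simp only [MulEquiv.coe_toMonoidHom]
    rw [← map_mul, ← map_mul, h1]
  · rw [Subgroup.card_map_of_injective σ.symm.injective, hc, blockDefect_image_irrComp]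

end DefectTransport

section Part2

variable {G : Type u} [Group G] [Fintype G] {M : Ideal AlgInt} {p : ℕ}

theorem map_conj_le_centralizer_map_conj {D Q : Subgroup G} (x : G)
    (h : D ≤ Subgroup.centralizer (Q : Set G)) :
    D.map (MulAut.conj x).toMonoidHom ≤
      Subgroup.centralizer ((Q.map (MulAut.conj x).toMonoidHom : Subgroup G) : Set G) := by
  rintro _ ⟨d, hd, rfl⟩
  rw [mem_centralizer_map_conj_iff]
  simp only [MulEquiv.coe_toMonoidHom, MulAut.conj_apply]
  have h2 : x⁻¹ * (x * d * x⁻¹) * x = d := by group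
  rw [h2]
  exact h hd

theorem blockDefect_conjBlock (Q : Subgroup G) (x : G)
    (f : Set (IrrCharacter (Subgroup.centralizer (Q : Set G)))) :
    blockDefect p (conjBlock Q x f) = blockDefect p f := by
  rw [conjBlock_eq_image, blockDefect_image_irrComp]

/-- Brauer pairs of a block go down along inclusions -/
theorem isBrauerPairOf_of_subpairLE_down (hM : IsPModular p M) [Fact p.Prime]
    {B : Set (IrrCharacter G)} {Q P : Subgroup G}
    {f : Set (IrrCharacter (Subgroup.centralizer (Q : Set G)))}
    {e : Set (IrrCharacter (Subgroup.centralizer (P : Set G)))}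
    (hle : SubpairLE p M Q f P e) (h : IsBrauerPairOf p M B P e) :
    IsBrauerPairOf p M B Q f := by
  have hQf : IsBrauerPair p M Q f := chain_isBrauerPair hle h.1
  obtain ⟨B', hB', -⟩ := Cfsg.Agent.S4657.result p M hM Q f hQf
  have h1 := isBrauerPairOf_of_subpairLE hM hle hB'
  obtain ⟨B'', -, huniq⟩ := Cfsg.Agent.S4657.result p M hM P e h.1
  have h2 : B = B' := (huniq B h).trans (huniq B' h1).symm
  rw [h2]
  exact hB'

/-- **Some conjugate of `(Q, f)` below the maximal pair `(P, e)` has `C_P(Q)` as a defect group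
of its block.** -/
theorem exists_conj_centralizer_isDefectGroup (hM : IsPModular p M) [Fact p.Prime]
    {B : Set (IrrCharacter G)} {P Q : Subgroup G}
    {e : Set (IrrCharacter (Subgroup.centralizer (P : Set G)))}
    {f : Set (IrrCharacter (Subgroup.centralizer (Q : Set G)))}
    (hmax : IsMaximalBrauerPair p M B P e) (hle : SubpairLE p M Q f P e) :
    ∃ x : G, SubpairLE p M (Q.map (MulAut.conj x).toMonoidHom) (conjBlock Q x f) P e ∧
      IsDefectGroup p M (conjBlock Q x f)
        ((P ⊓ Subgroup.centralizer ((Q.map (MulAut.conj x).toMonoidHom : Subgroup G) : Set G)).subgroupOf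
          (Subgroup.centralizer ((Q.map (MulAut.conj x).toMonoidHom : Subgroup G) : Set G))) := by
  classical
  haveI hMp : M.IsPrime := hM.2.1.isPrime
  haveI : Fintype (Subgroup.centralizer (Q : Set G)) := Fintype.ofFinite _
  have hPe : IsBrauerPair p M P e := hmax.1.1
  have hQf : IsBrauerPair p M Q f := chain_isBrauerPair hle hPe
  obtain ⟨hQ, hf⟩ := hQf
  obtain ⟨Df, hDf⟩ := exists_isDefectGroup hM hf
  obtain ⟨y', hy'cls, hDle, hDc⟩ := (isDefectGroup_iff hM hf).1 hDf
  set D' : Subgroup G := Df.map (Subgroup.centralizer (Q : Set G)).subtype with hD'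
  have hD'p : IsPGroup p D' := (isPGroup_of_isDefectGroup hM hDf).map _
  have hD'K : D' ≤ Subgroup.centralizer (Q : Set G) := Subgroup.map_subtype_le _
  have hD'N : D' ≤ Subgroup.normalizer (Q : Set G) :=
    hD'K.trans (Subgroup.centralizer_le_normalizer _)
  set R : Subgroup G := D' ⊔ Q with hR
  have hRp : IsPGroup p R := hD'p.to_sup_of_normal_right' hQ hD'N
  have hQR : Q ≤ R := le_sup_right
  have hD'R : D' ≤ R := le_sup_left
  have hRN : R ≤ Subgroup.normalizer (Q : Set G) := sup_le hD'N Subgroup.le_normalizer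
  have hne : f.Nonempty := block_nonempty hM hf
  have hRstab : R ≤ blockStab (Subgroup.centralizer (Q : Set G)) f := by
    apply sup_le
    · intro x hx
      exact mem_blockStab_of_stabilizesBlock hf hne (stabilizesBlock_of_mem _ f (hD'K hx))
    · intro x hx
      exact mem_blockStab_of_stabilizesBlock hf hne (stabilizesBlock_of_commute Q f hx)
  have hstab : ∀ x ∈ R, StabilizesBlock (Subgroup.centralizer (Q : Set G)) f x :=
    fun x hx => stabilizesBlock_of_mem_blockStab (hRstab hx)
  have hRy : R ≤ Subgroup.centralizer ({(y' : G)} : Set G) := by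
    apply sup_le
    · rintro _ ⟨d, hd, rfl⟩
      have h1 := hDle hd
      rw [Subgroup.mem_centralizer_singleton_iff] at h1 ⊢
      have h2 := congrArg Subtype.val h1
      push_cast at h2
      exact h2
    · intro q hq
      rw [Subgroup.mem_centralizer_singleton_iff]
      exact (Subgroup.mem_centralizer_iff.1 y'.2) q hq
  have hyC : (y' : G) ∈ Subgroup.centralizer (R : Set G) := by
    rw [Subgroup.mem_centralizer_iff]
    intro r hr
    have h1 := hRy hr
    rw [Subgroup.mem_centralizer_singleton_iff] at h1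
    exact h1
  have hfy : ¬ MemLocalIdeal M
      (ext0 (Subgroup.centralizer (Q : Set G)) (blockCoeff f) (y' : G)) := by
    rw [ext0_coe]
    exact hy'cls.2.1
  obtain ⟨g, hsub⟩ := exists_normal_superpair hM ⟨hQ, hf⟩ hRp hQR hRN hstab hyC hfy
  have hBQ : IsBrauerPairOf p M B Q f := isBrauerPairOf_of_subpairLE_down hM hle hmax.1
  have hBR : IsBrauerPairOf p M B R g := isBrauerPairOf_of_isNormalSubpair hM hsub hBQ
  obtain ⟨x, hx⟩ := exists_conj_subpairLE_of_maximal hM hmax hBR
  have hsubx : NormalSubpairRel p M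
      ⟨Q.map (MulAut.conj x).toMonoidHom, conjBlock Q x f⟩
      ⟨R.map (MulAut.conj x).toMonoidHom, conjBlock R x g⟩ := isNormalSubpair_conj x hsub
  have hlex : SubpairLE p M (Q.map (MulAut.conj x).toMonoidHom) (conjBlock Q x f) P e :=
    Relation.ReflTransGen.head hsubx hx
  refine ⟨x, hlex, ?_⟩
  obtain ⟨D'', hD'', hle''⟩ := centralizer_le_defectGroup_of_subpairLE hM hPe hlex
  have hc1 : Nat.card D'' = Nat.card D' := by
    rw [card_defectGroup hM (isPBlock_conjBlock Q x hf) hD'', blockDefect_conjBlock,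
      Subgroup.card_map_of_injective (Subgroup.subtype_injective _), hDc]
  have hxD'P : D'.map (MulAut.conj x).toMonoidHom ≤
      P ⊓ Subgroup.centralizer ((Q.map (MulAut.conj x).toMonoidHom : Subgroup G) : Set G) := by
    apply le_inf
    · exact (Subgroup.map_mono hD'R).trans (chain_le hx)
    · exact map_conj_le_centralizer_map_conj x hD'K
  have hc2 : Nat.card D' ≤ Nat.card (P ⊓ Subgroup.centralizer
      ((Q.map (MulAut.conj x).toMonoidHom : Subgroup G) : Set G) : Subgroup G) := by
    have h5 : Nat.card (D'.map (MulAut.conj x).toMonoidHom) = Nat.card D' :=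
      Subgroup.card_map_of_injective (MulAut.conj x).injective
    rw [← h5]
    exact Subgroup.card_le_of_le hxD'P
  have hc3 : Nat.card ((P ⊓ Subgroup.centralizer
      ((Q.map (MulAut.conj x).toMonoidHom : Subgroup G) : Set G)).subgroupOf
        (Subgroup.centralizer ((Q.map (MulAut.conj x).toMonoidHom : Subgroup G) : Set G))) =
      Nat.card (P ⊓ Subgroup.centralizer
        ((Q.map (MulAut.conj x).toMonoidHom : Subgroup G) : Set G) : Subgroup G) :=
    Nat.card_congr (Subgroup.subgroupOfEquivOfLe inf_le_right).toEquiv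
  have heq := Subgroup.eq_of_le_of_card_ge hle'' (by omega)
  rw [heq]
  exact hD''

end Part2

end Cfsg.Agent.Helper23.Blk
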