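import Mathlib
import Cfsg.Agent.Lib.Helper23.BlockConj3

/-!
# Normalizers of subpairs and defect groups of the stabilizer blocks (helper23's shared library)
-/

set_option autoImplicit false
set_option linter.unusedSectionVars false

namespace Cfsg.Agent.Helper23.Blk

open Cfsg Cfsg.Agent.Helper24
open scoped ComplexConjugate

universe u

section BlockEq

variable {G : Type u} [Group G] [Fintype G]

/-- sets of irreducible characters with the same idempotent are equal -/
theorem eq_of_blockCoeff_eq {B B' : Set (IrrCharacter G)}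
    (h : ∀ g, blockCoeff B g = blockCoeff B' g) : B = B' := by
  classical
  letI : Fintype (IrrCharacter G) := irrFintype
  have h' : blockCoeff B = blockCoeff B' := funext h
  ext χ
  have h1 := omega_blockCoeff χ B
  rw [h', omega_blockCoeff] at h1
  by_cases hχ : χ ∈ B
  · rw [if_pos hχ] at h1
    by_cases hχ' : χ ∈ B'
    · exact ⟨fun _ => hχ', fun _ => hχ⟩
    · rw [if_neg hχ'] at h1
      exact absurd h1 zero_ne_one
  · rw [if_neg hχ] at h1
    by_cases hχ' : χ ∈ B'
    · rw [if_pos hχ'] at h1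
      exact absurd h1 one_ne_zero
    · exact ⟨fun h => absurd h hχ, fun h => absurd h hχ'⟩

end BlockEq

section StabBlock

variable {G : Type u} [Group G] [Fintype G] {M : Ideal AlgInt} {p : ℕ}

/-- **the idempotent of a block `f` of `C_G(Q)` is a block idempotent of the stabilizer of `f`
in `N_G(Q)`** -/
theorem exists_block_of_stab (hM : IsPModular p M) {Q : Subgroup G} (hQ : IsPGroup p Q)
    {f : Set (IrrCharacter (Subgroup.centralizer (Q : Set G)))} (hf : IsPBlock M f)
    (T : Subgroup G)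
    (hT : ∀ y : G, y ∈ T ↔ y ∈ Subgroup.normalizer (Q : Set G) ∧
      StabilizesBlock (Subgroup.centralizer (Q : Set G)) f y) :
    ∃ F : Set (IrrCharacter T), IsPBlock M F ∧
      ∀ t : T, blockCoeff F t =
        subgroupBlockCoeff (Subgroup.centralizer (Q : Set G)) f (t : G) := by
  classical
  haveI hMp : M.IsPrime := hM.2.1.isPrime
  have hne : f.Nonempty := block_nonempty hM hf
  have hCT : Subgroup.centralizer (Q : Set G) ≤ T :=
    fun c hc => (hT c).2 ⟨Subgroup.centralizer_le_normalizer _ hc, stabilizesBlock_of_mem _ f hc⟩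
  have hQT : Q ≤ T :=
    fun x hx => (hT x).2 ⟨Subgroup.le_normalizer hx, stabilizesBlock_of_commute Q f hx⟩
  have hTNQ : T ≤ Subgroup.normalizer (Q : Set G) := fun x hx => ((hT x).1 hx).1
  have hTN : T ≤ Subgroup.normalizer
      ((Subgroup.centralizer (Q : Set G) : Subgroup G) : Set G) :=
    fun x hx => ((hT x).1 hx).2.1
  have hsupp : ∀ B' : Set (IrrCharacter T), IsPBlock M B' → ∀ t : T,
      (t : G) ∉ Subgroup.centralizer (Q : Set G) → blockCoeff B' t = 0 :=
    fun B' hB' t ht =>
      blockCoeff_eq_zero_of_not_mem_centralizer' hM Q T hQ hQT hTNQ hB' t ht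
  obtain ⟨E, hE, hEc⟩ := exists_block_orbitSum _ T hTN hM hCT hsupp hf
  have hstable : ∀ x : T, conjIrr _ (x : G) (hTN x.2) '' f = f :=
    fun x => image_conjIrr_eq_of_stabilizes _ hf hne ((hT x).1 x.2).2
  refine ⟨E, hE, ?_⟩
  intro t
  rw [hEc t, orbitSum_of_stable _ T hTN hstable, subgroupBlockCoeff_eq_ext0]

/-- **`N_P(Q)` lies in a defect group of the block of the stabilizer** when `(Q, f) ≤ (P, e)` -/
theorem normalizer_le_defectGroup_of_subpairLE (hM : IsPModular p M) [Fact p.Prime]
    {Q P : Subgroup G}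
    {f : Set (IrrCharacter (Subgroup.centralizer (Q : Set G)))}
    {e : Set (IrrCharacter (Subgroup.centralizer (P : Set G)))}
    (hPe : IsBrauerPair p M P e) (hle : SubpairLE p M Q f P e) (T : Subgroup G)
    (hT : ∀ y : G, y ∈ T ↔ y ∈ Subgroup.normalizer (Q : Set G) ∧
      StabilizesBlock (Subgroup.centralizer (Q : Set G)) f y)
    {F : Set (IrrCharacter T)} (hF : IsPBlock M F)
    (hFc : ∀ t : T, blockCoeff F t =
      subgroupBlockCoeff (Subgroup.centralizer (Q : Set G)) f (t : G)) :
    (P ⊓ Subgroup.normalizer (Q : Set G) ≤ T) ∧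
    ∃ D : Subgroup T, IsDefectGroup p M F D ∧
      (P ⊓ Subgroup.normalizer (Q : Set G)).subgroupOf T ≤ D := by
  classical
  haveI hMp : M.IsPrime := hM.2.1.isPrime
  have hQP : Q ≤ P := chain_le hle
  have hf : IsPBlock M f := (chain_isBrauerPair hle hPe).2
  set S : Subgroup G := P ⊓ Subgroup.normalizer (Q : Set G) with hS
  have hQS : Q ≤ S := le_inf hQP Subgroup.le_normalizer
  have hSP : S ≤ P := inf_le_left
  have hSN : S ≤ Subgroup.normalizer (Q : Set G) := inf_le_right
  obtain ⟨g, hsub, -⟩ := exists_normal_middle hM hPe hle hQS hSP hSN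
  have hST : S ≤ T := fun x hx => (hT x).2 ⟨hSN hx, hsub.2.2.2.2.1 x hx⟩
  refine ⟨hST, ?_⟩
  obtain ⟨y, hy, hfy⟩ := exists_centralizer_not_memLocalIdeal hM hsub
  have hSp : IsPGroup p S := hPe.1.to_le hSP
  have hyK : y ∈ Subgroup.centralizer (Q : Set G) := Subgroup.centralizer_le hQS hy
  have hyT : y ∈ T :=
    (hT y).2 ⟨Subgroup.centralizer_le_normalizer _ hyK, stabilizesBlock_of_mem _ f hyK⟩
  have hFy : ¬ MemLocalIdeal M (ext0 T (blockCoeff F) y) := by
    rw [ext0_of_mem _ _ hyT, hFc ⟨y, hyT⟩, subgroupBlockCoeff_eq_ext0]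
    exact hfy
  exact exists_defectGroup_ge hM hF hSp hy hFy

end StabBlock

section Part2N

variable {G : Type u} [Group G] [Fintype G] {M : Ideal AlgInt} {p : ℕ}

theorem mem_normalizer_map_conj_iff (Q : Subgroup G) (x y : G) :
    y ∈ Subgroup.normalizer ((Q.map (MulAut.conj x).toMonoidHom : Subgroup G) : Set G) ↔
      x⁻¹ * y * x ∈ Subgroup.normalizer (Q : Set G) := by
  rw [← Subgroup.map_equiv_normalizer_eq, Subgroup.mem_map_equiv, MulAut.conj_symm_apply]

theorem stabilizesBlock_conj_symm (Q : Subgroup G) (x : G)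
    {f : Set (IrrCharacter (Subgroup.centralizer (Q : Set G)))} {y : G}
    (h : StabilizesBlock
      (Subgroup.centralizer ((Q.map (MulAut.conj x).toMonoidHom : Subgroup G) : Set G))
      (conjBlock Q x f) y) :
    StabilizesBlock (Subgroup.centralizer (Q : Set G)) f (x⁻¹ * y * x) := by
  obtain ⟨hy, hst⟩ := h
  refine ⟨?_, ?_⟩
  · rw [Subgroup.mem_normalizer_iff]
    intro g
    have h1 := Subgroup.mem_normalizer_iff.1 hy (x * g * x⁻¹)
    rw [mem_centralizer_map_conj_iff, mem_centralizer_map_conj_iff] at h1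
    have e1 : x⁻¹ * (x * g * x⁻¹) * x = g := by group
    have e2 : x⁻¹ * (y * (x * g * x⁻¹) * y⁻¹) * x = x⁻¹ * y * x * g * (x⁻¹ * y * x)⁻¹ := by
      group
    rw [e1, e2] at h1
    exact h1
  · intro χ hχ
    have hχ' : irrComp (centConj Q x).symm χ ∈ conjBlock Q x f := by
      rw [conjBlock_eq_image]
      exact ⟨χ, hχ, rfl⟩
    obtain ⟨χ'', hχ'', hc⟩ := hst _ hχ'
    rw [conjBlock_eq_image] at hχ''
    obtain ⟨χ₂, hχ₂, rfl⟩ := hχ''
    refine ⟨χ₂, hχ₂, ?_⟩
    intro k k' hk
    have h2 := hc (centConj Q x k) (centConj Q x k') (by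
      rw [centConj_coe, centConj_coe, hk]
      group)
    rw [irrComp_apply, irrComp_apply, MulEquiv.symm_apply_apply,
      MulEquiv.symm_apply_apply] at h2
    exact h2

/-- conjugation by `x` between a subgroup and its conjugate -/
def subConjEquiv (T T' : Subgroup G) (x : G) (h : ∀ y, y ∈ T' ↔ x⁻¹ * y * x ∈ T) : T ≃* T' where
  toFun t := ⟨x * (t : G) * x⁻¹, (h _).2 (by
    have e : x⁻¹ * (x * (t : G) * x⁻¹) * x = t := by group
    rw [e]
    exact t.2)⟩
  invFun t' := ⟨x⁻¹ * (t' : G) * x, (h _).1 t'.2⟩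
  left_inv t := by
    apply Subtype.ext
    show x⁻¹ * (x * (t : G) * x⁻¹) * x = t
    group
  right_inv t' := by
    apply Subtype.ext
    show x * (x⁻¹ * (t' : G) * x) * x⁻¹ = t'
    group
  map_mul' a b := by
    apply Subtype.ext
    show x * ((a : G) * (b : G)) * x⁻¹ = (x * (a : G) * x⁻¹) * (x * (b : G) * x⁻¹)
    group

theorem subConjEquiv_symm_coe (T T' : Subgroup G) (x : G)
    (h : ∀ y, y ∈ T' ↔ x⁻¹ * y * x ∈ T) (t' : T') :
    (((subConjEquiv T T' x h).symm t' : T) : G) = x⁻¹ * (t' : G) * x := rfl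

/-- **Some conjugate of `(Q, f)` below the maximal pair `(P, e)` has `N_P(Q)` as a defect group
of the block of the stabilizer.** -/
theorem exists_conj_normalizer_isDefectGroup (hM : IsPModular p M) [Fact p.Prime]
    {B : Set (IrrCharacter G)} {P Q : Subgroup G}
    {e : Set (IrrCharacter (Subgroup.centralizer (P : Set G)))}
    {f : Set (IrrCharacter (Subgroup.centralizer (Q : Set G)))}
    (hmax : IsMaximalBrauerPair p M B P e) (hle : SubpairLE p M Q f P e) (T : Subgroup G)
    (hT : ∀ y : G, y ∈ T ↔ y ∈ Subgroup.normalizer (Q : Set G) ∧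
      StabilizesBlock (Subgroup.centralizer (Q : Set G)) f y) :
    ∃ x : G, SubpairLE p M (Q.map (MulAut.conj x).toMonoidHom) (conjBlock Q x f) P e ∧
      ∀ T' : Subgroup G,
        (∀ y : G, y ∈ T' ↔
          y ∈ Subgroup.normalizer ((Q.map (MulAut.conj x).toMonoidHom : Subgroup G) : Set G) ∧
          StabilizesBlock
            (Subgroup.centralizer ((Q.map (MulAut.conj x).toMonoidHom : Subgroup G) : Set G))
            (conjBlock Q x f) y) →
        ∃ F' : Set (IrrCharacter T'), IsPBlock M F' ∧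
          (∀ t : T', blockCoeff F' t =
            subgroupBlockCoeff
              (Subgroup.centralizer ((Q.map (MulAut.conj x).toMonoidHom : Subgroup G) : Set G))
              (conjBlock Q x f) (t : G)) ∧
          IsDefectGroup p M F'
            ((P ⊓ Subgroup.normalizer
              ((Q.map (MulAut.conj x).toMonoidHom : Subgroup G) : Set G)).subgroupOf T') := by
  classical
  haveI hMp : M.IsPrime := hM.2.1.isPrime
  haveI : Fintype T := Fintype.ofFinite _
  have hPe : IsBrauerPair p M P e := hmax.1.1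
  have hQf : IsBrauerPair p M Q f := chain_isBrauerPair hle hPe
  obtain ⟨hQ, hf⟩ := hQf
  have hQT : Q ≤ T :=
    fun x hx => (hT x).2 ⟨Subgroup.le_normalizer hx, stabilizesBlock_of_commute Q f hx⟩
  have hTNQ : T ≤ Subgroup.normalizer (Q : Set G) := fun x hx => ((hT x).1 hx).1
  obtain ⟨F, hF, hFc⟩ := exists_block_of_stab hM hQ hf T hT
  obtain ⟨DF, hDF⟩ := exists_isDefectGroup hM hF
  have hDFc := card_defectGroup hM hF hDF
  have hDFp : IsPGroup p DF := isPGroup_of_isDefectGroup hM hDF
  obtain ⟨y', hy'cls, Syl, hDFeq⟩ := hDF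
  haveI hQTn : (Q.subgroupOf T).Normal := Subgroup.normal_subgroupOf_of_le_normalizer hTNQ
  have hQD := normal_pgroup_le_defectGroup hM hF (Q.subgroupOf T) hQ.comap_subtype hy'cls Syl
  rw [← hDFeq] at hQD
  have hDle : DF ≤ Subgroup.centralizer ({y'} : Set T) := by
    rw [hDFeq]
    exact Subgroup.map_subtype_le _
  set D' : Subgroup G := DF.map T.subtype with hD'
  have hD'p : IsPGroup p D' := hDFp.map _
  have hD'T : D' ≤ T := Subgroup.map_subtype_le _
  have hQR : Q ≤ D' := by
    intro w hw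
    refine ⟨⟨w, hQT hw⟩, hQD ?_, rfl⟩
    show (⟨w, hQT hw⟩ : T) ∈ Q.subgroupOf T
    rw [Subgroup.mem_subgroupOf]
    exact hw
  have hRN : D' ≤ Subgroup.normalizer (Q : Set G) := hD'T.trans hTNQ
  have hstab : ∀ x ∈ D', StabilizesBlock (Subgroup.centralizer (Q : Set G)) f x :=
    fun x hx => ((hT x).1 (hD'T hx)).2
  have hyC : (y' : G) ∈ Subgroup.centralizer (D' : Set G) := by
    rw [Subgroup.mem_centralizer_iff]
    rintro _ ⟨d, hd, rfl⟩
    have h1 := hDle hd
    rw [Subgroup.mem_centralizer_singleton_iff] at h1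
    have h3 := congrArg Subtype.val h1
    push_cast at h3
    exact h3
  have hfy : ¬ MemLocalIdeal M
      (ext0 (Subgroup.centralizer (Q : Set G)) (blockCoeff f) (y' : G)) := by
    rw [← subgroupBlockCoeff_eq_ext0, ← hFc y']
    exact hy'cls.2.1
  obtain ⟨g, hsub⟩ := exists_normal_superpair hM ⟨hQ, hf⟩ hD'p hQR hRN hstab hyC hfy
  have hBQ : IsBrauerPairOf p M B Q f := isBrauerPairOf_of_subpairLE_down hM hle hmax.1
  have hBR : IsBrauerPairOf p M B D' g := isBrauerPairOf_of_isNormalSubpair hM hsub hBQ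
  obtain ⟨x, hx⟩ := exists_conj_subpairLE_of_maximal hM hmax hBR
  have hsubx : NormalSubpairRel p M
      ⟨Q.map (MulAut.conj x).toMonoidHom, conjBlock Q x f⟩
      ⟨D'.map (MulAut.conj x).toMonoidHom, conjBlock D' x g⟩ := isNormalSubpair_conj x hsub
  have hlex : SubpairLE p M (Q.map (MulAut.conj x).toMonoidHom) (conjBlock Q x f) P e :=
    Relation.ReflTransGen.head hsubx hx
  refine ⟨x, hlex, ?_⟩
  intro T' hT'
  haveI : Fintype T' := Fintype.ofFinite _
  obtain ⟨F', hF', hF'c⟩ :=
    exists_block_of_stab hM (hQ.map _) (isPBlock_conjBlock Q x hf) T' hT'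
  obtain ⟨hST', D'', hD'', hle''⟩ :=
    normalizer_le_defectGroup_of_subpairLE hM hPe hlex T' hT' hF' hF'c
  refine ⟨F', hF', hF'c, ?_⟩
  have hTT' : ∀ y, y ∈ T' ↔ x⁻¹ * y * x ∈ T := by
    intro y
    rw [hT', hT, mem_normalizer_map_conj_iff]
    constructor
    · rintro ⟨h1, h2⟩
      exact ⟨h1, stabilizesBlock_conj_symm Q x h2⟩
    · rintro ⟨h1, h2⟩
      refine ⟨h1, ?_⟩
      have h3 := stabilizesBlock_conj Q x h2
      have e1 : x * (x⁻¹ * y * x) * x⁻¹ = y := by group
      rwa [e1] at h3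
  have hFF' : F' = irrComp (subConjEquiv T T' x hTT').symm '' F := by
    apply eq_of_blockCoeff_eq
    intro t'
    rw [blockCoeff_image_irrComp, hF'c, hFc, subConjEquiv_symm_coe,
      ← subgroupBlockCoeff_conjBlock Q x f]
    congr 1
    group
  have hdef : blockDefect p F' = blockDefect p F := by
    rw [hFF', blockDefect_image_irrComp]
  have hc1 : Nat.card D'' = Nat.card D' := by
    rw [card_defectGroup hM hF' hD'', hdef,
      Subgroup.card_map_of_injective (Subgroup.subtype_injective _), hDFc]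
  have hxD'S : D'.map (MulAut.conj x).toMonoidHom ≤
      P ⊓ Subgroup.normalizer ((Q.map (MulAut.conj x).toMonoidHom : Subgroup G) : Set G) :=
    le_inf (chain_le hx) (map_conj_le_normalizer x hRN)
  have hc2 : Nat.card D' ≤ Nat.card (P ⊓ Subgroup.normalizer
      ((Q.map (MulAut.conj x).toMonoidHom : Subgroup G) : Set G) : Subgroup G) := by
    have h5 : Nat.card (D'.map (MulAut.conj x).toMonoidHom) = Nat.card D' :=
      Subgroup.card_map_of_injective (MulAut.conj x).injective
    rw [← h5]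
    exact Subgroup.card_le_of_le hxD'S
  have hc3 : Nat.card ((P ⊓ Subgroup.normalizer
      ((Q.map (MulAut.conj x).toMonoidHom : Subgroup G) : Set G)).subgroupOf T') =
      Nat.card (P ⊓ Subgroup.normalizer
        ((Q.map (MulAut.conj x).toMonoidHom : Subgroup G) : Set G) : Subgroup G) :=
    Nat.card_congr (Subgroup.subgroupOfEquivOfLe hST').toEquiv
  have heq := Subgroup.eq_of_le_of_card_ge hle'' (by omega)
  rw [heq]
  exact hD''

end Part2N

end Cfsg.Agent.Helper23.Blk
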