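import Mathlib
import Cfsg.Agent.Lib.Helper23.BlockTrace

/-!
# Idempotent matrices over the local ring commuting with a permutation
(helper23's shared library)

The linear algebra behind Brauer's second main theorem: if an idempotent matrix with local
integer entries commutes with a permutation, is small on the "bad" points and the "good" points
carry a semi-invariant function congruent to `1`, then the trace of the permutation on the image
of the idempotent vanishes.
-/

set_option autoImplicit false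
set_option linter.unusedSectionVars false

namespace Cfsg.Agent.Helper23.Blk

open Cfsg

section MatPred

variable {M : Ideal AlgInt} [hMp : M.IsPrime] {n : Type*} [Fintype n] [DecidableEq n]

/-- all entries are local integers -/
def MatR (M : Ideal AlgInt) (A : Matrix n n ℂ) : Prop := ∀ i j, MemLocalRing M (A i j)

/-- all entries lie in the local ideal -/
def MatI (M : Ideal AlgInt) (A : Matrix n n ℂ) : Prop := ∀ i j, MemLocalIdeal M (A i j)

theorem MatI.matR {A : Matrix n n ℂ} (h : MatI M A) : MatR M A :=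
  fun i j => memLocalRing_of_memLocalIdeal (h i j)

theorem matR_one : MatR M (1 : Matrix n n ℂ) := by
  intro i j
  by_cases hij : i = j
  · rw [hij, Matrix.one_apply_eq]; exact memLocalRing_one ne_top
  · rw [Matrix.one_apply_ne hij]; exact memLocalRing_zero ne_top

theorem MatR.add {A B : Matrix n n ℂ} (hA : MatR M A) (hB : MatR M B) : MatR M (A + B) :=
  fun i j => by rw [Matrix.add_apply]; exact memLocalRing_add (hA i j) (hB i j)

theorem MatR.sub {A B : Matrix n n ℂ} (hA : MatR M A) (hB : MatR M B) : MatR M (A - B) :=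
  fun i j => by rw [Matrix.sub_apply]; exact memLocalRing_sub (hA i j) (hB i j)

theorem MatR.neg {A : Matrix n n ℂ} (hA : MatR M A) : MatR M (-A) :=
  fun i j => by rw [Matrix.neg_apply]; exact memLocalRing_neg (hA i j)

theorem MatR.mul {A B : Matrix n n ℂ} (hA : MatR M A) (hB : MatR M B) : MatR M (A * B) :=
  fun i j => by
    rw [Matrix.mul_apply]
    exact memLocalRing_sum _ _ fun k _ => memLocalRing_mul (hA i k) (hB k j)

theorem MatI.add {A B : Matrix n n ℂ} (hA : MatI M A) (hB : MatI M B) : MatI M (A + B) :=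
  fun i j => by rw [Matrix.add_apply]; exact memLocalIdeal_add (hA i j) (hB i j)

theorem MatI.neg {A : Matrix n n ℂ} (hA : MatI M A) : MatI M (-A) :=
  fun i j => by rw [Matrix.neg_apply]; exact memLocalIdeal_neg (hA i j)

theorem MatI.mul_right {A B : Matrix n n ℂ} (hA : MatI M A) (hB : MatR M B) : MatI M (A * B) :=
  fun i j => by
    rw [Matrix.mul_apply]
    exact memLocalIdeal_sum _ _ fun k _ => memLocalIdeal_mul_right (hA i k) (hB k j)

theorem MatI.mul_left {A B : Matrix n n ℂ} (hA : MatR M A) (hB : MatI M B) : MatI M (A * B) :=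
  fun i j => by
    rw [Matrix.mul_apply]
    exact memLocalIdeal_sum _ _ fun k _ => memLocalIdeal_mul_left (hA i k) (hB k j)

theorem memLocalRing_det {A : Matrix n n ℂ} (hA : MatR M A) : MemLocalRing M A.det := by
  rw [Matrix.det_apply']
  apply memLocalRing_sum
  intro σ _
  exact memLocalRing_mul (memLocalRing_intCast _) (memLocalRing_prod _ _ fun i _ => hA _ _)

theorem matR_adjugate {A : Matrix n n ℂ} (hA : MatR M A) : MatR M A.adjugate := by
  intro i j
  rw [Matrix.adjugate_apply]
  apply memLocalRing_det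
  intro k l
  rw [Matrix.updateRow_apply]
  split_ifs
  · by_cases hl : i = l
    · rw [hl, Pi.single_eq_same]; exact memLocalRing_one ne_top
    · rw [Pi.single_eq_of_ne' hl]; exact memLocalRing_zero ne_top
  · exact hA k l

/-- a matrix congruent to the identity is invertible over the local ring -/
theorem exists_inverse_one_sub {W : Matrix n n ℂ} (hW : MatI M W) :
    ∃ R : Matrix n n ℂ, MatR M R ∧ R * (1 - W) = 1 ∧ (1 - W) * R = 1 := by
  have h1 : (1 : Matrix n n ℂ) - W = 1 + -W := sub_eq_add_neg _ _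
  have hdetI : ¬ MemLocalIdeal M (Matrix.det (1 - W)) := by
    rw [h1]
    exact not_memLocalIdeal_det_one_add _ hW.neg
  have hUR : MatR M (1 - W) := matR_one.sub hW.matR
  have hdetR : MemLocalRing M (Matrix.det (1 - W)) := memLocalRing_det hUR
  have hdet0 : Matrix.det (1 - W) ≠ 0 := by
    intro h0
    apply hdetI
    rw [h0]
    exact memLocalIdeal_zero ne_top
  have hunit : IsUnit (Matrix.det (1 - W)) := isUnit_iff_ne_zero.2 hdet0
  refine ⟨(1 - W)⁻¹, ?_, Matrix.nonsing_inv_mul _ hunit, Matrix.mul_nonsing_inv _ hunit⟩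
  rw [Matrix.inv_def, Ring.inverse_eq_inv']
  intro i j
  rw [Matrix.smul_apply, smul_eq_mul]
  exact memLocalRing_mul (memLocalRing_inv hdetR hdetI) (matR_adjugate hUR i j)

/-- **equivariant rigidity of idempotents**: idempotents over the local ring that are congruent
modulo the local ideal and commute with the same matrix `Q` give the same trace against `Q` -/
theorem trace_mul_eq_of_idempotent_congr (P P' Q : Matrix n n ℂ) (hP : P * P = P)
    (hP' : P' * P' = P') (hR : MatR M P) (hcong : MatI M (P' - P))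
    (hQP : Q * P = P * Q) (hQP' : Q * P' = P' * Q) : (Q * P').trace = (Q * P).trace := by
  have hN : MatI M ((P' - P) * (2 • P - 1)) := by
    apply hcong.mul_right
    apply MatR.sub _ matR_one
    intro i j
    rw [Matrix.smul_apply, nsmul_eq_mul]
    exact memLocalRing_mul (memLocalRing_natCast 2) (hR i j)
  have hU : P' * P + (1 - P') * (1 - P) = 1 + (P' - P) * (2 • P - 1) := by
    have e1 : (P' - P) * (2 • P - 1) = 2 • (P' * P) - P' - 2 • (P * P) + P := by
      rw [Matrix.sub_mul, Matrix.mul_sub, Matrix.mul_sub, Matrix.mul_one, Matrix.mul_one,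
        Matrix.mul_smul, Matrix.mul_smul]
      abel
    rw [e1, hP, Matrix.sub_mul, Matrix.mul_sub, Matrix.mul_sub, Matrix.one_mul, Matrix.one_mul,
      Matrix.mul_one]
    rw [two_smul, two_smul]
    abel
  set u : Matrix n n ℂ := P' * P + (1 - P') * (1 - P) with hu
  have hdet : Matrix.det u ≠ 0 := by
    rw [hU]
    intro h0
    apply not_memLocalIdeal_det_one_add (M := M) _ hN
    rw [h0]
    exact memLocalIdeal_zero ne_top
  have hunit : IsUnit (Matrix.det u) := isUnit_iff_ne_zero.2 hdet
  have h1 : P' * u = P' * P := by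
    have e : P' * (1 - P') = 0 := by rw [Matrix.mul_sub, Matrix.mul_one, hP', sub_self]
    rw [hu, Matrix.mul_add, ← Matrix.mul_assoc, hP', ← Matrix.mul_assoc, e, Matrix.zero_mul,
      add_zero]
  have h2 : u * P = P' * P := by
    have e : (1 - P) * P = 0 := by rw [Matrix.sub_mul, Matrix.one_mul, hP, sub_self]
    rw [hu, Matrix.add_mul, Matrix.mul_assoc, hP, Matrix.mul_assoc, e, Matrix.mul_zero, add_zero]
  have hQ1 : Q * (1 - P') = (1 - P') * Q := by
    rw [Matrix.mul_sub, Matrix.mul_one, Matrix.sub_mul, Matrix.one_mul, hQP']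
  have hQ2 : Q * (1 - P) = (1 - P) * Q := by
    rw [Matrix.mul_sub, Matrix.mul_one, Matrix.sub_mul, Matrix.one_mul, hQP]
  have hQu : Q * u = u * Q := by
    have e1 : Q * (P' * P) = P' * P * Q := by
      rw [← Matrix.mul_assoc, hQP', Matrix.mul_assoc, hQP, ← Matrix.mul_assoc]
    have e2 : Q * ((1 - P') * (1 - P)) = (1 - P') * (1 - P) * Q := by
      rw [← Matrix.mul_assoc, hQ1, Matrix.mul_assoc, hQ2, ← Matrix.mul_assoc]
    rw [hu, Matrix.mul_add, Matrix.add_mul, e1, e2]
  calc (Q * P').trace = (Q * (P' * (u * u⁻¹))).trace := by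
        rw [Matrix.mul_nonsing_inv _ hunit, Matrix.mul_one]
    _ = (Q * (u * P * u⁻¹)).trace := by
        rw [← Matrix.mul_assoc P', h1, h2]
    _ = (u * (Q * P) * u⁻¹).trace := by
        rw [← Matrix.mul_assoc, ← Matrix.mul_assoc, hQu, Matrix.mul_assoc u Q P]
    _ = (u⁻¹ * u * (Q * P)).trace := by
        rw [Matrix.trace_mul_cycle]
    _ = (Q * P).trace := by rw [Matrix.nonsing_inv_mul _ hunit, Matrix.one_mul]

end MatPred

section Schur

variable {𝓡 : Type*} [Ring 𝓡]

/-- the Schur complement idempotent -/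
theorem schur_idem (X Y Z W R : 𝓡) (h1 : X * X + Y * Z = X) (h2 : X * Y + Y * W = Y)
    (h3 : Z * X + W * Z = Z) (h4 : Z * Y + W * W = W) (hR1 : R * (1 - W) = 1)
    (hR2 : (1 - W) * R = 1) : (X + Y * R * Z) * (X + Y * R * Z) = X + Y * R * Z := by
  have e1 : X * Y = Y * (1 - W) := by
    rw [mul_sub, mul_one]
    exact eq_sub_of_add_eq h2
  have e2 : Z * X = (1 - W) * Z := by
    rw [sub_mul, one_mul]
    exact eq_sub_of_add_eq h3
  have e3 : Z * Y = (1 - W) * W := by
    rw [sub_mul, one_mul]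
    exact eq_sub_of_add_eq h4
  have e4 : X * Y * R = Y := by rw [e1, mul_assoc, hR2, mul_one]
  have e5 : R * Z * X = Z := by rw [mul_assoc, e2, ← mul_assoc, hR1, one_mul]
  have e6 : R * Z * Y * R = W * R := by
    rw [mul_assoc R Z Y, e3, ← mul_assoc R, hR1, one_mul]
  have e7 : 1 + W * R = R := by
    have h := hR2
    rw [sub_mul, one_mul] at h
    rw [← h]
    abel
  have e8 : X * X = X - Y * Z := eq_sub_of_add_eq h1
  calc (X + Y * R * Z) * (X + Y * R * Z)
      = X * X + (X * Y * R) * Z + Y * (R * Z * X) + Y * (R * Z * Y * R) * Z := by noncomm_ring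
    _ = (X - Y * Z) + Y * Z + Y * Z + Y * (W * R) * Z := by rw [e8, e4, e5, e6]
    _ = X + Y * (1 + W * R) * Z := by noncomm_ring
    _ = X + Y * R * Z := by rw [e7]

end Schur

section Perm

variable {M : Ideal AlgInt} [hMp : M.IsPrime] {Ω : Type*} [Fintype Ω] [DecidableEq Ω]

/-- the permutation matrix of `σ` -/
def permMat (σ : Equiv.Perm Ω) : Matrix Ω Ω ℂ := fun i j => if i = σ j then 1 else 0

theorem permMat_mul_apply (σ : Equiv.Perm Ω) (A : Matrix Ω Ω ℂ) (i j : Ω) :
    (permMat σ * A) i j = A (σ.symm i) j := by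
  rw [Matrix.mul_apply, Finset.sum_eq_single (σ.symm i)]
  · unfold permMat
    rw [if_pos (σ.apply_symm_apply i).symm, one_mul]
  · intro k _ hk
    unfold permMat
    rw [if_neg, zero_mul]
    intro h
    apply hk
    rw [h, σ.symm_apply_apply]
  · intro h
    exact absurd (Finset.mem_univ _) h

theorem mul_permMat_apply (σ : Equiv.Perm Ω) (A : Matrix Ω Ω ℂ) (i j : Ω) :
    (A * permMat σ) i j = A i (σ j) := by
  rw [Matrix.mul_apply, Finset.sum_eq_single (σ j)]
  · unfold permMat
    rw [if_pos rfl, mul_one]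
  · intro k _ hk
    unfold permMat
    rw [if_neg hk, mul_zero]
  · intro h
    exact absurd (Finset.mem_univ _) h

theorem permMat_comm_iff (σ : Equiv.Perm Ω) (A : Matrix Ω Ω ℂ) :
    permMat σ * A = A * permMat σ ↔ ∀ i j, A (σ i) (σ j) = A i j := by
  constructor
  · intro h i j
    have h1 := congrFun (congrFun h (σ i)) j
    rw [permMat_mul_apply, mul_permMat_apply, σ.symm_apply_apply] at h1
    exact h1.symm
  · intro h
    ext i j
    rw [permMat_mul_apply, mul_permMat_apply, ← h (σ.symm i) j, σ.apply_symm_apply]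

theorem trace_permMat_mul (σ : Equiv.Perm Ω) (A : Matrix Ω Ω ℂ) :
    (permMat σ * A).trace = ∑ j, A j (σ j) := by
  unfold Matrix.trace
  simp only [Matrix.diag_apply, permMat_mul_apply]
  rw [← Equiv.sum_comp σ]
  apply Finset.sum_congr rfl
  intro j _
  rw [σ.symm_apply_apply]

set_option maxHeartbeats 1600000 in
/-- **the twisted trace of an idempotent vanishes** -/
theorem trace_perm_idem_eq_zero (σ : Equiv.Perm Ω) (good : Ω → Prop) [DecidablePred good]
    (hgood : ∀ k, good (σ k) ↔ good k) (δ : Ω → ℂ) (hδR : ∀ k, MemLocalRing M (δ k))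
    (hδinvR : ∀ k, MemLocalRing M (δ k)⁻¹) (hδ0 : ∀ k, δ k ≠ 0)
    (hδ1 : ∀ k, MemLocalIdeal M (δ k - 1)) (ζ : ℂ) (hζ1 : ζ ≠ 1) (hζ0 : ζ ≠ 0)
    (hδσ : ∀ k, good k → δ (σ k) = ζ * δ k)
    (A : Matrix Ω Ω ℂ) (hA : A * A = A) (hAR : MatR M A)
    (hAσ : ∀ i j, A (σ i) (σ j) = A i j)
    (hAbad : ∀ i j, ¬ good i → ¬ good j → MemLocalIdeal M (A i j)) :
    ∑ k, A k (σ k) = 0 := by
  set Pm : Matrix Ω Ω ℂ := permMat σ with hPm
  set Eg : Matrix Ω Ω ℂ := Matrix.diagonal (fun k => if good k then (1 : ℂ) else 0) with hEg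
  set Eb : Matrix Ω Ω ℂ := Matrix.diagonal (fun k => if good k then (0 : ℂ) else 1) with hEb
  have hEgb : Eg + Eb = 1 := by
    rw [hEg, hEb, Matrix.diagonal_add, ← Matrix.diagonal_one]
    congr 1
    funext k
    split_ifs <;> simp
  have hEgg : Eg * Eg = Eg := by
    rw [hEg, Matrix.diagonal_mul_diagonal]
    congr 1
    funext k
    split_ifs <;> simp
  have hEbb : Eb * Eb = Eb := by
    rw [hEb, Matrix.diagonal_mul_diagonal]
    congr 1
    funext k
    split_ifs <;> simp
  have hEgEb : Eg * Eb = 0 := by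
    rw [hEg, hEb, Matrix.diagonal_mul_diagonal, ← Matrix.diagonal_zero]
    congr 1
    funext k
    split_ifs <;> simp
  have hEbEg : Eb * Eg = 0 := by
    rw [hEg, hEb, Matrix.diagonal_mul_diagonal, ← Matrix.diagonal_zero]
    congr 1
    funext k
    split_ifs <;> simp
  have hEgR : MatR M Eg := by
    intro i j
    rw [hEg, Matrix.diagonal_apply]
    split_ifs
    · exact memLocalRing_one ne_top
    · exact memLocalRing_zero ne_top
    · exact memLocalRing_zero ne_top
  have hEbR : MatR M Eb := by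
    intro i j
    rw [hEb, Matrix.diagonal_apply]
    split_ifs
    · exact memLocalRing_zero ne_top
    · exact memLocalRing_one ne_top
    · exact memLocalRing_zero ne_top
  have hPmEg : Pm * Eg = Eg * Pm := by
    rw [hPm, permMat_comm_iff]
    intro i j
    rw [hEg, Matrix.diagonal_apply, Matrix.diagonal_apply]
    by_cases hij : i = j
    · rw [if_pos hij, if_pos (congrArg σ hij)]
      by_cases hi : good i
      · rw [if_pos hi, if_pos ((hgood i).2 hi)]
      · rw [if_neg hi, if_neg (fun h => hi ((hgood i).1 h))]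
    · rw [if_neg hij, if_neg (fun h => hij (σ.injective h))]
  have hPmEb : Pm * Eb = Eb * Pm := by
    have h1 : Eb = 1 - Eg := by rw [← hEgb]; abel
    rw [h1, Matrix.mul_sub, Matrix.sub_mul, Matrix.mul_one, Matrix.one_mul, hPmEg]
  have hPmA : Pm * A = A * Pm := (permMat_comm_iff σ A).2 hAσ
  set X : Matrix Ω Ω ℂ := Eg * A * Eg with hX
  set Y : Matrix Ω Ω ℂ := Eg * A * Eb with hY
  set Z : Matrix Ω Ω ℂ := Eb * A * Eg with hZ
  set W : Matrix Ω Ω ℂ := Eb * A * Eb with hW
  have hsplit : ∀ U V : Matrix Ω Ω ℂ, U * A * Eg * (Eg * A * V) + U * A * Eb * (Eb * A * V) =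
      U * A * V := by
    intro U V
    calc U * A * Eg * (Eg * A * V) + U * A * Eb * (Eb * A * V)
        = U * A * (Eg * Eg + Eb * Eb) * A * V := by noncomm_ring
      _ = U * (A * A) * V := by rw [hEgg, hEbb, hEgb]; noncomm_ring
      _ = U * A * V := by rw [hA]
  have h1 : X * X + Y * Z = X := hsplit Eg Eg
  have h2 : X * Y + Y * W = Y := hsplit Eg Eb
  have h3 : Z * X + W * Z = Z := hsplit Eb Eg
  have h4 : Z * Y + W * W = W := hsplit Eb Eb
  have hWI : MatI M W := by
    intro i j
    rw [hW, hEb, Matrix.mul_diagonal, Matrix.diagonal_mul]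
    by_cases hi : good i
    · rw [if_pos hi, zero_mul, zero_mul]
      exact memLocalIdeal_zero ne_top
    · by_cases hj : good j
      · rw [if_pos hj, mul_zero]
        exact memLocalIdeal_zero ne_top
      · rw [if_neg hi, if_neg hj, one_mul, mul_one]
        exact hAbad i j hi hj
  obtain ⟨R, hRR, hR1, hR2⟩ := exists_inverse_one_sub hWI
  have hcommMul : ∀ U V : Matrix Ω Ω ℂ, Pm * U = U * Pm → Pm * V = V * Pm → Pm * (U * V) = U * V * Pm := by
    intro U V hU hV
    rw [← Matrix.mul_assoc, hU, Matrix.mul_assoc, hV, ← Matrix.mul_assoc]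
  have hPmX : Pm * X = X * Pm := hcommMul _ _ (hcommMul _ _ hPmEg hPmA) hPmEg
  have hPmY : Pm * Y = Y * Pm := hcommMul _ _ (hcommMul _ _ hPmEg hPmA) hPmEb
  have hPmZ : Pm * Z = Z * Pm := hcommMul _ _ (hcommMul _ _ hPmEb hPmA) hPmEg
  have hPmW : Pm * W = W * Pm := hcommMul _ _ (hcommMul _ _ hPmEb hPmA) hPmEb
  have hPm1W : Pm * (1 - W) = (1 - W) * Pm := by
    rw [Matrix.mul_sub, Matrix.sub_mul, Matrix.mul_one, Matrix.one_mul, hPmW]
  have hPmR : Pm * R = R * Pm := by
    calc Pm * R = R * (1 - W) * (Pm * R) := by rw [hR1, Matrix.one_mul]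
      _ = R * ((1 - W) * Pm) * R := by noncomm_ring
      _ = R * (Pm * (1 - W)) * R := by rw [hPm1W]
      _ = R * Pm * ((1 - W) * R) := by noncomm_ring
      _ = R * Pm := by rw [hR2, Matrix.mul_one]
  set Xt : Matrix Ω Ω ℂ := X + Y * R * Z with hXt
  have hXtidem : Xt * Xt = Xt := schur_idem X Y Z W R h1 h2 h3 h4 hR1 hR2
  have hXR : MatR M X := (hEgR.mul hAR).mul hEgR
  have hYR : MatR M Y := (hEgR.mul hAR).mul hEbR
  have hZR : MatR M Z := (hEbR.mul hAR).mul hEgR
  have hXtR : MatR M Xt := hXR.add ((hYR.mul hRR).mul hZR)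
  have hPmXt : Pm * Xt = Xt * Pm := by
    rw [hXt, Matrix.mul_add, Matrix.add_mul, hPmX, hcommMul _ _ (hcommMul _ _ hPmY hPmR) hPmZ]
  -- the corner property
  have hEgX : Eg * X = X := by
    rw [hX, ← Matrix.mul_assoc, ← Matrix.mul_assoc, hEgg]
  have hEgY : Eg * Y = Y := by
    rw [hY, ← Matrix.mul_assoc, ← Matrix.mul_assoc, hEgg]
  have hXEg : X * Eg = X := by
    rw [hX, Matrix.mul_assoc, hEgg]
  have hZEg : Z * Eg = Z := by
    rw [hZ, Matrix.mul_assoc, hEgg]
  have hEgXt : Eg * Xt = Xt := by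
    rw [hXt, Matrix.mul_add, hEgX]
    congr 1
    rw [← Matrix.mul_assoc Eg (Y * R) Z, ← Matrix.mul_assoc Eg Y R, hEgY]
  have hXtEg : Xt * Eg = Xt := by
    rw [hXt, Matrix.add_mul, hXEg]
    congr 1
    rw [Matrix.mul_assoc (Y * R) Z Eg, hZEg]
  have hXt0 : ∀ i j, (¬ good i ∨ ¬ good j) → Xt i j = 0 := by
    intro i j hij
    rcases hij with hi | hj
    · rw [← hEgXt, hEg, Matrix.diagonal_mul, if_neg hi, zero_mul]
    · rw [← hXtEg, hEg, Matrix.mul_diagonal, if_neg hj, mul_zero]
  have hXtσ : ∀ i j, Xt (σ i) (σ j) = Xt i j := (permMat_comm_iff σ Xt).1 hPmXt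
  -- the traces agree
  have htr : (Pm * Xt).trace = (Pm * A).trace := by
    have hAsum : A = X + Y + Z + W := by
      calc A = (Eg + Eb) * A * (Eg + Eb) := by rw [hEgb, Matrix.one_mul, Matrix.mul_one]
        _ = X + Y + Z + W := by rw [hX, hY, hZ, hW]; noncomm_ring
    have hY0 : (Pm * Y).trace = 0 := by
      calc (Pm * Y).trace = (Pm * (Eg * A) * Eb).trace := by rw [hY, ← Matrix.mul_assoc]
        _ = (Eb * Pm * (Eg * A)).trace := by rw [Matrix.trace_mul_cycle]
        _ = (Pm * (Eb * Eg) * A).trace := by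
            rw [← hPmEb]
            congr 1
            noncomm_ring
        _ = 0 := by rw [hEbEg, Matrix.mul_zero, Matrix.zero_mul, Matrix.trace_zero]
    have hZ0 : (Pm * Z).trace = 0 := by
      calc (Pm * Z).trace = (Pm * (Eb * A) * Eg).trace := by rw [hZ, ← Matrix.mul_assoc]
        _ = (Eg * Pm * (Eb * A)).trace := by rw [Matrix.trace_mul_cycle]
        _ = (Pm * (Eg * Eb) * A).trace := by
            rw [← hPmEg]
            congr 1
            noncomm_ring
        _ = 0 := by rw [hEgEb, Matrix.mul_zero, Matrix.zero_mul, Matrix.trace_zero]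
    have hZY : Z * Y = (1 - W) * W := by
      rw [Matrix.sub_mul, Matrix.one_mul]
      exact eq_sub_of_add_eq h4
    have hWW : (1 - W) * W = W * (1 - W) := by
      rw [Matrix.sub_mul, Matrix.mul_sub, Matrix.one_mul, Matrix.mul_one]
    have hYRZ : (Pm * (Y * R * Z)).trace = (Pm * W).trace := by
      calc (Pm * (Y * R * Z)).trace = (Pm * (Y * R) * Z).trace := by rw [← Matrix.mul_assoc]
        _ = (Z * Pm * (Y * R)).trace := by rw [Matrix.trace_mul_cycle]
        _ = (Pm * (Z * Y) * R).trace := by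
            rw [← hPmZ]
            congr 1
            noncomm_ring
        _ = (Pm * W * ((1 - W) * R)).trace := by
            rw [hZY, hWW]
            congr 1
            noncomm_ring
        _ = (Pm * W).trace := by rw [hR2, Matrix.mul_one]
    rw [hXt, Matrix.mul_add, Matrix.trace_add, hYRZ]
    conv_rhs => rw [hAsum]
    rw [Matrix.mul_add, Matrix.mul_add, Matrix.mul_add, Matrix.trace_add, Matrix.trace_add,
      Matrix.trace_add, hY0, hZ0, add_zero, add_zero]
  -- the conjugated idempotent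
  set Xt' : Matrix Ω Ω ℂ := fun i j => δ i * Xt i j * (δ j)⁻¹ with hXt'
  have hXt'idem : Xt' * Xt' = Xt' := by
    ext i j
    rw [Matrix.mul_apply]
    have h5 := congrFun (congrFun hXtidem i) j
    rw [Matrix.mul_apply] at h5
    simp only [hXt']
    rw [← h5, Finset.mul_sum, Finset.sum_mul]
    apply Finset.sum_congr rfl
    intro k _
    have := hδ0 k
    field_simp
  have hXt'cong : MatI M (Xt' - Xt) := by
    intro i j
    rw [Matrix.sub_apply]
    simp only [hXt']
    have h6 : δ i * Xt i j * (δ j)⁻¹ - Xt i j =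
        ((δ i - 1) * (δ j)⁻¹ - (δ j - 1) * (δ j)⁻¹) * Xt i j := by
      have := hδ0 j
      field_simp
      ring
    rw [h6]
    apply memLocalIdeal_mul_right _ (hXtR i j)
    exact memLocalIdeal_sub (memLocalIdeal_mul_right (hδ1 i) (hδinvR j))
      (memLocalIdeal_mul_right (hδ1 j) (hδinvR j))
  have hXt'σ : ∀ i j, Xt' (σ i) (σ j) = Xt' i j := by
    intro i j
    simp only [hXt']
    rw [hXtσ]
    by_cases hi : good i
    · by_cases hj : good j
      · rw [hδσ i hi, hδσ j hj]
        have := hδ0 j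
        field_simp
      · rw [hXt0 i j (Or.inr hj)]
        ring
    · rw [hXt0 i j (Or.inl hi)]
      ring
  have hPmXt' : Pm * Xt' = Xt' * Pm := (permMat_comm_iff σ Xt').2 hXt'σ
  have hE := trace_mul_eq_of_idempotent_congr (M := M) Xt Xt' Pm hXtidem hXt'idem hXtR hXt'cong
    hPmXt hPmXt'
  have htr' : (Pm * Xt').trace = ζ⁻¹ * (Pm * Xt).trace := by
    rw [hPm, trace_permMat_mul, trace_permMat_mul, Finset.mul_sum]
    apply Finset.sum_congr rfl
    intro j _
    simp only [hXt']
    by_cases hj : good j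
    · rw [hδσ j hj]
      have := hδ0 j
      field_simp
    · rw [hXt0 j (σ j) (Or.inl hj)]
      ring
  rw [htr'] at hE
  have hfin : (Pm * Xt).trace = 0 := by
    have h7 : (ζ⁻¹ - 1) * (Pm * Xt).trace = 0 := by
      rw [sub_mul, one_mul, hE, sub_self]
    rcases mul_eq_zero.1 h7 with h8 | h8
    · exfalso
      apply hζ1
      have h9 : ζ⁻¹ = 1 := sub_eq_zero.1 h8
      rw [inv_eq_one] at h9
      exact h9
    · exact h8
  rw [htr, hPm, trace_permMat_mul] at hfin
  exact hfin

end Perm

end Cfsg.Agent.Helper23.Blk
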