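import Mathlib
import Cfsg.Agent.Lib.Helper23.BlockTwist

/-!
# The twisted trace of a group-algebra idempotent
(helper23's shared library)

Group-algebra form of `trace_perm_idem_eq_zero`: for an idempotent `a` of the group algebra with
local-integer coefficients, invariant under conjugation by `h` and small on the centralizer of
the `p`-part of `h`, every class function `θ` satisfies `∑ m, a m * θ (m * h) = 0`.
-/

set_option autoImplicit false
set_option linter.unusedSectionVars false

namespace Cfsg.Agent.Helper23.Blk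

open Cfsg

section Comb

variable {Ω : Type*} [Fintype Ω] [DecidableEq Ω]

/-- a semi-invariant root-of-unity valued function on the points all of whose stabilizer
exponents are divisible by `p` -/
theorem exists_semiinvariant (σ : Equiv.Perm Ω) (p : ℕ) (ζ : ℂ) (hζ : ζ ^ p = 1)
    (hp : p ≠ 0) :
    ∃ δ : Ω → ℂ, (∀ k, δ k ^ p = 1) ∧
      ∀ k, (∀ d : ℕ, (σ ^ d) k = k → p ∣ d) → δ (σ k) = ζ * δ k := by
  classical
  have hζ0 : ζ ≠ 0 := by
    intro h
    rw [h, zero_pow hp] at hζ
    exact zero_ne_one hζ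
  have hζz : ∀ d : ℤ, (p : ℤ) ∣ d → ζ ^ d = 1 := by
    rintro d ⟨e, rfl⟩
    rw [zpow_mul, zpow_natCast, hζ, one_zpow]
  -- integer version of goodness
  have hgoodZ : ∀ k, (∀ d : ℕ, (σ ^ d) k = k → p ∣ d) →
      ∀ d : ℤ, (σ ^ d) k = k → (p : ℤ) ∣ d := by
    intro k hk d hd
    obtain ⟨n, rfl | rfl⟩ := Int.eq_nat_or_neg d
    · rw [zpow_natCast] at hd
      exact Int.natCast_dvd_natCast.2 (hk n hd)
    · rw [zpow_neg, zpow_natCast, Equiv.Perm.inv_eq_iff_eq] at hd
      rw [dvd_neg]
      exact Int.natCast_dvd_natCast.2 (hk n hd.symm)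
  let s : Setoid Ω := Equiv.Perm.SameCycle.setoid σ
  let r : Ω → Ω := fun k => Quotient.out (Quotient.mk s k)
  have hr : ∀ k, Equiv.Perm.SameCycle σ (r k) k := fun k => Quotient.mk_out (s := s) k
  have hrσ : ∀ k, r (σ k) = r k := by
    intro k
    have : Quotient.mk s (σ k) = Quotient.mk s k := by
      apply Quotient.sound
      show Equiv.Perm.SameCycle σ (σ k) k
      exact ⟨-1, by rw [zpow_neg, zpow_one]; exact σ.symm_apply_apply k⟩
    show Quotient.out (Quotient.mk s (σ k)) = Quotient.out (Quotient.mk s k)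
    rw [this]
  let idx : Ω → ℤ := fun k => Classical.choose (hr k)
  have hidx : ∀ k, (σ ^ idx k) (r k) = k := fun k => Classical.choose_spec (hr k)
  refine ⟨fun k => ζ ^ idx k, ?_, ?_⟩
  · intro k
    rw [← zpow_natCast, ← zpow_mul, mul_comm, zpow_mul, zpow_natCast, hζ, one_zpow]
  · intro k hk
    have hkZ := hgoodZ k hk
    -- the representative is good
    have hrgood : ∀ d : ℤ, (σ ^ d) (r k) = r k → (p : ℤ) ∣ d := by
      intro d hd
      apply hkZ
      rw [← hidx k, ← Equiv.Perm.mul_apply, ← zpow_add, add_comm, zpow_add,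
        Equiv.Perm.mul_apply, hd]
    have h1 : (σ ^ (idx (σ k) - (idx k + 1))) (r k) = r k := by
      have h2 : (σ ^ idx (σ k)) (r k) = σ k := by
        have := hidx (σ k)
        rwa [hrσ] at this
      have h3 : (σ ^ (idx k + 1)) (r k) = σ k := by
        rw [add_comm, zpow_add, zpow_one, Equiv.Perm.mul_apply, hidx]
      rw [sub_eq_add_neg, add_comm, zpow_add, Equiv.Perm.mul_apply, h2, ← h3,
        ← Equiv.Perm.mul_apply, ← zpow_add, neg_add_cancel, zpow_zero, Equiv.Perm.one_apply]
    have h4 := hζz _ (hrgood _ h1)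
    rw [zpow_sub₀ hζ0, div_eq_one_iff_eq (zpow_ne_zero _ hζ0)] at h4
    show ζ ^ idx (σ k) = ζ * ζ ^ idx k
    rw [h4, zpow_add₀ hζ0, zpow_one, mul_comm]

end Comb

section Grp

universe u

variable {G : Type u} [Group G] [Fintype G] {M : Ideal AlgInt} {p : ℕ}

/-- the permutation `k ↦ g * k * h⁻¹` -/
def twistPerm (g h : G) : Equiv.Perm G := (Equiv.mulLeft g).trans (Equiv.mulRight h⁻¹)

theorem twistPerm_apply (g h k : G) : twistPerm g h k = g * k * h⁻¹ := rfl

theorem twistPerm_pow_apply (g h k : G) (d : ℕ) :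
    (twistPerm g h ^ d) k = g ^ d * k * (h ^ d)⁻¹ := by
  induction d with
  | zero => simp
  | succ d ih =>
    rw [pow_succ', Equiv.Perm.mul_apply, ih, twistPerm_apply, pow_succ' g, pow_succ h]
    group

/-- **the twisted conjugation sum of an idempotent vanishes** -/
theorem sum_twisted_conj_eq_zero (hM : IsPModular p M) {a : G → ℂ} (ha : IsConvIdem a)
    (haR : ∀ g, MemLocalRing M (a g)) (h u : G) (hinv : ∀ m, a (h * m * h⁻¹) = a m)
    (hu : ∀ D : ℕ, ¬ p ∣ D → u ∈ Subgroup.zpowers (h ^ D))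
    (hbad : ∀ c : G, Commute c u → MemLocalIdeal M (a c)) (g : G) :
    ∑ k : G, a (k⁻¹ * (g * k * h⁻¹)) = 0 := by
  classical
  haveI hMp : M.IsPrime := hM.2.1.isPrime
  have hp : p.Prime := hM.1
  set σ : Equiv.Perm G := twistPerm g h with hσ
  set ζ : ℂ := Complex.exp (2 * Real.pi * Complex.I / p) with hζdef
  have hζprim : IsPrimitiveRoot ζ p := Complex.isPrimitiveRoot_exp p hp.ne_zero
  have hζp : ζ ^ p = 1 := hζprim.pow_eq_one
  have hζ1 : ζ ≠ 1 := hζprim.ne_one hp.one_lt
  have hζ0 : ζ ≠ 0 := hζprim.ne_zero hp.ne_zero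
  obtain ⟨δ, hδp, hδσ⟩ := exists_semiinvariant σ p ζ hζp hp.ne_zero
  have hδ0 : ∀ k, δ k ≠ 0 := by
    intro k hk
    have := hδp k
    rw [hk, zero_pow hp.ne_zero] at this
    exact zero_ne_one this
  have hδR : ∀ k, MemLocalRing M (δ k) := by
    intro k
    apply memLocalRing_of_isIntegral _ hMp.ne_top
    apply IsIntegral.of_pow hp.pos
    rw [hδp]
    exact isIntegral_one
  have hδinvR : ∀ k, MemLocalRing M (δ k)⁻¹ := by
    intro k
    apply memLocalRing_of_isIntegral _ hMp.ne_top
    apply IsIntegral.of_pow hp.pos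
    rw [inv_pow, hδp, inv_one]
    exact isIntegral_one
  have hδ1 : ∀ k, MemLocalIdeal M (δ k - 1) := by
    intro k
    apply memLocalIdeal_sub_one_of_pow_eq_one hM (k := 1)
    rw [pow_one]
    exact hδp k
  set good : G → Prop := fun k => ∀ d : ℕ, (σ ^ d) k = k → p ∣ d with hgooddef
  have hgood : ∀ k, good (σ k) ↔ good k := by
    intro k
    constructor
    · intro hk d hd
      apply hk d
      rw [← Equiv.Perm.mul_apply, ← pow_succ, pow_succ', Equiv.Perm.mul_apply, hd]
    · intro hk d hd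
      apply hk d
      rw [← Equiv.Perm.mul_apply, ← pow_succ, pow_succ', Equiv.Perm.mul_apply] at hd
      exact σ.injective hd
  -- the matrix
  set A : Matrix G G ℂ := fun k k' => a (k⁻¹ * k') with hA
  have hAA : A * A = A := by
    ext k k'
    rw [Matrix.mul_apply]
    exact ha.shift k k'
  have hAR : MatR M A := fun k k' => haR _
  have hAσ : ∀ i j, A (σ i) (σ j) = A i j := by
    intro i j
    simp only [hA, hσ, twistPerm_apply]
    have e : (g * i * h⁻¹)⁻¹ * (g * j * h⁻¹) = h * (i⁻¹ * j) * h⁻¹ := by group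
    rw [e, hinv]
  have hAbad : ∀ i j, ¬ good i → ¬ good j → MemLocalIdeal M (A i j) := by
    intro i j hi hj
    simp only [hgooddef] at hi hj
    push Not at hi hj
    obtain ⟨d, hd, hpd⟩ := hi
    obtain ⟨d', hd', hpd'⟩ := hj
    rw [hσ, twistPerm_pow_apply] at hd hd'
    have hd1 : h ^ d = i⁻¹ * g ^ d * i := by
      have : g ^ d * i = i * h ^ d := mul_inv_eq_iff_eq_mul.1 hd
      rw [mul_assoc, this]
      group
    have hd1' : h ^ d' = j⁻¹ * g ^ d' * j := by
      have : g ^ d' * j = j * h ^ d' := mul_inv_eq_iff_eq_mul.1 hd'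
      rw [mul_assoc, this]
      group
    have hD : ¬ p ∣ d * d' := by
      intro hc
      rcases hp.dvd_mul.1 hc with h1 | h1
      · exact hpd h1
      · exact hpd' h1
    have e1 : h ^ (d * d') = i⁻¹ * g ^ (d * d') * i := by
      rw [pow_mul, hd1, pow_mul]
      have : ∀ n : ℕ, (i⁻¹ * g ^ d * i) ^ n = i⁻¹ * (g ^ d) ^ n * i := by
        intro n
        induction n with
        | zero => simp
        | succ n ih => rw [pow_succ, ih, pow_succ]; group
      exact this d'
    have e2 : h ^ (d * d') = j⁻¹ * g ^ (d * d') * j := by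
      rw [mul_comm d d', pow_mul, hd1', pow_mul]
      have : ∀ n : ℕ, (j⁻¹ * g ^ d' * j) ^ n = j⁻¹ * (g ^ d') ^ n * j := by
        intro n
        induction n with
        | zero => simp
        | succ n ih => rw [pow_succ, ih, pow_succ]; group
      exact this d
    have hcomm : Commute (i⁻¹ * j) (h ^ (d * d')) := by
      show i⁻¹ * j * h ^ (d * d') = h ^ (d * d') * (i⁻¹ * j)
      have e3 : i⁻¹ * j * h ^ (d * d') = i⁻¹ * g ^ (d * d') * j := by
        rw [e2]
        group
      rw [e3]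
      nth_rewrite 1 [e1]
      group
    obtain ⟨t, ht⟩ := Subgroup.mem_zpowers_iff.1 (hu _ hD)
    apply hbad
    rw [← ht]
    exact hcomm.zpow_right t
  have key := trace_perm_idem_eq_zero (M := M) σ good hgood δ hδR hδinvR hδ0 hδ1 ζ hζ1 hζ0
    hδσ A hAA hAR hAσ hAbad
  simpa only [hA, hσ, twistPerm_apply] using key

/-- **pairing of a twisted idempotent with a class function** -/
theorem sum_mul_classFunction_eq_zero (hM : IsPModular p M) {a : G → ℂ} (ha : IsConvIdem a)
    (haR : ∀ g, MemLocalRing M (a g)) (h u : G) (hinv : ∀ m, a (h * m * h⁻¹) = a m)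
    (hu : ∀ D : ℕ, ¬ p ∣ D → u ∈ Subgroup.zpowers (h ^ D))
    (hbad : ∀ c : G, Commute c u → MemLocalIdeal M (a c)) {θ : G → ℂ}
    (hθ : IsClassFunction G θ) :
    ∑ m : G, a m * θ (m * h) = 0 := by
  classical
  have h1 : ∀ k : G, ∑ g : G, θ g * a (k⁻¹ * (g * k * h⁻¹)) = ∑ m : G, a m * θ (m * h) := by
    intro k
    rw [← Equiv.sum_comp ((Equiv.mulRight h).trans (MulAut.conj k).toEquiv)]
    apply Finset.sum_congr rfl
    intro m _
    have e1 : ((Equiv.mulRight h).trans (MulAut.conj k).toEquiv) m = k * (m * h) * k⁻¹ := rfl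
    have e2 : k⁻¹ * (k * (m * h) * k⁻¹ * k * h⁻¹) = m := by group
    rw [e1, e2, hθ, mul_comm]
  have h2 : ∑ g : G, θ g * ∑ k : G, a (k⁻¹ * (g * k * h⁻¹)) = 0 := by
    apply Finset.sum_eq_zero
    intro g _
    rw [sum_twisted_conj_eq_zero hM ha haR h u hinv hu hbad g, mul_zero]
  simp only [Finset.mul_sum] at h2
  rw [Finset.sum_comm] at h2
  rw [Finset.sum_congr rfl (fun k _ => h1 k), Finset.sum_const, Finset.card_univ,
    nsmul_eq_mul] at h2
  rcases mul_eq_zero.1 h2 with h3 | h3
  · exfalso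
    have : (Fintype.card G : ℂ) ≠ 0 := by
      exact_mod_cast Fintype.card_ne_zero
    exact this h3
  · exact h3

end Grp

end Cfsg.Agent.Helper23.Blk
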