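import Mathlib
import Cfsg.Agent.Lib.Helper23.BlockTwist2
import Cfsg.Agent.Lib.Helper23.BlockConj4

/-!
# Brauer's second main theorem (helper23's shared library)
-/

set_option autoImplicit false
set_option linter.unusedSectionVars false

namespace Cfsg.Agent.Helper23.Blk

open Cfsg Cfsg.Agent.Helper24
open scoped ComplexConjugate

universe u

section PPart

variable {G : Type u} [Group G]

/-- every element of finite order has a `p`-part -/
theorem exists_isPPart {p : ℕ} (hp : p.Prime) (g : G) (hg : 0 < orderOf g) :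
    ∃ z : G, IsPPart p g z := by
  set n := orderOf g with hn
  set a := n.factorization p with ha
  set m := n / p ^ a with hm
  have hnm : p ^ a * m = n := Nat.ordProj_mul_ordCompl_eq_self n p
  have hm0 : m ≠ 0 := by
    intro h
    rw [h, mul_zero] at hnm
    omega
  have hpm : ¬ p ∣ m := Nat.not_dvd_ordCompl hp hg.ne'
  have hcop : Nat.Coprime (p ^ a) m :=
    Nat.Coprime.pow_left a ((Nat.Prime.coprime_iff_not_dvd hp).mpr hpm)
  obtain ⟨e, he1, he2⟩ := Nat.chineseRemainder hcop 1 0
  obtain ⟨e', he1', he2'⟩ := Nat.chineseRemainder hcop 0 1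
  have hsum : g ^ (e + e') = g := by
    have : g ^ (e + e') = g ^ 1 := by
      rw [pow_eq_pow_iff_modEq, ← hn, ← hnm]
      rw [← Nat.modEq_and_modEq_iff_modEq_mul hcop]
      constructor
      · have := he1.add he1'
        simpa using this
      · have := he2.add he2'
        simpa using this
    rw [this, pow_one]
  refine ⟨g ^ e, g ^ e', ?_, ?_, ?_, ?_⟩
  · rw [← pow_add, hsum]
  · exact (Commute.refl g).pow_pow e e'
  · have h1 : (g ^ e) ^ p ^ a = 1 := by
      rw [← pow_mul]
      have : g ^ (e * p ^ a) = g ^ 0 := by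
        rw [pow_eq_pow_iff_modEq, ← hn, ← hnm, ← Nat.modEq_and_modEq_iff_modEq_mul hcop]
        constructor
        · exact (Nat.modEq_zero_iff_dvd.2 (Dvd.intro_left e rfl))
        · have h2 : m ∣ e := (Nat.modEq_zero_iff_dvd.1 he2)
          exact Nat.modEq_zero_iff_dvd.2 (Dvd.dvd.mul_right h2 _)
      rw [this, pow_zero]
    have h2 := orderOf_dvd_of_pow_eq_one h1
    obtain ⟨k, -, hk⟩ := (Nat.dvd_prime_pow hp).1 h2
    exact ⟨k, hk⟩
  · have h1 : (g ^ e') ^ m = 1 := by
      rw [← pow_mul]
      have : g ^ (e' * m) = g ^ 0 := by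
        rw [pow_eq_pow_iff_modEq, ← hn, ← hnm, ← Nat.modEq_and_modEq_iff_modEq_mul hcop]
        constructor
        · have h2 : p ^ a ∣ e' := (Nat.modEq_zero_iff_dvd.1 he1')
          exact Nat.modEq_zero_iff_dvd.2 (Dvd.dvd.mul_right h2 _)
        · exact (Nat.modEq_zero_iff_dvd.2 (Dvd.intro_left e' rfl))
      rw [this, pow_zero]
    have h2 := orderOf_dvd_of_pow_eq_one h1
    intro h3
    exact hpm (h3.trans h2)

/-- the `p`-part of `g` is a power of `g ^ D` whenever `p ∤ D` -/
theorem IsPPart.mem_zpowers_pow {p : ℕ} (hp : p.Prime) {g z : G} (h : IsPPart p g z) (D : ℕ)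
    (hD : ¬ p ∣ D) : z ∈ Subgroup.zpowers (g ^ D) := by
  obtain ⟨y, hzy, hc, ⟨k, hk⟩, hy⟩ := h
  have hcop : Nat.Coprime (p ^ k) (D * orderOf y) := by
    apply Nat.Coprime.pow_left k
    apply Nat.Coprime.mul_right
    · exact (Nat.Prime.coprime_iff_not_dvd hp).mpr hD
    · exact (Nat.Prime.coprime_iff_not_dvd hp).mpr hy
  obtain ⟨e, he1, he2⟩ := Nat.chineseRemainder hcop 1 0
  obtain ⟨t, ht⟩ := Nat.modEq_zero_iff_dvd.1 he2
  have h1 : z ^ e = z := by
    have : z ^ e = z ^ 1 := by
      rw [pow_eq_pow_iff_modEq, hk]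
      exact he1
    rw [this, pow_one]
  have h2 : y ^ e = 1 := by
    rw [ht, mul_comm D, mul_assoc, pow_mul, pow_orderOf_eq_one, one_pow]
  have h3 : (g ^ D) ^ (orderOf y * t) = z := by
    rw [← pow_mul, ← mul_assoc, ← ht, ← hzy, hc.mul_pow, h1, h2, mul_one]
  rw [← h3]
  exact Subgroup.pow_mem _ (Subgroup.mem_zpowers _) _

end PPart

section CharSum

variable {G : Type u} [Group G] [Fintype G]

/-- a central element acts on an irreducible character through its central character -/
theorem sum_classFunction_mul_char {χ : G → ℂ} (hχ : IsIrrCharacter G χ) {E : G → ℂ}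
    (hE : IsClassFunction G E) (x : G) :
    ∑ l : G, E l * χ (x * l) = omega χ E * χ x := by
  classical
  have hcard : (Nat.card G : ℂ) ≠ 0 := card_ne_zero
  have h1 : ∀ y : G, ∑ l : G, E l * χ (x * l) = ∑ l : G, E l * χ (x * (y * l * y⁻¹)) := by
    intro y
    rw [← Equiv.sum_comp (MulAut.conj y).toEquiv]
    apply Finset.sum_congr rfl
    intro l _
    have e1 : (MulAut.conj y).toEquiv l = y * l * y⁻¹ := rfl
    rw [e1, hE]
  have h2 : (Nat.card G : ℂ) * ∑ l : G, E l * χ (x * l) =
      ∑ y : G, ∑ l : G, E l * χ (x * (y * l * y⁻¹)) := by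
    rw [← Finset.sum_congr rfl (fun y _ => h1 y), Finset.sum_const, Finset.card_univ,
      nsmul_eq_mul, Nat.card_eq_fintype_card]
  rw [Finset.sum_comm] at h2
  have h3 : ∀ l : G, ∑ y : G, E l * χ (x * (y * l * y⁻¹)) =
      E l * ((Nat.card G : ℂ) * χ x * χ l / χ 1) := by
    intro l
    rw [← Finset.mul_sum, sum_char_mul_conj hχ]
  rw [Finset.sum_congr rfl (fun l _ => h3 l)] at h2
  have h4 : ∑ l : G, E l * ((Nat.card G : ℂ) * χ x * χ l / χ 1) =
      (Nat.card G : ℂ) * (omega χ E * χ x) := by
    unfold omega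
    rw [Finset.sum_div, Finset.sum_mul, Finset.mul_sum]
    apply Finset.sum_congr rfl
    intro l _
    ring
  rw [h4] at h2
  exact mul_left_cancel₀ hcard h2

/-- the pairing of a product with a central factor against an irreducible character -/
theorem sum_conv_mul_char {χ : G → ℂ} (hχ : IsIrrCharacter G χ) {E : G → ℂ}
    (hE : IsClassFunction G E) (F : G → ℂ) (h : G) :
    ∑ m : G, conv F E m * χ (m * h) = omega χ E * ∑ k : G, F k * χ (k * h) := by
  classical
  have hχcf : IsClassFunction G χ := isClassFunction_of_isIrrCharacter hχ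
  simp only [conv_apply, Finset.sum_mul]
  rw [Finset.sum_comm, Finset.mul_sum]
  apply Finset.sum_congr rfl
  intro k _
  have h1 : ∑ m : G, F k * E (k⁻¹ * m) * χ (m * h) = F k * ∑ l : G, E l * χ (h * k * l) := by
    rw [Finset.mul_sum, ← Equiv.sum_comp (Equiv.mulLeft k)]
    apply Finset.sum_congr rfl
    intro l _
    have e1 : (Equiv.mulLeft k) l = k * l := rfl
    have e2 : k⁻¹ * (k * l) = l := by group
    have e3 : χ (k * l * h) = χ (h * k * l) := by
      have := hχcf (k * l * h) h
      rw [← this]
      congr 1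
      group
    rw [e1, e2, e3]
    ring
  rw [h1, sum_classFunction_mul_char hχ hE]
  have e4 : χ (h * k) = χ (k * h) := by
    have := hχcf (k * h) h
    rw [← this]
    congr 1
    group
  rw [e4]
  ring

end CharSum

section Main

variable {G : Type u} [Group G] [Fintype G] {M : Ideal AlgInt} {p : ℕ}

theorem ext0_add (K : Subgroup G) (a b : K → ℂ) : ext0 K (a + b) = ext0 K a + ext0 K b := by
  funext g
  by_cases hg : g ∈ K
  · rw [Pi.add_apply, ext0_of_mem K _ hg, ext0_of_mem K _ hg, ext0_of_mem K _ hg, Pi.add_apply]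
  · rw [Pi.add_apply, ext0_of_not_mem K _ hg, ext0_of_not_mem K _ hg, ext0_of_not_mem K _ hg,
      add_zero]

theorem ext0_smul (K : Subgroup G) (r : ℂ) (a : K → ℂ) : ext0 K (r • a) = r • ext0 K a := by
  funext g
  by_cases hg : g ∈ K
  · rw [Pi.smul_apply, ext0_of_mem K _ hg, ext0_of_mem K _ hg, Pi.smul_apply]
  · rw [Pi.smul_apply, ext0_of_not_mem K _ hg, ext0_of_not_mem K _ hg, smul_zero]

theorem memLocalRing_conv [hMp : M.IsPrime] {a b : G → ℂ} (ha : ∀ g, MemLocalRing M (a g))
    (hb : ∀ g, MemLocalRing M (b g)) (g : G) : MemLocalRing M (conv a b g) := by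
  rw [conv_apply]
  exact memLocalRing_sum _ _ fun x _ => memLocalRing_mul (ha _) (hb _)

theorem memLocalRing_resC [hMp : M.IsPrime] (P K : Subgroup G) {a : G → ℂ}
    (ha : ∀ g, MemLocalRing M (a g)) (y : K) : MemLocalRing M (resC P K a y) := by
  unfold resC
  split_ifs
  · exact ha _
  · exact memLocalRing_zero ne_top

/-- the Brauer map composed with extension by zero from an intermediate subgroup is a central
homomorphism of that subgroup -/
theorem isCentralHom_brauer_ext0 (hM : IsPModular p M) (P H : Subgroup G) [Fintype H]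
    (hP : IsPGroup p P) (hPH : P ≤ H)
    [Fintype (Subgroup.centralizer (P : Set G))]
    [Fintype (IrrCharacter (Subgroup.centralizer (P : Set G)))]
    (hCH : Subgroup.centralizer (P : Set G) ≤ H)
    (ξ : IrrCharacter (Subgroup.centralizer (P : Set G))) :
    IsCentralHom M (fun w : H → ℂ => omega (ξ : Subgroup.centralizer (P : Set G) → ℂ)
      (resC P (Subgroup.centralizer (P : Set G)) (ext0 H w))) := by
  classical
  haveI hMp : M.IsPrime := hM.2.1.isPrime
  have hN := Subgroup.centralizer_le_normalizer (P : Set G)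
  refine ⟨?_, ?_, ?_, ?_, ?_⟩
  · intro a b
    rw [ext0_add, resC_add, omega_add]
  · intro r a
    rw [ext0_smul, resC_smul, omega_smul]
  · intro a ha haR
    apply memLocalRing_omega ξ
    · exact isClassFunction_resC_of_conjInv P _ hN ((conjInv_ext0 H ha).mono hCH)
    · exact memLocalRing_resC P _ (memLocalRing_ext0 H haR)
  · intro a b ha hb haR hbR
    rw [← conv_ext0]
    exact omega_resC_conv_cong P hM hP ξ ((conjInv_ext0 H ha).mono hPH)
      ((conjInv_ext0 H hb).mono hPH) ((conjInv_ext0 H ha).mono hCH)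
      ((conjInv_ext0 H hb).mono hCH) (memLocalRing_ext0 H haR) (memLocalRing_ext0 H hbR)
  · have h1 : ∀ w : H → ℂ, (∀ g : H, w g = if g = 1 then (1 : ℂ) else 0) →
        resC P (Subgroup.centralizer (P : Set G)) (ext0 H w) =
        fun h : Subgroup.centralizer (P : Set G) => if h = 1 then (1 : ℂ) else 0 := by
      intro w hw
      funext h
      unfold resC
      rw [if_pos h.2, ext0_of_mem H _ (hCH h.2), hw]
      by_cases hh : h = 1
      · subst hh
        simp
      · have : ¬ ((⟨(h : G), hCH h.2⟩ : H) = 1) := by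
          intro hc
          apply hh
          have h2 := congrArg Subtype.val hc
          exact Subtype.ext h2
        rw [if_neg this, if_neg hh]
    rw [h1 _ (fun g => by by_cases hg : g = 1 <;> simp [hg]), omega_delta_one ξ.2, sub_self]
    exact memLocalIdeal_zero ne_top

set_option maxHeartbeats 1600000 in
/-- **Brauer's second main theorem**, idempotent form: if `b` is a block of `H` with `b^G = B`,
`h ∈ H` has `p`-part `z` with `C_G(z) ≤ H`, and `χ ∉ B`, then the `b`-part of `χ` restricted to
`H` vanishes at `h`. -/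
theorem second_main_sum (hM : IsPModular p M) (H : Subgroup G) [Fintype H]
    {b : Set (IrrCharacter H)} {B : Set (IrrCharacter G)} (hind : IsInducedBlock M H b B)
    {h z : G} (hh : h ∈ H) (hz : IsPPart p h z)
    (hC : Subgroup.centralizer ({z} : Set G) ≤ H) (χ : IrrCharacter G) (hχ : χ ∉ B) :
    ∑ k : G, ext0 H (blockCoeff b) k * (χ : G → ℂ) (k * h) = 0 := by
  classical
  haveI hMp : M.IsPrime := hM.2.1.isPrime
  have hp : p.Prime := hM.1
  letI : Fintype (IrrCharacter G) := irrFintype
  letI : Fintype (IrrCharacter H) := irrFintype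
  obtain ⟨hb, hB, hcong⟩ := id hind
  set P : Subgroup G := Subgroup.zpowers z with hPdef
  have hPp : IsPGroup p P := by
    obtain ⟨y, -, -, ⟨k, hk⟩, -⟩ := hz
    apply IsPGroup.of_card (n := k)
    rw [Nat.card_zpowers, hk]
  have hCP : Subgroup.centralizer (P : Set G) = Subgroup.centralizer ({z} : Set G) := by
    rw [hPdef, Subgroup.zpowers_eq_closure, Subgroup.centralizer_closure]
  haveI : Fintype (Subgroup.centralizer (P : Set G)) := Fintype.ofFinite _
  letI : Fintype (IrrCharacter (Subgroup.centralizer (P : Set G))) := irrFintype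
  have hCH : Subgroup.centralizer (P : Set G) ≤ H := by
    rw [hCP]
    exact hC
  have hzC : z ∈ Subgroup.centralizer ({z} : Set G) := by
    rw [Subgroup.mem_centralizer_iff]
    intro w hw
    rw [Set.mem_singleton_iff] at hw
    rw [hw]
  have hPH : P ≤ H := by
    rw [hPdef, Subgroup.zpowers_le]
    exact hC hzC
  have hN := Subgroup.centralizer_le_normalizer (P : Set G)
  set B' : Set (IrrCharacter G) := blockOf M (χ : G → ℂ) with hB'def
  have hB' : IsPBlock M B' := ⟨χ, rfl⟩
  have hχB' : χ ∈ B' := mem_blockOf_self χ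
  set E : G → ℂ := blockCoeff B' with hE
  set F : G → ℂ := ext0 H (blockCoeff b) with hF
  set a : G → ℂ := conv E F with ha
  have hEcf : IsClassFunction G E := isClassFunction_blockCoeff B'
  have hER : ∀ g, MemLocalRing M (E g) := memLocalRing_blockCoeff hMp hB'
  have hbR : ∀ k, MemLocalRing M (blockCoeff b k) := memLocalRing_blockCoeff hMp hb
  have hFR : ∀ g, MemLocalRing M (F g) := memLocalRing_ext0 H hbR
  have hEi : IsConvIdem E := by
    rw [isConvIdem_iff, hE, conv_blockCoeff hB' hB', if_pos rfl]
  have hFi : IsConvIdem F := by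
    rw [isConvIdem_iff, hF, conv_ext0, conv_blockCoeff hb hb, if_pos rfl]
  have hai : IsConvIdem a := isConvIdem_conv hEcf hEi hFi
  have haR : ∀ g, MemLocalRing M (a g) := memLocalRing_conv hER hFR
  have hbcf : IsClassFunction H (blockCoeff b) := isClassFunction_blockCoeff b
  have hFH : ConjInv H F := conjInv_ext0 H hbcf
  have hEH : ConjInv H E := conjInv_of_isClassFunction H hEcf
  have haH : ConjInv H a := hEH.conv hFH
  have hinv : ∀ m, a (h * m * h⁻¹) = a m := fun m => haH h hh m
  have hu : ∀ D : ℕ, ¬ p ∣ D → z ∈ Subgroup.zpowers (h ^ D) :=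
    fun D hD => IsPPart.mem_zpowers_pow hp hz D hD
  -- the Brauer image of `a` at `P` vanishes modulo the local ideal
  set u : Subgroup.centralizer (P : Set G) → ℂ :=
    resC P (Subgroup.centralizer (P : Set G)) a with hu'
  have hucf : IsClassFunction (Subgroup.centralizer (P : Set G)) u :=
    isClassFunction_resC_of_conjInv P _ hN (haH.mono hCH)
  have huR : ∀ y, MemLocalRing M (u y) := memLocalRing_resC P _ haR
  have hidem : ∀ y, MemLocalIdeal M (conv u u y - u y) := by
    intro y
    have h1 := resC_conv_cong' P (Subgroup.centralizer (P : Set G)) hM hPp le_rfl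
      (haH.mono hPH) (haH.mono hPH) haR haR y
    rw [isConvIdem_iff.1 hai] at h1
    exact cong_symm h1
  have hω : ∀ ξ : IrrCharacter (Subgroup.centralizer (P : Set G)),
      MemLocalIdeal M (omega (ξ : Subgroup.centralizer (P : Set G) → ℂ) u) := by
    intro ξ
    have h2 := omega_resC_conv_cong P hM hPp ξ (hEH.mono hPH) (hFH.mono hPH) (hEH.mono hCH)
      (hFH.mono hCH) hER hFR
    have hEω : MemLocalRing M (omega (ξ : Subgroup.centralizer (P : Set G) → ℂ)
        (resC P (Subgroup.centralizer (P : Set G)) E)) :=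
      memLocalRing_omega ξ (isClassFunction_resC_of_conjInv P _ hN (hEH.mono hCH))
        (memLocalRing_resC P _ hER)
    have hFω : MemLocalRing M (omega (ξ : Subgroup.centralizer (P : Set G) → ℂ)
        (resC P (Subgroup.centralizer (P : Set G)) F)) :=
      memLocalRing_omega ξ (isClassFunction_resC_of_conjInv P _ hN (hFH.mono hCH))
        (memLocalRing_resC P _ hFR)
    suffices hprod : MemLocalIdeal M
        (omega (ξ : Subgroup.centralizer (P : Set G) → ℂ)
          (resC P (Subgroup.centralizer (P : Set G)) E) *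
        omega (ξ : Subgroup.centralizer (P : Set G) → ℂ)
          (resC P (Subgroup.centralizer (P : Set G)) F)) by
      have := memLocalIdeal_add h2 hprod
      rwa [sub_add_cancel] at this
    by_contra hcon
    have hEn : ¬ MemLocalIdeal M (omega (ξ : Subgroup.centralizer (P : Set G) → ℂ)
        (resC P (Subgroup.centralizer (P : Set G)) E)) :=
      fun hc => hcon (memLocalIdeal_mul_right hc hFω)
    have hFn : ¬ MemLocalIdeal M (omega (ξ : Subgroup.centralizer (P : Set G) → ℂ)
        (resC P (Subgroup.centralizer (P : Set G)) F)) :=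
      fun hc => hcon (memLocalIdeal_mul_left hEω hc)
    obtain ⟨χ₁, hχ₁⟩ := (isCentralHom_brauer P (Subgroup.centralizer (P : Set G)) hM hPp
      le_rfl hN ξ).exists_irr hM
    obtain ⟨ψ₁, hψ₁⟩ := (isCentralHom_brauer_ext0 hM P H hPp hPH hCH ξ).exists_irr hM
    have hχ₁B' : χ₁ ∈ B' := by
      by_contra hc
      have h3 := hχ₁ E hEcf hER
      rw [hE, omega_blockCoeff, if_neg hc, sub_zero] at h3
      exact hEn h3
    have hψ₁b : ψ₁ ∈ b := by
      by_contra hc
      have h3 := hψ₁ (blockCoeff b) hbcf hbR
      rw [omega_blockCoeff, if_neg hc, sub_zero] at h3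
      exact hFn h3
    obtain ⟨χB, hχB⟩ := id hB
    have hχBB : χB ∈ B := by
      rw [hχB]
      exact mem_blockOf_self χB
    have hχ₁B : χ₁ ∈ B := by
      rw [hχB]
      intro g
      have hcf := isClassFunction_classInd g
      have hR : ∀ y, MemLocalRing M (classInd g y) := fun y => memLocalRing_classInd g y
      have h4 := IsInducedBlock.omega_cong H hind hψ₁b hχBB hcf hR
      have h5 := hψ₁ (fun k : H => classInd g (k : G)) (isClassFunction_comp_subtype H hcf)
        (fun k => hR _)
      have h6 := hχ₁ (classInd g) hcf hR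
      have h7 : resC P (Subgroup.centralizer (P : Set G))
          (ext0 H (fun k : H => classInd g (k : G))) =
          resC P (Subgroup.centralizer (P : Set G)) (classInd g) := by
        funext y
        unfold resC
        rw [if_pos y.2, if_pos y.2, ext0_of_mem H _ (hCH y.2)]
      simp only [h7] at h5
      rw [omega_classInd] at h4 h6
      exact cong_trans (cong_symm h4) (cong_trans (cong_symm h5) h6)
    have hBB' : B = B' := isPBlock_eq_of_mem hB hB' hχ₁B hχ₁B'
    apply hχ
    rw [hBB']
    exact hχB'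
  have hnull := null_of_idem_of_omega hucf huR hidem hω
  have hbad : ∀ c : G, Commute c z → MemLocalIdeal M (a c) := by
    intro c hc
    have hcC : c ∈ Subgroup.centralizer (P : Set G) := by
      rw [hCP, Subgroup.mem_centralizer_iff]
      intro w hw
      rw [Set.mem_singleton_iff] at hw
      rw [hw]
      exact hc.eq.symm
    have := hnull ⟨c, hcC⟩
    rw [hu'] at this
    unfold resC at this
    rwa [if_pos hcC] at this
  have hχcf : IsClassFunction G (χ : G → ℂ) := isClassFunction_of_isIrrCharacter χ.2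
  have key := sum_mul_classFunction_eq_zero hM hai haR h z hinv hu hbad hχcf
  rw [ha, conv_comm_of_isClassFunction hEcf F, sum_conv_mul_char χ.2 hEcf F h, hE,
    omega_blockCoeff, if_pos hχB', one_mul] at key
  exact key

end Main

end Cfsg.Agent.Helper23.Blk
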