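import Mathlib
import Cfsg.Agent.Lib.Helper23.BlockSecondMain
import Cfsg.Agent.Lib.Helper18.BlockInduce

/-!
# Consequences of Brauer's second main theorem (helper23's shared library)
-/

set_option autoImplicit false
set_option linter.unusedSectionVars false

namespace Cfsg.Agent.Helper23.Blk

open Cfsg Cfsg.Agent.Helper24 Cfsg.Agent.Helper18
open scoped ComplexConjugate

universe u

section Shift

variable {G : Type u} [Group G] [Fintype G]

/-- pairing a translate of a class function with a block idempotent extracts its block part -/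
theorem sum_blockCoeff_mul_shift (B : Set (IrrCharacter G)) {φ : G → ℂ}
    (hφ : IsClassFunction G φ) (y : G) :
    ∑ k : G, blockCoeff B k * φ (y * k) =
      ∑ᶠ χ ∈ B, classInner φ (χ : G → ℂ) * (χ : G → ℂ) y := by
  classical
  letI : Fintype (IrrCharacter G) := irrFintype
  rw [finsum_mem_def, finsum_eq_sum_of_fintype]
  have hexp := classFunction_expansion hφ
  have h5 : ∀ g : G, φ g = ∑ μ : IrrCharacter G,
      classInner φ (μ : G → ℂ) * (μ : G → ℂ) g := by
    intro g
    conv_lhs => rw [hexp]
    rw [Finset.sum_apply]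
    refine Finset.sum_congr rfl fun μ _ => ?_
    rw [Pi.smul_apply, smul_eq_mul]
  have h6 : ∀ k : G, blockCoeff B k * φ (y * k) = ∑ μ : IrrCharacter G,
      classInner φ (μ : G → ℂ) * (blockCoeff B k * (μ : G → ℂ) (y * k)) := by
    intro k
    rw [h5 (y * k), Finset.mul_sum]
    refine Finset.sum_congr rfl fun μ _ => ?_
    ring
  simp only [h6]
  rw [Finset.sum_comm]
  refine Finset.sum_congr rfl fun μ _ => ?_
  rw [← Finset.mul_sum, sum_classFunction_mul_char μ.2 (isClassFunction_blockCoeff B),
    omega_blockCoeff]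
  by_cases hμ : μ ∈ B
  · rw [Set.indicator_of_mem hμ, if_pos hμ, one_mul]
  · rw [Set.indicator_of_notMem hμ, if_neg hμ, zero_mul, mul_zero]

end Shift

section Cent

variable {G : Type u} [Group G] [Fintype G] {M : Ideal AlgInt} {p : ℕ}

theorem centralizer_zpowers (x : G) :
    Subgroup.centralizer ((Subgroup.zpowers x : Subgroup G) : Set G) =
      Subgroup.centralizer ({x} : Set G) := by
  rw [Subgroup.zpowers_eq_closure, Subgroup.centralizer_closure]

theorem self_mem_centralizer_singleton (x : G) : x ∈ Subgroup.centralizer ({x} : Set G) := by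
  rw [Subgroup.mem_centralizer_iff]
  intro w hw
  rw [Set.mem_singleton_iff] at hw
  rw [hw]

theorem isPGroup_zpowers {x : G} (hx : ∃ k : ℕ, orderOf x = p ^ k) :
    IsPGroup p (Subgroup.zpowers x) := by
  obtain ⟨k, hk⟩ := hx
  apply IsPGroup.of_card (n := k)
  rw [Nat.card_zpowers, hk]

/-- every block of the centralizer of a `p`-element induces a block of the group -/
theorem exists_isInducedBlock_centralizer (hM : IsPModular p M) {x : G}
    (hx : ∃ k : ℕ, orderOf x = p ^ k)
    {b : Set (IrrCharacter (Subgroup.centralizer ({x} : Set G)))} (hb : IsPBlock M b) :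
    ∃ B₀ : Set (IrrCharacter G), IsInducedBlock M (Subgroup.centralizer ({x} : Set G)) b B₀ := by
  classical
  haveI hMp : M.IsPrime := hM.2.1.isPrime
  letI : Fintype (IrrCharacter G) := irrFintype
  haveI : Fintype (Subgroup.centralizer ({x} : Set G)) := Fintype.ofFinite _
  letI : Fintype (IrrCharacter (Subgroup.centralizer ({x} : Set G))) := irrFintype
  obtain ⟨ξ₁, rfl⟩ := hb
  have hPp := isPGroup_zpowers (p := p) hx
  have hPH : Subgroup.zpowers x ≤ Subgroup.centralizer ({x} : Set G) := by
    rw [Subgroup.zpowers_le]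
    exact self_mem_centralizer_singleton x
  have hCH : Subgroup.centralizer ((Subgroup.zpowers x : Subgroup G) : Set G) ≤
      Subgroup.centralizer ({x} : Set G) := by
    rw [centralizer_zpowers]
  have hHN : Subgroup.centralizer ({x} : Set G) ≤
      Subgroup.normalizer ((Subgroup.zpowers x : Subgroup G) : Set G) := by
    rw [← centralizer_zpowers]
    exact Subgroup.centralizer_le_normalizer _
  obtain ⟨χ', hχ'⟩ := exists_irr_induced (Subgroup.zpowers x)
    (Subgroup.centralizer ({x} : Set G)) hM hPp hPH hCH hHN ξ₁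
  refine ⟨blockOf M (χ' : G → ℂ), ?_⟩
  apply isInducedBlock_of_forall
  intro g
  exact hχ' _ (isClassFunction_classInd g) (fun y => memLocalRing_classInd g y)

/-- **Brauer's second main theorem**, block-part form -/
theorem blockPart_shift_eq_zero (hM : IsPModular p M) {x : G}
    (hx : ∃ k : ℕ, orderOf x = p ^ k) {B : Set (IrrCharacter G)} (hB : IsPBlock M B)
    {χ : IrrCharacter G} (hχ : χ ∈ B)
    {b : Set (IrrCharacter (Subgroup.centralizer ({x} : Set G)))} (hb : IsPBlock M b)
    (hnot : ¬ IsInducedBlock M (Subgroup.centralizer ({x} : Set G)) b B)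
    (y : Subgroup.centralizer ({x} : Set G)) (hy : ¬ p ∣ orderOf y) :
    blockPart b (fun c : Subgroup.centralizer ({x} : Set G) => (χ : G → ℂ) (x * (c : G))) y
      = 0 := by
  classical
  haveI hMp : M.IsPrime := hM.2.1.isPrime
  haveI : Fintype (Subgroup.centralizer ({x} : Set G)) := Fintype.ofFinite _
  have hχcf : IsClassFunction G (χ : G → ℂ) := isClassFunction_of_isIrrCharacter χ.2
  obtain ⟨B₀, hind⟩ := exists_isInducedBlock_centralizer hM hx hb
  have hχB₀ : χ ∉ B₀ := by
    intro hc
    apply hnot
    have : B₀ = B := isPBlock_eq_of_mem hind.2.1 hB hc hχ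
    rw [← this]
    exact hind
  have hcomm : Commute x (y : G) := by
    have := Subgroup.mem_centralizer_iff.1 y.2 x (Set.mem_singleton x)
    exact this
  have hz : IsPPart p (x * (y : G)) x :=
    ⟨(y : G), rfl, hcomm, hx, by rwa [Subgroup.orderOf_coe]⟩
  have hh : x * (y : G) ∈ Subgroup.centralizer ({x} : Set G) :=
    Subgroup.mul_mem _ (self_mem_centralizer_singleton x) y.2
  have key := second_main_sum hM (Subgroup.centralizer ({x} : Set G)) hind hh hz le_rfl χ hχB₀
  rw [sum_eq_sum_subgroup (Subgroup.centralizer ({x} : Set G))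
    (fun k => ext0 (Subgroup.centralizer ({x} : Set G)) (blockCoeff b) k *
      (χ : G → ℂ) (k * (x * (y : G))))] at key
  · have hϑ : IsClassFunction (Subgroup.centralizer ({x} : Set G))
        (fun c : Subgroup.centralizer ({x} : Set G) => (χ : G → ℂ) (x * (c : G))) := by
      intro c t
      beta_reduce
      have ht : (t : G) * x = x * (t : G) :=
        (Subgroup.mem_centralizer_iff.1 t.2 x (Set.mem_singleton x)).symm
      have e : x * ((t * c * t⁻¹ : Subgroup.centralizer ({x} : Set G)) : G) =
          (t : G) * (x * (c : G)) * (t : G)⁻¹ := by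
        push_cast
        rw [← mul_assoc, ← mul_assoc, ← mul_assoc, ht]
      rw [e, hχcf]
    rw [blockPart_apply, ← sum_blockCoeff_mul_shift b hϑ y, ← key]
    apply Finset.sum_congr rfl
    intro k _
    rw [ext0_coe]
    congr 1
    have e : x * ((y * k : Subgroup.centralizer ({x} : Set G)) : G) =
        ((k : G))⁻¹ * ((k : G) * (x * (y : G))) * (((k : G))⁻¹)⁻¹ := by
      push_cast
      group
    rw [e, hχcf]
  · intro g hg
    rw [ext0_of_not_mem _ _ hg, zero_mul]

end Cent

end Cfsg.Agent.Helper23.Blk
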