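import Mathlib
import Cfsg.Agent.Lib.Helper23.BlockSecondMain2
import Cfsg.Agent.S0917

/-!
# Vanishing of characters off the defect groups (helper23's shared library)
-/

set_option autoImplicit false
set_option linter.unusedSectionVars false

namespace Cfsg.Agent.Helper23.Blk

open Cfsg Cfsg.Agent.Helper24 Cfsg.Agent.Helper18
open scoped ComplexConjugate

universe u

section Decomp

variable {K : Type u} [Group K] [Fintype K] {M : Ideal AlgInt}

/-- a class function all of whose block parts vanish at `y` vanishes at `y` -/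
theorem eq_zero_of_blockPart_eq_zero [hMp : M.IsPrime] {ϑ : K → ℂ} (hϑ : IsClassFunction K ϑ)
    (y : K) (h : ∀ b : Set (IrrCharacter K), IsPBlock M b → blockPart b ϑ y = 0) : ϑ y = 0 := by
  classical
  letI : Fintype (IrrCharacter K) := irrFintype
  have hexp := classFunction_expansion hϑ
  have h5 : ϑ y = ∑ μ : IrrCharacter K, classInner ϑ (μ : K → ℂ) * (μ : K → ℂ) y := by
    conv_lhs => rw [hexp]
    rw [Finset.sum_apply]
    refine Finset.sum_congr rfl fun μ _ => ?_
    rw [Pi.smul_apply, smul_eq_mul]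
  rw [h5, ← Finset.sum_fiberwise_of_maps_to
    (t := Finset.univ.image (fun ξ : IrrCharacter K => blockOf M (ξ : K → ℂ)))
    (g := fun ξ : IrrCharacter K => blockOf M (ξ : K → ℂ))
    (fun ξ _ => Finset.mem_image_of_mem _ (Finset.mem_univ ξ))]
  apply Finset.sum_eq_zero
  intro b hb
  obtain ⟨ξ₀, -, rfl⟩ := Finset.mem_image.1 hb
  have h1 := h (blockOf M (ξ₀ : K → ℂ)) ⟨ξ₀, rfl⟩
  rw [blockPart_apply, finsum_mem_def, finsum_eq_sum_of_fintype] at h1
  rw [Finset.sum_filter]
  refine Eq.trans ?_ h1
  apply Finset.sum_congr rfl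
  intro ξ _
  have hiff : ξ ∈ blockOf M (ξ₀ : K → ℂ) ↔ blockOf M (ξ : K → ℂ) = blockOf M (ξ₀ : K → ℂ) := by
    constructor
    · exact blockOf_eq_of_mem
    · intro h
      rw [← h]
      exact mem_blockOf_self ξ
  by_cases hξ : ξ ∈ blockOf M (ξ₀ : K → ℂ)
  · rw [Set.indicator_of_mem hξ, if_pos (hiff.1 hξ)]
  · rw [Set.indicator_of_notMem hξ, if_neg (fun hc => hξ (hiff.2 hc))]

end Decomp

section Vanish

variable {G : Type u} [Group G] [Fintype G] {M : Ideal AlgInt} {p : ℕ}

/-- a central `p`-element of the centralizer lies in every defect group there, hence in a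
defect group of any induced block -/
theorem mem_defectGroup_of_isInducedBlock_centralizer (hM : IsPModular p M) {x : G}
    (hx : ∃ k : ℕ, orderOf x = p ^ k) {B : Set (IrrCharacter G)}
    {b : Set (IrrCharacter (Subgroup.centralizer ({x} : Set G)))}
    (hind : IsInducedBlock M (Subgroup.centralizer ({x} : Set G)) b B) :
    ∃ E : Subgroup G, IsDefectGroup p M B E ∧ x ∈ E := by
  classical
  haveI : Fact p.Prime := ⟨hM.1⟩
  obtain ⟨hb, hB, -⟩ := id hind
  obtain ⟨Db, hDb⟩ := exists_isDefectGroup hM hb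
  obtain ⟨E, hE, hle⟩ := Cfsg.Agent.S0917.result p M hM _ b hb B hB hind Db hDb
  refine ⟨E, hE, ?_⟩
  have hxC : x ∈ Subgroup.centralizer ({x} : Set G) := self_mem_centralizer_singleton x
  set P' : Subgroup (Subgroup.centralizer ({x} : Set G)) :=
    (Subgroup.zpowers x).subgroupOf (Subgroup.centralizer ({x} : Set G)) with hP'
  haveI hP'n : P'.Normal := by
    constructor
    intro n hn c
    rw [hP', Subgroup.mem_subgroupOf] at hn ⊢
    obtain ⟨k, hk⟩ := Subgroup.mem_zpowers_iff.1 hn
    have hc : (c : G) * x = x * (c : G) :=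
      (Subgroup.mem_centralizer_iff.1 c.2 x (Set.mem_singleton x)).symm
    have hc' : Commute (c : G) (x ^ k) := (show Commute (c : G) x from hc).zpow_right k
    have e : ((c * n * c⁻¹ : Subgroup.centralizer ({x} : Set G)) : G) = x ^ k := by
      push_cast
      rw [← hk, hc'.eq, mul_inv_cancel_right]
    rw [e]
    exact Subgroup.zpow_mem _ (Subgroup.mem_zpowers x) k
  have hP'p : IsPGroup p P' := (isPGroup_zpowers (p := p) hx).comap_subtype
  obtain ⟨g, hg, S, rfl⟩ := hDb
  have h1 := normal_pgroup_le_defectGroup hM hb P' hP'p hg S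
  apply hle
  refine ⟨⟨x, hxC⟩, h1 ?_, rfl⟩
  rw [hP', Subgroup.mem_subgroupOf]
  exact Subgroup.mem_zpowers x

/-- **Characters vanish off the defect groups**: if the `p`-part of `g` lies in no defect group
of the block of `χ`, then `χ g = 0`. -/
theorem char_eq_zero_of_pPart_not_mem (hM : IsPModular p M) (χ : IrrCharacter G) {g x : G}
    (hx : IsPPart p g x)
    (hD : ∀ D : Subgroup G, IsDefectGroup p M (blockOf M (χ : G → ℂ)) D → x ∉ D) :
    (χ : G → ℂ) g = 0 := by
  classical
  haveI hMp : M.IsPrime := hM.2.1.isPrime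
  haveI : Fintype (Subgroup.centralizer ({x} : Set G)) := Fintype.ofFinite _
  have hχcf : IsClassFunction G (χ : G → ℂ) := isClassFunction_of_isIrrCharacter χ.2
  obtain ⟨y, hxy, hcomm, hxp, hy⟩ := hx
  have hyC : y ∈ Subgroup.centralizer ({x} : Set G) := by
    rw [Subgroup.mem_centralizer_iff]
    intro w hw
    rw [Set.mem_singleton_iff] at hw
    rw [hw]
    exact hcomm.eq
  set ϑ : Subgroup.centralizer ({x} : Set G) → ℂ := fun c => (χ : G → ℂ) (x * (c : G)) with hϑdef
  have hϑ : IsClassFunction (Subgroup.centralizer ({x} : Set G)) ϑ := by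
    intro c t
    simp only [hϑdef]
    have ht : (t : G) * x = x * (t : G) :=
      (Subgroup.mem_centralizer_iff.1 t.2 x (Set.mem_singleton x)).symm
    have e : x * ((t * c * t⁻¹ : Subgroup.centralizer ({x} : Set G)) : G) =
        (t : G) * (x * (c : G)) * (t : G)⁻¹ := by
      push_cast
      rw [← mul_assoc, ← mul_assoc, ← mul_assoc, ht]
    rw [e, hχcf]
  have key : ϑ ⟨y, hyC⟩ = 0 := by
    apply eq_zero_of_blockPart_eq_zero (M := M) hϑ
    intro b hb
    apply blockPart_shift_eq_zero hM hxp ⟨χ, rfl⟩ (mem_blockOf_self χ) hb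
    · intro hind
      obtain ⟨E, hE, hxE⟩ := mem_defectGroup_of_isInducedBlock_centralizer hM hxp hind
      exact hD E hE hxE
    · rw [← Subgroup.orderOf_coe]
      exact hy
  simp only [hϑdef] at key
  rwa [hxy] at key

end Vanish

end Cfsg.Agent.Helper23.Blk
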