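import Mathlib
import Cfsg.Agent.Lib.Helper23.BlockSecondMain3
import Cfsg.Agent.Lib.Helper23.BlockOrtho

/-!
# Block orthogonality (helper23's shared library)
-/

set_option autoImplicit false
set_option linter.unusedSectionVars false

namespace Cfsg.Agent.Helper23.Blk

open Cfsg Cfsg.Agent.Helper24 Cfsg.Agent.Helper18
open scoped ComplexConjugate

universe u

section PPart2

variable {G : Type u} [Group G]

/-- the `p`-part is unique -/
theorem isPPart_unique {p : ℕ} (hp : p.Prime) {g z z' : G} (h : IsPPart p g z)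
    (h' : IsPPart p g z') : z = z' := by
  have hz : z ∈ Subgroup.zpowers g := by
    have := IsPPart.mem_zpowers_pow hp h 1 (by
      intro hc
      exact hp.one_lt.ne' (Nat.dvd_one.1 hc))
    rwa [pow_one] at this
  have hz' : z' ∈ Subgroup.zpowers g := by
    have := IsPPart.mem_zpowers_pow hp h' 1 (by
      intro hc
      exact hp.one_lt.ne' (Nat.dvd_one.1 hc))
    rwa [pow_one] at this
  obtain ⟨y, hzy, hc, ⟨k, hk⟩, hy⟩ := h
  obtain ⟨y', hzy', hc', ⟨k', hk'⟩, hy'⟩ := h'
  obtain ⟨i, hi⟩ := Subgroup.mem_zpowers_iff.1 hz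
  obtain ⟨j, hj⟩ := Subgroup.mem_zpowers_iff.1 hz'
  have hzz' : Commute z z' := by
    rw [← hi, ← hj]
    exact ((Commute.refl g).zpow_zpow i j)
  have hgz : Commute g z := by
    rw [← hi]
    exact (Commute.refl g).zpow_right i
  have hgz' : Commute g z' := by
    rw [← hj]
    exact (Commute.refl g).zpow_right j
  have hyeq : y = z⁻¹ * g := by rw [← hzy]; group
  have hyeq' : y' = z'⁻¹ * g := by rw [← hzy']; group
  have hyy' : Commute y' y⁻¹ := by
    rw [hyeq, hyeq']
    apply Commute.inv_right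
    apply Commute.mul_right
    · apply Commute.mul_left
      · exact (hzz'.symm.inv_left).inv_right
      · exact hgz.inv_right
    · apply Commute.mul_left
      · exact hgz'.symm.inv_left
      · exact Commute.refl g
  set w := z'⁻¹ * z with hw
  have hw2 : w = y' * y⁻¹ := by
    rw [hw, hyeq, hyeq']
    group
  have h1 : orderOf w ∣ p ^ (max k k') := by
    have h2 : orderOf w ∣ Nat.lcm (orderOf z'⁻¹) (orderOf z) :=
      (hzz'.symm.inv_left).orderOf_mul_dvd_lcm
    rw [orderOf_inv, hk, hk'] at h2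
    apply h2.trans
    apply Nat.lcm_dvd
    · exact pow_dvd_pow p (le_max_right k k')
    · exact pow_dvd_pow p (le_max_left k k')
  have h3 : orderOf w ∣ Nat.lcm (orderOf y') (orderOf y) := by
    rw [hw2]
    have := hyy'.orderOf_mul_dvd_lcm
    rwa [orderOf_inv] at this
  obtain ⟨m, -, hm⟩ := (Nat.dvd_prime_pow hp).1 h1
  have hm0 : m = 0 := by
    by_contra hne
    have h4 : p ∣ orderOf w := by
      rw [hm]
      exact dvd_pow_self p hne
    have h5 : p ∣ Nat.lcm (orderOf y') (orderOf y) := h4.trans h3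
    have h6 : p ∣ orderOf y' * orderOf y := h5.trans (Nat.lcm_dvd_mul _ _)
    rcases hp.dvd_mul.1 h6 with h7 | h7
    · exact hy' h7
    · exact hy h7
  rw [hm0, pow_zero, orderOf_eq_one_iff] at hm
  have : z = z' * w := by rw [hw]; group
  rw [this, hm, mul_one]

/-- conjugation carries `p`-parts to `p`-parts -/
theorem isPPart_conj {p : ℕ} {g z : G} (h : IsPPart p g z) (t : G) :
    IsPPart p (t * g * t⁻¹) (t * z * t⁻¹) := by
  obtain ⟨y, hzy, hc, ⟨k, hk⟩, hy⟩ := h
  refine ⟨t * y * t⁻¹, ?_, ?_, ⟨k, ?_⟩, ?_⟩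
  · rw [← hzy]
    group
  · show t * z * t⁻¹ * (t * y * t⁻¹) = t * y * t⁻¹ * (t * z * t⁻¹)
    have e1 : t * z * t⁻¹ * (t * y * t⁻¹) = t * (z * y) * t⁻¹ := by group
    have e2 : t * y * t⁻¹ * (t * z * t⁻¹) = t * (y * z) * t⁻¹ := by group
    rw [e1, e2, hc.eq]
  · have : orderOf (t * z * t⁻¹) = orderOf z := (MulAut.conj t).orderOf_eq z
    rw [this, hk]
  · have : orderOf (t * y * t⁻¹) = orderOf y := (MulAut.conj t).orderOf_eq y
    rwa [this]

end PPart2

section Decomp2

variable {K : Type u} [Group K] [Fintype K] {M : Ideal AlgInt} {p : ℕ}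

/-- the block idempotents decompose any function -/
theorem sum_blocks_shift [hMp : M.IsPrime] [Fintype (IrrCharacter K)]
    (𝔅 : Finset (Set (IrrCharacter K))) (h𝔅 : ∀ f, f ∈ 𝔅 ↔ IsPBlock M f) (φ : K → ℂ) (y : K) :
    ∑ b ∈ 𝔅, ∑ k : K, blockCoeff b k * φ (y * k) = φ y := by
  classical
  rw [Finset.sum_comm]
  have h1 : ∀ k : K, ∑ b ∈ 𝔅, blockCoeff b k * φ (y * k) =
      (if k = 1 then (1 : ℂ) else 0) * φ (y * k) := by
    intro k
    rw [← Finset.sum_mul, sum_blockCoeff_blocks 𝔅 h𝔅 k, synth_one]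
  rw [Finset.sum_congr rfl (fun k _ => h1 k)]
  simp

/-- the finite set of all blocks -/
theorem exists_finset_blocks [hMp : M.IsPrime] :
    ∃ 𝔅 : Finset (Set (IrrCharacter K)), ∀ f, f ∈ 𝔅 ↔ IsPBlock M f := by
  classical
  letI : Fintype (IrrCharacter K) := irrFintype
  refine ⟨Finset.univ.image (fun ξ : IrrCharacter K => blockOf M (ξ : K → ℂ)), ?_⟩
  intro f
  rw [Finset.mem_image]
  constructor
  · rintro ⟨ξ, -, rfl⟩
    exact ⟨ξ, rfl⟩
  · rintro ⟨ξ, rfl⟩
    exact ⟨ξ, Finset.mem_univ _, rfl⟩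

/-- block parts of class functions vanishing on the `p`-regular elements vanish there -/
theorem sum_blockCoeff_shift_eq_zero_of_vanish (hM : IsPModular p M)
    {b : Set (IrrCharacter K)} (hb : IsPBlock M b) {φ : K → ℂ} (hφ : IsClassFunction K φ)
    (hφ0 : ∀ c : K, ¬ p ∣ orderOf c → φ c = 0) {y : K} (hy : ¬ p ∣ orderOf y) :
    ∑ k : K, blockCoeff b k * φ (y * k) = 0 := by
  classical
  letI : Fintype (IrrCharacter K) := irrFintype
  rw [sum_blockCoeff_mul_shift b hφ y]
  have h1 : ∀ c : K, p ∣ orderOf c → ∑ χ : IrrCharacter K,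
      b.indicator (fun χ : IrrCharacter K => (χ : K → ℂ) y * conj ((χ : K → ℂ) c)) χ = 0 := by
    intro c hc
    have := weak_block_orthogonality hM hb hy hc
    rwa [finsum_mem_def, finsum_eq_sum_of_fintype] at this
  rw [finsum_mem_def, finsum_eq_sum_of_fintype]
  unfold classInner
  have h2 : ∀ ξ : IrrCharacter K, b.indicator (fun χ : IrrCharacter K =>
      (Nat.card K : ℂ)⁻¹ * ∑ g : K, φ g * conj ((χ : K → ℂ) g) * (χ : K → ℂ) y) ξ =
      (Nat.card K : ℂ)⁻¹ * ∑ g : K, φ g *
        b.indicator (fun χ : IrrCharacter K => (χ : K → ℂ) y * conj ((χ : K → ℂ) g)) ξ := by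
    intro ξ
    by_cases hξ : ξ ∈ b
    · rw [Set.indicator_of_mem hξ]
      congr 1
      apply Finset.sum_congr rfl
      intro g _
      rw [Set.indicator_of_mem hξ]
      ring
    · rw [Set.indicator_of_notMem hξ]
      simp only [Set.indicator_of_notMem hξ, mul_zero, Finset.sum_const_zero]
  have h3 : ∀ ξ : IrrCharacter K, b.indicator (fun χ : IrrCharacter K =>
      (Nat.card K : ℂ)⁻¹ * (∑ g : K, φ g * conj ((χ : K → ℂ) g)) * (χ : K → ℂ) y) ξ =
      b.indicator (fun χ : IrrCharacter K =>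
      (Nat.card K : ℂ)⁻¹ * ∑ g : K, φ g * conj ((χ : K → ℂ) g) * (χ : K → ℂ) y) ξ := by
    intro ξ
    congr 1
    funext χ
    rw [mul_assoc, Finset.sum_mul]
  rw [Finset.sum_congr rfl (fun ξ _ => (h3 ξ).trans (h2 ξ)), ← Finset.mul_sum, Finset.sum_comm]
  rw [Finset.sum_eq_zero, mul_zero]
  intro g _
  rw [← Finset.mul_sum]
  by_cases hg : p ∣ orderOf g
  · rw [h1 g hg, mul_zero]
  · rw [hφ0 g hg, zero_mul]

end Decomp2

section Main2

variable {G : Type u} [Group G] [Fintype G] {M : Ideal AlgInt} {p : ℕ}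

/-- the second main theorem, for the centralizer of a `p`-element, in sum form -/
theorem sum_blockCoeff_char_shift_eq_zero (hM : IsPModular p M) {z : G}
    (hz : ∃ k : ℕ, orderOf z = p ^ k)
    [Fintype (Subgroup.centralizer ({z} : Set G))]
    {b : Set (IrrCharacter (Subgroup.centralizer ({z} : Set G)))} {B₀ : Set (IrrCharacter G)}
    (hind : IsInducedBlock M (Subgroup.centralizer ({z} : Set G)) b B₀) {χ : IrrCharacter G}
    (hχ : χ ∉ B₀) (y : Subgroup.centralizer ({z} : Set G)) (hy : ¬ p ∣ orderOf y) :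
    ∑ k : Subgroup.centralizer ({z} : Set G), blockCoeff b k *
      (χ : G → ℂ) (z * ((y * k : Subgroup.centralizer ({z} : Set G)) : G)) = 0 := by
  classical
  have hχcf : IsClassFunction G (χ : G → ℂ) := isClassFunction_of_isIrrCharacter χ.2
  have hcomm : Commute z (y : G) := by
    have := Subgroup.mem_centralizer_iff.1 y.2 z (Set.mem_singleton z)
    exact this
  have hpp : IsPPart p (z * (y : G)) z :=
    ⟨(y : G), rfl, hcomm, hz, by rwa [Subgroup.orderOf_coe]⟩
  have hh : z * (y : G) ∈ Subgroup.centralizer ({z} : Set G) :=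
    Subgroup.mul_mem _ (self_mem_centralizer_singleton z) y.2
  have key := second_main_sum hM (Subgroup.centralizer ({z} : Set G)) hind hh hpp le_rfl χ hχ
  rw [sum_eq_sum_subgroup (Subgroup.centralizer ({z} : Set G))
    (fun k => ext0 (Subgroup.centralizer ({z} : Set G)) (blockCoeff b) k *
      (χ : G → ℂ) (k * (z * (y : G))))] at key
  · rw [← key]
    apply Finset.sum_congr rfl
    intro k _
    rw [ext0_coe]
    congr 1
    have e : z * ((y * k : Subgroup.centralizer ({z} : Set G)) : G) =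
        ((k : G))⁻¹ * ((k : G) * (z * (y : G))) * (((k : G))⁻¹)⁻¹ := by
      push_cast
      group
    rw [e, hχcf]
  · intro g hg
    rw [ext0_of_not_mem _ _ hg, zero_mul]

set_option maxHeartbeats 1600000 in
/-- **Block orthogonality**, function form: if a class function vanishes on the `p`-section of the
`p`-element `z`, so do its block parts. -/
theorem blockPart_eq_zero_of_vanish_section (hM : IsPModular p M) {ϑ : G → ℂ}
    (hϑ : IsClassFunction G ϑ) {z : G} (hz : ∃ k : ℕ, orderOf z = p ^ k)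
    (hvan : ∀ y : Subgroup.centralizer ({z} : Set G), ¬ p ∣ orderOf y → ϑ (z * (y : G)) = 0)
    {B : Set (IrrCharacter G)} (hB : IsPBlock M B) (y : Subgroup.centralizer ({z} : Set G))
    (hy : ¬ p ∣ orderOf y) : blockPart B ϑ (z * (y : G)) = 0 := by
  classical
  haveI hMp : M.IsPrime := hM.2.1.isPrime
  letI : Fintype (IrrCharacter G) := irrFintype
  haveI : Fintype (Subgroup.centralizer ({z} : Set G)) := Fintype.ofFinite _
  letI : Fintype (IrrCharacter (Subgroup.centralizer ({z} : Set G))) := irrFintype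
  obtain ⟨𝔅, h𝔅⟩ := exists_finset_blocks (K := Subgroup.centralizer ({z} : Set G)) (M := M)
  set 𝔅B : Finset (Set (IrrCharacter (Subgroup.centralizer ({z} : Set G)))) :=
    𝔅.filter (fun b => IsInducedBlock M (Subgroup.centralizer ({z} : Set G)) b B) with h𝔅B
  -- Claim A
  have hA : ∀ χ : IrrCharacter G,
      ∑ b ∈ 𝔅B, ∑ k : Subgroup.centralizer ({z} : Set G), blockCoeff b k *
        (χ : G → ℂ) (z * ((y * k : Subgroup.centralizer ({z} : Set G)) : G)) =
      if χ ∈ B then (χ : G → ℂ) (z * (y : G)) else 0 := by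
    intro χ
    by_cases hχ : χ ∈ B
    · rw [if_pos hχ, h𝔅B, Finset.sum_filter]
      have h1 := sum_blocks_shift 𝔅 h𝔅
        (fun c : Subgroup.centralizer ({z} : Set G) => (χ : G → ℂ) (z * (c : G))) y
      rw [← h1]
      apply Finset.sum_congr rfl
      intro b hb
      by_cases hbB : IsInducedBlock M (Subgroup.centralizer ({z} : Set G)) b B
      · rw [if_pos hbB]
      · rw [if_neg hbB]
        obtain ⟨B₀, hind⟩ := exists_isInducedBlock_centralizer hM hz ((h𝔅 b).1 hb)
        have hχB₀ : χ ∉ B₀ := by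
          intro hc
          apply hbB
          have : B₀ = B := isPBlock_eq_of_mem hind.2.1 hB hc hχ
          rw [← this]
          exact hind
        exact (sum_blockCoeff_char_shift_eq_zero hM hz hind hχB₀ y hy).symm
    · rw [if_neg hχ]
      apply Finset.sum_eq_zero
      intro b hb
      rw [h𝔅B, Finset.mem_filter] at hb
      exact sum_blockCoeff_char_shift_eq_zero hM hz hb.2 hχ y hy
  -- expansion of `ϑ`
  have hexp := classFunction_expansion hϑ
  have h5 : ∀ g : G, ϑ g = ∑ μ : IrrCharacter G,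
      classInner ϑ (μ : G → ℂ) * (μ : G → ℂ) g := by
    intro g
    conv_lhs => rw [hexp]
    rw [Finset.sum_apply]
    refine Finset.sum_congr rfl fun μ _ => ?_
    rw [Pi.smul_apply, smul_eq_mul]
  -- the translated function
  set T : Subgroup.centralizer ({z} : Set G) → ℂ := fun c => ϑ (z * (c : G)) with hT
  have hTcf : IsClassFunction (Subgroup.centralizer ({z} : Set G)) T := by
    intro c t
    simp only [hT]
    have ht : (t : G) * z = z * (t : G) :=
      (Subgroup.mem_centralizer_iff.1 t.2 z (Set.mem_singleton z)).symm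
    have e : z * ((t * c * t⁻¹ : Subgroup.centralizer ({z} : Set G)) : G) =
        (t : G) * (z * (c : G)) * (t : G)⁻¹ := by
      push_cast
      rw [← mul_assoc, ← mul_assoc, ← mul_assoc, ht]
    rw [e, hϑ]
  have hT0 : ∀ c : Subgroup.centralizer ({z} : Set G), ¬ p ∣ orderOf c → T c = 0 :=
    fun c hc => hvan c hc
  rw [blockPart_apply, finsum_mem_def, finsum_eq_sum_of_fintype]
  have h6 : ∀ χ : IrrCharacter G, B.indicator (fun χ : IrrCharacter G =>
      classInner ϑ (χ : G → ℂ) * (χ : G → ℂ) (z * (y : G))) χ =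
      classInner ϑ (χ : G → ℂ) * ∑ b ∈ 𝔅B, ∑ k : Subgroup.centralizer ({z} : Set G),
        blockCoeff b k *
        (χ : G → ℂ) (z * ((y * k : Subgroup.centralizer ({z} : Set G)) : G)) := by
    intro χ
    rw [hA χ]
    by_cases hχ : χ ∈ B
    · rw [Set.indicator_of_mem hχ, if_pos hχ]
    · rw [Set.indicator_of_notMem hχ, if_neg hχ, mul_zero]
  rw [Finset.sum_congr rfl (fun χ _ => h6 χ)]
  simp only [Finset.mul_sum]
  rw [Finset.sum_comm]
  apply Finset.sum_eq_zero
  intro b hb
  rw [Finset.sum_comm]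
  have h7 : ∀ k : Subgroup.centralizer ({z} : Set G), ∑ χ : IrrCharacter G,
      classInner ϑ (χ : G → ℂ) * (blockCoeff b k *
        (χ : G → ℂ) (z * ((y * k : Subgroup.centralizer ({z} : Set G)) : G))) =
      blockCoeff b k * T (y * k) := by
    intro k
    simp only [hT]
    rw [h5 (z * ((y * k : Subgroup.centralizer ({z} : Set G)) : G)), Finset.mul_sum]
    apply Finset.sum_congr rfl
    intro χ _
    ring
  rw [Finset.sum_congr rfl (fun k _ => h7 k)]
  rw [h𝔅B, Finset.mem_filter] at hb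
  exact sum_blockCoeff_shift_eq_zero_of_vanish hM ((h𝔅 b).1 hb.1) hTcf hT0 hy

/-- **Block orthogonality**: elements with non-conjugate `p`-parts -/
theorem block_orthogonality (hM : IsPModular p M) {g h x y : G} (hgx : IsPPart p g x)
    (hhy : IsPPart p h y) (hnc : ¬ IsConj x y) {B : Set (IrrCharacter G)} (hB : IsPBlock M B) :
    ∑ᶠ χ ∈ B, (χ : G → ℂ) g * (χ : G → ℂ) h⁻¹ = 0 := by
  classical
  have hp : p.Prime := hM.1
  letI : Fintype (IrrCharacter G) := irrFintype
  obtain ⟨y₀, hxy₀, hc₀, hxp, hy₀⟩ := id hgx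
  have hy₀C : y₀ ∈ Subgroup.centralizer ({x} : Set G) := by
    rw [Subgroup.mem_centralizer_iff]
    intro w hw
    rw [Set.mem_singleton_iff] at hw
    rw [hw]
    exact hc₀.eq
  have hvan : ∀ y' : Subgroup.centralizer ({x} : Set G), ¬ p ∣ orderOf y' →
      classInd h (x * (y' : G)) = 0 := by
    intro y' hy'
    unfold classInd
    rw [if_neg]
    intro hconj
    obtain ⟨t, ht⟩ := isConj_iff.1 hconj
    have h1 : IsPPart p (x * (y' : G)) x := by
      refine ⟨(y' : G), rfl, ?_, hxp, by rwa [Subgroup.orderOf_coe]⟩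
      exact Subgroup.mem_centralizer_iff.1 y'.2 x (Set.mem_singleton x)
    have h2 := isPPart_conj hhy t
    rw [ht] at h2
    have h3 := isPPart_unique hp h1 h2
    apply hnc
    rw [isConj_comm, isConj_iff]
    exact ⟨t, h3.symm⟩
  have key := blockPart_eq_zero_of_vanish_section hM (isClassFunction_classInd h) hxp hvan hB
    ⟨y₀, hy₀C⟩ (by rw [← Subgroup.orderOf_coe]; exact hy₀)
  simp only [] at key
  rw [hxy₀, blockPart_apply, finsum_mem_def, finsum_eq_sum_of_fintype] at key
  rw [finsum_mem_def, finsum_eq_sum_of_fintype]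
  -- the inner products with the class indicator
  set N : ℂ := (Nat.card G : ℂ)⁻¹ * ∑ u : G, classInd h u with hN
  have hN0 : N ≠ 0 := by
    rw [hN]
    apply mul_ne_zero (inv_ne_zero card_ne_zero)
    unfold classInd
    rw [Finset.sum_boole]
    have : 0 < (Finset.univ.filter (fun u : G => IsConj h u)).card := by
      apply Finset.card_pos.2
      exact ⟨h, Finset.mem_filter.2 ⟨Finset.mem_univ _, IsConj.refl h⟩⟩
    exact_mod_cast this.ne'
  have hinner : ∀ χ : IrrCharacter G, classInner (classInd h) (χ : G → ℂ) =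
      N * (χ : G → ℂ) h⁻¹ := by
    intro χ
    unfold classInner
    rw [hN, mul_assoc, Finset.sum_mul]
    congr 1
    apply Finset.sum_congr rfl
    intro u _
    unfold classInd
    by_cases hu : IsConj h u
    · rw [if_pos hu]
      obtain ⟨t, ht⟩ := isConj_iff.1 hu
      rw [irr_inv (isCharacter_of_isIrrCharacter χ.2), ← ht,
        isClassFunction_of_isIrrCharacter χ.2 h t]
    · rw [if_neg hu, zero_mul, zero_mul]
  have h4 : ∑ χ : IrrCharacter G, B.indicator (fun χ : IrrCharacter G =>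
      classInner (classInd h) (χ : G → ℂ) * (χ : G → ℂ) g) χ =
      N * ∑ χ : IrrCharacter G, B.indicator (fun χ : IrrCharacter G =>
      (χ : G → ℂ) g * (χ : G → ℂ) h⁻¹) χ := by
    rw [Finset.mul_sum]
    apply Finset.sum_congr rfl
    intro χ _
    by_cases hχ : χ ∈ B
    · rw [Set.indicator_of_mem hχ, Set.indicator_of_mem hχ, hinner]
      ring
    · rw [Set.indicator_of_notMem hχ, Set.indicator_of_notMem hχ, mul_zero]
  rw [h4] at key
  exact (mul_eq_zero.1 key).resolve_left hN0

end Main2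

end Cfsg.Agent.Helper23.Blk
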