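import Mathlib
import Cfsg.Agent.Lib.Helper23.BlockConv
import Cfsg.Agent.Lib.Helper24.CharNormal
import Cfsg.Agent.Lib.Helper24.CharInduced

/-!
# Blocks and normal `p'`-subgroups in the kernel (helper23's shared library)
-/

set_option autoImplicit false
set_option linter.unusedSectionVars false

namespace Cfsg.Agent.Helper23.Blk

open Cfsg Cfsg.Agent.Helper24
open scoped ComplexConjugate

universe u

section

variable {G : Type u} [Group G] [Fintype G] {M : Ideal AlgInt} {p : ℕ}

/-- the central character at the idempotent of the trivial character of a normal subgroup -/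
theorem omega_normal_idem (N : Subgroup G) [N.Normal] [DecidablePred (· ∈ N)]
    (ψ : IrrCharacter G) :
    omega (ψ : G → ℂ) (fun g => if g ∈ N then (Nat.card N : ℂ)⁻¹ else 0) =
      if ∀ n ∈ N, (ψ : G → ℂ) n = (ψ : G → ℂ) 1 then 1 else 0 := by
  classical
  haveI : Fintype N := Fintype.ofFinite N
  unfold omega
  have hN0 : (Nat.card N : ℂ) ≠ 0 := by
    exact_mod_cast (Nat.card_pos (α := N)).ne'
  have h1 : ∑ g : G, (if g ∈ N then (Nat.card N : ℂ)⁻¹ else 0) * (ψ : G → ℂ) g =
      (Nat.card N : ℂ)⁻¹ * ∑ n : N, (ψ : G → ℂ) (1 * (n : G)) := by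
    rw [sum_eq_sum_subgroup N (fun g => (if g ∈ N then (Nat.card N : ℂ)⁻¹ else 0) *
      (ψ : G → ℂ) g), Finset.mul_sum]
    · apply Finset.sum_congr rfl
      intro n _
      rw [if_pos n.2, one_mul]
    · intro x hx
      rw [if_neg hx, zero_mul]
  rw [h1]
  by_cases hker : ∀ n ∈ N, (ψ : G → ℂ) n = (ψ : G → ℂ) 1
  · rw [if_pos hker, sum_char_coset_of_le_ker N (isCharacter_of_isIrrCharacter ψ.2) hker 1,
      ← mul_assoc, inv_mul_cancel₀ hN0, one_mul, div_self (irr_one_ne_zero ψ.2)]
  · rw [if_neg hker]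
    push Not at hker
    obtain ⟨x, hxN, hx⟩ := hker
    rw [sum_char_coset_eq_zero N ψ.2 ⟨x, hxN, hx⟩ 1, mul_zero, zero_div]

/-- **Normal `p'`-subgroups in the kernel of one member of a block lie in the kernel of all of
them.** -/
theorem le_ker_of_sameBlock (hM : IsPModular p M) {χ ψ : IrrCharacter G}
    (h : SameBlock M (χ : G → ℂ) (ψ : G → ℂ)) (N : Subgroup G) [N.Normal]
    (hN : ¬ p ∣ Nat.card N) (hχ : ∀ n ∈ N, (χ : G → ℂ) n = (χ : G → ℂ) 1) :
    ∀ n ∈ N, (ψ : G → ℂ) n = (ψ : G → ℂ) 1 := by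
  classical
  haveI hMp : M.IsPrime := hM.2.1.isPrime
  by_contra hcon
  have hcf : IsClassFunction G (fun g => if g ∈ N then (Nat.card N : ℂ)⁻¹ else 0) := by
    intro g x
    have : x * g * x⁻¹ ∈ N ↔ g ∈ N := by
      constructor
      · intro hx
        have := ‹N.Normal›.conj_mem _ hx x⁻¹
        simpa [mul_assoc] using this
      · intro hg
        exact ‹N.Normal›.conj_mem _ hg x
    simp only [this]
  have hR : ∀ g, MemLocalRing M ((fun g => if g ∈ N then (Nat.card N : ℂ)⁻¹ else 0) g) := by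
    intro g
    simp only
    split_ifs
    · apply memLocalRing_inv (memLocalRing_natCast _)
      rw [memLocalIdeal_natCast_iff hM]
      exact hN
    · exact memLocalRing_zero ne_top
  have h1 := memLocalIdeal_omega_sub h hcf hR
  rw [omega_normal_idem, omega_normal_idem, if_pos hχ, if_neg hcon, sub_zero] at h1
  exact not_memLocalIdeal_one h1

end

end Cfsg.Agent.Helper23.Blk
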