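import Mathlib
import Cfsg.Agent.Lib.Helper23.BlockFirstMain

/-!
# Existence of Brauer correspondents over `C_G(P) ≤ H ≤ N_G(P)` (helper23's shared library)
-/

set_option autoImplicit false
set_option linter.unusedSectionVars false

namespace Cfsg.Agent.Helper23.Blk

open Cfsg Cfsg.Agent.Helper24
open scoped ComplexConjugate

universe u

section Exists

variable {G : Type u} [Group G] [Fintype G] {M : Ideal AlgInt} {p : ℕ} (P H : Subgroup G)
  [Fintype H] [Fintype (IrrCharacter G)] [Fintype (IrrCharacter H)]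

/-- if the idempotent of `B` does not vanish (modulo the local ideal) at some point of
`C_G(P)`, then `B` is induced from a block of `H`, for `P C_G(P) ≤ H ≤ N_G(P)` -/
theorem exists_induced_of_blockCoeff (hM : IsPModular p M) (hP : IsPGroup p P) (hPH : P ≤ H)
    (hCH : Subgroup.centralizer (P : Set G) ≤ H) (hHN : H ≤ Subgroup.normalizer (P : Set G))
    {B : Set (IrrCharacter G)} (hB : IsPBlock M B) {g : G}
    (hgC : g ∈ Subgroup.centralizer (P : Set G)) (hgB : ¬ MemLocalIdeal M (blockCoeff B g)) :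
    ∃ ξ₁ : IrrCharacter H, IsInducedBlock M H (blockOf M (ξ₁ : H → ℂ)) B := by
  classical
  haveI hMp : M.IsPrime := hM.2.1.isPrime
  haveI : Fact p.Prime := ⟨hM.1⟩
  have ha := isClassFunction_blockCoeff B
  have haR : ∀ g, MemLocalRing M (blockCoeff B g) := memLocalRing_blockCoeff hMp hB
  set u : H → ℂ := resC P H (blockCoeff B) with hu
  have hucf : IsClassFunction H u := isClassFunction_resC P H hHN ha
  have huR : ∀ y, MemLocalRing M (u y) := by
    intro y
    rw [hu]
    unfold resC
    split_ifs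
    · exact haR _
    · exact memLocalRing_zero ne_top
  have hidem : ∀ y, MemLocalIdeal M (conv u u y - u y) := by
    intro y
    have h1 := resC_conv_cong P H hM hP hCH ha ha haR haR y
    rw [conv_blockCoeff hB hB, if_pos rfl] at h1
    exact cong_symm h1
  have hug : ¬ MemLocalIdeal M (u ⟨g, hCH hgC⟩) := by
    rw [hu]
    unfold resC
    rw [if_pos hgC]
    exact hgB
  have hex : ∃ ξ₁ : IrrCharacter H, ¬ MemLocalIdeal M (omega (ξ₁ : H → ℂ) u) := by
    by_contra hcon
    push Not at hcon
    exact hug (null_of_idem_of_omega hucf huR hidem hcon _)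
  obtain ⟨ξ₁, hξ₁⟩ := hex
  obtain ⟨χ', hχ'⟩ := exists_irr_induced P H hM hP hPH hCH hHN ξ₁
  have h1 := hχ' _ ha haR
  have h2 := induced_cong_brauer P H hM hP hPH hHN ξ₁ ha haR
  have h3 : ¬ MemLocalIdeal M (omega (χ' : G → ℂ) (blockCoeff B)) :=
    not_memLocalIdeal_of_cong (cong_trans (cong_symm h1) h2) hξ₁
  have hχ'B : χ' ∈ B := by
    by_contra hcon
    apply h3
    rw [omega_blockCoeff, if_neg hcon]
    exact memLocalIdeal_zero ne_top
  have hBeq : blockOf M (χ' : G → ℂ) = B :=
    isPBlock_eq_of_mem ⟨χ', rfl⟩ hB (mem_blockOf_self χ') hχ'B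
  refine ⟨ξ₁, ?_⟩
  rw [← hBeq]
  apply isInducedBlock_of_forall
  intro x
  exact hχ' _ (isClassFunction_classInd x) (fun y => memLocalRing_classInd x y)

end Exists

end Cfsg.Agent.Helper23.Blk
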