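import Mathlib
import Cfsg.Agent.Lib.Helper23.BlockDefectGroup
import Cfsg.Agent.Lib.Helper23.PRegularClass

/-!
# Congruences of character values modulo the local ideal (helper23's shared library)
-/

set_option autoImplicit false
set_option linter.unusedSectionVars false

namespace Cfsg.Agent.Helper23.Blk

open Cfsg Cfsg.Agent.Helper24
open scoped ComplexConjugate

universe u

section Arith

variable {M : Ideal AlgInt} {p : ℕ}

/-- A quotient of natural numbers whose numerator is at least as divisible by `p` as its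
denominator is a local integer; it is a unit when the two are equally divisible. -/
theorem memLocalRing_natCast_div (hM : IsPModular p M) {A B : ℕ} (hA : A ≠ 0) (hB : B ≠ 0)
    (h : B.factorization p ≤ A.factorization p) :
    MemLocalRing M ((A : ℂ) / (B : ℂ)) ∧
      (B.factorization p = A.factorization p → ¬ MemLocalIdeal M ((A : ℂ) / (B : ℂ))) := by
  haveI hMp : M.IsPrime := hM.2.1.isPrime
  have hp : p.Prime := hM.1
  obtain ⟨A', hA'⟩ : p ^ A.factorization p ∣ A := Nat.ordProj_dvd _ _
  obtain ⟨B', hB'⟩ : p ^ B.factorization p ∣ B := Nat.ordProj_dvd _ _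
  have hnd : ∀ {N N' : ℕ}, N ≠ 0 → N = p ^ N.factorization p * N' → ¬ p ∣ N' := by
    intro N N' hN hN' hd
    obtain ⟨N'', hN''⟩ := hd
    have h1 : p ^ (N.factorization p + 1) ∣ N := by
      rw [pow_succ]
      exact ⟨N'', by rw [mul_assoc, ← hN'', ← hN']⟩
    have := (hp.pow_dvd_iff_le_factorization hN).1 h1
    omega
  have hpA' := hnd hA hA'
  have hpB' := hnd hB hB'
  have hB'0 : (B' : ℂ) ≠ 0 := by
    have : B' ≠ 0 := by
      rintro rfl
      exact hpB' (dvd_zero _)
    exact_mod_cast this
  have hpc : (p : ℂ) ≠ 0 := by exact_mod_cast hp.ne_zero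
  obtain ⟨k, hk⟩ : ∃ k, A.factorization p = B.factorization p + k :=
    ⟨A.factorization p - B.factorization p, by omega⟩
  have heq : (A : ℂ) / (B : ℂ) = ((p ^ k : ℕ) : ℂ) * ((A' : ℂ) * (B' : ℂ)⁻¹) := by
    have hA'' : (A : ℂ) = (p : ℂ) ^ (B.factorization p) * (p : ℂ) ^ k * A' := by
      conv_lhs => rw [hA', hk]
      push_cast
      rw [pow_add]
    have hB'' : (B : ℂ) = (p : ℂ) ^ (B.factorization p) * B' := by
      conv_lhs => rw [hB']
      push_cast
      rfl
    rw [hA'', hB'']
    push_cast
    field_simp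
  have hB'u : ¬ MemLocalIdeal M (B' : ℂ) := by
    rw [memLocalIdeal_natCast_iff hM]
    exact hpB'
  have hinvR : MemLocalRing M ((B' : ℂ)⁻¹) := memLocalRing_inv (memLocalRing_natCast B') hB'u
  constructor
  · rw [heq]
    exact memLocalRing_mul (memLocalRing_natCast _)
      (memLocalRing_mul (memLocalRing_natCast A') hinvR)
  · intro he
    have hk0 : k = 0 := by omega
    rw [heq, hk0, pow_zero, Nat.cast_one, one_mul]
    apply not_memLocalIdeal_mul (memLocalRing_natCast A') hinvR
    · rw [memLocalIdeal_natCast_iff hM]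
      exact hpA'
    · exact not_memLocalIdeal_inv (memLocalRing_natCast B') hB'u

end Arith

section Congr

variable {G : Type u} [Group G] [Finite G] {M : Ideal AlgInt} {p : ℕ}

/-- **Character values at `x * y` and `y` are congruent** modulo the local ideal, for `x` a
`p`-element commuting with `y`. -/
theorem memLocalIdeal_char_mul_sub (hM : IsPModular p M) {χ : G → ℂ} (hχ : IsCharacter G χ)
    {x y : G} (hcomm : Commute x y) {k : ℕ} (hx : x ^ p ^ k = 1) :
    MemLocalIdeal M (χ (x * y) - χ y) := by
  haveI hMp : M.IsPrime := hM.2.1.isPrime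
  have hp : p.Prime := hM.1
  have hpow : (x * y) ^ p ^ k = y ^ p ^ k := by
    rw [hcomm.mul_pow, hx, one_mul]
  obtain ⟨γ₁, hγ₁⟩ := frobenius_congr hp k hχ (x * y)
  obtain ⟨γ₂, hγ₂⟩ := frobenius_congr hp k hχ y
  rw [hpow] at hγ₁
  have ha : IsIntegral ℤ (χ (x * y)) := isIntegral_of_isCharacter hχ _
  have hb : IsIntegral ℤ (χ y) := isIntegral_of_isCharacter hχ _
  set a : AlgInt := ⟨χ (x * y), ha⟩ with ha'
  set b : AlgInt := ⟨χ y, hb⟩ with hb'
  have hab : a ^ p ^ k - b ^ p ^ k = (p : AlgInt) * (γ₁ - γ₂) := by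
    apply Subtype.ext
    push_cast
    have : (a : ℂ) = χ (x * y) := rfl
    have hb2 : (b : ℂ) = χ y := rfl
    rw [this, hb2]
    linear_combination hγ₁ - hγ₂
  obtain ⟨r, hr⟩ := exists_add_pow_prime_pow_eq hp a (-b) k
  have hmem : (a + -b) ^ p ^ k ∈ M := by
    rw [hr]
    apply M.add_mem
    · rcases hp.eq_two_or_odd' with h2 | hodd
      · have hev : Even (p ^ k) ∨ k = 0 := by
          rcases Nat.eq_zero_or_pos k with h0 | hpos
          · exact Or.inr h0
          · left
            rw [h2]
            exact (Nat.even_pow.2 ⟨even_two, hpos.ne'⟩)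
        rcases hev with hev | h0
        · rw [hev.neg_pow]
          have : a ^ p ^ k + b ^ p ^ k = (a ^ p ^ k - b ^ p ^ k) + (p : AlgInt) * b ^ p ^ k := by
            rw [h2]
            push_cast
            ring
          rw [this, hab]
          exact M.add_mem (M.mul_mem_right _ hM.2.2) (M.mul_mem_right _ hM.2.2)
        · subst h0
          simp only [pow_zero, pow_one] at hab ⊢
          rw [← sub_eq_add_neg, hab]
          exact M.mul_mem_right _ hM.2.2
      · rw [(hodd.pow).neg_pow, ← sub_eq_add_neg, hab]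
        exact M.mul_mem_right _ hM.2.2
    · rw [mul_assoc, mul_assoc]
      exact M.mul_mem_right _ hM.2.2
  have h2 := hMp.mem_of_pow_mem _ hmem
  have h3 := memLocalIdeal_of_mem h2 hMp.ne_top
  have h4 : ((a + -b : AlgInt) : ℂ) = χ (x * y) - χ y := by
    push_cast
    ring
  rwa [h4] at h3

end Congr

end Cfsg.Agent.Helper23.Blk
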