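import Mathlib
import Cfsg.Prelude.Def_BlockRank
import Cfsg.Agent.Lib.Helper23.BlockOrtho

/-!
# The `p`-regular rank of a block (helper23's shared library)
-/

set_option autoImplicit false
set_option linter.unusedSectionVars false

namespace Cfsg.Agent.Helper23.Blk

open Cfsg Cfsg.Agent.Helper24
open scoped ComplexConjugate

universe u

section Basic

variable {G : Type u} [Group G] (p : ℕ)

theorem pRegularPart_apply (χ : G → ℂ) (g : G) [Decidable (p ∣ orderOf g)] :
    pRegularPart p χ g = if p ∣ orderOf g then 0 else χ g := by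
  unfold pRegularPart IsPRegular
  by_cases h : p ∣ orderOf g
  · rw [if_pos h, if_neg (not_not.2 h)]
  · rw [if_neg h, if_pos h]

theorem pRegularPart_of_dvd (χ : G → ℂ) {g : G} (h : p ∣ orderOf g) : pRegularPart p χ g = 0 := by
  classical
  rw [pRegularPart_apply, if_pos h]

theorem pRegularPart_of_not_dvd (χ : G → ℂ) {g : G} (h : ¬ p ∣ orderOf g) :
    pRegularPart p χ g = χ g := by
  classical
  rw [pRegularPart_apply, if_neg h]

theorem pRegularPart_add (χ ψ : G → ℂ) :
    pRegularPart p (χ + ψ) = pRegularPart p χ + pRegularPart p ψ := by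
  classical
  funext g
  rw [Pi.add_apply, pRegularPart_apply, pRegularPart_apply, pRegularPart_apply]
  split_ifs <;> simp

theorem pRegularPart_smul (c : ℂ) (χ : G → ℂ) :
    pRegularPart p (c • χ) = c • pRegularPart p χ := by
  classical
  funext g
  rw [Pi.smul_apply, pRegularPart_apply, pRegularPart_apply]
  split_ifs <;> simp

theorem pRegularPart_sum {ι : Type*} (s : Finset ι) (f : ι → G → ℂ) :
    pRegularPart p (∑ i ∈ s, f i) = ∑ i ∈ s, pRegularPart p (f i) := by
  classical
  induction s using Finset.induction_on with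
  | empty =>
    funext g
    simp [pRegularPart_apply]
  | insert j s hj ih =>
    rw [Finset.sum_insert hj, Finset.sum_insert hj, pRegularPart_add, ih]

theorem pRegularPart_idem (χ : G → ℂ) : pRegularPart p (pRegularPart p χ) = pRegularPart p χ := by
  classical
  funext g
  rw [pRegularPart_apply, pRegularPart_apply]
  split_ifs <;> rfl

theorem isClassFunction_pRegularPart {χ : G → ℂ} (hχ : IsClassFunction G χ) :
    IsClassFunction G (pRegularPart p χ) := by
  classical
  intro g h
  have ho : orderOf (h * g * h⁻¹) = orderOf g := by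
    have := (MulAut.conj h).orderOf_eq g
    rwa [MulAut.conj_apply] at this
  rw [pRegularPart_apply, pRegularPart_apply, ho, hχ g h]

end Basic

section Rank

variable {G : Type u} [Group G] [Fintype G] [Fintype (IrrCharacter G)] (p : ℕ)

/-- If the restrictions to `p`-regular elements of the members of `A` are orthogonal to the
characters outside `A`, then the `p`-regular rank of `A` is the trace of the Gram matrix. -/
theorem blockRank_eq_sum (A : Set (IrrCharacter G)) [DecidablePred (· ∈ A)]
    (horth : ∀ χ ∈ A, ∀ ψ ∉ A, classInner (pRegularPart p (χ : G → ℂ)) (ψ : G → ℂ) = 0) :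
    (blockRank p A : ℂ) = ∑ ψ : IrrCharacter G,
      (if ψ ∈ A then classInner (pRegularPart p (ψ : G → ℂ)) (ψ : G → ℂ) else 0) := by
  classical
  unfold blockRank
  set V : Submodule ℂ (G → ℂ) :=
    Submodule.span ℂ ((fun χ : IrrCharacter G => pRegularPart p (χ : G → ℂ)) '' A) with hV
  have hgen : ∀ χ : IrrCharacter G, χ ∈ A → pRegularPart p (χ : G → ℂ) ∈ V :=
    fun χ hχ => Submodule.subset_span ⟨χ, hχ, rfl⟩
  -- the key expansion
  have hkey : ∀ χ : IrrCharacter G, χ ∈ A → pRegularPart p (χ : G → ℂ) =
      ∑ ψ : IrrCharacter G, (if ψ ∈ A then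
        classInner (pRegularPart p (χ : G → ℂ)) (ψ : G → ℂ) else 0) •
          pRegularPart p (ψ : G → ℂ) := by
    intro χ hχ
    have h1 := classFunction_expansion
      (isClassFunction_pRegularPart p (isClassFunction_of_isIrrCharacter χ.2))
    have h2 := congrArg (pRegularPart p) h1
    rw [pRegularPart_idem, pRegularPart_sum] at h2
    refine h2.trans ?_
    apply Finset.sum_congr rfl
    intro ψ _
    rw [pRegularPart_smul]
    by_cases hψ : ψ ∈ A
    · rw [if_pos hψ]
    · rw [if_neg hψ, horth χ hχ ψ hψ]
  -- the two maps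
  let T : (IrrCharacter G → ℂ) →ₗ[ℂ] V :=
    { toFun := fun c => ⟨∑ ψ : IrrCharacter G, (if ψ ∈ A then c ψ else 0) •
          pRegularPart p (ψ : G → ℂ), by
        apply Submodule.sum_mem
        intro ψ _
        by_cases hψ : ψ ∈ A
        · rw [if_pos hψ]; exact Submodule.smul_mem _ _ (hgen ψ hψ)
        · rw [if_neg hψ, zero_smul]; exact Submodule.zero_mem _⟩
      map_add' := by
        intro c c'
        apply Subtype.ext
        simp only [Pi.add_apply, Submodule.coe_add]
        rw [← Finset.sum_add_distrib]
        apply Finset.sum_congr rfl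
        intro ψ _
        split_ifs
        · rw [add_smul]
        · simp
      map_smul' := by
        intro r c
        apply Subtype.ext
        simp only [Pi.smul_apply, smul_eq_mul, RingHom.id_apply, Submodule.coe_smul]
        rw [Finset.smul_sum]
        apply Finset.sum_congr rfl
        intro ψ _
        split_ifs
        · rw [mul_smul]
        · simp }
  let S : V →ₗ[ℂ] (IrrCharacter G → ℂ) :=
    { toFun := fun f ψ => if ψ ∈ A then classInner (f : G → ℂ) (ψ : G → ℂ) else 0
      map_add' := by
        intro f f'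
        funext ψ
        simp only [Submodule.coe_add, Pi.add_apply]
        split_ifs
        · rw [classInner_add_left]
        · simp
      map_smul' := by
        intro r f
        funext ψ
        simp only [Submodule.coe_smul, Pi.smul_apply, smul_eq_mul, RingHom.id_apply]
        split_ifs
        · rw [classInner_smul_left]
        · simp }
  have hTS : T ∘ₗ S = LinearMap.id := by
    apply LinearMap.ext
    intro f
    apply Subtype.ext
    obtain ⟨f, hf⟩ := f
    simp only [LinearMap.comp_apply, LinearMap.id_apply]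
    show ∑ ψ : IrrCharacter G, (if ψ ∈ A then (if ψ ∈ A then
      classInner f (ψ : G → ℂ) else 0) else 0) • pRegularPart p (ψ : G → ℂ) = f
    induction hf using Submodule.span_induction with
    | mem x hx =>
      obtain ⟨χ, hχ, rfl⟩ := hx
      show ∑ ψ : IrrCharacter G, (if ψ ∈ A then (if ψ ∈ A then
        classInner (pRegularPart p (χ : G → ℂ)) (ψ : G → ℂ) else 0) else 0) •
          pRegularPart p (ψ : G → ℂ) = pRegularPart p (χ : G → ℂ)
      conv_rhs => rw [hkey χ hχ]
      apply Finset.sum_congr rfl
      intro ψ _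
      split_ifs <;> rfl
    | zero =>
      simp [classInner_zero_left]
    | add x y _ _ hx hy =>
      conv_rhs => rw [← hx, ← hy]
      rw [← Finset.sum_add_distrib]
      apply Finset.sum_congr rfl
      intro ψ _
      split_ifs
      · rw [classInner_add_left, add_smul]
      · simp
    | smul r x _ hx =>
      conv_rhs => rw [← hx]
      rw [Finset.smul_sum]
      apply Finset.sum_congr rfl
      intro ψ _
      split_ifs
      · rw [classInner_smul_left, mul_smul]
      · simp
  have htr : LinearMap.trace ℂ V (T ∘ₗ S) = LinearMap.trace ℂ (IrrCharacter G → ℂ) (S ∘ₗ T) :=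
    (LinearMap.trace_comp_comm' T S).symm
  rw [hTS] at htr
  have h1 : LinearMap.trace ℂ V LinearMap.id = (Module.finrank ℂ V : ℂ) :=
    LinearMap.trace_id ℂ V
  rw [h1] at htr
  rw [htr, LinearMap.trace_eq_matrix_trace ℂ (Pi.basisFun ℂ (IrrCharacter G))]
  unfold Matrix.trace
  apply Finset.sum_congr rfl
  intro ψ _
  rw [Matrix.diag_apply, LinearMap.toMatrix_apply]
  simp only [Pi.basisFun_apply, Pi.basisFun_repr, LinearMap.comp_apply]
  show (if ψ ∈ A then classInner (∑ ψ' : IrrCharacter G, (if ψ' ∈ A then
      (Pi.single ψ (1 : ℂ) : IrrCharacter G → ℂ) ψ' else 0) • pRegularPart p (ψ' : G → ℂ))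
        (ψ : G → ℂ) else 0) = _
  by_cases hψ : ψ ∈ A
  · rw [if_pos hψ, if_pos hψ]
    congr 1
    rw [Finset.sum_eq_single ψ]
    · rw [if_pos hψ, Pi.single_eq_same, one_smul]
    · intro ψ' _ hne
      rw [Pi.single_eq_of_ne hne]
      simp
    · intro h
      exact absurd (Finset.mem_univ _) h
  · rw [if_neg hψ, if_neg hψ]

/-- The orthogonality hypothesis of `blockRank_eq_sum` holds for every set of irreducible
characters whose idempotent has local-integer coefficients. -/
theorem classInner_pRegularPart_eq_zero {M : Ideal AlgInt} (hM : IsPModular p M)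
    {A : Set (IrrCharacter G)} (hA : ∀ g : G, MemLocalRing M (blockCoeff A g))
    {χ ψ : IrrCharacter G} (hχ : χ ∈ A) (hψ : ψ ∉ A) :
    classInner (pRegularPart p (χ : G → ℂ)) (ψ : G → ℂ) = 0 := by
  classical
  have hR : ∀ g, MemLocalRing M
      (synth (fun χ : IrrCharacter G => if χ ∈ A then (1 : ℂ) else 0) g) := by
    intro g
    rw [← blockCoeff_eq_synth]
    exact hA g
  have h := sum_regular_mul_conj_eq_zero hM A hR hχ hψ
  unfold classInner
  have : ∀ x : G, pRegularPart p (χ : G → ℂ) x * conj ((ψ : G → ℂ) x) =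
      (if p ∣ orderOf x then 0 else (χ : G → ℂ) x * conj ((ψ : G → ℂ) x)) := by
    intro x
    rw [pRegularPart_apply]
    split_ifs
    · rw [zero_mul]
    · rfl
  rw [Finset.sum_congr rfl (fun x _ => this x), h, mul_zero]

/-- The `p`-regular rank of a block as the trace of its Gram matrix. -/
theorem blockRank_block {M : Ideal AlgInt} (hM : IsPModular p M)
    {B : Set (IrrCharacter G)} (hB : IsPBlock M B) [DecidablePred (· ∈ B)] :
    (blockRank p B : ℂ) = ∑ ψ : IrrCharacter G,
      (if ψ ∈ B then classInner (pRegularPart p (ψ : G → ℂ)) (ψ : G → ℂ) else 0) :=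
  blockRank_eq_sum p B (fun _ hχ _ hψ => classInner_pRegularPart_eq_zero p hM
    (fun g => memLocalRing_blockCoeff hM.2.1.isPrime hB g) hχ hψ)

end Rank

section Defect

variable {G : Type u} [Group G] [Finite G] (p : ℕ)

theorem blockRank_eq_finrank_range (B : Set (IrrCharacter G)) :
    blockRank p B = (Set.range (fun χ : B =>
      pRegularPart p (((χ : IrrCharacter G)) : G → ℂ))).finrank ℂ := by
  unfold blockRank Set.finrank
  rw [Set.image_eq_range]

theorem blockRank_le_card (B : Set (IrrCharacter G)) : blockRank p B ≤ Nat.card B := by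
  classical
  haveI : Finite (IrrCharacter G) := irr_finite'
  haveI : Fintype B := Fintype.ofFinite B
  rw [blockRank_eq_finrank_range, Nat.card_eq_fintype_card]
  exact finrank_range_le_card _

theorem pRegularPart_ne_zero (hp : p.Prime) (χ : IrrCharacter G) :
    pRegularPart p (χ : G → ℂ) ≠ 0 := by
  haveI : Fintype G := Fintype.ofFinite G
  intro h
  have h1 := congrFun h 1
  rw [pRegularPart_of_not_dvd, Pi.zero_apply] at h1
  · exact irr_one_ne_zero χ.2 h1
  · rw [orderOf_one]
    intro h2
    exact hp.one_lt.ne' (Nat.dvd_one.1 h2)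

theorem not_dvd_card_div_iff (hp : p.Prime) (χ : IrrCharacter G) :
    ¬ p ∣ Nat.card G / charDegree (χ : G → ℂ) ↔
      (Nat.card G).factorization p ≤ (charDegree (χ : G → ℂ)).factorization p := by
  haveI : Fintype G := Fintype.ofFinite G
  have hd : charDegree (χ : G → ℂ) ∣ Nat.card G := charDegree_dvd_card χ.2
  have hpos : Nat.card G / charDegree (χ : G → ℂ) ≠ 0 := by
    obtain ⟨c, hc⟩ := hd
    have hG : Nat.card G ≠ 0 := (Nat.card_pos (α := G)).ne'
    have hd0 : charDegree (χ : G → ℂ) ≠ 0 := by
      intro h0
      rw [h0, zero_mul] at hc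
      exact hG hc
    rw [hc, Nat.mul_div_cancel_left _ (Nat.pos_of_ne_zero hd0)]
    intro hc0
    rw [hc0, mul_zero] at hc
    exact hG hc
  rw [hp.dvd_iff_one_le_factorization hpos, Nat.factorization_div hd]
  simp only [Finsupp.coe_tsub, Pi.sub_apply]
  omega

theorem blockDefect_eq_zero_iff (hp : p.Prime) {B : Set (IrrCharacter G)} (hne : B.Nonempty) :
    blockDefect p B = 0 ↔ ∀ χ ∈ B, ¬ p ∣ Nat.card G / charDegree (χ : G → ℂ) := by
  unfold blockDefect
  set S : Set ℕ := (fun χ : IrrCharacter G => (charDegree (χ : G → ℂ)).factorization p) '' B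
    with hS
  have hSne : S.Nonempty := hne.image _
  rw [Nat.sub_eq_zero_iff_le]
  constructor
  · intro h χ hχ
    rw [not_dvd_card_div_iff p hp]
    exact h.trans (Nat.sInf_le ⟨χ, hχ, rfl⟩)
  · intro h
    obtain ⟨χ, hχ, hχe⟩ := Nat.sInf_mem hSne
    rw [← hχe]
    exact (not_dvd_card_div_iff p hp χ).1 (h χ hχ)

/-- If the `p`-regular parts of the members of a block are linearly independent, then all
members of the block vanish at the `p`-singular elements. -/
theorem vanish_of_linearIndependent {M : Ideal AlgInt} (hM : IsPModular p M)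
    {B : Set (IrrCharacter G)} (hB : IsPBlock M B)
    (hli : LinearIndependent ℂ (fun χ : B => pRegularPart p (((χ : IrrCharacter G)) : G → ℂ)))
    {χ : IrrCharacter G} (hχ : χ ∈ B) {y : G} (hy : p ∣ orderOf y) : (χ : G → ℂ) y = 0 := by
  classical
  haveI : Finite (IrrCharacter G) := irr_finite'
  haveI : Fintype B := Fintype.ofFinite B
  rw [Fintype.linearIndependent_iff] at hli
  have h0 : ∑ ψ : B, conj (((ψ : IrrCharacter G) : G → ℂ) y) •
      pRegularPart p (((ψ : IrrCharacter G)) : G → ℂ) = 0 := by
    funext x
    rw [Finset.sum_apply, Pi.zero_apply]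
    by_cases hx : p ∣ orderOf x
    · apply Finset.sum_eq_zero
      intro ψ _
      rw [Pi.smul_apply, pRegularPart_of_dvd p _ hx, smul_zero]
    · have h := weak_block_orthogonality hM hB hx hy
      rw [← finsum_set_coe_eq_finsum_mem, finsum_eq_sum_of_fintype] at h
      rw [← h]
      apply Finset.sum_congr rfl
      intro ψ _
      rw [Pi.smul_apply, pRegularPart_of_not_dvd p _ hx, smul_eq_mul, mul_comm]
  have := hli _ h0 ⟨χ, hχ⟩
  simpa using this

end Defect

end Cfsg.Agent.Helper23.Blk
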