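import Mathlib
import Cfsg.Agent.Lib.Helper23.BlockRank
import Cfsg.Agent.Lib.Helper18.GenChar

/-!
# Integrality of the inner products `[p^a χ°, ξ]` (helper23's shared library)
-/

set_option autoImplicit false
set_option linter.unusedSectionVars false

namespace Cfsg.Agent.Helper23.Blk

open Cfsg Cfsg.Agent.Helper24
open scoped ComplexConjugate

universe u

/-- If `A` is an algebraic integer with `A * b = N` for a natural `b ≠ 0` and an integer `N`,
then `b ∣ N`. -/
theorem int_dvd_of_isIntegral_mul_eq {A : ℂ} (hA : IsIntegral ℤ A) {b : ℕ} {N : ℤ} (hb : b ≠ 0)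
    (h : A * (b : ℂ) = (N : ℂ)) : (b : ℤ) ∣ N := by
  have hb0 : (b : ℚ) ≠ 0 := by exact_mod_cast hb
  have hbc : (b : ℂ) ≠ 0 := by exact_mod_cast hb
  have h2 : A = algebraMap ℚ ℂ ((N : ℚ) / (b : ℚ)) := by
    rw [eq_div_of_mul_eq hbc h]
    simp
  rw [h2, isIntegral_algebraMap_iff (algebraMap ℚ ℂ).injective] at hA
  obtain ⟨m, hm⟩ := IsIntegrallyClosed.isIntegral_iff.mp hA
  have h3 : (m : ℚ) * b = N := by
    have : (algebraMap ℤ ℚ m) = (m : ℚ) := rfl
    rw [this] at hm
    rw [hm]
    field_simp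
  refine ⟨m, ?_⟩
  have h4 : ((N : ℤ) : ℚ) = ((b * m : ℤ) : ℚ) := by
    push_cast
    rw [← h3]
    ring
  exact_mod_cast h4

section Omega

variable {G : Type u} [Group G] [Fintype G]

/-- The central character of an irreducible character takes algebraic-integer values on the
class functions with algebraic-integer values. -/
theorem isIntegral_omega {χ : G → ℂ} (hχ : IsIrrCharacter G χ) {a : G → ℂ}
    (ha : IsClassFunction G a) (hai : ∀ g, IsIntegral ℤ (a g)) : IsIntegral ℤ (omega χ a) := by
  classical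
  haveI : Fintype (ConjClasses G) := Fintype.ofFinite _
  rw [omega_eq_sum_classes (isClassFunction_of_isIrrCharacter hχ) ha]
  apply IsIntegral.sum
  intro K _
  exact (hai _).mul (isIntegral_centralChar hχ _)

/-- The inner product of `χ°` with `ξ` through the central character of `χ`. -/
theorem classInner_pRegularPart_eq_omega (p : ℕ) {χ : G → ℂ} (hχ : IsIrrCharacter G χ)
    (ξ : G → ℂ) :
    classInner (pRegularPart p χ) ξ =
      (Nat.card G : ℂ)⁻¹ * (χ 1 * omega χ (pRegularPart p (fun g => conj (ξ g)))) := by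
  classical
  unfold classInner omega
  rw [mul_div_cancel₀ _ (irr_one_ne_zero hχ)]
  congr 1
  apply Finset.sum_congr rfl
  intro x _
  rw [pRegularPart_apply, pRegularPart_apply]
  split_ifs
  · rw [zero_mul, zero_mul]
  · rw [mul_comm]

/-- `p ^ b ∣ [p ^ a χ°, ξ]` where `p ^ b` is the `p`-part of `χ 1`. -/
theorem pow_dvd_of_classInner_eq {p : ℕ} (hp : p.Prime) {χ ξ : G → ℂ} (hχ : IsIrrCharacter G χ)
    (hξ : IsIrrCharacter G ξ) {n : ℤ}
    (hn : classInner (((p ^ (Nat.card G).factorization p : ℕ) : ℂ) • pRegularPart p χ) ξ = n) :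
    ((p ^ (charDegree χ).factorization p : ℕ) : ℤ) ∣ n := by
  classical
  set a := (Nat.card G).factorization p with ha
  set b := (charDegree χ).factorization p with hb
  have hG0 : Nat.card G ≠ 0 := (Nat.card_pos (α := G)).ne'
  have hd0 : charDegree χ ≠ 0 := by
    intro h0
    have := irr_one_ne_zero hχ
    rw [irr_one_eq_charDegree hχ, h0] at this
    exact this (by simp)
  -- decompositions
  obtain ⟨m, hm⟩ : p ^ a ∣ Nat.card G := Nat.ordProj_dvd _ _
  obtain ⟨c, hc⟩ : p ^ b ∣ charDegree χ := Nat.ordProj_dvd _ _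
  have hpm : ¬ p ∣ m := by
    intro h
    obtain ⟨m', rfl⟩ := h
    have h1 : p ^ (a + 1) ∣ Nat.card G := by
      rw [hm, pow_succ]
      exact ⟨m', by ring⟩
    have := (hp.pow_dvd_iff_le_factorization hG0).1 h1
    omega
  have hm0 : m ≠ 0 := by
    intro h
    rw [h, mul_zero] at hm
    exact hG0 hm
  -- the algebraic integer
  have hcf : IsClassFunction G (pRegularPart p (fun g => conj (ξ g))) := by
    apply isClassFunction_pRegularPart
    intro g h
    simp only
    rw [isClassFunction_of_isIrrCharacter hξ g h]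
  have hint : ∀ g, IsIntegral ℤ (pRegularPart p (fun g => conj (ξ g)) g) := by
    intro g
    rw [pRegularPart_apply]
    split_ifs
    · exact isIntegral_zero
    · have h1 := isIntegral_of_isCharacter (isCharacter_of_isIrrCharacter hξ) g⁻¹
      rwa [irr_inv (isCharacter_of_isIrrCharacter hξ)] at h1
  have hα := isIntegral_omega hχ hcf hint
  set α := omega χ (pRegularPart p (fun g => conj (ξ g))) with hαdef
  rw [classInner_smul_left, classInner_pRegularPart_eq_omega p hχ ξ,
    irr_one_eq_charDegree hχ, hc, hm] at hn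
  have hpa0 : ((p : ℂ) ^ a) ≠ 0 := pow_ne_zero _ (by exact_mod_cast hp.ne_zero)
  have hmc : (m : ℂ) ≠ 0 := by exact_mod_cast hm0
  have key : ((c : ℂ) * α) * ((p ^ b : ℕ) : ℂ) = ((n * m : ℤ) : ℂ) := by
    push_cast
    rw [← hn]
    push_cast
    field_simp
    rw [hαdef]
    ring
  have hdvd : ((p ^ b : ℕ) : ℤ) ∣ n * m :=
    int_dvd_of_isIntegral_mul_eq ((isIntegral_algebraMap (R := ℤ) (A := ℂ) (x := (c : ℤ))).mul hα
      |> fun h => by simpa using h) (pow_ne_zero _ hp.ne_zero) key
  have hcop : IsCoprime ((p ^ b : ℕ) : ℤ) (m : ℤ) := by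
    rw [Nat.isCoprime_iff_coprime]
    exact Nat.Coprime.pow_left _ ((Nat.Prime.coprime_iff_not_dvd hp).2 hpm)
  exact hcop.dvd_of_dvd_mul_right hdvd

end Omega

end Cfsg.Agent.Helper23.Blk
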