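import Mathlib
import Cfsg.Agent.Lib.Helper23.BlockGenChar
import Cfsg.Agent.S4425

/-!
# `p ^ d χ°` is an integer combination of the block (helper23's shared library)
-/

set_option autoImplicit false
set_option linter.unusedSectionVars false

namespace Cfsg.Agent.Helper23.Blk

open Cfsg Cfsg.Agent.Helper24
open scoped ComplexConjugate

universe u

section

variable {G : Type u} [Group G] [Fintype G] [Fintype (IrrCharacter G)]

theorem ite_eq_smul_pRegularPart (p : ℕ) (c : ℂ) (χ : G → ℂ) :
    (fun x : G => if p ∣ orderOf x then (0 : ℂ) else c * χ x) = c • pRegularPart p χ := by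
  classical
  funext x
  rw [Pi.smul_apply, pRegularPart_apply, smul_eq_mul]
  by_cases hx : p ∣ orderOf x
  · simp only [if_pos hx, mul_zero]
  · simp only [if_neg hx]

/-- `p ^ k χ°` is a generalized character as soon as `k ≥ a - b`, with `p ^ a` the `p`-part of
the group order and `p ^ b` the `p`-part of the degree. -/
theorem isGenChar_pow_smul_pRegularPart (p : ℕ) [Fact p.Prime] (χ : IrrCharacter G) {k : ℕ}
    (hk : (Nat.card G).factorization p - (charDegree (χ : G → ℂ)).factorization p ≤ k) :
    IsGeneralizedCharacter G (((p : ℂ) ^ k) • pRegularPart p (χ : G → ℂ)) := by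
  have h1 := (Cfsg.Agent.S4425.result p χ).1
  rw [ite_eq_smul_pRegularPart] at h1
  have h2 := Cfsg.Agent.Helper18.isGenChar_natCast_smul
    (p ^ (k - ((Nat.card G).factorization p - (charDegree (χ : G → ℂ)).factorization p))) h1
  convert h2 using 1
  rw [smul_smul]
  congr 1
  push_cast
  rw [← pow_add, Nat.sub_add_cancel hk]

/-- In a block of defect `d`, `p ^ d χ°` is an integer combination of the members of the block. -/
theorem exists_int_coeffs_block {p : ℕ} [Fact p.Prime] {M : Ideal AlgInt} (hM : IsPModular p M)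
    {B : Set (IrrCharacter G)} (hB : IsPBlock M B) {χ : IrrCharacter G} (hχ : χ ∈ B) :
    ∃ c : IrrCharacter G → ℤ, (∀ ξ, ξ ∉ B → c ξ = 0) ∧
      ((p : ℂ) ^ blockDefect p B) • pRegularPart p (χ : G → ℂ) =
        ∑ ξ : IrrCharacter G, (c ξ : ℂ) • (ξ : G → ℂ) := by
  classical
  have hk : (Nat.card G).factorization p - (charDegree (χ : G → ℂ)).factorization p ≤
      blockDefect p B := by
    unfold blockDefect
    apply Nat.sub_le_sub_left
    exact Nat.sInf_le ⟨χ, hχ, rfl⟩
  have hgc := isGenChar_pow_smul_pRegularPart p χ hk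
  choose c hc using Cfsg.Agent.Helper8.genChar_inner_int hgc
  refine ⟨c, ?_, ?_⟩
  · intro ξ hξ
    have h1 : classInner (((p : ℂ) ^ blockDefect p B) • pRegularPart p (χ : G → ℂ))
        (ξ : G → ℂ) = 0 := by
      rw [classInner_smul_left, classInner_pRegularPart_eq_zero p hM
        (fun g => memLocalRing_blockCoeff hM.2.1.isPrime hB g) hχ hξ, mul_zero]
    rw [hc ξ] at h1
    exact_mod_cast h1
  · have hexp := classFunction_expansion
      (Cfsg.Agent.Helper8.isClassFunction_of_isGeneralizedCharacter hgc)
    simp only [hc] at hexp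
    exact hexp

end

end Cfsg.Agent.Helper23.Blk
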