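import Mathlib
import Cfsg.Agent.Lib.Helper23.BlockSecondMain4
import Cfsg.Agent.Lib.Helper23.BlockGenChar2
import Cfsg.Agent.Lib.Helper23.BlockCongr

/-!
# Characters of height zero (helper23's shared library)

The inner products `[χ̃, ξ]` of the `p`-regular truncation `χ̃ = p^a χ°` with the members of the
block of `χ`, and Brauer's criterion for height zero.
-/

set_option autoImplicit false
set_option linter.unusedSectionVars false

namespace Cfsg.Agent.Helper23.Blk

open Cfsg Cfsg.Agent.Helper24 Cfsg.Agent.Helper18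
open scoped ComplexConjugate

universe u

section Arith2

variable {M : Ideal AlgInt} {p : ℕ}

theorem memLocalIdeal_intCast_iff (hM : IsPModular p M) (n : ℤ) :
    MemLocalIdeal M (n : ℂ) ↔ (p : ℤ) ∣ n := by
  haveI hMp : M.IsPrime := hM.2.1.isPrime
  obtain ⟨k, rfl | rfl⟩ := Int.eq_nat_or_neg n
  · rw [Int.cast_natCast, memLocalIdeal_natCast_iff hM, Int.natCast_dvd_natCast]
  · rw [Int.cast_neg, Int.cast_natCast, dvd_neg, Int.natCast_dvd_natCast,
      ← memLocalIdeal_natCast_iff hM]
    constructor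
    · intro h
      have := memLocalIdeal_neg h
      rwa [neg_neg] at this
    · intro h
      exact memLocalIdeal_neg h

/-- for an integer `n` divisible by the `p`-part of `d`, the quotient `n / d` is a unit of the
local ring exactly when `n ≠ 0` has the same `p`-adic valuation as `d` -/
theorem not_memLocalIdeal_intCast_div_iff (hM : IsPModular p M) [Fact p.Prime] {n : ℤ} {d : ℕ}
    (hd : d ≠ 0) (hdvd : ((p ^ d.factorization p : ℕ) : ℤ) ∣ n) :
    ¬ MemLocalIdeal M ((n : ℂ) / (d : ℂ)) ↔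
      (n ≠ 0 ∧ padicValInt p n = d.factorization p) := by
  haveI hMp : M.IsPrime := hM.2.1.isPrime
  have hp : p.Prime := hM.1
  set k := d.factorization p with hk
  obtain ⟨n', hn'⟩ := hdvd
  obtain ⟨d', hd'⟩ : p ^ k ∣ d := Nat.ordProj_dvd _ _
  have hpd' : ¬ p ∣ d' := by
    intro hc
    obtain ⟨d'', hd''⟩ := hc
    have h1 : p ^ (k + 1) ∣ d := by
      rw [pow_succ]
      exact ⟨d'', by rw [mul_assoc, ← hd'', ← hd']⟩
    have := (hp.pow_dvd_iff_le_factorization hd).1 h1
    omega
  have hd'0 : (d' : ℂ) ≠ 0 := by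
    have : d' ≠ 0 := by
      rintro rfl
      exact hpd' (dvd_zero _)
    exact_mod_cast this
  have hpc : (p : ℂ) ≠ 0 := by exact_mod_cast hp.ne_zero
  have heq : (n : ℂ) / (d : ℂ) = (n' : ℂ) * (d' : ℂ)⁻¹ := by
    rw [hn']
    conv_lhs => rw [hd']
    push_cast
    field_simp
  have hd'inv : MemLocalRing M ((d' : ℂ)⁻¹) := by
    apply memLocalRing_inv (memLocalRing_natCast d')
    rw [memLocalIdeal_natCast_iff hM]
    exact hpd'
  have hiff : MemLocalIdeal M ((n : ℂ) / (d : ℂ)) ↔ (p : ℤ) ∣ n' := by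
    rw [heq, ← memLocalIdeal_intCast_iff hM]
    constructor
    · intro h
      have := memLocalIdeal_mul_right h (memLocalRing_natCast (M := M) d')
      rwa [mul_assoc, inv_mul_cancel₀ hd'0, mul_one] at this
    · intro h
      exact memLocalIdeal_mul_right h hd'inv
  rw [hiff]
  have hpk0 : ((p ^ k : ℕ) : ℤ) ≠ 0 := by
    have : p ^ k ≠ 0 := pow_ne_zero _ hp.ne_zero
    exact_mod_cast this
  constructor
  · intro hpn'
    have hn'0 : n' ≠ 0 := by
      rintro rfl
      exact hpn' (dvd_zero _)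
    refine ⟨?_, ?_⟩
    · rw [hn']
      exact mul_ne_zero hpk0 hn'0
    · rw [hn', padicValInt.mul hpk0 hn'0]
      have h1 : padicValInt p ((p ^ k : ℕ) : ℤ) = k := by
        rw [padicValInt.of_nat, padicValNat.prime_pow]
      have h2 : padicValInt p n' = 0 := padicValInt.eq_zero_of_not_dvd hpn'
      rw [h1, h2, add_zero]
  · rintro ⟨hn0, hv⟩ hpn'
    obtain ⟨n'', hn''⟩ := hpn'
    have h1 : ((p : ℤ) ^ (k + 1)) ∣ n := by
      rw [hn', hn'', pow_succ]
      push_cast
      exact ⟨n'', by ring⟩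
    have h2 := (padicValInt_dvd_iff (p := p) (k + 1) n).1 h1
    rcases h2 with h2 | h2
    · exact hn0 h2
    · omega

end Arith2

section Tilde

variable {G : Type u} [Group G] [Fintype G] {M : Ideal AlgInt} {p : ℕ}

/-- the `p`-regular truncation of the complex conjugate of `χ` -/
noncomputable def conjReg (p : ℕ) (χ : G → ℂ) : G → ℂ := pRegularPart p (fun g => conj (χ g))

theorem isClassFunction_conjReg {χ : G → ℂ} (hχ : IsClassFunction G χ) :
    IsClassFunction G (conjReg p χ) := by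
  apply isClassFunction_pRegularPart
  intro g h
  simp only
  rw [hχ g h]

theorem isIntegral_conjReg {χ : G → ℂ} (hχ : IsCharacter G χ) (g : G) :
    IsIntegral ℤ (conjReg p χ g) := by
  classical
  unfold conjReg
  rw [pRegularPart_apply]
  split_ifs
  · exact isIntegral_zero
  · have h1 := isIntegral_of_isCharacter hχ g⁻¹
    rwa [irr_inv hχ] at h1

theorem memLocalRing_conjReg [hMp : M.IsPrime] {χ : G → ℂ} (hχ : IsCharacter G χ) (g : G) :
    MemLocalRing M (conjReg p χ g) :=
  memLocalRing_of_isIntegral (isIntegral_conjReg hχ g) hMp.ne_top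

/-- the inner product of `χ°` with `ξ`, through the central character of `ξ` -/
theorem classInner_pRegularPart_eq_omega' {χ ξ : G → ℂ} (hχ : IsCharacter G χ)
    (hξ : IsIrrCharacter G ξ) :
    classInner (pRegularPart p χ) ξ =
      (Nat.card G : ℂ)⁻¹ * (ξ 1 * omega ξ (conjReg p χ)) := by
  classical
  unfold classInner omega
  rw [mul_div_cancel₀ _ (irr_one_ne_zero hξ)]
  congr 1
  rw [← Equiv.sum_comp (Equiv.inv G)]
  apply Finset.sum_congr rfl
  intro g _
  unfold conjReg
  rw [Equiv.inv_apply, pRegularPart_apply, pRegularPart_apply, orderOf_inv,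
    irr_inv (isCharacter_of_isIrrCharacter hξ), Complex.conj_conj, irr_inv hχ]

/-- symmetry of the truncated inner products -/
theorem classInner_pRegularPart_symm (χ ξ : G → ℂ) :
    classInner (pRegularPart p ξ) χ = conj (classInner (pRegularPart p χ) ξ) := by
  classical
  unfold classInner
  rw [map_mul, map_inv₀, Complex.conj_natCast, map_sum]
  congr 1
  apply Finset.sum_congr rfl
  intro g _
  rw [pRegularPart_apply, pRegularPart_apply, map_mul, Complex.conj_conj]
  split_ifs
  · rw [zero_mul, map_zero, zero_mul]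
  · rw [mul_comm]

/-- the integers `[χ̃, μ]` and their basic properties -/
theorem exists_int_tilde [Fact p.Prime] [Fintype (IrrCharacter G)] (χ μ : IrrCharacter G) :
    ∃ n : ℤ, classInner (((p ^ (Nat.card G).factorization p : ℕ) : ℂ) •
        pRegularPart p (χ : G → ℂ)) (μ : G → ℂ) = n ∧
      ((p ^ (charDegree (χ : G → ℂ)).factorization p : ℕ) : ℤ) ∣ n ∧
      ((p ^ (charDegree (μ : G → ℂ)).factorization p : ℕ) : ℤ) ∣ n ∧
      (n : ℂ) / (μ : G → ℂ) 1 = ((p ^ (Nat.card G).factorization p : ℕ) : ℂ) / (Nat.card G : ℂ) *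
        omega (μ : G → ℂ) (conjReg p (χ : G → ℂ)) := by
  classical
  have hp : p.Prime := Fact.out
  have hgc : IsGeneralizedCharacter G (((p ^ (Nat.card G).factorization p : ℕ) : ℂ) •
      pRegularPart p (χ : G → ℂ)) := by
    rw [← ite_eq_smul_pRegularPart]
    exact Cfsg.Agent.S0961.result p χ
  obtain ⟨n, hn⟩ := Cfsg.Agent.Helper8.genChar_inner_int hgc μ
  refine ⟨n, hn, pow_dvd_of_classInner_eq hp χ.2 μ.2 hn, ?_, ?_⟩
  · apply pow_dvd_of_classInner_eq hp μ.2 χ.2
    rw [classInner_smul_left, classInner_pRegularPart_symm]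
    rw [classInner_smul_left] at hn
    have h1 := congrArg conj hn
    rw [map_mul, Complex.conj_natCast, map_intCast] at h1
    exact h1
  · rw [← hn, classInner_smul_left,
      classInner_pRegularPart_eq_omega' (isCharacter_of_isIrrCharacter χ.2) μ.2]
    have h1 := irr_one_ne_zero μ.2
    field_simp

end Tilde

section Height

variable {G : Type u} [Group G] [Fintype G] {M : Ideal AlgInt} {p : ℕ}

theorem blockHeight_eq_zero_iff {B : Set (IrrCharacter G)} {χ : IrrCharacter G} (hχ : χ ∈ B) :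
    blockHeight p B (χ : G → ℂ) = 0 ↔
      ∀ ψ ∈ B, (charDegree (χ : G → ℂ)).factorization p ≤
        (charDegree (ψ : G → ℂ)).factorization p := by
  unfold blockHeight
  rw [Nat.sub_eq_zero_iff_le]
  constructor
  · intro h ψ hψ
    exact h.trans (Nat.sInf_le ⟨ψ, hψ, rfl⟩)
  · intro h
    have hne : ((fun ψ : IrrCharacter G => (charDegree (ψ : G → ℂ)).factorization p) '' B).Nonempty :=
      ⟨_, χ, hχ, rfl⟩
    obtain ⟨ψ, hψ, hψe⟩ := Nat.sInf_mem hne
    rw [← hψe]
    exact h ψ hψ

theorem exists_min_degree {B : Set (IrrCharacter G)} (hne : B.Nonempty) :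
    ∃ ξ₀ ∈ B, ∀ ψ ∈ B, (charDegree (ξ₀ : G → ℂ)).factorization p ≤
      (charDegree (ψ : G → ℂ)).factorization p := by
  obtain ⟨χ, hχ⟩ := hne
  have hne' : ((fun ψ : IrrCharacter G => (charDegree (ψ : G → ℂ)).factorization p) '' B).Nonempty :=
    ⟨_, χ, hχ, rfl⟩
  obtain ⟨ξ₀, hξ₀, hξ₀e⟩ := Nat.sInf_mem hne'
  refine ⟨ξ₀, hξ₀, fun ψ hψ => ?_⟩
  show (fun ψ : IrrCharacter G => (charDegree (ψ : G → ℂ)).factorization p) ξ₀ ≤ _
  rw [hξ₀e]
  exact Nat.sInf_le ⟨ψ, hψ, rfl⟩

theorem sameBlock_of_mem [hMp : M.IsPrime] {B : Set (IrrCharacter G)} (hB : IsPBlock M B)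
    {μ μ' : IrrCharacter G} (hμ : μ ∈ B) (hμ' : μ' ∈ B) :
    SameBlock M (μ : G → ℂ) (μ' : G → ℂ) := by
  obtain ⟨χ₀, rfl⟩ := hB
  exact sameBlock_trans (sameBlock_symm hμ) hμ'

/-- the unit `|G|_{p'}⁻¹` of the local ring -/
theorem unit_card_part (hM : IsPModular p M) :
    MemLocalRing M (((p ^ (Nat.card G).factorization p : ℕ) : ℂ) / (Nat.card G : ℂ)) ∧
    ¬ MemLocalIdeal M (((p ^ (Nat.card G).factorization p : ℕ) : ℂ) / (Nat.card G : ℂ)) := by
  have hp : p.Prime := hM.1
  have hG0 : Nat.card G ≠ 0 := (Nat.card_pos (α := G)).ne'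
  have hpa0 : p ^ (Nat.card G).factorization p ≠ 0 := pow_ne_zero _ hp.ne_zero
  have hfac : (p ^ (Nat.card G).factorization p).factorization p = (Nat.card G).factorization p := by
    rw [hp.factorization_pow]
    simp
  have := memLocalRing_natCast_div hM hpa0 hG0 (le_of_eq hfac.symm)
  exact ⟨this.1, this.2 hfac.symm⟩

/-- the quantity `ω_μ((conj χ)°)` decides whether `[χ̃, μ] / μ(1)` is a unit -/
theorem heightUnit_iff (hM : IsPModular p M) [Fact p.Prime] [Fintype (IrrCharacter G)]
    (χ μ : IrrCharacter G) {n : ℤ}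
    (hn : (n : ℂ) / (μ : G → ℂ) 1 = ((p ^ (Nat.card G).factorization p : ℕ) : ℂ) /
      (Nat.card G : ℂ) * omega (μ : G → ℂ) (conjReg p (χ : G → ℂ))) :
    MemLocalIdeal M ((n : ℂ) / (μ : G → ℂ) 1) ↔
      MemLocalIdeal M (omega (μ : G → ℂ) (conjReg p (χ : G → ℂ))) := by
  haveI hMp : M.IsPrime := hM.2.1.isPrime
  obtain ⟨hu1, hu2⟩ := unit_card_part (G := G) hM
  have hωR : MemLocalRing M (omega (μ : G → ℂ) (conjReg p (χ : G → ℂ))) :=
    memLocalRing_omega μ (isClassFunction_conjReg (isClassFunction_of_isIrrCharacter χ.2))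
      (memLocalRing_conjReg (isCharacter_of_isIrrCharacter χ.2))
  rw [hn]
  constructor
  · intro h
    rcases memLocalIdeal_or_of_mul hu1 hωR h with h1 | h1
    · exact absurd h1 hu2
    · exact h1
  · intro h
    exact memLocalIdeal_mul_left hu1 h

/-- **Height zero gives a unit inner product**: if `χ ∈ B` has height zero, then for some
`ξ ∈ B` the number `ω_ξ((conj χ)°)` is a unit. -/
theorem exists_heightUnit_of_height_zero (hM : IsPModular p M) [Fact p.Prime]
    {B : Set (IrrCharacter G)} (hB : IsPBlock M B) {χ : IrrCharacter G} (hχ : χ ∈ B)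
    (h0 : blockHeight p B (χ : G → ℂ) = 0) :
    ∃ ξ ∈ B, ¬ MemLocalIdeal M (omega (ξ : G → ℂ) (conjReg p (χ : G → ℂ))) := by
  classical
  haveI hMp : M.IsPrime := hM.2.1.isPrime
  letI : Fintype (IrrCharacter G) := irrFintype
  have hp : p.Prime := hM.1
  by_contra hcon
  push Not at hcon
  have hmin := (blockHeight_eq_zero_iff hχ).1 h0
  set a := (Nat.card G).factorization p with ha
  set b := (charDegree (χ : G → ℂ)).factorization p with hb
  apply (Cfsg.Agent.S4425.result p χ).2
  rw [ite_eq_smul_pRegularPart]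
  apply isGenChar_of_int_inner
  · intro g h
    rw [Pi.smul_apply, Pi.smul_apply,
      isClassFunction_pRegularPart p (isClassFunction_of_isIrrCharacter χ.2) g h]
  · intro μ
    obtain ⟨n, hn, hdχ, hdμ, hform⟩ := exists_int_tilde (p := p) χ μ
    have hpb0 : ((p ^ (b + 1) : ℕ) : ℂ) ≠ 0 := by
      have : p ^ (b + 1) ≠ 0 := pow_ne_zero _ hp.ne_zero
      exact_mod_cast this
    suffices hdvd : ((p ^ (b + 1) : ℕ) : ℤ) ∣ n by
      obtain ⟨z, hz⟩ := hdvd
      refine ⟨z, ?_⟩
      rw [classInner_smul_left]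
      rw [classInner_smul_left] at hn
      rw [div_mul_eq_mul_div, hn, hz]
      push_cast
      push_cast at hpb0
      rw [← hb, mul_div_assoc, mul_comm, div_mul_cancel₀ _ hpb0]
    by_cases hμ : μ ∈ B
    · have hJ := (heightUnit_iff hM χ μ hform).2 (hcon μ hμ)
      have hd0 : charDegree (μ : G → ℂ) ≠ 0 := by
        intro h0'
        have := irr_one_ne_zero μ.2
        rw [irr_one_eq_charDegree μ.2, h0'] at this
        exact this (by simp)
      rw [irr_one_eq_charDegree μ.2] at hJ
      have h1 := (not_memLocalIdeal_intCast_div_iff hM hd0 hdμ).not.1 (not_not.2 hJ)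
      push Not at h1
      by_cases hn0 : n = 0
      · rw [hn0]
        exact dvd_zero _
      · have h2 := h1 hn0
        have h3 : (charDegree (μ : G → ℂ)).factorization p ≤ padicValInt p n := by
          have := (padicValInt_dvd_iff (p := p) _ n).1 (by
            have := hdμ
            push_cast at this ⊢
            exact this)
          rcases this with h | h
          · exact absurd h hn0
          · exact h
        have h4 : b ≤ (charDegree (μ : G → ℂ)).factorization p := hmin μ hμ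
        have h5 : b + 1 ≤ padicValInt p n := by omega
        have := (padicValInt_dvd_iff (p := p) (b + 1) n).2 (Or.inr h5)
        push_cast
        exact this
    · have h1 : classInner (pRegularPart p (χ : G → ℂ)) (μ : G → ℂ) = 0 :=
        classInner_pRegularPart_eq_zero p hM
          (fun g => memLocalRing_blockCoeff hMp hB g) hχ hμ
      rw [classInner_smul_left, h1, mul_zero] at hn
      have : n = 0 := by exact_mod_cast hn.symm
      rw [this]
      exact dvd_zero _

/-- **A unit inner product gives height zero.** -/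
theorem height_zero_of_heightUnit (hM : IsPModular p M) [Fact p.Prime]
    {B : Set (IrrCharacter G)} (hB : IsPBlock M B) {χ : IrrCharacter G} (hχ : χ ∈ B)
    {ξ : IrrCharacter G} (hξ : ξ ∈ B)
    (hu : ¬ MemLocalIdeal M (omega (ξ : G → ℂ) (conjReg p (χ : G → ℂ)))) :
    blockHeight p B (χ : G → ℂ) = 0 := by
  classical
  haveI hMp : M.IsPrime := hM.2.1.isPrime
  letI : Fintype (IrrCharacter G) := irrFintype
  have hp : p.Prime := hM.1
  rw [blockHeight_eq_zero_iff hχ]
  obtain ⟨ξ₀, hξ₀, hmin⟩ := exists_min_degree (p := p) ⟨χ, hχ⟩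
  -- transfer the unit to `ξ₀`
  have hcf := isClassFunction_conjReg (p := p) (isClassFunction_of_isIrrCharacter χ.2)
  have hR : ∀ g, MemLocalRing M (conjReg p (χ : G → ℂ) g) :=
    memLocalRing_conjReg (isCharacter_of_isIrrCharacter χ.2)
  have hu₀ : ¬ MemLocalIdeal M (omega (ξ₀ : G → ℂ) (conjReg p (χ : G → ℂ))) :=
    not_memLocalIdeal_of_cong
      (memLocalIdeal_omega_sub (sameBlock_of_mem hB hξ₀ hξ) hcf hR) hu
  obtain ⟨n, hn, hdχ, hdξ₀, hform⟩ := exists_int_tilde (p := p) χ ξ₀
  have hJ : ¬ MemLocalIdeal M ((n : ℂ) / (ξ₀ : G → ℂ) 1) :=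
    fun h => hu₀ ((heightUnit_iff hM χ ξ₀ hform).1 h)
  have hd0 : charDegree (ξ₀ : G → ℂ) ≠ 0 := by
    intro h0'
    have := irr_one_ne_zero ξ₀.2
    rw [irr_one_eq_charDegree ξ₀.2, h0'] at this
    exact this (by simp)
  rw [irr_one_eq_charDegree ξ₀.2] at hJ
  obtain ⟨hn0, hv⟩ := (not_memLocalIdeal_intCast_div_iff hM hd0 hdξ₀).1 hJ
  have h3 : (charDegree (χ : G → ℂ)).factorization p ≤ padicValInt p n := by
    have := (padicValInt_dvd_iff (p := p) _ n).1 (by
      have := hdχ
      push_cast at this ⊢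
      exact this)
    rcases this with h | h
    · exact absurd h hn0
    · exact h
  intro ψ hψ
  have := hmin ψ hψ
  omega

/-- the arithmetic condition on `[χ̃, ξ]` in terms of the unit quantity -/
theorem tilde_cond_iff (hM : IsPModular p M) [Fact p.Prime] (χ ξ : IrrCharacter G) :
    (∃ n : ℤ, classInner (fun x : G => if p ∣ orderOf x then (0 : ℂ) else
        ((p ^ (Nat.card G).factorization p : ℕ) : ℂ) * (χ : G → ℂ) x) (ξ : G → ℂ) = (n : ℂ) ∧
      n ≠ 0 ∧ padicValInt p n = (charDegree (ξ : G → ℂ)).factorization p) ↔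
    ¬ MemLocalIdeal M (omega (ξ : G → ℂ) (conjReg p (χ : G → ℂ))) := by
  classical
  letI : Fintype (IrrCharacter G) := irrFintype
  rw [ite_eq_smul_pRegularPart]
  obtain ⟨n₀, hn₀, -, hdξ, hform⟩ := exists_int_tilde (p := p) χ ξ
  have hd0 : charDegree (ξ : G → ℂ) ≠ 0 := by
    intro h0'
    have := irr_one_ne_zero ξ.2
    rw [irr_one_eq_charDegree ξ.2, h0'] at this
    exact this (by simp)
  have hiff := heightUnit_iff hM χ ξ hform
  rw [irr_one_eq_charDegree ξ.2] at hiff
  rw [← hiff.not, not_memLocalIdeal_intCast_div_iff hM hd0 hdξ]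
  constructor
  · rintro ⟨n, hn, hn0, hv⟩
    have : n = n₀ := by
      have h1 : (n : ℂ) = (n₀ : ℂ) := by rw [← hn, ← hn₀]
      exact_mod_cast h1
    rw [← this]
    exact ⟨hn0, hv⟩
  · rintro ⟨hn0, hv⟩
    exact ⟨n₀, hn₀, hn0, hv⟩

/-- **Brauer's height zero criterion** -/
theorem height_zero_criterion (hM : IsPModular p M) [Fact p.Prime]
    {B : Set (IrrCharacter G)} (hB : IsPBlock M B) {χ : IrrCharacter G} (hχ : χ ∈ B) :
    (blockHeight p B (χ : G → ℂ) = 0 ↔
      ∃ ξ ∈ B, ¬ MemLocalIdeal M (omega (ξ : G → ℂ) (conjReg p (χ : G → ℂ)))) ∧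
    (blockHeight p B (χ : G → ℂ) = 0 ↔
      ∀ ξ ∈ B, ¬ MemLocalIdeal M (omega (ξ : G → ℂ) (conjReg p (χ : G → ℂ)))) := by
  haveI hMp : M.IsPrime := hM.2.1.isPrime
  have hcf := isClassFunction_conjReg (p := p) (isClassFunction_of_isIrrCharacter χ.2)
  have hR : ∀ g, MemLocalRing M (conjReg p (χ : G → ℂ) g) :=
    memLocalRing_conjReg (isCharacter_of_isIrrCharacter χ.2)
  constructor
  · constructor
    · exact exists_heightUnit_of_height_zero hM hB hχ
    · rintro ⟨ξ, hξ, hu⟩
      exact height_zero_of_heightUnit hM hB hχ hξ hu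
  · constructor
    · intro h0 ξ hξ
      obtain ⟨ξ₁, hξ₁, hu⟩ := exists_heightUnit_of_height_zero hM hB hχ h0
      exact not_memLocalIdeal_of_cong
        (memLocalIdeal_omega_sub (sameBlock_of_mem hB hξ hξ₁) hcf hR) hu
    · intro h
      exact height_zero_of_heightUnit hM hB hχ hχ (h χ hχ)

end Height

end Cfsg.Agent.Helper23.Blk
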