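import Mathlib
import Cfsg.Agent.Lib.Helper23.BlockHeightZero

/-!
# Characters of height zero and induced blocks (helper23's shared library)
-/

set_option autoImplicit false
set_option linter.unusedSectionVars false

namespace Cfsg.Agent.Helper23.Blk

open Cfsg Cfsg.Agent.Helper24 Cfsg.Agent.Helper18
open scoped ComplexConjugate

universe u

section InvReg

variable {G : Type u} [Group G] [Fintype G] {M : Ideal AlgInt} {p : ℕ}

/-- the `p`-regular truncation of `g ↦ F g⁻¹` -/
noncomputable def invReg (p : ℕ) (F : G → ℂ) : G → ℂ := pRegularPart p (fun g => F g⁻¹)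

theorem invReg_apply (F : G → ℂ) (g : G) [Decidable (p ∣ orderOf g)] :
    invReg p F g = if p ∣ orderOf g then 0 else F g⁻¹ := by
  unfold invReg
  rw [pRegularPart_apply]

theorem isClassFunction_invReg {F : G → ℂ} (hF : IsClassFunction G F) :
    IsClassFunction G (invReg p F) := by
  apply isClassFunction_pRegularPart
  intro g h
  simp only
  have e : (h * g * h⁻¹)⁻¹ = h * g⁻¹ * h⁻¹ := by group
  rw [e, hF]

theorem invReg_eq_conjReg {χ : G → ℂ} (hχ : IsCharacter G χ) : invReg p χ = conjReg p χ := by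
  unfold invReg conjReg
  congr 1
  funext g
  exact irr_inv hχ g

/-- pairing of a `p`-regular truncation with an irreducible character -/
theorem sum_pRegularPart_mul_conj (F : G → ℂ) {ξ : G → ℂ} (hξ : IsIrrCharacter G ξ) :
    ∑ g : G, pRegularPart p F g * conj (ξ g) = ξ 1 * omega ξ (invReg p F) := by
  classical
  unfold omega
  rw [mul_div_cancel₀ _ (irr_one_ne_zero hξ), ← Equiv.sum_comp (Equiv.inv G)]
  apply Finset.sum_congr rfl
  intro g _
  rw [Equiv.inv_apply, pRegularPart_apply, invReg_apply, orderOf_inv,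
    irr_inv (isCharacter_of_isIrrCharacter hξ), Complex.conj_conj]

end InvReg

section Restrict

variable {G : Type u} [Group G] [Fintype G] {M : Ideal AlgInt} {p : ℕ}

theorem invReg_restrict (H : Subgroup G) [Fintype H] {χ : G → ℂ} (hχ : IsCharacter G χ) :
    invReg p (fun h : H => χ (h : G)) = fun h : H => conjReg p χ (h : G) := by
  classical
  funext h
  unfold conjReg
  rw [invReg_apply, pRegularPart_apply, Subgroup.orderOf_coe]
  have e : χ (((h⁻¹ : H)) : G) = conj (χ (h : G)) := by
    push_cast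
    exact irr_inv hχ _
  rw [e]

/-- the inner product `[η, ψ] / ψ(1)` of S4431 through a central character -/
theorem classInner_eta_div (H : Subgroup G) [Fintype H] (χ : IrrCharacter G)
    (ψ : IrrCharacter H) (c : ℂ) :
    classInner (fun h : H => if p ∣ orderOf h then (0 : ℂ) else c * (χ : G → ℂ) h)
      (ψ : H → ℂ) / (ψ : H → ℂ) 1 =
    c / (Nat.card H : ℂ) * omega (ψ : H → ℂ) (fun h : H => conjReg p (χ : G → ℂ) (h : G)) := by
  classical
  letI : Fintype (IrrCharacter H) := irrFintype
  have h1 : (fun h : H => if p ∣ orderOf h then (0 : ℂ) else c * (χ : G → ℂ) h) =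
      c • pRegularPart p (fun h : H => (χ : G → ℂ) (h : G)) :=
    ite_eq_smul_pRegularPart p c (fun h : H => (χ : G → ℂ) (h : G))
  rw [h1, classInner_smul_left]
  unfold classInner
  rw [sum_pRegularPart_mul_conj _ ψ.2, invReg_restrict H (isCharacter_of_isIrrCharacter χ.2)]
  have h2 := irr_one_ne_zero ψ.2
  field_simp

/-- **S4431**, in central-character form -/
theorem omega_restrict_conjReg (hM : IsPModular p M) [Fact p.Prime] (H : Subgroup G) [Fintype H]
    {b : Set (IrrCharacter H)} {B₀ : Set (IrrCharacter G)} (hind : IsInducedBlock M H b B₀)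
    (χ : IrrCharacter G) {ψ : IrrCharacter H} (hψ : ψ ∈ b) :
    (χ ∉ B₀ → MemLocalIdeal M
      (omega (ψ : H → ℂ) (fun h : H => conjReg p (χ : G → ℂ) (h : G)))) ∧
    (χ ∈ B₀ → blockHeight p B₀ (χ : G → ℂ) = 0 → ¬ MemLocalIdeal M
      (omega (ψ : H → ℂ) (fun h : H => conjReg p (χ : G → ℂ) (h : G)))) := by
  classical
  haveI hMp : M.IsPrime := hM.2.1.isPrime
  letI : Fintype (IrrCharacter G) := irrFintype
  letI : Fintype (IrrCharacter H) := irrFintype
  have hB₀ : IsPBlock M B₀ := hind.2.1
  have hcf := isClassFunction_conjReg (p := p) (isClassFunction_of_isIrrCharacter χ.2)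
  have hR : ∀ g, MemLocalRing M (conjReg p (χ : G → ℂ) g) :=
    memLocalRing_conjReg (isCharacter_of_isIrrCharacter χ.2)
  constructor
  · intro hχ
    obtain ⟨χ₀, hχ₀⟩ := block_nonempty hM hB₀
    have h1 := IsInducedBlock.omega_cong H hind hψ hχ₀ hcf hR
    have h2 : MemLocalIdeal M (omega (χ₀ : G → ℂ) (conjReg p (χ : G → ℂ))) := by
      obtain ⟨n, hn, -, -, hform⟩ := exists_int_tilde (p := p) χ χ₀
      apply (heightUnit_iff hM χ χ₀ hform).1
      have hχ₀' : χ₀ ∉ blockOf M (χ : G → ℂ) := by
        intro hc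
        apply hχ
        have : blockOf M (χ : G → ℂ) = B₀ := isPBlock_eq_of_mem ⟨χ, rfl⟩ hB₀ hc hχ₀
        rw [← this]
        exact mem_blockOf_self χ
      have h3 : classInner (pRegularPart p (χ : G → ℂ)) (χ₀ : G → ℂ) = 0 :=
        classInner_pRegularPart_eq_zero p hM
          (fun g => memLocalRing_blockCoeff hMp ⟨χ, rfl⟩ g) (mem_blockOf_self χ) hχ₀'
      rw [classInner_smul_left, h3, mul_zero] at hn
      have : n = 0 := by exact_mod_cast hn.symm
      rw [this, Int.cast_zero, zero_div]
      exact memLocalIdeal_zero ne_top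
    have := memLocalIdeal_add h1 h2
    rwa [sub_add_cancel] at this
  · intro hχ h0
    have h1 := IsInducedBlock.omega_cong H hind hψ hχ hcf hR
    have h2 := (height_zero_criterion hM hB₀ hχ).2.1 h0 χ hχ
    exact not_memLocalIdeal_of_cong h1 h2

end Restrict

end Cfsg.Agent.Helper23.Blk
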