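import Mathlib
import Cfsg.Agent.Lib.Helper23.BlockHeightZero2

/-!
# Height zero characters do not vanish on the sections of the defect group
(helper23's shared library)
-/

set_option autoImplicit false
set_option linter.unusedSectionVars false

namespace Cfsg.Agent.Helper23.Blk

open Cfsg Cfsg.Agent.Helper24 Cfsg.Agent.Helper18
open scoped ComplexConjugate

universe u

section BlockPartReg

variable {K : Type u} [Group K] [Fintype K] {M : Ideal AlgInt} {p : ℕ}

/-- pairing with a member of `b` only sees the `b`-part, on the `p`-regular elements -/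
theorem classInner_pRegularPart_blockPart (hM : IsPModular p M) {b : Set (IrrCharacter K)}
    (hb : IsPBlock M b) {T : K → ℂ} (hT : IsClassFunction K T) {ψ₀ : IrrCharacter K}
    (hψ₀ : ψ₀ ∈ b) :
    classInner (pRegularPart p T) (ψ₀ : K → ℂ) =
      classInner (pRegularPart p (blockPart b T)) (ψ₀ : K → ℂ) := by
  classical
  haveI hMp : M.IsPrime := hM.2.1.isPrime
  letI : Fintype (IrrCharacter K) := irrFintype
  have hexp := classFunction_expansion hT
  have hbp : blockPart b T = ∑ ψ : IrrCharacter K,
      (if ψ ∈ b then classInner T (ψ : K → ℂ) else 0) • (ψ : K → ℂ) := by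
    funext y
    rw [blockPart_apply, finsum_mem_def, finsum_eq_sum_of_fintype, Finset.sum_apply]
    apply Finset.sum_congr rfl
    intro ψ _
    rw [Pi.smul_apply, smul_eq_mul]
    by_cases hψ : ψ ∈ b
    · rw [Set.indicator_of_mem hψ, if_pos hψ]
    · rw [Set.indicator_of_notMem hψ, if_neg hψ, zero_mul]
  have hgen : ∀ d : IrrCharacter K → ℂ,
      classInner (pRegularPart p (∑ ψ : IrrCharacter K, d ψ • (ψ : K → ℂ))) (ψ₀ : K → ℂ) =
      ∑ ψ : IrrCharacter K, d ψ * classInner (pRegularPart p (ψ : K → ℂ)) (ψ₀ : K → ℂ) := by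
    intro d
    rw [pRegularPart_sum, classInner_sum_left]
    apply Finset.sum_congr rfl
    intro ψ _
    rw [pRegularPart_smul, classInner_smul_left]
  conv_lhs => rw [hexp]
  rw [hbp, hgen, hgen]
  apply Finset.sum_congr rfl
  intro ψ _
  by_cases hψ : ψ ∈ b
  · rw [if_pos hψ]
  · rw [if_neg hψ, zero_mul]
    have h1 : classInner (pRegularPart p (ψ₀ : K → ℂ)) (ψ : K → ℂ) = 0 :=
      classInner_pRegularPart_eq_zero p hM (fun g => memLocalRing_blockCoeff hMp hb g) hψ₀ hψ
    rw [classInner_pRegularPart_symm, h1, map_zero, mul_zero]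

end BlockPartReg

section Shift

variable {G : Type u} [Group G] [Fintype G] {M : Ideal AlgInt} {p : ℕ}

theorem isClassFunction_shift {χ : G → ℂ} (hχ : IsClassFunction G χ) (x : G) :
    IsClassFunction (Subgroup.centralizer ({x} : Set G))
      (fun c : Subgroup.centralizer ({x} : Set G) => χ (x * (c : G))) := by
  intro c t
  beta_reduce
  have ht : (t : G) * x = x * (t : G) :=
    (Subgroup.mem_centralizer_iff.1 t.2 x (Set.mem_singleton x)).symm
  have e : x * ((t * c * t⁻¹ : Subgroup.centralizer ({x} : Set G)) : G) =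
      (t : G) * (x * (c : G)) * (t : G)⁻¹ := by
    push_cast
    rw [← mul_assoc, ← mul_assoc, ← mul_assoc, ht]
  rw [e, hχ]

/-- for a height zero character, the translate by a `p`-element pairs to a unit with the members
of the blocks of the centralizer inducing its block -/
theorem omega_shift_not_mem (hM : IsPModular p M) [Fact p.Prime] {B : Set (IrrCharacter G)}
    {χ : IrrCharacter G} (hχ : χ ∈ B) (h0 : blockHeight p B (χ : G → ℂ) = 0) {x : G}
    (hx : ∃ k : ℕ, orderOf x = p ^ k)
    [Fintype (Subgroup.centralizer ({x} : Set G))]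
    {b : Set (IrrCharacter (Subgroup.centralizer ({x} : Set G)))}
    (hind : IsInducedBlock M (Subgroup.centralizer ({x} : Set G)) b B)
    {ψ₀ : IrrCharacter (Subgroup.centralizer ({x} : Set G))} (hψ₀ : ψ₀ ∈ b) :
    ¬ MemLocalIdeal M (omega (ψ₀ : Subgroup.centralizer ({x} : Set G) → ℂ)
      (invReg p (fun c : Subgroup.centralizer ({x} : Set G) => (χ : G → ℂ) (x * (c : G))))) := by
  classical
  haveI hMp : M.IsPrime := hM.2.1.isPrime
  letI : Fintype (IrrCharacter (Subgroup.centralizer ({x} : Set G))) := irrFintype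
  have hχc := isCharacter_of_isIrrCharacter χ.2
  have hχcf := isClassFunction_of_isIrrCharacter χ.2
  have h1 := (omega_restrict_conjReg hM (Subgroup.centralizer ({x} : Set G)) hind χ hψ₀).2 hχ h0
  refine not_memLocalIdeal_of_cong ?_ h1
  rw [← omega_sub]
  apply memLocalIdeal_omega ψ₀
  · intro c t
    rw [Pi.sub_apply, Pi.sub_apply,
      isClassFunction_invReg (isClassFunction_shift hχcf x) c t]
    have h2 := isClassFunction_comp_subtype (Subgroup.centralizer ({x} : Set G))
      (isClassFunction_conjReg (p := p) hχcf) c t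
    beta_reduce at h2
    rw [h2]
  · intro y
    rw [Pi.sub_apply, invReg_apply]
    unfold conjReg
    rw [pRegularPart_apply, Subgroup.orderOf_coe]
    by_cases hy : p ∣ orderOf y
    · rw [if_pos hy, if_pos hy, sub_zero]
      exact memLocalIdeal_zero ne_top
    · rw [if_neg hy, if_neg hy]
      obtain ⟨k, hk⟩ := hx
      have hcomm : Commute x (((y⁻¹ : Subgroup.centralizer ({x} : Set G))) : G) :=
        Subgroup.mem_centralizer_iff.1 (y⁻¹).2 x (Set.mem_singleton x)
      have hxk : x ^ p ^ k = 1 := by rw [← hk, pow_orderOf_eq_one]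
      have h2 := memLocalIdeal_char_mul_sub hM hχc hcomm hxk
      have e : conj ((χ : G → ℂ) (y : G)) =
          (χ : G → ℂ) (((y⁻¹ : Subgroup.centralizer ({x} : Set G))) : G) := by
        push_cast
        rw [irr_inv hχc]
      rw [e]
      exact h2

/-- **S4428**: the `b`-part of the translate of a height zero character does not vanish
identically on the `p`-regular elements -/
theorem exists_blockPart_shift_ne_zero (hM : IsPModular p M) [Fact p.Prime]
    {B : Set (IrrCharacter G)} {χ : IrrCharacter G} (hχ : χ ∈ B)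
    (h0 : blockHeight p B (χ : G → ℂ) = 0) {x : G} (hx : ∃ k : ℕ, orderOf x = p ^ k)
    {b : Set (IrrCharacter (Subgroup.centralizer ({x} : Set G)))}
    (hind : IsInducedBlock M (Subgroup.centralizer ({x} : Set G)) b B) :
    ∃ y : Subgroup.centralizer ({x} : Set G), ¬ p ∣ orderOf y ∧
      blockPart b (fun c : Subgroup.centralizer ({x} : Set G) =>
        (χ : G → ℂ) (x * (c : G))) y ≠ 0 := by
  classical
  haveI hMp : M.IsPrime := hM.2.1.isPrime
  haveI : Fintype (Subgroup.centralizer ({x} : Set G)) := Fintype.ofFinite _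
  by_contra hcon
  push Not at hcon
  have hb : IsPBlock M b := hind.1
  obtain ⟨ψ₀, hψ₀⟩ := block_nonempty hM hb
  have hχcf := isClassFunction_of_isIrrCharacter χ.2
  have hT := isClassFunction_shift hχcf x
  apply omega_shift_not_mem hM hχ h0 hx hind hψ₀
  have h1 := sum_pRegularPart_mul_conj (p := p)
    (fun c : Subgroup.centralizer ({x} : Set G) => (χ : G → ℂ) (x * (c : G))) ψ₀.2
  have h2 := classInner_pRegularPart_blockPart hM hb hT hψ₀
  have h3 : pRegularPart p (blockPart b (fun c : Subgroup.centralizer ({x} : Set G) =>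
      (χ : G → ℂ) (x * (c : G)))) = 0 := by
    funext y
    rw [pRegularPart_apply, Pi.zero_apply]
    by_cases hy : p ∣ orderOf y
    · rw [if_pos hy]
    · rw [if_neg hy]
      exact hcon y hy
  rw [h3] at h2
  have h4 : classInner (0 : Subgroup.centralizer ({x} : Set G) → ℂ)
      (ψ₀ : Subgroup.centralizer ({x} : Set G) → ℂ) = 0 := by
    unfold classInner
    simp
  rw [h4] at h2
  unfold classInner at h2
  have h5 : ∑ g : Subgroup.centralizer ({x} : Set G),
      pRegularPart p (fun c : Subgroup.centralizer ({x} : Set G) =>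
        (χ : G → ℂ) (x * (c : G))) g *
      conj ((ψ₀ : Subgroup.centralizer ({x} : Set G) → ℂ) g) = 0 := by
    rcases mul_eq_zero.1 h2 with h | h
    · exact absurd (inv_eq_zero.1 h) card_ne_zero
    · exact h
  rw [h5] at h1
  have h6 := (mul_eq_zero.1 h1.symm).resolve_left (irr_one_ne_zero ψ₀.2)
  rw [h6]
  exact memLocalIdeal_zero ne_top

end Shift

end Cfsg.Agent.Helper23.Blk
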