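import Mathlib
import Cfsg.Agent.Lib.Helper23.BlockHeightZero3
import Cfsg.Agent.Lib.Helper23.BlockBrauer4

/-!
# Sections meeting the defect group (helper23's shared library)
-/

set_option autoImplicit false
set_option linter.unusedSectionVars false

namespace Cfsg.Agent.Helper23.Blk

open Cfsg Cfsg.Agent.Helper24 Cfsg.Agent.Helper18
open scoped ComplexConjugate

universe u

section Sections

variable {G : Type u} [Group G] [Fintype G] {M : Ideal AlgInt} {p : ℕ}

/-- a `p`-element of a defect group of `B` has a block of its centralizer inducing `B` -/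
theorem exists_isInducedBlock_of_mem_defectGroup (hM : IsPModular p M)
    {B : Set (IrrCharacter G)} (hB : IsPBlock M B) {D : Subgroup G}
    (hD : IsDefectGroup p M B D) {x : G} (hxD : x ∈ D) :
    ∃ b : Set (IrrCharacter (Subgroup.centralizer ({x} : Set G))),
      IsInducedBlock M (Subgroup.centralizer ({x} : Set G)) b B := by
  classical
  haveI : Fact p.Prime := ⟨hM.1⟩
  haveI : Fintype (Subgroup.centralizer ({x} : Set G)) := Fintype.ofFinite _
  letI : Fintype (IrrCharacter G) := irrFintype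
  letI : Fintype (IrrCharacter (Subgroup.centralizer ({x} : Set G))) := irrFintype
  have hDp := isPGroup_of_isDefectGroup hM hD
  obtain ⟨g₀, hg₀, S, hS⟩ := hD
  have hxg₀ : x ∈ Subgroup.centralizer ({g₀} : Set G) := by
    rw [hS] at hxD
    obtain ⟨y, -, rfl⟩ := hxD
    exact y.2
  have hx : ∃ k : ℕ, orderOf x = p ^ k := by
    obtain ⟨k, hk⟩ := (IsPGroup.iff_orderOf.1 hDp) ⟨x, hxD⟩
    exact ⟨k, by rw [← hk, Subgroup.orderOf_mk]⟩
  have hPp := isPGroup_zpowers (p := p) hx
  have hPH : Subgroup.zpowers x ≤ Subgroup.centralizer ({x} : Set G) := by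
    rw [Subgroup.zpowers_le]
    exact self_mem_centralizer_singleton x
  have hCH : Subgroup.centralizer ((Subgroup.zpowers x : Subgroup G) : Set G) ≤
      Subgroup.centralizer ({x} : Set G) := by
    rw [centralizer_zpowers]
  have hHN : Subgroup.centralizer ({x} : Set G) ≤
      Subgroup.normalizer ((Subgroup.zpowers x : Subgroup G) : Set G) := by
    rw [← centralizer_zpowers]
    exact Subgroup.centralizer_le_normalizer _
  have hg₀C : g₀ ∈ Subgroup.centralizer ((Subgroup.zpowers x : Subgroup G) : Set G) := by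
    rw [centralizer_zpowers, Subgroup.mem_centralizer_iff]
    intro w hw
    rw [Set.mem_singleton_iff] at hw
    rw [hw]
    exact (Subgroup.mem_centralizer_iff.1 hxg₀ g₀ (Set.mem_singleton g₀)).symm
  obtain ⟨ξ₁, hξ₁⟩ := exists_induced_of_blockCoeff (Subgroup.zpowers x)
    (Subgroup.centralizer ({x} : Set G)) hM hPp hPH hCH hHN hB hg₀C hg₀.2.1
  exact ⟨_, hξ₁⟩

/-- **S0926**: the sections met by a height zero character are those of the elements of the
defect group -/
theorem section_meets_defectGroup_iff (hM : IsPModular p M) [Fact p.Prime]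
    {B : Set (IrrCharacter G)} (hB : IsPBlock M B) {D : Subgroup G}
    (hD : IsDefectGroup p M B D) {χ : IrrCharacter G} (hχ : χ ∈ B)
    (h0 : blockHeight p B (χ : G → ℂ) = 0) {x : G} (hx : ∃ k : ℕ, orderOf x = p ^ k) :
    (∃ g : G, g * x * g⁻¹ ∈ D) ↔
      ∃ u : G, (∃ z : G, IsPPart p u z ∧ IsConj x z) ∧ (χ : G → ℂ) u ≠ 0 := by
  classical
  haveI hMp : M.IsPrime := hM.2.1.isPrime
  have hχcf := isClassFunction_of_isIrrCharacter χ.2
  constructor
  · rintro ⟨g, hg⟩
    set x' := g * x * g⁻¹ with hx'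
    have hx'p : ∃ k : ℕ, orderOf x' = p ^ k := by
      obtain ⟨k, hk⟩ := hx
      refine ⟨k, ?_⟩
      have : orderOf x' = orderOf x := (MulAut.conj g).orderOf_eq x
      rw [this, hk]
    haveI : Fintype (Subgroup.centralizer ({x'} : Set G)) := Fintype.ofFinite _
    obtain ⟨b, hind⟩ := exists_isInducedBlock_of_mem_defectGroup hM hB hD hg
    obtain ⟨y, hy, hne⟩ := exists_blockPart_shift_ne_zero hM hχ h0 hx'p hind
    have hT := isClassFunction_shift hχcf x'
    have hex : ∃ y' : Subgroup.centralizer ({x'} : Set G), ¬ p ∣ orderOf y' ∧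
        (χ : G → ℂ) (x' * (y' : G)) ≠ 0 := by
      by_contra hcon
      push Not at hcon
      apply hne
      rw [blockPart_apply, ← sum_blockCoeff_mul_shift b hT y]
      exact sum_blockCoeff_shift_eq_zero_of_vanish hM hind.1 hT hcon hy
    obtain ⟨y', hy', hne'⟩ := hex
    refine ⟨x' * (y' : G), ⟨x', ?_, ?_⟩, hne'⟩
    · refine ⟨(y' : G), rfl, ?_, hx'p, by rwa [Subgroup.orderOf_coe]⟩
      exact Subgroup.mem_centralizer_iff.1 y'.2 x' (Set.mem_singleton x')
    · rw [isConj_iff]
      exact ⟨g, rfl⟩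
  · rintro ⟨u, ⟨z, hpp, hconj⟩, hne⟩
    have hBeq : blockOf M (χ : G → ℂ) = B :=
      isPBlock_eq_of_mem ⟨χ, rfl⟩ hB (mem_blockOf_self χ) hχ
    have hex : ∃ D' : Subgroup G, IsDefectGroup p M B D' ∧ z ∈ D' := by
      by_contra hcon
      push Not at hcon
      apply hne
      apply char_eq_zero_of_pPart_not_mem hM χ hpp
      intro D' hD'
      rw [hBeq] at hD'
      exact hcon D' hD'
    obtain ⟨D', hD', hzD'⟩ := hex
    obtain ⟨c, hc⟩ := isDefectGroup_conj_of hM hB hD hD'
    obtain ⟨t, ht⟩ := isConj_iff.1 hconj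
    refine ⟨c * t, ?_⟩
    rw [← hc]
    refine ⟨z, hzD', ?_⟩
    simp only [MulEquiv.coe_toMonoidHom, MulAut.conj_apply]
    rw [← ht]
    group

end Sections

end Cfsg.Agent.Helper23.Blk
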