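import Mathlib
import Cfsg.Agent.Lib.Helper23.BlockHeightZero4

/-!
# Block orthogonality on a section (helper23's shared library)
-/

set_option autoImplicit false
set_option linter.unusedSectionVars false

namespace Cfsg.Agent.Helper23.Blk

open Cfsg Cfsg.Agent.Helper24 Cfsg.Agent.Helper18
open scoped ComplexConjugate

universe u

section Sect

variable {G : Type u} [Group G] [Fintype G] {M : Ideal AlgInt} {p : ℕ}

/-- the blocks of the centralizer inducing `B` carry the translate of `χ` exactly when
`χ ∈ B` -/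
theorem sum_blocks_induced_shift (hM : IsPModular p M) {z : G}
    (hz : ∃ k : ℕ, orderOf z = p ^ k)
    [Fintype (Subgroup.centralizer ({z} : Set G))]
    [Fintype (IrrCharacter (Subgroup.centralizer ({z} : Set G)))]
    {B : Set (IrrCharacter G)}
    [DecidablePred (fun b : Set (IrrCharacter (Subgroup.centralizer ({z} : Set G))) =>
      IsInducedBlock M (Subgroup.centralizer ({z} : Set G)) b B)] (hB : IsPBlock M B)
    (𝔅 : Finset (Set (IrrCharacter (Subgroup.centralizer ({z} : Set G)))))
    (h𝔅 : ∀ f, f ∈ 𝔅 ↔ IsPBlock M f) (χ : IrrCharacter G) [Decidable (χ ∈ B)]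
    (y : Subgroup.centralizer ({z} : Set G)) (hy : ¬ p ∣ orderOf y) :
    ∑ b ∈ 𝔅.filter (fun b => IsInducedBlock M (Subgroup.centralizer ({z} : Set G)) b B),
      ∑ k : Subgroup.centralizer ({z} : Set G), blockCoeff b k *
        (χ : G → ℂ) (z * ((y * k : Subgroup.centralizer ({z} : Set G)) : G)) =
      if χ ∈ B then (χ : G → ℂ) (z * (y : G)) else 0 := by
  classical
  haveI hMp : M.IsPrime := hM.2.1.isPrime
  by_cases hχ : χ ∈ B
  · rw [if_pos hχ, Finset.sum_filter]
    have h1 := sum_blocks_shift 𝔅 h𝔅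
      (fun c : Subgroup.centralizer ({z} : Set G) => (χ : G → ℂ) (z * (c : G))) y
    rw [← h1]
    apply Finset.sum_congr rfl
    intro b hb
    by_cases hbB : IsInducedBlock M (Subgroup.centralizer ({z} : Set G)) b B
    · rw [if_pos hbB]
    · rw [if_neg hbB]
      obtain ⟨B₀, hind⟩ := exists_isInducedBlock_centralizer hM hz ((h𝔅 b).1 hb)
      have hχB₀ : χ ∉ B₀ := by
        intro hc
        apply hbB
        have : B₀ = B := isPBlock_eq_of_mem hind.2.1 hB hc hχ
        rw [← this]
        exact hind
      exact (sum_blockCoeff_char_shift_eq_zero hM hz hind hχB₀ y hy).symm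
  · rw [if_neg hχ]
    apply Finset.sum_eq_zero
    intro b hb
    rw [Finset.mem_filter] at hb
    exact sum_blockCoeff_char_shift_eq_zero hM hz hb.2 hχ y hy

/-- conjugating elements on a section -/
theorem card_conj_section {z : G} (hp : p.Prime) (hz : ∃ k : ℕ, orderOf z = p ^ k)
    (y y' : Subgroup.centralizer ({z} : Set G)) (hy : ¬ p ∣ orderOf y)
    (hy' : ¬ p ∣ orderOf y') :
    Nat.card {t : G // t * (z * (y' : G)) * t⁻¹ = z * (y : G)} =
      Nat.card {s : Subgroup.centralizer ({z} : Set G) // s * y' * s⁻¹ = y} := by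
  have hcomm : ∀ c : Subgroup.centralizer ({z} : Set G), Commute z (c : G) := fun c =>
    Subgroup.mem_centralizer_iff.1 c.2 z (Set.mem_singleton z)
  have hpp : IsPPart p (z * (y : G)) z :=
    ⟨(y : G), rfl, hcomm y, hz, by rwa [Subgroup.orderOf_coe]⟩
  have hpp' : IsPPart p (z * (y' : G)) z :=
    ⟨(y' : G), rfl, hcomm y', hz, by rwa [Subgroup.orderOf_coe]⟩
  have key : ∀ t : G, t * (z * (y' : G)) * t⁻¹ = z * (y : G) → t * z * t⁻¹ = z := by
    intro t ht
    have h1 := isPPart_conj hpp' t
    rw [ht] at h1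
    exact (isPPart_unique hp hpp h1).symm
  have hmem : ∀ t : G, t * (z * (y' : G)) * t⁻¹ = z * (y : G) →
      t ∈ Subgroup.centralizer ({z} : Set G) := by
    intro t ht
    rw [Subgroup.mem_centralizer_iff]
    intro w hw
    rw [Set.mem_singleton_iff] at hw
    rw [hw]
    have := key t ht
    calc z * t = (t * z * t⁻¹) * t := by rw [this]
      _ = t * z := by group
  apply Nat.card_congr
  refine ⟨fun t => ⟨⟨t.1, hmem t.1 t.2⟩, ?_⟩, fun s => ⟨(s.1 : G), ?_⟩, ?_, ?_⟩
  · apply Subtype.ext
    push_cast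
    have h1 := t.2
    have h2 := key t.1 t.2
    have e : t.1 * (z * (y' : G)) * t.1⁻¹ = (t.1 * z * t.1⁻¹) * (t.1 * (y' : G) * t.1⁻¹) := by
      group
    rw [e, h2] at h1
    exact mul_left_cancel h1
  · have h1 := congrArg Subtype.val s.2
    push_cast at h1
    have h2 : (s.1 : G) * z * (s.1 : G)⁻¹ = z := by
      rw [← (hcomm s.1).eq, mul_inv_cancel_right]
    have e : (s.1 : G) * (z * (y' : G)) * (s.1 : G)⁻¹ =
        ((s.1 : G) * z * (s.1 : G)⁻¹) * ((s.1 : G) * (y' : G) * (s.1 : G)⁻¹) := by
      group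
    rw [e, h2, h1]
  · intro t
    rfl
  · intro s
    rfl

/-- **second orthogonality on a section** -/
theorem second_orthogonality_section (hp : p.Prime) {z : G} (hz : ∃ k : ℕ, orderOf z = p ^ k)
    [Fintype (Subgroup.centralizer ({z} : Set G))]
    [Fintype (IrrCharacter G)]
    [Fintype (IrrCharacter (Subgroup.centralizer ({z} : Set G)))]
    (y y' : Subgroup.centralizer ({z} : Set G)) (hy : ¬ p ∣ orderOf y)
    (hy' : ¬ p ∣ orderOf y') :
    ∑ ζ : IrrCharacter G, (ζ : G → ℂ) (z * (y : G)) * conj ((ζ : G → ℂ) (z * (y' : G))) =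
      ∑ χ : IrrCharacter (Subgroup.centralizer ({z} : Set G)),
        (χ : Subgroup.centralizer ({z} : Set G) → ℂ) y *
          conj ((χ : Subgroup.centralizer ({z} : Set G) → ℂ) y') := by
  rw [second_orthogonality, second_orthogonality, card_conj_section hp hz y y' hy hy']

set_option maxHeartbeats 1600000 in
/-- **Block orthogonality on a section**: the block `B` of `G` and the blocks of the centralizer
of the `p`-element `z` inducing it carry the same part of the second orthogonality relation. -/
theorem section_block_orthogonality (hM : IsPModular p M) {z : G}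
    (hz : ∃ k : ℕ, orderOf z = p ^ k)
    [Fintype (Subgroup.centralizer ({z} : Set G))]
    [Fintype (IrrCharacter G)]
    [Fintype (IrrCharacter (Subgroup.centralizer ({z} : Set G)))]
    {B : Set (IrrCharacter G)} (hB : IsPBlock M B)
    [DecidablePred (fun b : Set (IrrCharacter (Subgroup.centralizer ({z} : Set G))) =>
      IsInducedBlock M (Subgroup.centralizer ({z} : Set G)) b B)]
    (𝔅 : Finset (Set (IrrCharacter (Subgroup.centralizer ({z} : Set G)))))
    (h𝔅 : ∀ f, f ∈ 𝔅 ↔ IsPBlock M f)
    (y y' : Subgroup.centralizer ({z} : Set G)) (hy : ¬ p ∣ orderOf y)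
    (hy' : ¬ p ∣ orderOf y') :
    ∑ ζ : IrrCharacter G, B.indicator (fun ζ : IrrCharacter G =>
        (ζ : G → ℂ) (z * (y : G)) * conj ((ζ : G → ℂ) (z * (y' : G)))) ζ =
      ∑ b ∈ 𝔅 with IsInducedBlock M (Subgroup.centralizer ({z} : Set G)) b B,
        ∑ χ : IrrCharacter (Subgroup.centralizer ({z} : Set G)),
          b.indicator (fun χ : IrrCharacter (Subgroup.centralizer ({z} : Set G)) =>
            (χ : Subgroup.centralizer ({z} : Set G) → ℂ) y *
            conj ((χ : Subgroup.centralizer ({z} : Set G) → ℂ) y')) χ := by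
  classical
  haveI hMp : M.IsPrime := hM.2.1.isPrime
  have hp : p.Prime := hM.1
  -- the defect of the second orthogonality relation
  set Φ : Subgroup.centralizer ({z} : Set G) → ℂ := fun c =>
    ∑ ζ : IrrCharacter G, (ζ : G → ℂ) (z * (c : G)) * conj ((ζ : G → ℂ) (z * (y' : G))) -
    ∑ χ : IrrCharacter (Subgroup.centralizer ({z} : Set G)),
      (χ : Subgroup.centralizer ({z} : Set G) → ℂ) c *
        conj ((χ : Subgroup.centralizer ({z} : Set G) → ℂ) y') with hΦ
  have hΦcf : IsClassFunction (Subgroup.centralizer ({z} : Set G)) Φ := by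
    intro c t
    simp only [hΦ]
    congr 1
    · apply Finset.sum_congr rfl
      intro ζ _
      have := isClassFunction_shift (isClassFunction_of_isIrrCharacter ζ.2) z c t
      beta_reduce at this
      rw [this]
    · apply Finset.sum_congr rfl
      intro χ _
      rw [isClassFunction_of_isIrrCharacter χ.2 c t]
  have hΦ0 : ∀ c : Subgroup.centralizer ({z} : Set G), ¬ p ∣ orderOf c → Φ c = 0 := by
    intro c hc
    simp only [hΦ]
    rw [second_orthogonality_section hp hz c y' hc hy', sub_self]
  -- the block-wise relation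
  have hblock : ∀ b ∈ 𝔅, ∑ ζ : IrrCharacter G,
      (∑ k : Subgroup.centralizer ({z} : Set G), blockCoeff b k *
        (ζ : G → ℂ) (z * ((y * k : Subgroup.centralizer ({z} : Set G)) : G))) *
        conj ((ζ : G → ℂ) (z * (y' : G))) =
      ∑ χ : IrrCharacter (Subgroup.centralizer ({z} : Set G)),
        b.indicator (fun χ : IrrCharacter (Subgroup.centralizer ({z} : Set G)) =>
          (χ : Subgroup.centralizer ({z} : Set G) → ℂ) y *
          conj ((χ : Subgroup.centralizer ({z} : Set G) → ℂ) y')) χ := by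
    intro b hb
    have h1 := sum_blockCoeff_shift_eq_zero_of_vanish hM ((h𝔅 b).1 hb) hΦcf hΦ0 hy
    simp only [hΦ, mul_sub, Finset.sum_sub_distrib, Finset.mul_sum] at h1
    rw [sub_eq_zero] at h1
    rw [Finset.sum_comm] at h1
    have h2 : ∀ ζ : IrrCharacter G, ∑ k : Subgroup.centralizer ({z} : Set G),
        blockCoeff b k * ((ζ : G → ℂ) (z * ((y * k : Subgroup.centralizer ({z} : Set G)) : G)) *
          conj ((ζ : G → ℂ) (z * (y' : G)))) =
        (∑ k : Subgroup.centralizer ({z} : Set G), blockCoeff b k *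
          (ζ : G → ℂ) (z * ((y * k : Subgroup.centralizer ({z} : Set G)) : G))) *
          conj ((ζ : G → ℂ) (z * (y' : G))) := by
      intro ζ
      rw [Finset.sum_mul]
      apply Finset.sum_congr rfl
      intro k _
      ring
    rw [Finset.sum_congr rfl (fun ζ _ => h2 ζ)] at h1
    rw [h1, Finset.sum_comm]
    apply Finset.sum_congr rfl
    intro χ _
    have h3 : ∑ k : Subgroup.centralizer ({z} : Set G), blockCoeff b k *
        ((χ : Subgroup.centralizer ({z} : Set G) → ℂ) (y * k) *
          conj ((χ : Subgroup.centralizer ({z} : Set G) → ℂ) y')) =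
        (∑ k : Subgroup.centralizer ({z} : Set G), blockCoeff b k *
          (χ : Subgroup.centralizer ({z} : Set G) → ℂ) (y * k)) *
          conj ((χ : Subgroup.centralizer ({z} : Set G) → ℂ) y') := by
      rw [Finset.sum_mul]
      apply Finset.sum_congr rfl
      intro k _
      ring
    rw [h3, sum_classFunction_mul_char χ.2 (isClassFunction_blockCoeff b), omega_blockCoeff]
    by_cases hχ : χ ∈ b
    · rw [if_pos hχ, Set.indicator_of_mem hχ, one_mul]
    · rw [if_neg hχ, Set.indicator_of_notMem hχ, zero_mul, zero_mul]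
  rw [← Finset.sum_congr rfl (fun b hb => hblock b (Finset.mem_filter.1 hb).1), Finset.sum_comm]
  apply Finset.sum_congr rfl
  intro ζ _
  rw [← Finset.sum_mul, sum_blocks_induced_shift hM hz hB 𝔅 h𝔅 ζ y hy]
  by_cases hζ : ζ ∈ B
  · rw [Set.indicator_of_mem hζ, if_pos hζ]
  · rw [Set.indicator_of_notMem hζ, if_neg hζ, zero_mul]

end Sect

end Cfsg.Agent.Helper23.Blk
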