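import Mathlib
import Cfsg.Agent.Lib.Helper23.BlockSections
import Cfsg.Agent.Lib.Helper23.BlockRank

/-!
# Counting the characters of a block by subsections (helper23's shared library)

`k(B) = ∑_x ∑_{b^G = B} l(b)`, the outer sum over representatives of the classes of `p`-elements.
-/

set_option autoImplicit false
set_option linter.unusedSectionVars false

namespace Cfsg.Agent.Helper23.Blk

open Cfsg Cfsg.Agent.Helper24 Cfsg.Agent.Helper18
open scoped ComplexConjugate

universe u

section Count

variable {G : Type u} [Group G] [Fintype G] {M : Ideal AlgInt} {p : ℕ}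

/-- the diagonal block part of the second orthogonality relation -/
noncomputable def blockSq [Fintype (IrrCharacter G)] (B : Set (IrrCharacter G)) (g : G) : ℂ :=
  ∑ ζ : IrrCharacter G, B.indicator (fun ζ : IrrCharacter G =>
    (ζ : G → ℂ) g * conj ((ζ : G → ℂ) g)) ζ

theorem sum_blockSq [Fintype (IrrCharacter G)] (B : Set (IrrCharacter G)) :
    ∑ g : G, blockSq B g = (Nat.card G : ℂ) * (Nat.card B : ℂ) := by
  classical
  unfold blockSq
  rw [Finset.sum_comm]
  have hG0 : (Nat.card G : ℂ) ≠ 0 := by exact_mod_cast (Nat.card_pos (α := G)).ne'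
  have h1 : ∀ ζ : IrrCharacter G, ∑ g : G, B.indicator (fun ζ : IrrCharacter G =>
      (ζ : G → ℂ) g * conj ((ζ : G → ℂ) g)) ζ = if ζ ∈ B then (Nat.card G : ℂ) else 0 := by
    intro ζ
    by_cases hζ : ζ ∈ B
    · rw [if_pos hζ]
      have h2 : ∀ g : G, B.indicator (fun ζ : IrrCharacter G =>
          (ζ : G → ℂ) g * conj ((ζ : G → ℂ) g)) ζ = (ζ : G → ℂ) g * conj ((ζ : G → ℂ) g) :=
        fun g => Set.indicator_of_mem hζ _
      rw [Finset.sum_congr rfl (fun g _ => h2 g)]
      have h3 := irr_orthogonality' ζ ζ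
      rw [if_pos rfl] at h3
      unfold classInner at h3
      field_simp at h3
      exact h3
    · rw [if_neg hζ]
      apply Finset.sum_eq_zero
      intro g _
      exact Set.indicator_of_notMem hζ _
  rw [Finset.sum_congr rfl (fun ζ _ => h1 ζ), ← Finset.sum_filter, Finset.sum_const,
    nsmul_eq_mul, mul_comm]
  congr 2
  rw [Nat.card_eq_fintype_card, Fintype.card_subtype]

theorem blockSq_conj [Fintype (IrrCharacter G)] (B : Set (IrrCharacter G)) (t g : G) :
    blockSq B (t * g * t⁻¹) = blockSq B g := by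
  unfold blockSq
  refine Finset.sum_congr rfl fun ζ _ => ?_
  by_cases hζ : ζ ∈ B
  · rw [Set.indicator_of_mem hζ, Set.indicator_of_mem hζ,
      isClassFunction_of_isIrrCharacter ζ.2 g t]
  · rw [Set.indicator_of_notMem hζ, Set.indicator_of_notMem hζ]

open Classical in
/-- the sum of `blockSq` over the `p`-section of `z` -/
noncomputable def secSum [Fintype (IrrCharacter G)] (p : ℕ) (B : Set (IrrCharacter G)) (z : G) : ℂ :=
  ∑ g : G, if IsPPart p g z then blockSq B g else 0

theorem sum_secSum [Fintype (IrrCharacter G)] (hp : p.Prime) (B : Set (IrrCharacter G)) :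
    ∑ z : G, secSum p B z = ∑ g : G, blockSq B g := by
  classical
  unfold secSum
  rw [Finset.sum_comm]
  refine Finset.sum_congr rfl fun g _ => ?_
  obtain ⟨z₀, hz₀⟩ := exists_isPPart hp g (orderOf_pos g)
  rw [Finset.sum_eq_single z₀]
  · rw [if_pos hz₀]
  · intro z _ hz
    rw [if_neg]
    intro h
    exact hz (isPPart_unique hp h hz₀)
  · intro h
    exact absurd (Finset.mem_univ _) h

theorem isPPart_conj_iff {g z : G} (t : G) :
    IsPPart p (t * g * t⁻¹) (t * z * t⁻¹) ↔ IsPPart p g z := by
  constructor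
  · intro h
    have := isPPart_conj h t⁻¹
    have e1 : t⁻¹ * (t * g * t⁻¹) * t⁻¹⁻¹ = g := by group
    have e2 : t⁻¹ * (t * z * t⁻¹) * t⁻¹⁻¹ = z := by group
    rwa [e1, e2] at this
  · intro h
    exact isPPart_conj h t

theorem secSum_conj [Fintype (IrrCharacter G)] (B : Set (IrrCharacter G)) (t z : G) :
    secSum p B (t * z * t⁻¹) = secSum p B z := by
  classical
  unfold secSum
  symm
  refine Fintype.sum_equiv (MulAut.conj t).toEquiv _ _ fun g => ?_
  show _ = if IsPPart p (t * g * t⁻¹) (t * z * t⁻¹) then blockSq B (t * g * t⁻¹) else 0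
  rw [blockSq_conj]
  by_cases h : IsPPart p g z
  · rw [if_pos h, if_pos ((isPPart_conj_iff t).2 h)]
  · rw [if_neg h, if_neg (fun h' => h ((isPPart_conj_iff t).1 h'))]

theorem secSum_eq_zero [Fintype (IrrCharacter G)] (B : Set (IrrCharacter G)) {z : G}
    (hz : ¬ ∃ k : ℕ, orderOf z = p ^ k) : secSum p B z = 0 := by
  classical
  unfold secSum
  apply Finset.sum_eq_zero
  intro g _
  rw [if_neg]
  rintro ⟨y, -, -, h, -⟩
  exact hz h

/-- the sum over a conjugacy class of a conjugation invariant function -/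
theorem sum_isConj_eq [DecidableEq G] (x : G) [DecidablePred (IsConj x)] (S : G → ℂ)
    (hS : ∀ t z : G, S (t * z * t⁻¹) = S z) :
    (Nat.card (Subgroup.centralizer ({x} : Set G)) : ℂ) *
      ∑ z ∈ Finset.univ.filter (IsConj x), S z = (Nat.card G : ℂ) * S x := by
  rw [← sum_conj_eq_card_mul_sum_filter x S]
  rw [Finset.sum_congr rfl (fun t _ => hS t x), Finset.sum_const, nsmul_eq_mul,
    Finset.card_univ, Nat.card_eq_fintype_card]

/-- the sum over all sections, sorted by class representatives of the `p`-elements -/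
theorem sum_secSum_classes [Fintype (IrrCharacter G)] (B : Set (IrrCharacter G)) (X : Finset G)
    (hX : ∀ x ∈ X, ∃ k : ℕ, orderOf x = p ^ k)
    (hXrep : ∀ g : G, (∃ k : ℕ, orderOf g = p ^ k) → ∃! x, x ∈ X ∧ IsConj g x) :
    ∑ z : G, secSum p B z = ∑ x ∈ X, (Nat.card G : ℂ) /
      (Nat.card (Subgroup.centralizer ({x} : Set G)) : ℂ) * secSum p B x := by
  classical
  have h1 : ∀ z : G, secSum p B z = ∑ x ∈ X, if IsConj x z then secSum p B z else 0 := by
    intro z
    by_cases hz : ∃ k : ℕ, orderOf z = p ^ k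
    · obtain ⟨x₀, ⟨hx₀, hc₀⟩, huniq⟩ := hXrep z hz
      rw [Finset.sum_eq_single x₀]
      · rw [if_pos hc₀.symm]
      · intro x hx hne
        rw [if_neg]
        intro hc
        exact hne (huniq x ⟨hx, hc.symm⟩)
      · intro h
        exact absurd hx₀ h
    · rw [secSum_eq_zero B hz]
      simp
  rw [Finset.sum_congr rfl (fun z _ => h1 z), Finset.sum_comm]
  refine Finset.sum_congr rfl fun x hx => ?_
  rw [← Finset.sum_filter]
  have h2 := sum_isConj_eq x (secSum p B) (secSum_conj B)
  have hC0 : (Nat.card (Subgroup.centralizer ({x} : Set G)) : ℂ) ≠ 0 := by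
    exact_mod_cast (Nat.card_pos (α := Subgroup.centralizer ({x} : Set G))).ne'
  rw [div_mul_eq_mul_div, ← h2, mul_div_assoc, mul_div_cancel₀ _ hC0]

theorem isPPart_mul_iff {x g : G} (hx : ∃ k : ℕ, orderOf x = p ^ k) :
    IsPPart p (x * g) x ↔ g ∈ Subgroup.centralizer ({x} : Set G) ∧ ¬ p ∣ orderOf g := by
  constructor
  · rintro ⟨y, hxy, hc, -, hy⟩
    have : y = g := mul_left_cancel hxy
    subst this
    refine ⟨?_, hy⟩
    rw [Subgroup.mem_centralizer_iff]
    intro h hh
    rw [Set.mem_singleton_iff] at hh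
    subst hh
    exact hc
  · rintro ⟨hg, hy⟩
    refine ⟨g, rfl, ?_, hx, hy⟩
    exact Subgroup.mem_centralizer_iff.1 hg x (Set.mem_singleton x)

/-- the section sum as a sum over the `p`-regular elements of the centralizer -/
theorem secSum_eq_sum_centralizer [Fintype (IrrCharacter G)] (B : Set (IrrCharacter G)) {x : G}
    (hx : ∃ k : ℕ, orderOf x = p ^ k) [Fintype (Subgroup.centralizer ({x} : Set G))]
    [DecidablePred (fun y : Subgroup.centralizer ({x} : Set G) => p ∣ orderOf y)] :
    secSum p B x = ∑ y : Subgroup.centralizer ({x} : Set G),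
      if p ∣ orderOf y then 0 else blockSq B (x * (y : G)) := by
  classical
  unfold secSum
  rw [← Fintype.sum_equiv (Equiv.mulLeft x) (fun g => if IsPPart p (x * g) x then
    blockSq B (x * g) else 0) _ (fun g => rfl)]
  have h1 : ∀ g : G, (if IsPPart p (x * g) x then blockSq B (x * g) else 0) =
      if g ∈ Subgroup.centralizer ({x} : Set G) then
        (if p ∣ orderOf g then 0 else blockSq B (x * g)) else 0 := by
    intro g
    by_cases hg : g ∈ Subgroup.centralizer ({x} : Set G)
    · rw [if_pos hg]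
      by_cases hy : p ∣ orderOf g
      · rw [if_pos hy, if_neg]
        intro h
        exact ((isPPart_mul_iff hx).1 h).2 hy
      · rw [if_neg hy, if_pos ((isPPart_mul_iff hx).2 ⟨hg, hy⟩)]
    · rw [if_neg hg, if_neg]
      intro h
      exact hg ((isPPart_mul_iff hx).1 h).1
  rw [Finset.sum_congr rfl (fun g _ => h1 g), ← Finset.sum_filter]
  rw [Finset.sum_subtype (Finset.univ.filter (· ∈ Subgroup.centralizer ({x} : Set G)))
    (p := (· ∈ Subgroup.centralizer ({x} : Set G))) (by simp)]
  refine Finset.sum_congr rfl fun y _ => ?_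
  rw [Subgroup.orderOf_coe]
  by_cases hy : p ∣ orderOf y
  · rw [if_pos hy, if_pos hy]
  · rw [if_neg hy, if_neg hy]

set_option maxHeartbeats 1600000 in
/-- the section sum of a `p`-element: the order of the centralizer times the number of Brauer
characters of the blocks of the centralizer inducing `B` -/
theorem secSum_eq_card_mul (hM : IsPModular p M) [Fintype (IrrCharacter G)]
    {B : Set (IrrCharacter G)} (hB : IsPBlock M B) {x : G}
    (hx : ∃ k : ℕ, orderOf x = p ^ k) :
    secSum p B x = (Nat.card (Subgroup.centralizer ({x} : Set G)) : ℂ) *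
      ((∑ᶠ b ∈ {b : Set (IrrCharacter (Subgroup.centralizer ({x} : Set G))) |
        IsInducedBlock M (Subgroup.centralizer ({x} : Set G)) b B}, blockRank p b : ℕ) : ℂ) := by
  classical
  haveI hMp : M.IsPrime := hM.2.1.isPrime
  letI : Fintype (Subgroup.centralizer ({x} : Set G)) := Fintype.ofFinite _
  letI : Fintype (IrrCharacter (Subgroup.centralizer ({x} : Set G))) := irrFintype
  obtain ⟨𝔅, h𝔅⟩ := exists_finset_blocks (M := M) (K := Subgroup.centralizer ({x} : Set G))
  have hset : {b : Set (IrrCharacter (Subgroup.centralizer ({x} : Set G))) |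
      IsInducedBlock M (Subgroup.centralizer ({x} : Set G)) b B} =
      ↑(𝔅.filter (fun b => IsInducedBlock M (Subgroup.centralizer ({x} : Set G)) b B)) := by
    ext b
    rw [Set.mem_setOf_eq, Finset.mem_coe, Finset.mem_filter, h𝔅]
    exact ⟨fun h => ⟨h.1, h⟩, fun h => h.2⟩
  rw [hset, finsum_mem_coe_finset, secSum_eq_sum_centralizer B hx]
  have h1 : ∀ y : Subgroup.centralizer ({x} : Set G),
      (if p ∣ orderOf y then 0 else blockSq B (x * (y : G))) =
      ∑ b ∈ 𝔅.filter (fun b => IsInducedBlock M (Subgroup.centralizer ({x} : Set G)) b B),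
        ∑ χ : IrrCharacter (Subgroup.centralizer ({x} : Set G)),
          b.indicator (fun χ : IrrCharacter (Subgroup.centralizer ({x} : Set G)) =>
            pRegularPart p (χ : Subgroup.centralizer ({x} : Set G) → ℂ) y *
            conj ((χ : Subgroup.centralizer ({x} : Set G) → ℂ) y)) χ := by
    intro y
    by_cases hy : p ∣ orderOf y
    · rw [if_pos hy]
      symm
      apply Finset.sum_eq_zero
      intro b _
      apply Finset.sum_eq_zero
      intro χ _
      by_cases hχ : χ ∈ b
      · rw [Set.indicator_of_mem hχ, pRegularPart_of_dvd p _ hy, zero_mul]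
      · rw [Set.indicator_of_notMem hχ]
    · rw [if_neg hy]
      unfold blockSq
      rw [section_block_orthogonality hM hx hB 𝔅 h𝔅 y y hy hy]
      refine Finset.sum_congr rfl fun b _ => Finset.sum_congr rfl fun χ _ => ?_
      by_cases hχ : χ ∈ b
      · rw [Set.indicator_of_mem hχ, Set.indicator_of_mem hχ, pRegularPart_of_not_dvd p _ hy]
      · rw [Set.indicator_of_notMem hχ, Set.indicator_of_notMem hχ]
  rw [Finset.sum_congr rfl (fun y _ => h1 y), Finset.sum_comm, Nat.cast_sum, Finset.mul_sum]
  refine Finset.sum_congr rfl fun b hb => ?_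
  have hbB : IsPBlock M b := ((Finset.mem_filter.1 hb).2).1
  rw [blockRank_block p hM hbB, Finset.sum_comm, Finset.mul_sum]
  refine Finset.sum_congr rfl fun χ _ => ?_
  have hC0 : (Nat.card (Subgroup.centralizer ({x} : Set G)) : ℂ) ≠ 0 := by
    exact_mod_cast (Nat.card_pos (α := Subgroup.centralizer ({x} : Set G))).ne'
  by_cases hχ : χ ∈ b
  · rw [if_pos hχ]
    have h2 : ∀ y : Subgroup.centralizer ({x} : Set G),
        b.indicator (fun χ : IrrCharacter (Subgroup.centralizer ({x} : Set G)) =>
            pRegularPart p (χ : Subgroup.centralizer ({x} : Set G) → ℂ) y *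
            conj ((χ : Subgroup.centralizer ({x} : Set G) → ℂ) y)) χ =
          pRegularPart p (χ : Subgroup.centralizer ({x} : Set G) → ℂ) y *
            conj ((χ : Subgroup.centralizer ({x} : Set G) → ℂ) y) :=
      fun y => Set.indicator_of_mem hχ _
    rw [Finset.sum_congr rfl (fun y _ => h2 y)]
    unfold classInner
    rw [← mul_assoc, mul_inv_cancel₀ hC0, one_mul]
  · rw [if_neg hχ, mul_zero]
    apply Finset.sum_eq_zero
    intro y _
    exact Set.indicator_of_notMem hχ _

end Count

end Cfsg.Agent.Helper23.Blk
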