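import Mathlib
import Cfsg.Agent.Lib.Helper23.BlockHeightZero
import Cfsg.Agent.Lib.Helper23.BlockConv

/-!
# The dimension of a block (helper23's shared library)

The block part `ρ_B = ∑_{ξ ∈ B} ξ(1) ξ` of the regular character, and divisibility of the degree of
a generalized character vanishing at the `p`-singular elements.
-/

set_option autoImplicit false
set_option linter.unusedSectionVars false

namespace Cfsg.Agent.Helper23.Blk

open Cfsg Cfsg.Agent.Helper24 Cfsg.Agent.Helper18
open scoped ComplexConjugate

universe u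

section Dim

variable {G : Type u} [Group G] [Fintype G] {M : Ideal AlgInt} {p : ℕ}

/-- a generalized character vanishing at the `p`-singular elements has degree divisible by the
full power of `p` -/
theorem genChar_vanish_dvd (hp : p.Prime) {θ : G → ℂ} (hθ : IsGeneralizedCharacter G θ)
    (hv : ∀ y : G, p ∣ orderOf y → θ y = 0) :
    ∃ z : ℤ, θ 1 = ((p ^ (Nat.card G).factorization p : ℕ) : ℂ) * z := by
  classical
  haveI : Fact p.Prime := ⟨hp⟩
  obtain ⟨P⟩ : Nonempty (Sylow p G) := inferInstance
  haveI : Fintype (P : Subgroup G) := Fintype.ofFinite _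
  letI : Fintype (IrrCharacter (P : Subgroup G)) := irrFintype
  have hres := isGenChar_restrict (P : Subgroup G) hθ
  obtain ⟨z, hz⟩ := Cfsg.Agent.Helper8.genChar_inner_int hres (principalChar (P : Subgroup G))
  have hcardP : Nat.card (P : Subgroup G) = p ^ (Nat.card G).factorization p :=
    P.card_eq_multiplicity
  refine ⟨z, ?_⟩
  unfold classInner at hz
  rw [Finset.sum_eq_single (1 : (P : Subgroup G))] at hz
  · simp only [principalChar, map_one, mul_one, OneMemClass.coe_one] at hz
    rw [hcardP] at hz
    have hpa0 : ((p ^ (Nat.card G).factorization p : ℕ) : ℂ) ≠ 0 := by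
      have : p ^ (Nat.card G).factorization p ≠ 0 := pow_ne_zero _ hp.ne_zero
      exact_mod_cast this
    rw [← hz, ← mul_assoc, mul_inv_cancel₀ hpa0, one_mul]
  · intro x _ hx
    have hx' : p ∣ orderOf ((x : (P : Subgroup G)) : G) := by
      rw [Subgroup.orderOf_coe]
      exact IsPGroup.dvd_orderOf (P.2 : IsPGroup p (P : Subgroup G)) hx
    show θ (x : G) * _ = 0
    rw [hv _ hx', zero_mul]
  · intro h
    exact absurd (Finset.mem_univ _) h

open Classical in
/-- the block part of the regular character -/
noncomputable def blockReg [Fintype (IrrCharacter G)] (B : Set (IrrCharacter G)) (g : G) : ℂ :=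
  ∑ ξ : IrrCharacter G, if ξ ∈ B then (ξ : G → ℂ) 1 * (ξ : G → ℂ) g else 0

open Classical in
theorem blockReg_eq_sum_smul [Fintype (IrrCharacter G)] (B : Set (IrrCharacter G)) :
    blockReg B = ∑ ξ : IrrCharacter G,
      (if ξ ∈ B then (ξ : G → ℂ) 1 else 0) • (ξ : G → ℂ) := by
  classical
  funext g
  unfold blockReg
  rw [Finset.sum_apply]
  refine Finset.sum_congr rfl fun ξ _ => ?_
  rw [Pi.smul_apply, smul_eq_mul]
  split_ifs
  · rfl
  · rw [zero_mul]

theorem isClassFunction_blockReg [Fintype (IrrCharacter G)] (B : Set (IrrCharacter G)) :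
    IsClassFunction G (blockReg B) := by
  classical
  intro g h
  unfold blockReg
  refine Finset.sum_congr rfl fun ξ _ => ?_
  rw [isClassFunction_of_isIrrCharacter ξ.2 g h]

theorem classInner_blockReg [Fintype (IrrCharacter G)] (B : Set (IrrCharacter G))
    (ξ : IrrCharacter G) [Decidable (ξ ∈ B)] :
    classInner (blockReg B) (ξ : G → ℂ) = if ξ ∈ B then (ξ : G → ℂ) 1 else 0 := by
  classical
  rw [blockReg_eq_sum_smul, classInner_sum_left]
  simp only [classInner_smul_left, irr_orthogonality']
  rw [Finset.sum_eq_single ξ]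
  · rw [if_pos rfl, mul_one]
    split_ifs <;> rfl
  · intro ξ' _ hne
    rw [if_neg hne, mul_zero]
  · intro h
    exact absurd (Finset.mem_univ _) h

theorem blockReg_eq_conj_blockCoeff [Fintype (IrrCharacter G)] (B : Set (IrrCharacter G)) (g : G) :
    blockReg B g = (Nat.card G : ℂ) * conj (blockCoeff B g) := by
  classical
  have hG0 : (Nat.card G : ℂ) ≠ 0 := by exact_mod_cast (Nat.card_pos (α := G)).ne'
  unfold blockReg blockCoeff
  rw [finsum_mem_def, finsum_eq_sum_of_fintype, map_mul, map_inv₀, Complex.conj_natCast,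
    ← mul_assoc, mul_inv_cancel₀ hG0, one_mul, map_sum]
  refine Finset.sum_congr rfl fun ξ _ => ?_
  rw [Set.indicator_apply]
  split_ifs
  · rw [map_mul, Complex.conj_conj, irr_one_eq_charDegree ξ.2, Complex.conj_natCast]
  · rw [map_zero]

/-- the block part of the regular character vanishes at the `p`-singular elements -/
theorem blockReg_eq_zero (hM : IsPModular p M) [Fintype (IrrCharacter G)]
    {B : Set (IrrCharacter G)} (hB : IsPBlock M B) {y : G} (hy : p ∣ orderOf y) :
    blockReg B y = 0 := by
  rw [blockReg_eq_conj_blockCoeff, blockCoeff_eq_zero_of_pSingular hM hB hy, map_zero, mul_zero]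

theorem blockReg_one [Fintype (IrrCharacter G)] (B : Set (IrrCharacter G)) :
    blockReg B 1 = ((∑ᶠ χ ∈ B, charDegree (χ : G → ℂ) ^ 2 : ℕ) : ℂ) := by
  classical
  unfold blockReg
  rw [finsum_mem_def, finsum_eq_sum_of_fintype, Nat.cast_sum]
  refine Finset.sum_congr rfl fun ξ _ => ?_
  rw [Set.indicator_apply]
  split_ifs
  · rw [irr_one_eq_charDegree ξ.2]
    push_cast
    ring
  · rw [Nat.cast_zero]

end Dim

end Cfsg.Agent.Helper23.Blk
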