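import Mathlib
import Cfsg.Agent.Lib.Helper23.BlockHeightZero
import Cfsg.Agent.Lib.Helper23.BlockDefectZero
import Cfsg.Agent.Lib.Helper8.Proj

/-!
# The integers `[χ̃, μ]` (helper23's shared library)

The integer matrix `n(χ, μ) = p^a [χ°, μ]` on the irreducible characters, its symmetry, divisibility,
the relation `∑_μ n(χ, μ)² = p^a n(χ, χ)` and the consequences for heights (Brauer–Feit).
-/

set_option autoImplicit false
set_option linter.unusedSectionVars false

namespace Cfsg.Agent.Helper23.Blk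

open Cfsg Cfsg.Agent.Helper24 Cfsg.Agent.Helper18
open scoped ComplexConjugate

universe u

section Rows

variable {G : Type u} [Group G] [Fintype G] {M : Ideal AlgInt} {p : ℕ}

theorem classInner_pRegularPart_pRegularPart (p : ℕ) (φ ψ : G → ℂ) :
    classInner (pRegularPart p φ) (pRegularPart p ψ) = classInner (pRegularPart p φ) ψ := by
  classical
  unfold classInner
  congr 1
  refine Finset.sum_congr rfl fun g _ => ?_
  rw [pRegularPart_apply, pRegularPart_apply]
  split_ifs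
  · rw [zero_mul, zero_mul]
  · rfl

theorem classInner_singularPart (p : ℕ) (φ : G → ℂ) :
    classInner (φ - pRegularPart p φ) (φ - pRegularPart p φ) =
      classInner φ φ - classInner (pRegularPart p φ) φ := by
  classical
  unfold classInner
  rw [← mul_sub, ← Finset.sum_sub_distrib]
  congr 1
  refine Finset.sum_congr rfl fun g _ => ?_
  rw [Pi.sub_apply, pRegularPart_apply]
  split_ifs
  · rw [sub_zero, zero_mul, sub_zero]
  · rw [sub_self, zero_mul, sub_self]

/-- the inner product `[χ°, χ]`, if an integer, is one, and then `χ` vanishes at the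
`p`-singular elements -/
theorem pRegularPart_self_int (hp : p.Prime) (χ : IrrCharacter G) {t : ℤ}
    (ht : classInner (pRegularPart p (χ : G → ℂ)) (χ : G → ℂ) = t) :
    t = 1 ∧ ∀ y : G, p ∣ orderOf y → (χ : G → ℂ) y = 0 := by
  classical
  have h1 : classInner (pRegularPart p (χ : G → ℂ)) (pRegularPart p (χ : G → ℂ)) = t := by
    rw [classInner_pRegularPart_pRegularPart, ht]
  have h2 : classInner ((χ : G → ℂ) - pRegularPart p (χ : G → ℂ))
      ((χ : G → ℂ) - pRegularPart p (χ : G → ℂ)) = ((1 - t : ℤ) : ℂ) := by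
    rw [classInner_singularPart, ht, irr_orthogonality χ.2 χ.2, if_pos rfl]
    push_cast
    ring
  have h3 := Cfsg.Agent.Helper8.classInner_self_re_nonneg (pRegularPart p (χ : G → ℂ))
  rw [h1, Complex.intCast_re] at h3
  have h4 := Cfsg.Agent.Helper8.classInner_self_re_nonneg
    ((χ : G → ℂ) - pRegularPart p (χ : G → ℂ))
  rw [h2, Complex.intCast_re] at h4
  have h5 : (0 : ℤ) ≤ t := by exact_mod_cast h3
  have h6 : (0 : ℤ) ≤ 1 - t := by exact_mod_cast h4
  have h7 : t ≠ 0 := by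
    intro h0
    rw [h0, Int.cast_zero] at h1
    exact pRegularPart_ne_zero p hp χ (classInner_self_eq_zero h1)
  have ht1 : t = 1 := by omega
  refine ⟨ht1, fun y hy => ?_⟩
  rw [ht1] at h2
  have h8 : (χ : G → ℂ) - pRegularPart p (χ : G → ℂ) = 0 := by
    apply classInner_self_eq_zero
    rw [h2]
    simp
  have h9 := congrFun h8 y
  rw [Pi.sub_apply, pRegularPart_of_dvd p _ hy, sub_zero, Pi.zero_apply] at h9
  exact h9

variable [Fact p.Prime] [Fintype (IrrCharacter G)]

/-- the integer `p^a [χ°, μ]` -/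
noncomputable def nInt (p : ℕ) [Fact p.Prime] (χ μ : IrrCharacter G) : ℤ :=
  Classical.choose (exists_int_tilde (p := p) χ μ)

theorem nInt_spec (χ μ : IrrCharacter G) :
    classInner (((p ^ (Nat.card G).factorization p : ℕ) : ℂ) •
        pRegularPart p (χ : G → ℂ)) (μ : G → ℂ) = nInt p χ μ :=
  (Classical.choose_spec (exists_int_tilde (p := p) χ μ)).1

theorem nInt_dvd_left (χ μ : IrrCharacter G) :
    ((p ^ (charDegree (χ : G → ℂ)).factorization p : ℕ) : ℤ) ∣ nInt p χ μ :=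
  (Classical.choose_spec (exists_int_tilde (p := p) χ μ)).2.1

theorem nInt_dvd_right (χ μ : IrrCharacter G) :
    ((p ^ (charDegree (μ : G → ℂ)).factorization p : ℕ) : ℤ) ∣ nInt p χ μ :=
  (Classical.choose_spec (exists_int_tilde (p := p) χ μ)).2.2.1

theorem nInt_form (χ μ : IrrCharacter G) :
    (nInt p χ μ : ℂ) / (μ : G → ℂ) 1 = ((p ^ (Nat.card G).factorization p : ℕ) : ℂ) /
      (Nat.card G : ℂ) * omega (μ : G → ℂ) (conjReg p (χ : G → ℂ)) :=
  (Classical.choose_spec (exists_int_tilde (p := p) χ μ)).2.2.2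

theorem nInt_symm (χ μ : IrrCharacter G) : nInt p χ μ = nInt p μ χ := by
  have h1 := nInt_spec (p := p) χ μ
  have h2 := nInt_spec (p := p) μ χ
  rw [classInner_smul_left] at h1 h2
  rw [classInner_pRegularPart_symm] at h1
  have h3 := congrArg conj h1
  rw [map_mul, Complex.conj_conj, Complex.conj_natCast, h2, map_intCast] at h3
  exact_mod_cast h3.symm

theorem nInt_eq_zero (hM : IsPModular p M) {B : Set (IrrCharacter G)} (hB : IsPBlock M B)
    {χ μ : IrrCharacter G} (hχ : χ ∈ B) (hμ : μ ∉ B) : nInt p χ μ = 0 := by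
  haveI hMp : M.IsPrime := hM.2.1.isPrime
  have h1 : classInner (pRegularPart p (χ : G → ℂ)) (μ : G → ℂ) = 0 :=
    classInner_pRegularPart_eq_zero p hM
      (fun g => memLocalRing_blockCoeff hMp hB g) hχ hμ
  have h2 := nInt_spec (p := p) χ μ
  rw [classInner_smul_left, h1, mul_zero] at h2
  exact_mod_cast h2.symm

/-- **Parseval** for the rows -/
theorem sum_nInt_sq (χ : IrrCharacter G) :
    ∑ μ : IrrCharacter G, (nInt p χ μ) ^ 2 =
      ((p ^ (Nat.card G).factorization p : ℕ) : ℤ) * nInt p χ χ := by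
  set a := (Nat.card G).factorization p with ha
  have hcf : IsClassFunction G (((p ^ a : ℕ) : ℂ) • pRegularPart p (χ : G → ℂ)) := by
    intro g h
    rw [Pi.smul_apply, Pi.smul_apply,
      isClassFunction_pRegularPart p (isClassFunction_of_isIrrCharacter χ.2) g h]
  have h1 := classInner_eq_sum_mul hcf (((p ^ a : ℕ) : ℂ) • pRegularPart p (χ : G → ℂ))
  have h2 : classInner (((p ^ a : ℕ) : ℂ) • pRegularPart p (χ : G → ℂ))
      (((p ^ a : ℕ) : ℂ) • pRegularPart p (χ : G → ℂ)) =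
      ((p ^ a : ℕ) : ℂ) * (nInt p χ χ : ℂ) := by
    rw [← nInt_spec (p := p) χ χ, classInner_smul_right, Complex.conj_natCast,
      classInner_smul_left, classInner_smul_left, classInner_pRegularPart_pRegularPart]
  rw [h2] at h1
  have h4 : ∀ μ : IrrCharacter G, classInner (((p ^ a : ℕ) : ℂ) • pRegularPart p (χ : G → ℂ))
      (μ : G → ℂ) * conj (classInner (((p ^ a : ℕ) : ℂ) • pRegularPart p (χ : G → ℂ))
      (μ : G → ℂ)) = ((nInt p χ μ) ^ 2 : ℤ) := by
    intro μ
    rw [nInt_spec (p := p) χ μ, map_intCast]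
    push_cast
    ring
  rw [Finset.sum_congr rfl (fun μ _ => h4 μ)] at h1
  have h3 : ((((p ^ a : ℕ) : ℤ) * nInt p χ χ : ℤ) : ℂ) =
      ((∑ μ : IrrCharacter G, (nInt p χ μ) ^ 2 : ℤ) : ℂ) := by
    rw [Int.cast_sum, ← h1]
    push_cast
    ring
  exact_mod_cast h3.symm

theorem nInt_self_ne_zero (χ : IrrCharacter G) : nInt p χ χ ≠ 0 := by
  have hp : p.Prime := Fact.out
  intro hn0
  have hn := nInt_spec (p := p) χ χ
  rw [hn0, Int.cast_zero, classInner_smul_left] at hn
  rcases mul_eq_zero.1 hn with h | h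
  · have : p ^ (Nat.card G).factorization p ≠ 0 := pow_ne_zero _ hp.ne_zero
    exact this (by exact_mod_cast h)
  · rw [← classInner_pRegularPart_pRegularPart] at h
    exact pRegularPart_ne_zero p hp χ (classInner_self_eq_zero h)

theorem nInt_self_pos (χ : IrrCharacter G) : 0 < nInt p χ χ := by
  have hp : p.Prime := Fact.out
  have h1 := sum_nInt_sq (p := p) χ
  have h2 : 0 ≤ ∑ μ : IrrCharacter G, (nInt p χ μ) ^ 2 :=
    Finset.sum_nonneg fun μ _ => sq_nonneg _
  rw [h1] at h2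
  have h3 : (0 : ℤ) < ((p ^ (Nat.card G).factorization p : ℕ) : ℤ) := by
    have : 0 < p ^ (Nat.card G).factorization p := pow_pos hp.pos _
    exact_mod_cast this
  have h4 := nInt_self_ne_zero (p := p) χ
  rcases lt_trichotomy (nInt p χ χ) 0 with h | h | h
  · nlinarith
  · exact absurd h h4
  · exact h

theorem nInt_self_le (χ : IrrCharacter G) :
    nInt p χ χ ≤ ((p ^ (Nat.card G).factorization p : ℕ) : ℤ) := by
  have h1 := sum_nInt_sq (p := p) χ
  have h2 : (nInt p χ χ) ^ 2 ≤ ∑ μ : IrrCharacter G, (nInt p χ μ) ^ 2 :=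
    Finset.single_le_sum (f := fun μ => (nInt p χ μ) ^ 2) (fun μ _ => sq_nonneg _)
      (Finset.mem_univ χ)
  rw [h1] at h2
  have h3 := nInt_self_pos (p := p) χ
  nlinarith

/-- if `nInt χ χ` attains `p ^ a` then `χ` has defect zero -/
theorem vanish_of_nInt_self_eq (χ : IrrCharacter G)
    (h : nInt p χ χ = ((p ^ (Nat.card G).factorization p : ℕ) : ℤ)) :
    ∀ y : G, p ∣ orderOf y → (χ : G → ℂ) y = 0 := by
  have hp : p.Prime := Fact.out
  have hpa0 : ((p ^ (Nat.card G).factorization p : ℕ) : ℂ) ≠ 0 := by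
    have : p ^ (Nat.card G).factorization p ≠ 0 := pow_ne_zero _ hp.ne_zero
    exact_mod_cast this
  have hn := nInt_spec (p := p) χ χ
  rw [h, classInner_smul_left] at hn
  have h6 : classInner (pRegularPart p (χ : G → ℂ)) (χ : G → ℂ) = ((1 : ℤ) : ℂ) := by
    have : ((p ^ (Nat.card G).factorization p : ℕ) : ℂ) *
        classInner (pRegularPart p (χ : G → ℂ)) (χ : G → ℂ) =
        ((p ^ (Nat.card G).factorization p : ℕ) : ℂ) * 1 := by
      rw [hn, mul_one]
      push_cast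
      rfl
    rw [mul_left_cancel₀ hpa0 this]
    simp
  exact (pRegularPart_self_int hp χ h6).2

/-- height zero: the row has exact valuations -/
theorem nInt_height_zero (hM : IsPModular p M) {B : Set (IrrCharacter G)} (hB : IsPBlock M B)
    {χ μ : IrrCharacter G} (hχ : χ ∈ B) (h0 : blockHeight p B (χ : G → ℂ) = 0) (hμ : μ ∈ B) :
    nInt p χ μ ≠ 0 ∧ padicValInt p (nInt p χ μ) = (charDegree (μ : G → ℂ)).factorization p := by
  have hu := ((height_zero_criterion hM hB hχ).2.1 h0) μ hμ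
  have hJ : ¬ MemLocalIdeal M ((nInt p χ μ : ℂ) / (μ : G → ℂ) 1) :=
    fun h => hu ((heightUnit_iff hM χ μ (nInt_form χ μ)).1 h)
  have hd0 : charDegree (μ : G → ℂ) ≠ 0 := by
    intro h0'
    have := irr_one_ne_zero μ.2
    rw [irr_one_eq_charDegree μ.2, h0'] at this
    exact this (by simp)
  rw [irr_one_eq_charDegree μ.2] at hJ
  exact (not_memLocalIdeal_intCast_div_iff hM hd0 (nInt_dvd_right χ μ)).1 hJ

/-- positive height: the diagonal entry is divisible by one more power of `p` -/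
theorem nInt_self_of_height_pos (hM : IsPModular p M) {B : Set (IrrCharacter G)}
    (hB : IsPBlock M B) {χ : IrrCharacter G} (hχ : χ ∈ B)
    (h0 : blockHeight p B (χ : G → ℂ) ≠ 0) :
    ((p : ℤ) ^ ((charDegree (χ : G → ℂ)).factorization p + 1)) ∣ nInt p χ χ := by
  have hd0 : charDegree (χ : G → ℂ) ≠ 0 := by
    intro h0'
    have := irr_one_ne_zero χ.2
    rw [irr_one_eq_charDegree χ.2, h0'] at this
    exact this (by simp)
  have hnu : ¬ ∃ ξ ∈ B, ¬ MemLocalIdeal M (omega (ξ : G → ℂ) (conjReg p (χ : G → ℂ))) :=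
    fun h => h0 ((height_zero_criterion hM hB hχ).1.2 h)
  push Not at hnu
  have hJ := hnu χ hχ
  have hJ2 := (heightUnit_iff hM χ χ (nInt_form χ χ)).2 hJ
  rw [irr_one_eq_charDegree χ.2] at hJ2
  have h1 := (not_memLocalIdeal_intCast_div_iff hM hd0 (nInt_dvd_left χ χ)).not.1
    (not_not.2 hJ2)
  push Not at h1
  have hn0 := nInt_self_ne_zero (p := p) χ
  have h2 := h1 hn0
  have h3 : (charDegree (χ : G → ℂ)).factorization p ≤ padicValInt p (nInt p χ χ) := by
    have := (padicValInt_dvd_iff (p := p) _ (nInt p χ χ)).1 (by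
      have := nInt_dvd_left (p := p) χ χ
      push_cast at this ⊢
      exact this)
    rcases this with h | h
    · exact absurd h hn0
    · exact h
  have h4 : (charDegree (χ : G → ℂ)).factorization p + 1 ≤ padicValInt p (nInt p χ χ) := by
    omega
  exact (padicValInt_dvd_iff (p := p) _ (nInt p χ χ)).2 (Or.inr h4)

/-- the least `p`-adic valuation of the degrees in `B` -/
noncomputable def minVal (p : ℕ) (B : Set (IrrCharacter G)) : ℕ :=
  sInf ((fun χ : IrrCharacter G => (charDegree (χ : G → ℂ)).factorization p) '' B)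

omit [Fact p.Prime] [Fintype (IrrCharacter G)] in
theorem blockDefect_eq_sub_minVal (B : Set (IrrCharacter G)) :
    blockDefect p B = (Nat.card G).factorization p - minVal p B := rfl

omit [Fact p.Prime] [Fintype (IrrCharacter G)] in
theorem blockHeight_eq_sub_minVal (B : Set (IrrCharacter G)) (χ : G → ℂ) :
    blockHeight p B χ = (charDegree χ).factorization p - minVal p B := rfl

omit [Fact p.Prime] [Fintype (IrrCharacter G)] in
theorem minVal_le {B : Set (IrrCharacter G)} {χ : IrrCharacter G} (hχ : χ ∈ B) :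
    minVal p B ≤ (charDegree (χ : G → ℂ)).factorization p :=
  Nat.sInf_le ⟨χ, hχ, rfl⟩

omit [Fact p.Prime] [Fintype (IrrCharacter G)] in
theorem charDegree_ne_zero (χ : IrrCharacter G) : charDegree (χ : G → ℂ) ≠ 0 := by
  intro h0'
  have := irr_one_ne_zero χ.2
  rw [irr_one_eq_charDegree χ.2, h0'] at this
  exact this (by simp)

omit [Fintype (IrrCharacter G)] in
theorem factorization_charDegree_le (χ : IrrCharacter G) :
    (charDegree (χ : G → ℂ)).factorization p ≤ (Nat.card G).factorization p := by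
  have hdvd := charDegree_dvd_card χ.2
  have hG0 : Nat.card G ≠ 0 := (Nat.card_pos (α := G)).ne'
  exact (Nat.factorization_le_iff_dvd (charDegree_ne_zero χ) hG0).2 hdvd p

omit [Fintype (IrrCharacter G)] in
theorem minVal_le_card {B : Set (IrrCharacter G)} (hne : B.Nonempty) :
    minVal p B ≤ (Nat.card G).factorization p := by
  obtain ⟨χ, hχ⟩ := hne
  exact (minVal_le hχ).trans (factorization_charDegree_le χ)

/-- the rows of the matrix divided by `p ^ minVal` -/
theorem exists_row {B : Set (IrrCharacter G)} {χ : IrrCharacter G} (hχ : χ ∈ B) :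
    ∃ m : IrrCharacter G → ℤ,
      (∀ ξ, nInt p χ ξ = ((p ^ minVal p B : ℕ) : ℤ) * m ξ) ∧
      ∑ ξ : IrrCharacter G, (m ξ) ^ 2 =
        ((p ^ ((Nat.card G).factorization p - minVal p B) : ℕ) : ℤ) * m χ := by
  have hp : p.Prime := Fact.out
  set a := (Nat.card G).factorization p with ha
  set e := minVal p B with he
  have hea : e ≤ a := minVal_le_card ⟨χ, hχ⟩
  have hdvd : ∀ ξ, ((p ^ e : ℕ) : ℤ) ∣ nInt p χ ξ := by
    intro ξ
    refine dvd_trans ?_ (nInt_dvd_left χ ξ)
    have : p ^ e ∣ p ^ (charDegree (χ : G → ℂ)).factorization p :=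
      pow_dvd_pow p (minVal_le hχ)
    exact_mod_cast this
  choose m hm using hdvd
  refine ⟨m, hm, ?_⟩
  have hpe0 : ((p ^ e : ℕ) : ℤ) ≠ 0 := by
    have : p ^ e ≠ 0 := pow_ne_zero _ hp.ne_zero
    exact_mod_cast this
  have hpa : ((p ^ a : ℕ) : ℤ) = ((p ^ e : ℕ) : ℤ) * ((p ^ (a - e) : ℕ) : ℤ) := by
    rw [← Nat.cast_mul, ← pow_add, Nat.add_sub_cancel' hea]
  have h1 : ((p ^ e : ℕ) : ℤ) ^ 2 * ∑ μ : IrrCharacter G, (m μ) ^ 2 =
      ((p ^ e : ℕ) : ℤ) ^ 2 * (((p ^ (a - e) : ℕ) : ℤ) * m χ) := by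
    rw [Finset.mul_sum]
    calc ∑ μ : IrrCharacter G, ((p ^ e : ℕ) : ℤ) ^ 2 * (m μ) ^ 2
        = ∑ μ : IrrCharacter G, (nInt p χ μ) ^ 2 := by
          refine Finset.sum_congr rfl fun μ _ => ?_
          rw [hm μ]
          ring
      _ = ((p ^ a : ℕ) : ℤ) * nInt p χ χ := sum_nInt_sq χ
      _ = ((p ^ e : ℕ) : ℤ) ^ 2 * (((p ^ (a - e) : ℕ) : ℤ) * m χ) := by
          rw [hpa, hm χ]
          ring
  exact mul_left_cancel₀ (pow_ne_zero 2 hpe0) h1

/-- a nonzero integer divisible by `p ^ h` has square at least `p ^ (2 h)` -/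
theorem pow_le_sq_of_dvd {h : ℕ} {m : ℤ} (hm0 : m ≠ 0) (hdvd : ((p ^ h : ℕ) : ℤ) ∣ m) :
    ((p ^ (2 * h) : ℕ) : ℤ) ≤ m ^ 2 := by
  obtain ⟨c, hc⟩ := hdvd
  have hc0 : c ≠ 0 := by
    rintro rfl
    rw [mul_zero] at hc
    exact hm0 hc
  have h1 : 1 ≤ c ^ 2 := by
    have := sq_nonneg c
    have h2 : c ^ 2 ≠ 0 := pow_ne_zero 2 hc0
    omega
  have h3 : (0 : ℤ) ≤ ((p ^ h : ℕ) : ℤ) ^ 2 := sq_nonneg _
  rw [hc, mul_pow, pow_mul']
  push_cast
  push_cast at h3
  nlinarith

theorem four_mul_le_sq (P m : ℤ) : 4 * (m * (P - m)) ≤ P ^ 2 := by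
  nlinarith [sq_nonneg (P - 2 * m)]

/-- **Brauer–Feit, weighted form** -/
theorem sum_pow_height_le (hM : IsPModular p M) {B : Set (IrrCharacter G)} (hB : IsPBlock M B) :
    4 * ∑ᶠ χ ∈ B, p ^ (2 * blockHeight p B (χ : G → ℂ)) ≤ p ^ (2 * blockDefect p B) + 4 := by
  classical
  have hp : p.Prime := Fact.out
  haveI hMp : M.IsPrime := hM.2.1.isPrime
  have hne : B.Nonempty := by
    obtain ⟨χ₀, rfl⟩ := hB
    exact ⟨χ₀, sameBlock_refl _⟩
  obtain ⟨χ, hχ, hmin⟩ := exists_min_degree (p := p) hne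
  have h0 : blockHeight p B (χ : G → ℂ) = 0 := (blockHeight_eq_zero_iff hχ).2 hmin
  have heχ : (charDegree (χ : G → ℂ)).factorization p = minVal p B := by
    have h1 := minVal_le (p := p) hχ
    rw [blockHeight_eq_sub_minVal] at h0
    omega
  obtain ⟨m, hm, hsum⟩ := exists_row (p := p) hχ
  set e := minVal p B with he
  set d := (Nat.card G).factorization p - e with hd
  have hpe0 : ((p ^ e : ℕ) : ℤ) ≠ 0 := by
    have : p ^ e ≠ 0 := pow_ne_zero _ hp.ne_zero
    exact_mod_cast this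
  -- the entries on the block
  have hent : ∀ ξ ∈ B, ((p ^ (2 * blockHeight p B (ξ : G → ℂ)) : ℕ) : ℤ) ≤ (m ξ) ^ 2 := by
    intro ξ hξ
    obtain ⟨hn0, hv⟩ := nInt_height_zero hM hB hχ h0 hξ
    have hm0 : m ξ ≠ 0 := by
      intro h
      apply hn0
      rw [hm ξ, h, mul_zero]
    apply pow_le_sq_of_dvd hm0
    have h1 := nInt_dvd_right (p := p) χ ξ
    rw [hm ξ] at h1
    have hle := minVal_le (p := p) hξ
    have h2 : ((p ^ (charDegree (ξ : G → ℂ)).factorization p : ℕ) : ℤ) =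
        ((p ^ e : ℕ) : ℤ) * ((p ^ blockHeight p B (ξ : G → ℂ) : ℕ) : ℤ) := by
      rw [blockHeight_eq_sub_minVal, ← Nat.cast_mul, ← pow_add, Nat.add_sub_cancel' hle]
    rw [h2] at h1
    exact (mul_dvd_mul_iff_left hpe0).1 h1
  -- sums over the block
  have hoff : ∀ ξ, ξ ∉ B → m ξ = 0 := by
    intro ξ hξ
    have := nInt_eq_zero hM hB hχ hξ
    rw [hm ξ] at this
    rcases mul_eq_zero.1 this with h | h
    · exact absurd h hpe0
    · exact h
  have hsub : ∑ μ : IrrCharacter G, (m μ) ^ 2 = ∑ μ ∈ B.toFinset, (m μ) ^ 2 := by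
    symm
    apply Finset.sum_subset (Finset.subset_univ _)
    intro μ _ hμ
    rw [Set.mem_toFinset] at hμ
    rw [hoff μ hμ]
    ring
  have hχm : χ ∈ B.toFinset := Set.mem_toFinset.2 hχ
  have hfin : (∑ᶠ ξ ∈ B, p ^ (2 * blockHeight p B (ξ : G → ℂ))) =
      ∑ ξ ∈ B.toFinset, p ^ (2 * blockHeight p B (ξ : G → ℂ)) := by
    rw [finsum_mem_eq_finite_toFinset_sum _ (Set.toFinite B)]
    congr 1
    ext ξ
    simp
  rw [hfin]
  have hlow : ((∑ ξ ∈ B.toFinset, p ^ (2 * blockHeight p B (ξ : G → ℂ)) : ℕ) : ℤ) ≤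
      1 + (((p ^ d : ℕ) : ℤ) * m χ - (m χ) ^ 2) := by
    have hcast : ((∑ ξ ∈ B.toFinset, p ^ (2 * blockHeight p B (ξ : G → ℂ)) : ℕ) : ℤ) =
        ∑ ξ ∈ B.toFinset, ((p ^ (2 * blockHeight p B (ξ : G → ℂ)) : ℕ) : ℤ) :=
      Nat.cast_sum _ _
    rw [hcast, ← Finset.add_sum_erase (f := fun ξ : IrrCharacter G =>
        ((p ^ (2 * blockHeight p B (ξ : G → ℂ)) : ℕ) : ℤ)) _ hχm, ← hsum, hsub,
      ← Finset.add_sum_erase (f := fun ξ : IrrCharacter G => (m ξ) ^ 2) _ hχm]
    have h1 : ∑ ξ ∈ B.toFinset.erase χ, ((p ^ (2 * blockHeight p B (ξ : G → ℂ)) : ℕ) : ℤ) ≤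
        ∑ ξ ∈ B.toFinset.erase χ, (m ξ) ^ 2 := by
      apply Finset.sum_le_sum
      intro ξ hξ
      exact hent ξ (Set.mem_toFinset.1 (Finset.mem_of_mem_erase hξ))
    rw [h0]
    simp only [mul_zero, pow_zero, Nat.cast_one]
    linarith
  have h4 := four_mul_le_sq (((p ^ d : ℕ) : ℤ)) (m χ)
  have h5 : ((4 * ∑ ξ ∈ B.toFinset, p ^ (2 * blockHeight p B (ξ : G → ℂ)) : ℕ) : ℤ) ≤
      ((p ^ (2 * d) + 4 : ℕ) : ℤ) := by
    push_cast
    push_cast at hlow h4
    rw [pow_mul']
    nlinarith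
  rw [blockDefect_eq_sub_minVal]
  exact_mod_cast h5

end Rows

end Cfsg.Agent.Helper23.Blk
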