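import Mathlib
import Cfsg.Agent.Lib.Helper23.BlockSections
import Cfsg.Agent.Lib.Helper23.BlockRank

/-!
# Orthogonality on a single subsection (helper23's shared library)

For a block `b` of the centralizer of the `p`-element `z`, the `b`-parts of the translates
`c ↦ ζ(z c)` of the irreducible characters of `G` satisfy the orthogonality relation of `b`
on the `p`-regular elements.
-/

set_option autoImplicit false
set_option linter.unusedSectionVars false

namespace Cfsg.Agent.Helper23.Blk

open Cfsg Cfsg.Agent.Helper24 Cfsg.Agent.Helper18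
open scoped ComplexConjugate

universe u

section Sect2

variable {G : Type u} [Group G] [Fintype G] {M : Ideal AlgInt} {p : ℕ}

/-- the `b`-part of the translate of `ζ` by `z` -/
noncomputable def shiftPart {z : G} [Fintype (Subgroup.centralizer ({z} : Set G))]
    (b : Set (IrrCharacter (Subgroup.centralizer ({z} : Set G)))) (ζ : G → ℂ)
    (y : Subgroup.centralizer ({z} : Set G)) : ℂ :=
  ∑ k : Subgroup.centralizer ({z} : Set G), blockCoeff b k *
    ζ (z * ((y * k : Subgroup.centralizer ({z} : Set G)) : G))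

set_option maxHeartbeats 1600000 in
/-- one-sided orthogonality on a subsection -/
theorem sum_shiftPart_mul_conj (hM : IsPModular p M) {z : G}
    (hz : ∃ k : ℕ, orderOf z = p ^ k)
    [Fintype (Subgroup.centralizer ({z} : Set G))]
    [Fintype (IrrCharacter G)]
    [Fintype (IrrCharacter (Subgroup.centralizer ({z} : Set G)))]
    {b : Set (IrrCharacter (Subgroup.centralizer ({z} : Set G)))} (hb : IsPBlock M b)
    (y y' : Subgroup.centralizer ({z} : Set G)) (hy : ¬ p ∣ orderOf y)
    (hy' : ¬ p ∣ orderOf y') :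
    ∑ ζ : IrrCharacter G, shiftPart b (ζ : G → ℂ) y * conj ((ζ : G → ℂ) (z * (y' : G))) =
      ∑ χ : IrrCharacter (Subgroup.centralizer ({z} : Set G)),
        b.indicator (fun χ : IrrCharacter (Subgroup.centralizer ({z} : Set G)) =>
          (χ : Subgroup.centralizer ({z} : Set G) → ℂ) y *
          conj ((χ : Subgroup.centralizer ({z} : Set G) → ℂ) y')) χ := by
  classical
  haveI hMp : M.IsPrime := hM.2.1.isPrime
  have hp : p.Prime := hM.1
  unfold shiftPart
  set Φ : Subgroup.centralizer ({z} : Set G) → ℂ := fun c =>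
    ∑ ζ : IrrCharacter G, (ζ : G → ℂ) (z * (c : G)) * conj ((ζ : G → ℂ) (z * (y' : G))) -
    ∑ χ : IrrCharacter (Subgroup.centralizer ({z} : Set G)),
      (χ : Subgroup.centralizer ({z} : Set G) → ℂ) c *
        conj ((χ : Subgroup.centralizer ({z} : Set G) → ℂ) y') with hΦ
  have hΦcf : IsClassFunction (Subgroup.centralizer ({z} : Set G)) Φ := by
    intro c t
    simp only [hΦ]
    congr 1
    · apply Finset.sum_congr rfl
      intro ζ _
      have := isClassFunction_shift (isClassFunction_of_isIrrCharacter ζ.2) z c t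
      beta_reduce at this
      rw [this]
    · apply Finset.sum_congr rfl
      intro χ _
      rw [isClassFunction_of_isIrrCharacter χ.2 c t]
  have hΦ0 : ∀ c : Subgroup.centralizer ({z} : Set G), ¬ p ∣ orderOf c → Φ c = 0 := by
    intro c hc
    simp only [hΦ]
    rw [second_orthogonality_section hp hz c y' hc hy', sub_self]
  have h1 := sum_blockCoeff_shift_eq_zero_of_vanish hM hb hΦcf hΦ0 hy
  simp only [hΦ, mul_sub, Finset.sum_sub_distrib, Finset.mul_sum] at h1
  rw [sub_eq_zero] at h1
  rw [Finset.sum_comm] at h1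
  have h2 : ∀ ζ : IrrCharacter G, ∑ k : Subgroup.centralizer ({z} : Set G),
      blockCoeff b k * ((ζ : G → ℂ) (z * ((y * k : Subgroup.centralizer ({z} : Set G)) : G)) *
        conj ((ζ : G → ℂ) (z * (y' : G)))) =
      (∑ k : Subgroup.centralizer ({z} : Set G), blockCoeff b k *
        (ζ : G → ℂ) (z * ((y * k : Subgroup.centralizer ({z} : Set G)) : G))) *
        conj ((ζ : G → ℂ) (z * (y' : G))) := by
    intro ζ
    rw [Finset.sum_mul]
    apply Finset.sum_congr rfl
    intro k _
    ring
  rw [Finset.sum_congr rfl (fun ζ _ => h2 ζ)] at h1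
  rw [h1, Finset.sum_comm]
  apply Finset.sum_congr rfl
  intro χ _
  have h3 : ∑ k : Subgroup.centralizer ({z} : Set G), blockCoeff b k *
      ((χ : Subgroup.centralizer ({z} : Set G) → ℂ) (y * k) *
        conj ((χ : Subgroup.centralizer ({z} : Set G) → ℂ) y')) =
      (∑ k : Subgroup.centralizer ({z} : Set G), blockCoeff b k *
        (χ : Subgroup.centralizer ({z} : Set G) → ℂ) (y * k)) *
        conj ((χ : Subgroup.centralizer ({z} : Set G) → ℂ) y') := by
    rw [Finset.sum_mul]
    apply Finset.sum_congr rfl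
    intro k _
    ring
  rw [h3, sum_classFunction_mul_char χ.2 (isClassFunction_blockCoeff b), omega_blockCoeff]
  by_cases hχ : χ ∈ b
  · rw [if_pos hχ, Set.indicator_of_mem hχ, one_mul]
  · rw [if_neg hχ, Set.indicator_of_notMem hχ, zero_mul, zero_mul]

set_option maxHeartbeats 1600000 in
/-- **two-sided orthogonality on a subsection** -/
theorem sum_shiftPart_mul_conj_shiftPart (hM : IsPModular p M) {z : G}
    (hz : ∃ k : ℕ, orderOf z = p ^ k)
    [Fintype (Subgroup.centralizer ({z} : Set G))]
    [Fintype (IrrCharacter G)]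
    [Fintype (IrrCharacter (Subgroup.centralizer ({z} : Set G)))]
    {b : Set (IrrCharacter (Subgroup.centralizer ({z} : Set G)))} (hb : IsPBlock M b)
    (y y' : Subgroup.centralizer ({z} : Set G)) (hy : ¬ p ∣ orderOf y)
    (hy' : ¬ p ∣ orderOf y') :
    ∑ ζ : IrrCharacter G, shiftPart b (ζ : G → ℂ) y' * conj (shiftPart b (ζ : G → ℂ) y) =
      ∑ χ : IrrCharacter (Subgroup.centralizer ({z} : Set G)),
        b.indicator (fun χ : IrrCharacter (Subgroup.centralizer ({z} : Set G)) =>
          (χ : Subgroup.centralizer ({z} : Set G) → ℂ) y' *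
          conj ((χ : Subgroup.centralizer ({z} : Set G) → ℂ) y)) χ := by
  classical
  haveI hMp : M.IsPrime := hM.2.1.isPrime
  have hp : p.Prime := hM.1
  set Ψ : Subgroup.centralizer ({z} : Set G) → ℂ := fun c =>
    ∑ ζ : IrrCharacter G, conj (shiftPart b (ζ : G → ℂ) y) * (ζ : G → ℂ) (z * (c : G)) -
    ∑ χ : IrrCharacter (Subgroup.centralizer ({z} : Set G)),
      b.indicator (fun χ : IrrCharacter (Subgroup.centralizer ({z} : Set G)) =>
        conj ((χ : Subgroup.centralizer ({z} : Set G) → ℂ) y)) χ *
        (χ : Subgroup.centralizer ({z} : Set G) → ℂ) c with hΨ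
  have hΨcf : IsClassFunction (Subgroup.centralizer ({z} : Set G)) Ψ := by
    intro c t
    simp only [hΨ]
    congr 1
    · apply Finset.sum_congr rfl
      intro ζ _
      have := isClassFunction_shift (isClassFunction_of_isIrrCharacter ζ.2) z c t
      beta_reduce at this
      rw [this]
    · apply Finset.sum_congr rfl
      intro χ _
      rw [isClassFunction_of_isIrrCharacter χ.2 c t]
  have hΨ0 : ∀ c : Subgroup.centralizer ({z} : Set G), ¬ p ∣ orderOf c → Ψ c = 0 := by
    intro c hc
    simp only [hΨ]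
    have h1 := congrArg conj (sum_shiftPart_mul_conj hM hz hb y c hy hc)
    rw [map_sum, map_sum] at h1
    rw [sub_eq_zero]
    have e1 : ∀ ζ : IrrCharacter G, conj (shiftPart b (ζ : G → ℂ) y *
        conj ((ζ : G → ℂ) (z * (c : G)))) =
        conj (shiftPart b (ζ : G → ℂ) y) * (ζ : G → ℂ) (z * (c : G)) := by
      intro ζ
      rw [map_mul, Complex.conj_conj]
    rw [Finset.sum_congr rfl (fun ζ _ => e1 ζ)] at h1
    rw [h1]
    apply Finset.sum_congr rfl
    intro χ _
    by_cases hχ : χ ∈ b
    · rw [Set.indicator_of_mem hχ, Set.indicator_of_mem hχ, map_mul, Complex.conj_conj]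
    · rw [Set.indicator_of_notMem hχ, Set.indicator_of_notMem hχ, map_zero, zero_mul]
  have h1 := sum_blockCoeff_shift_eq_zero_of_vanish hM hb hΨcf hΨ0 hy'
  simp only [hΨ, mul_sub, Finset.sum_sub_distrib, Finset.mul_sum] at h1
  rw [sub_eq_zero] at h1
  rw [Finset.sum_comm] at h1
  have h2 : ∀ ζ : IrrCharacter G, ∑ k : Subgroup.centralizer ({z} : Set G),
      blockCoeff b k * (conj (shiftPart b (ζ : G → ℂ) y) *
        (ζ : G → ℂ) (z * ((y' * k : Subgroup.centralizer ({z} : Set G)) : G))) =
      shiftPart b (ζ : G → ℂ) y' * conj (shiftPart b (ζ : G → ℂ) y) := by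
    intro ζ
    conv_rhs => rw [shiftPart, Finset.sum_mul]
    apply Finset.sum_congr rfl
    intro k _
    ring
  rw [Finset.sum_congr rfl (fun ζ _ => h2 ζ)] at h1
  rw [h1, Finset.sum_comm]
  apply Finset.sum_congr rfl
  intro χ _
  have h3 : ∑ k : Subgroup.centralizer ({z} : Set G), blockCoeff b k *
      (b.indicator (fun χ : IrrCharacter (Subgroup.centralizer ({z} : Set G)) =>
        conj ((χ : Subgroup.centralizer ({z} : Set G) → ℂ) y)) χ *
        (χ : Subgroup.centralizer ({z} : Set G) → ℂ) (y' * k)) =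
      (∑ k : Subgroup.centralizer ({z} : Set G), blockCoeff b k *
        (χ : Subgroup.centralizer ({z} : Set G) → ℂ) (y' * k)) *
        b.indicator (fun χ : IrrCharacter (Subgroup.centralizer ({z} : Set G)) =>
          conj ((χ : Subgroup.centralizer ({z} : Set G) → ℂ) y)) χ := by
    rw [Finset.sum_mul]
    apply Finset.sum_congr rfl
    intro k _
    ring
  rw [h3, sum_classFunction_mul_char χ.2 (isClassFunction_blockCoeff b), omega_blockCoeff]
  by_cases hχ : χ ∈ b
  · rw [if_pos hχ, Set.indicator_of_mem hχ, Set.indicator_of_mem hχ, one_mul]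
  · rw [if_neg hχ, Set.indicator_of_notMem hχ, Set.indicator_of_notMem hχ, mul_zero]

end Sect2

end Cfsg.Agent.Helper23.Blk
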