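import Mathlib
import Cfsg.Agent.Lib.Helper23.BlockSections2
import Cfsg.Agent.Lib.Helper23.BlockMinMax

/-!
# The norm of a Brauer element (helper23's shared library)

`∑_{χ ∈ B} ∑_s χ_u(s) χ_{u⁻¹}(s⁻¹) = |C_G(u)| l(e)` for a Brauer element `(u, e)` of `B`.
-/

set_option autoImplicit false
set_option linter.unusedSectionVars false

namespace Cfsg.Agent.Helper23.Blk

open Cfsg Cfsg.Agent.Helper24 Cfsg.Agent.Helper18
open scoped ComplexConjugate

universe u

section Sect3

variable {G : Type u} [Group G] [Fintype G] {M : Ideal AlgInt} {p : ℕ}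

/-- the block part of a translate is the `shiftPart` -/
theorem blockPart_shift_eq_shiftPart {z : G} [Fintype (Subgroup.centralizer ({z} : Set G))]
    (b : Set (IrrCharacter (Subgroup.centralizer ({z} : Set G)))) {ζ : G → ℂ}
    (hζ : IsClassFunction G ζ) (y : Subgroup.centralizer ({z} : Set G)) :
    blockPart b (fun c : Subgroup.centralizer ({z} : Set G) => ζ (z * (c : G))) y =
      shiftPart b ζ y := by
  rw [blockPart_apply, ← sum_blockCoeff_mul_shift b (isClassFunction_shift hζ z) y]
  rfl

/-- the block part of the translate by the inverse, at the inverse -/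
theorem blockPart_shift_inv {z : G} [Fintype (Subgroup.centralizer ({z} : Set G))]
    (b : Set (IrrCharacter (Subgroup.centralizer ({z} : Set G)))) {ζ : G → ℂ}
    (hζ : IsCharacter G ζ) (y : Subgroup.centralizer ({z} : Set G)) :
    blockPart b (fun c : Subgroup.centralizer ({z} : Set G) => ζ (z⁻¹ * (c : G))) y⁻¹ =
      conj (blockPart b (fun c : Subgroup.centralizer ({z} : Set G) => ζ (z * (c : G))) y) := by
  classical
  letI : Fintype (IrrCharacter (Subgroup.centralizer ({z} : Set G))) := irrFintype
  rw [blockPart_apply, blockPart_apply, finsum_mem_def, finsum_mem_def,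
    finsum_eq_sum_of_fintype, finsum_eq_sum_of_fintype, map_sum]
  apply Finset.sum_congr rfl
  intro ξ _
  by_cases hξ : ξ ∈ b
  · rw [Set.indicator_of_mem hξ, Set.indicator_of_mem hξ, map_mul,
      irr_inv (isCharacter_of_isIrrCharacter ξ.2)]
    congr 1
    unfold classInner
    rw [map_mul, map_inv₀, Complex.conj_natCast, map_sum]
    congr 1
    rw [← Equiv.sum_comp (Equiv.inv (Subgroup.centralizer ({z} : Set G)))]
    apply Finset.sum_congr rfl
    intro c _
    rw [Equiv.inv_apply, map_mul, Complex.conj_conj,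
      irr_inv (isCharacter_of_isIrrCharacter ξ.2), Complex.conj_conj, ← irr_inv hζ]
    congr 2
    have hc : (c : G) * z = z * (c : G) :=
      (Subgroup.mem_centralizer_iff.1 c.2 z (Set.mem_singleton z)).symm
    rw [mul_inv_rev]
    push_cast
    -- `z⁻¹ c⁻¹ = c⁻¹ z⁻¹`
    have : (c : G)⁻¹ * z⁻¹ = z⁻¹ * (c : G)⁻¹ := by
      rw [← mul_inv_rev, ← mul_inv_rev, hc]
    rw [this]
  · rw [Set.indicator_of_notMem hξ, Set.indicator_of_notMem hξ, map_zero]

set_option maxHeartbeats 1600000 in
/-- **The norm of a Brauer element**, for a block `e` of the centralizer inducing `B` -/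
theorem brauer_element_norm (hM : IsPModular p M) {z : G}
    (hz : ∃ k : ℕ, orderOf z = p ^ k)
    [Fintype (Subgroup.centralizer ({z} : Set G))]
    {B : Set (IrrCharacter G)}
    {e : Set (IrrCharacter (Subgroup.centralizer ({z} : Set G)))}
    (hind : IsInducedBlock M (Subgroup.centralizer ({z} : Set G)) e B) :
    ∑ᶠ χ ∈ B, ∑ᶠ s : Subgroup.centralizer ({z} : Set G),
      pRegularPart p (blockPart e (fun c : Subgroup.centralizer ({z} : Set G) =>
        (χ : G → ℂ) (z * c))) s *
      blockPart e (fun c : Subgroup.centralizer ({z} : Set G) => (χ : G → ℂ) (z⁻¹ * c)) s⁻¹ =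
    (Nat.card (Subgroup.centralizer ({z} : Set G)) : ℂ) * (blockRank p e : ℂ) := by
  classical
  haveI hMp : M.IsPrime := hM.2.1.isPrime
  letI : Fintype (IrrCharacter G) := irrFintype
  letI : Fintype (IrrCharacter (Subgroup.centralizer ({z} : Set G))) := irrFintype
  have he : IsPBlock M e := hind.1
  rw [finsum_mem_def, finsum_eq_sum_of_fintype]
  -- rewrite each term
  have h1 : ∀ χ : IrrCharacter G, B.indicator (fun χ : IrrCharacter G =>
      ∑ᶠ s : Subgroup.centralizer ({z} : Set G),
      pRegularPart p (blockPart e (fun c : Subgroup.centralizer ({z} : Set G) =>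
        (χ : G → ℂ) (z * c))) s *
      blockPart e (fun c : Subgroup.centralizer ({z} : Set G) => (χ : G → ℂ) (z⁻¹ * c)) s⁻¹) χ =
      ∑ s : Subgroup.centralizer ({z} : Set G), if p ∣ orderOf s then 0 else
        shiftPart e (χ : G → ℂ) s * conj (shiftPart e (χ : G → ℂ) s) := by
    intro χ
    by_cases hχ : χ ∈ B
    · rw [Set.indicator_of_mem hχ, finsum_eq_sum_of_fintype]
      apply Finset.sum_congr rfl
      intro s _
      rw [blockPart_shift_inv e (isCharacter_of_isIrrCharacter χ.2), pRegularPart_apply,
        blockPart_shift_eq_shiftPart e (isClassFunction_of_isIrrCharacter χ.2)]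
      split_ifs
      · rw [zero_mul]
      · rfl
    · rw [Set.indicator_of_notMem hχ]
      symm
      apply Finset.sum_eq_zero
      intro s _
      split_ifs with hs
      · rfl
      · have := sum_blockCoeff_char_shift_eq_zero hM hz hind hχ s hs
        unfold shiftPart
        rw [this, zero_mul]
  rw [Finset.sum_congr rfl (fun χ _ => h1 χ), Finset.sum_comm]
  have h2 : ∀ s : Subgroup.centralizer ({z} : Set G),
      (∑ χ : IrrCharacter G, if p ∣ orderOf s then 0 else
        shiftPart e (χ : G → ℂ) s * conj (shiftPart e (χ : G → ℂ) s)) =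
      ∑ ξ : IrrCharacter (Subgroup.centralizer ({z} : Set G)),
        e.indicator (fun ξ : IrrCharacter (Subgroup.centralizer ({z} : Set G)) =>
          pRegularPart p (ξ : Subgroup.centralizer ({z} : Set G) → ℂ) s *
          conj ((ξ : Subgroup.centralizer ({z} : Set G) → ℂ) s)) ξ := by
    intro s
    by_cases hs : p ∣ orderOf s
    · simp only [if_pos hs, Finset.sum_const_zero]
      symm
      apply Finset.sum_eq_zero
      intro ξ _
      by_cases hξ : ξ ∈ e
      · rw [Set.indicator_of_mem hξ, pRegularPart_of_dvd p _ hs, zero_mul]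
      · rw [Set.indicator_of_notMem hξ]
    · simp only [if_neg hs]
      rw [sum_shiftPart_mul_conj_shiftPart hM hz he s s hs hs]
      apply Finset.sum_congr rfl
      intro ξ _
      by_cases hξ : ξ ∈ e
      · rw [Set.indicator_of_mem hξ, Set.indicator_of_mem hξ, pRegularPart_of_not_dvd p _ hs]
      · rw [Set.indicator_of_notMem hξ, Set.indicator_of_notMem hξ]
  rw [Finset.sum_congr rfl (fun s _ => h2 s), Finset.sum_comm, blockRank_block p hM he,
    Finset.mul_sum]
  apply Finset.sum_congr rfl
  intro ξ _
  have hC0 : (Nat.card (Subgroup.centralizer ({z} : Set G)) : ℂ) ≠ 0 := by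
    exact_mod_cast (Nat.card_pos (α := Subgroup.centralizer ({z} : Set G))).ne'
  by_cases hξ : ξ ∈ e
  · rw [if_pos hξ]
    have h3 : ∀ s : Subgroup.centralizer ({z} : Set G),
        e.indicator (fun ξ : IrrCharacter (Subgroup.centralizer ({z} : Set G)) =>
          pRegularPart p (ξ : Subgroup.centralizer ({z} : Set G) → ℂ) s *
          conj ((ξ : Subgroup.centralizer ({z} : Set G) → ℂ) s)) ξ =
          pRegularPart p (ξ : Subgroup.centralizer ({z} : Set G) → ℂ) s *
          conj ((ξ : Subgroup.centralizer ({z} : Set G) → ℂ) s) :=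
      fun s => Set.indicator_of_mem hξ _
    rw [Finset.sum_congr rfl (fun s _ => h3 s)]
    unfold classInner
    rw [← mul_assoc, mul_inv_cancel₀ hC0, one_mul]
  · rw [if_neg hξ, mul_zero]
    apply Finset.sum_eq_zero
    intro s _
    exact Set.indicator_of_notMem hξ _

/-- a block of the centralizer of a `p`-element whose central character takes the value `1` on
the truncated idempotent of `B` induces `B` -/
theorem isInducedBlock_of_omega (hM : IsPModular p M) {z : G}
    (hz : ∃ k : ℕ, orderOf z = p ^ k)
    [Fintype (Subgroup.centralizer ({z} : Set G))]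
    {B : Set (IrrCharacter G)} (hB : IsPBlock M B)
    {e : Set (IrrCharacter (Subgroup.centralizer ({z} : Set G)))} (he : IsPBlock M e)
    (hom : ∀ ξ ∈ e, MemLocalIdeal M
      (omega (ξ : Subgroup.centralizer ({z} : Set G) → ℂ)
        (fun h : Subgroup.centralizer ({z} : Set G) => blockCoeff B (h : G)) - 1)) :
    IsInducedBlock M (Subgroup.centralizer ({z} : Set G)) e B := by
  classical
  haveI hMp : M.IsPrime := hM.2.1.isPrime
  letI : Fintype (IrrCharacter G) := irrFintype
  letI : Fintype (IrrCharacter (Subgroup.centralizer ({z} : Set G))) := irrFintype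
  obtain ⟨B', hind⟩ := exists_isInducedBlock_centralizer hM hz he
  obtain ⟨ξ, hξ⟩ := block_nonempty hM he
  obtain ⟨χ', hχ'⟩ := block_nonempty hM hind.2.1
  have h1 := IsInducedBlock.omega_cong (Subgroup.centralizer ({z} : Set G)) hind hξ hχ' (isClassFunction_blockCoeff B)
    (memLocalRing_blockCoeff hMp hB)
  rw [omega_blockCoeff] at h1
  have hχ'B : χ' ∈ B := by
    by_contra hcon
    rw [if_neg hcon, sub_zero] at h1
    have h2 := memLocalIdeal_sub h1 (hom ξ hξ)
    rw [sub_sub_cancel] at h2
    exact not_memLocalIdeal_one h2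
  have : B' = B := isPBlock_eq_of_mem hind.2.1 hB hχ' hχ'B
  rw [← this]
  exact hind

end Sect3

end Cfsg.Agent.Helper23.Blk
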