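import Mathlib
import Cfsg.Agent.Lib.Helper23.BlockSections3
import Cfsg.Agent.Lib.Helper23.BlockHeightZero3
import Cfsg.Agent.Lib.Helper23.BlockRows

/-!
# Contributions of a subsection (helper23's shared library)

For a `p`-element `z`, a subgroup `H = C_G(z)` and a block `e` of `H`, the contribution of
`(z, e)` to the pair `(χ, ψ)` of characters of `G` is the truncated inner product
`m_{χψ} = [ (η_χ)°, η_ψ ]_H`, where `η_χ` is the `e`-part of `c ↦ χ (z c)`.

`sum_contrib_normSq_le`: `∑_{χ, ψ ∈ B} |m_{χψ}|² ≤ l(e)` when `e` induces `B`.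
-/

set_option autoImplicit false
set_option linter.unusedSectionVars false

namespace Cfsg.Agent.Helper23.Blk

open Cfsg Cfsg.Agent.Helper24 Cfsg.Agent.Helper18
open scoped ComplexConjugate

universe u

section Alg

/-- a Gram-type rearrangement -/
theorem sum_inner_mul_conj {ι S : Type*} [Fintype ι] [Fintype S] (c : ℂ) (f : S → ℂ)
    (g : ι → S → ℂ) :
    ∑ i, (c * ∑ s, f s * conj (g i s)) * conj (c * ∑ t, f t * conj (g i t)) =
      c * conj c * ∑ s, ∑ t, f s * conj (f t) * ∑ i, g i t * conj (g i s) := by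
  have h1 : ∀ i, (c * ∑ s, f s * conj (g i s)) * conj (c * ∑ t, f t * conj (g i t)) =
      c * conj c * ∑ s, ∑ t, f s * conj (f t) * (g i t * conj (g i s)) := by
    intro i
    rw [map_mul, map_sum]
    have : (c * ∑ s, f s * conj (g i s)) * (conj c * ∑ t, conj (f t * conj (g i t))) =
        c * conj c * ((∑ s, f s * conj (g i s)) * ∑ t, conj (f t * conj (g i t))) := by ring
    rw [this, Finset.sum_mul_sum]
    congr 1
    apply Finset.sum_congr rfl
    intro s _
    apply Finset.sum_congr rfl
    intro t _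
    rw [map_mul, Complex.conj_conj]
    ring
  rw [Finset.sum_congr rfl (fun i _ => h1 i), ← Finset.mul_sum]
  congr 1
  rw [Finset.sum_comm]
  apply Finset.sum_congr rfl
  intro s _
  rw [Finset.sum_comm]
  apply Finset.sum_congr rfl
  intro t _
  rw [Finset.mul_sum]

end Alg

section Contrib

variable {G : Type u} [Group G] [Fintype G] {M : Ideal AlgInt} {p : ℕ}

/-- the `e`-part of the translate of `χ` by `z`, on the subgroup `H` -/
noncomputable def etaPart (H : Subgroup G) [Fintype H] (z : G) (e : Set (IrrCharacter H))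
    (χ : G → ℂ) : H → ℂ :=
  blockPart e (fun c : H => χ (z * (c : G)))

/-- the contribution of the subsection `(z, e)` to the pair `(χ, ψ)` -/
noncomputable def contrib (p : ℕ) (H : Subgroup G) [Fintype H] (z : G) (e : Set (IrrCharacter H))
    (χ ψ : G → ℂ) : ℂ :=
  classInner (pRegularPart p (etaPart H z e χ)) (etaPart H z e ψ)

/-- the block part as a combination of irreducible characters -/
theorem blockPart_eq_sum {K : Type u} [Group K] [Fintype K] [Fintype (IrrCharacter K)]
    (b : Set (IrrCharacter K)) [DecidablePred (· ∈ b)] (T : K → ℂ) :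
    blockPart b T = ∑ ψ : IrrCharacter K,
      (if ψ ∈ b then classInner T (ψ : K → ℂ) else 0) • (ψ : K → ℂ) := by
  funext y
  rw [blockPart_apply, finsum_mem_def, finsum_eq_sum_of_fintype, Finset.sum_apply]
  apply Finset.sum_congr rfl
  intro ψ _
  rw [Pi.smul_apply, smul_eq_mul]
  by_cases hψ : ψ ∈ b
  · rw [Set.indicator_of_mem hψ, if_pos hψ]
  · rw [Set.indicator_of_notMem hψ, if_neg hψ, zero_mul]

theorem isClassFunction_blockPart {K : Type u} [Group K] [Fintype K]
    (b : Set (IrrCharacter K)) (T : K → ℂ) : IsClassFunction K (blockPart b T) := by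
  classical
  letI : Fintype (IrrCharacter K) := irrFintype
  intro g h
  rw [blockPart_eq_sum, Finset.sum_apply, Finset.sum_apply]
  apply Finset.sum_congr rfl
  intro ψ _
  rw [Pi.smul_apply, Pi.smul_apply, isClassFunction_of_isIrrCharacter ψ.2 g h]

/-- the truncated block part is orthogonal to the characters outside the block -/
theorem classInner_pRegularPart_blockPart_eq_zero {K : Type u} [Group K] [Fintype K]
    (hM : IsPModular p M) {b : Set (IrrCharacter K)} (hb : IsPBlock M b) (T : K → ℂ)
    {ξ : IrrCharacter K} (hξ : ξ ∉ b) :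
    classInner (pRegularPart p (blockPart b T)) (ξ : K → ℂ) = 0 := by
  classical
  haveI hMp : M.IsPrime := hM.2.1.isPrime
  letI : Fintype (IrrCharacter K) := irrFintype
  rw [blockPart_eq_sum, pRegularPart_sum, classInner_sum_left]
  apply Finset.sum_eq_zero
  intro ψ _
  rw [pRegularPart_smul, classInner_smul_left]
  by_cases hψ : ψ ∈ b
  · rw [classInner_pRegularPart_eq_zero p hM (fun g => memLocalRing_blockCoeff hMp hb g) hψ hξ,
      mul_zero]
  · rw [if_neg hψ, zero_mul]

set_option maxHeartbeats 1600000 in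
/-- row sums of squares of contributions: `∑_ψ |m_{χψ}|² = m_{χχ}` -/
theorem sum_contrib_mul_conj_aux (hM : IsPModular p M) {z : G}
    (hz : ∃ k : ℕ, orderOf z = p ^ k)
    [Fintype (Subgroup.centralizer ({z} : Set G))]
    [Fintype (IrrCharacter G)]
    {e : Set (IrrCharacter (Subgroup.centralizer ({z} : Set G)))} (he : IsPBlock M e)
    (χ : G → ℂ) :
    ∑ ψ : IrrCharacter G, contrib p (Subgroup.centralizer ({z} : Set G)) z e χ (ψ : G → ℂ) *
        conj (contrib p (Subgroup.centralizer ({z} : Set G)) z e χ (ψ : G → ℂ)) =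
      contrib p (Subgroup.centralizer ({z} : Set G)) z e χ χ := by
  classical
  haveI hMp : M.IsPrime := hM.2.1.isPrime
  letI : Fintype (IrrCharacter (Subgroup.centralizer ({z} : Set G))) := irrFintype
  set f : Subgroup.centralizer ({z} : Set G) → ℂ :=
    pRegularPart p (etaPart (Subgroup.centralizer ({z} : Set G)) z e χ) with hf
  have hfcf : IsClassFunction (Subgroup.centralizer ({z} : Set G)) f :=
    isClassFunction_pRegularPart p (isClassFunction_blockPart e _)
  -- the right side through Parseval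
  have hR : contrib p (Subgroup.centralizer ({z} : Set G)) z e χ χ =
      ∑ ξ : IrrCharacter (Subgroup.centralizer ({z} : Set G)),
      (if ξ ∈ e then classInner f (ξ : Subgroup.centralizer ({z} : Set G) → ℂ) *
        conj (classInner f (ξ : Subgroup.centralizer ({z} : Set G) → ℂ)) else 0) := by
    unfold contrib
    rw [← hf, ← classInner_pRegularPart_pRegularPart, ← hf, classInner_eq_sum_mul hfcf f]
    apply Finset.sum_congr rfl
    intro ξ _
    by_cases hξ : ξ ∈ e
    · rw [if_pos hξ]
    · rw [if_neg hξ, hf]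
      unfold etaPart
      rw [classInner_pRegularPart_blockPart_eq_zero hM he _ hξ, zero_mul]
  rw [hR]
  -- expand both sides
  have hL : ∀ ψ : IrrCharacter G,
      contrib p (Subgroup.centralizer ({z} : Set G)) z e χ (ψ : G → ℂ) =
      (Nat.card (Subgroup.centralizer ({z} : Set G)) : ℂ)⁻¹ *
        ∑ s : Subgroup.centralizer ({z} : Set G), f s * conj (shiftPart e (ψ : G → ℂ) s) := by
    intro ψ
    unfold contrib classInner
    rw [← hf]
    congr 1
    apply Finset.sum_congr rfl
    intro s _
    unfold etaPart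
    rw [blockPart_shift_eq_shiftPart e (isClassFunction_of_isIrrCharacter ψ.2)]
  rw [Finset.sum_congr rfl (fun ψ _ => by rw [hL ψ]),
    sum_inner_mul_conj (Nat.card (Subgroup.centralizer ({z} : Set G)) : ℂ)⁻¹ f
      (fun ψ : IrrCharacter G => shiftPart e (ψ : G → ℂ))]
  set g' : IrrCharacter (Subgroup.centralizer ({z} : Set G)) →
      Subgroup.centralizer ({z} : Set G) → ℂ :=
    fun ξ => if ξ ∈ e then (ξ : Subgroup.centralizer ({z} : Set G) → ℂ) else 0 with hg'
  have hR2 : ∀ ξ : IrrCharacter (Subgroup.centralizer ({z} : Set G)),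
      (if ξ ∈ e then classInner f (ξ : Subgroup.centralizer ({z} : Set G) → ℂ) *
        conj (classInner f (ξ : Subgroup.centralizer ({z} : Set G) → ℂ)) else 0) =
      ((Nat.card (Subgroup.centralizer ({z} : Set G)) : ℂ)⁻¹ *
          ∑ s : Subgroup.centralizer ({z} : Set G), f s * conj (g' ξ s)) *
        conj ((Nat.card (Subgroup.centralizer ({z} : Set G)) : ℂ)⁻¹ *
          ∑ t : Subgroup.centralizer ({z} : Set G), f t * conj (g' ξ t)) := by
    intro ξ
    by_cases hξ : ξ ∈ e
    · rw [if_pos hξ]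
      simp only [hg', if_pos hξ]
      rfl
    · rw [if_neg hξ]
      simp only [hg', if_neg hξ, Pi.zero_apply, map_zero, mul_zero, Finset.sum_const_zero,
        zero_mul]
  rw [Finset.sum_congr rfl (fun ξ _ => hR2 ξ),
    sum_inner_mul_conj (Nat.card (Subgroup.centralizer ({z} : Set G)) : ℂ)⁻¹ f g']
  congr 1
  apply Finset.sum_congr rfl
  intro s _
  apply Finset.sum_congr rfl
  intro t _
  by_cases hs : p ∣ orderOf s
  · rw [hf, pRegularPart_of_dvd p _ hs, zero_mul, zero_mul, zero_mul]
  by_cases ht : p ∣ orderOf t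
  · rw [hf, pRegularPart_of_dvd p _ ht, map_zero, mul_zero, zero_mul, zero_mul]
  congr 1
  rw [sum_shiftPart_mul_conj_shiftPart hM hz he s t hs ht]
  apply Finset.sum_congr rfl
  intro ξ _
  by_cases hξ : ξ ∈ e
  · rw [Set.indicator_of_mem hξ]
    simp only [hg', if_pos hξ]
  · rw [Set.indicator_of_notMem hξ]
    simp only [hg', if_neg hξ, Pi.zero_apply, zero_mul]

/-- trace of the contributions of a subsection: `∑_{χ ∈ B} m_{χχ} = l(e)` -/
theorem sum_contrib_self_aux (hM : IsPModular p M) {z : G}
    (hz : ∃ k : ℕ, orderOf z = p ^ k)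
    [Fintype (Subgroup.centralizer ({z} : Set G))]
    [Fintype (IrrCharacter G)]
    {B : Set (IrrCharacter G)} [DecidablePred (· ∈ B)]
    {e : Set (IrrCharacter (Subgroup.centralizer ({z} : Set G)))}
    (hind : IsInducedBlock M (Subgroup.centralizer ({z} : Set G)) e B) :
    ∑ χ : IrrCharacter G, (if χ ∈ B then
      contrib p (Subgroup.centralizer ({z} : Set G)) z e (χ : G → ℂ) (χ : G → ℂ) else 0) =
      (blockRank p e : ℂ) := by
  classical
  have h1 := brauer_element_norm hM hz hind
  rw [finsum_mem_def, finsum_eq_sum_of_fintype] at h1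
  have hC0 : (Nat.card (Subgroup.centralizer ({z} : Set G)) : ℂ) ≠ 0 := by
    exact_mod_cast (Nat.card_pos (α := Subgroup.centralizer ({z} : Set G))).ne'
  apply mul_left_cancel₀ hC0
  rw [← h1, Finset.mul_sum]
  apply Finset.sum_congr rfl
  intro χ _
  by_cases hχ : χ ∈ B
  · rw [if_pos hχ, Set.indicator_of_mem hχ, finsum_eq_sum_of_fintype]
    unfold contrib classInner
    rw [← mul_assoc, mul_inv_cancel₀ hC0, one_mul]
    apply Finset.sum_congr rfl
    intro s _
    rw [blockPart_shift_inv e (isCharacter_of_isIrrCharacter χ.2)]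
    rfl
  · rw [if_neg hχ, Set.indicator_of_notMem hχ, mul_zero]

set_option maxHeartbeats 800000 in
/-- **the contributions of a subsection are bounded by its rank**:
`∑_{χ, ψ ∈ B} |m_{χψ}|² ≤ l(e)` -/
theorem sum_contrib_normSq_le (hM : IsPModular p M) {z : G}
    (hz : ∃ k : ℕ, orderOf z = p ^ k) (H : Subgroup G) [Fintype H]
    (hH : H = Subgroup.centralizer ({z} : Set G))
    {B : Set (IrrCharacter G)} [Fintype B]
    {e : Set (IrrCharacter H)} (hind : IsInducedBlock M H e B) :
    ∑ χ : B, ∑ ψ : B, ‖contrib p H z e ((χ : IrrCharacter G) : G → ℂ)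
      ((ψ : IrrCharacter G) : G → ℂ)‖ ^ 2 ≤ (blockRank p e : ℝ) := by
  classical
  subst hH
  letI : Fintype (IrrCharacter G) := irrFintype
  have he : IsPBlock M e := hind.1
  have hsub : ∀ f : IrrCharacter G → ℝ, (∀ ψ, 0 ≤ f ψ) →
      ∑ ψ : B, f ψ ≤ ∑ ψ : IrrCharacter G, f ψ := by
    intro f hf
    rw [← Finset.sum_subtype (Finset.univ.filter (· ∈ B)) (by simp) f]
    exact Finset.sum_le_sum_of_subset_of_nonneg (Finset.filter_subset _ _)
      (fun i _ _ => hf i)
  have h1 : ∑ χ : B, ∑ ψ : B, ‖contrib p (Subgroup.centralizer ({z} : Set G)) z e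
      ((χ : IrrCharacter G) : G → ℂ) ((ψ : IrrCharacter G) : G → ℂ)‖ ^ 2 ≤
      ∑ χ : B, ∑ ψ : IrrCharacter G, ‖contrib p (Subgroup.centralizer ({z} : Set G)) z e
      ((χ : IrrCharacter G) : G → ℂ) (ψ : G → ℂ)‖ ^ 2 := by
    apply Finset.sum_le_sum
    intro χ _
    exact hsub (fun ψ => ‖contrib p (Subgroup.centralizer ({z} : Set G)) z e
      ((χ : IrrCharacter G) : G → ℂ) (ψ : G → ℂ)‖ ^ 2) (fun ψ => sq_nonneg _)
  refine h1.trans (le_of_eq ?_)
  apply Complex.ofReal_injective
  push_cast
  have h2 : ∀ χ : B, ∑ ψ : IrrCharacter G,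
      ((‖contrib p (Subgroup.centralizer ({z} : Set G)) z e
        ((χ : IrrCharacter G) : G → ℂ) (ψ : G → ℂ)‖ : ℂ)) ^ 2 =
      contrib p (Subgroup.centralizer ({z} : Set G)) z e
        ((χ : IrrCharacter G) : G → ℂ) ((χ : IrrCharacter G) : G → ℂ) := by
    intro χ
    rw [← sum_contrib_mul_conj_aux hM hz he]
    apply Finset.sum_congr rfl
    intro ψ _
    rw [Complex.mul_conj']
  rw [Finset.sum_congr rfl (fun χ _ => h2 χ), ← sum_contrib_self_aux hM hz hind,
    ← Finset.sum_subtype (Finset.univ.filter (· ∈ B)) (by simp)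
      (fun χ : IrrCharacter G => contrib p (Subgroup.centralizer ({z} : Set G)) z e
        (χ : G → ℂ) (χ : G → ℂ)), Finset.sum_filter]

end Contrib

end Cfsg.Agent.Helper23.Blk
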