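import Mathlib
import Cfsg.Prelude.Def_OddOrderLocal
import Cfsg.Agent.Lib.Helper10.PiCore

/-!
# `O_π` and subgroups (helper23's shared library)
-/

set_option autoImplicit false
set_option linter.unusedSectionVars false

namespace Cfsg.Agent.Helper23

open Cfsg Cfsg.Agent.Helper10

section Equiv

variable {K K' : Type*} [Group K] [Group K']

/-- `O_π` is preserved by isomorphisms -/
theorem mem_piCore_map_equiv (π : Set ℕ) (σ : K ≃* K') {x : K} (hx : x ∈ piCore π K) :
    σ x ∈ piCore π K' := by
  have hn : ((piCore π K).map σ.toMonoidHom).Normal :=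
    (inferInstance : (piCore π K).Normal).map σ.toMonoidHom σ.surjective
  have hle : (piCore π K).map σ.toMonoidHom ≤ piCore π K' := by
    unfold Cfsg.piCore
    rw [Subgroup.map_le_iff_le_comap]
    apply sSup_le
    rintro N ⟨hNn, hN⟩
    rw [← Subgroup.map_le_iff_le_comap]
    apply le_sSup
    refine ⟨hNn.map σ.toMonoidHom σ.surjective, ?_⟩
    rw [Nat.card_congr (N.equivMapOfInjective σ.toMonoidHom σ.injective).symm.toEquiv]
    exact hN
  exact hle ⟨x, hx, rfl⟩

theorem mem_piCore_equiv_iff (π : Set ℕ) (σ : K ≃* K') {x : K} :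
    σ x ∈ piCore π K' ↔ x ∈ piCore π K := by
  constructor
  · intro h
    have := mem_piCore_map_equiv π σ.symm h
    rwa [MulEquiv.symm_apply_apply] at this
  · exact mem_piCore_map_equiv π σ

/-- the order of an element of `O_π` is a `π`-number -/
theorem isPiNum_orderOf_of_mem_piCore [Finite K] (π : Set ℕ) {x : K} (hx : x ∈ piCore π K) :
    IsPiNum π (orderOf x) := by
  have h1 : orderOf x = orderOf (⟨x, hx⟩ : piCore π K) := (Subgroup.orderOf_mk x hx).symm
  rw [h1]
  exact (card_piCore π).of_dvd (orderOf_dvd_natCard _)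

/-- elements mapped into `O_π` by an injective homomorphism lie in `O_π` -/
theorem mem_piCore_of_map_mem [Finite K] [Finite K'] (π : Set ℕ) (φ : K →* K')
    (hφ : Function.Injective φ) {c : K} (h : φ c ∈ piCore π K') : c ∈ piCore π K := by
  have hn : ((piCore π K').comap φ).Normal := (inferInstance : (piCore π K').Normal).comap φ
  have hle : (piCore π K').comap φ ≤ piCore π K := by
    apply le_piCore π hn
    let f : ((piCore π K').comap φ) →* (piCore π K') :=
      (φ.comp ((piCore π K').comap φ).subtype).codRestrict (piCore π K') (fun n => n.2)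
    have hf : Function.Injective f := by
      intro a b hab
      have h1 := congrArg Subtype.val hab
      exact Subtype.ext (hφ h1)
    exact (card_piCore π).of_dvd (Subgroup.card_dvd_of_injective f hf)
  exact hle h

end Equiv

section Sub

variable {G : Type*} [Group G] [Finite G]

/-- for `C ≤ L`, elements of `C` lying in `O_π(L)` lie in `O_π(C)` -/
theorem mem_piCore_of_mem_piCore_of_le (π : Set ℕ) {C L : Subgroup G} (hCL : C ≤ L) {c : C}
    (h : (⟨(c : G), hCL c.2⟩ : L) ∈ piCore π ↥L) : c ∈ piCore π ↥C :=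
  mem_piCore_of_map_mem π (Subgroup.inclusion hCL) (Subgroup.inclusion_injective hCL) h

/-- for `C` normal in `L`, `O_π(C) ≤ O_π(L)` -/
theorem mem_piCore_of_normal (π : Set ℕ) {C L : Subgroup G} (hCL : C ≤ L)
    (hLN : L ≤ Subgroup.normalizer (C : Set G)) {c : C} (h : c ∈ piCore π ↥C) :
    (⟨(c : G), hCL c.2⟩ : L) ∈ piCore π ↥L := by
  haveI : (C.subgroupOf L).Normal := Subgroup.normal_subgroupOf_of_le_normalizer hLN
  let σ : ↥(C.subgroupOf L) ≃* ↥C := Subgroup.subgroupOfEquivOfLe hCL
  have h1 : σ.symm c ∈ piCore π ↥(C.subgroupOf L) := mem_piCore_map_equiv π σ.symm h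
  have h2 := map_subtype_piCore_le π (C.subgroupOf L) ⟨σ.symm c, h1, rfl⟩
  have h3 : (C.subgroupOf L).subtype (σ.symm c) = (⟨(c : G), hCL c.2⟩ : L) := by
    apply Subtype.ext
    rfl
  rwa [h3] at h2

/-- under the Hall property of `L`, `O_π(C) ≤ O_π(L)` for `C ≤ L` -/
theorem mem_piCore_of_hall (π : Set ℕ) {C L : Subgroup G} (hCL : C ≤ L)
    (hhall : ∀ x : L, (∀ q : ℕ, q.Prime → q ∣ orderOf x → q ∈ π) → x ∈ piCore π ↥L) {c : C}
    (h : c ∈ piCore π ↥C) : (⟨(c : G), hCL c.2⟩ : L) ∈ piCore π ↥L := by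
  apply hhall
  have h1 := isPiNum_orderOf_of_mem_piCore π h
  have h2 : orderOf (⟨(c : G), hCL c.2⟩ : L) = orderOf c := by
    rw [← Subgroup.orderOf_coe, ← Subgroup.orderOf_coe c]
  rw [h2]
  exact h1

end Sub

end Cfsg.Agent.Helper23
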