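import Mathlib
import Cfsg.Agent.Lib.Helper23.BlockKernel
import Cfsg.Agent.Lib.Helper23.BlockFR3
import Cfsg.Agent.Lib.Helper23.BlockSecondMain
import Cfsg.Agent.Lib.Helper23.PiCoreSub

/-!
# Kernels of blocks and the Brauer map (helper23's shared library)
-/

set_option autoImplicit false
set_option linter.unusedSectionVars false
set_option linter.style.haveILetI false

namespace Cfsg.Agent.Helper23.Blk

open Cfsg Cfsg.Agent.Helper24
open scoped ComplexConjugate

universe u

section KerLemma

variable {G : Type u} [Group G] [Fintype G] {M : Ideal AlgInt} {p : ℕ}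

theorem isClassFunction_normalIdem (N : Subgroup G) [N.Normal] [DecidablePred (· ∈ N)] :
    IsClassFunction G (fun g => if g ∈ N then (Nat.card N : ℂ)⁻¹ else 0) := by
  intro g x
  have : x * g * x⁻¹ ∈ N ↔ g ∈ N := by
    constructor
    · intro hx
      have := ‹N.Normal›.conj_mem _ hx x⁻¹
      simpa [mul_assoc] using this
    · intro hg
      exact ‹N.Normal›.conj_mem _ hg x
  simp only [this]

theorem memLocalRing_normalIdem (hM : IsPModular p M) (N : Subgroup G)
    [DecidablePred (· ∈ N)] (hN : ¬ p ∣ Nat.card N) (g : G) :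
    MemLocalRing M ((fun g => if g ∈ N then (Nat.card N : ℂ)⁻¹ else 0) g) := by
  haveI hMp : M.IsPrime := hM.2.1.isPrime
  simp only
  split_ifs
  · apply memLocalRing_inv (memLocalRing_natCast _)
    rw [memLocalIdeal_natCast_iff hM]
    exact hN
  · exact memLocalRing_zero hMp.ne_top

/-- the product of a block idempotent with the idempotent of a normal `p'`-subgroup is the block
idempotent or zero -/
theorem conv_blockCoeff_normalIdem (hM : IsPModular p M) {β : Set (IrrCharacter G)}
    (hβ : IsPBlock M β) (N : Subgroup G) [N.Normal] [DecidablePred (· ∈ N)]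
    (hN : ¬ p ∣ Nat.card N) :
    (((∀ χ ∈ β, ∀ n ∈ N, (χ : G → ℂ) n = (χ : G → ℂ) 1) ∧
      conv (blockCoeff β) (fun g => if g ∈ N then (Nat.card N : ℂ)⁻¹ else 0) = blockCoeff β) ∨
    ((¬ ∀ χ ∈ β, ∀ n ∈ N, (χ : G → ℂ) n = (χ : G → ℂ) 1) ∧
      conv (blockCoeff β) (fun g => if g ∈ N then (Nat.card N : ℂ)⁻¹ else 0) = 0)) := by
  classical
  haveI hMp : M.IsPrime := hM.2.1.isPrime
  letI : Fintype (IrrCharacter G) := irrFintype
  set ν : G → ℂ := fun g => if g ∈ N then (Nat.card N : ℂ)⁻¹ else 0 with hν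
  have hνcf : IsClassFunction G ν := isClassFunction_normalIdem N
  set U : IrrCharacter G → ℂ := fun ζ => omega (ζ : G → ℂ) ν with hU
  set E : IrrCharacter G → ℂ := fun ζ => if ζ ∈ β then (1 : ℂ) else 0 with hE
  have hsU : synth U = ν := by
    funext g
    exact synth_omega hνcf g
  have hsE : synth E = blockCoeff β := by
    funext g
    exact (blockCoeff_eq_synth β g).symm
  have hUval : ∀ ζ : IrrCharacter G, U ζ =
      if ∀ n ∈ N, (ζ : G → ℂ) n = (ζ : G → ℂ) 1 then 1 else 0 := by
    intro ζ
    exact omega_normal_idem N ζ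
  have hconv : conv (blockCoeff β) ν = synth (E * U) := by
    rw [← hsE, ← hsU, conv_synth]
  by_cases hall : ∀ χ ∈ β, ∀ n ∈ N, (χ : G → ℂ) n = (χ : G → ℂ) 1
  · left
    refine ⟨hall, ?_⟩
    rw [hconv, ← hsE]
    congr 1
    funext ζ
    rw [Pi.mul_apply, hUval]
    by_cases hζ : ζ ∈ β
    · rw [if_pos (hall ζ hζ), mul_one]
    · simp only [hE, if_neg hζ, zero_mul]
  · right
    refine ⟨hall, ?_⟩
    rw [hconv]
    have h0 : E * U = 0 := by
      funext ζ
      rw [Pi.mul_apply, hUval, Pi.zero_apply]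
      by_cases hζ : ζ ∈ β
      · have hnot : ¬ ∀ n ∈ N, (ζ : G → ℂ) n = (ζ : G → ℂ) 1 := by
          intro hker
          apply hall
          intro χ hχ
          have hsame : SameBlock M (ζ : G → ℂ) (χ : G → ℂ) := by
            obtain ⟨χ₀, rfl⟩ := hβ
            exact sameBlock_trans (sameBlock_symm hζ) hχ
          exact le_ker_of_sameBlock hM hsame N hN hker
        rw [if_neg hnot, mul_zero]
      · simp only [hE, if_neg hζ, zero_mul]
    rw [h0]
    funext g
    rw [synth_zero, Pi.zero_apply]

/-- **The kernel lemma**: for a `P`-stable block `β` of `L ≥ C_G(P)` and a `P`-invariant normal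
`p'`-subgroup `K` of `L`, `K` lies in the kernel of `β` iff `C_K(P)` lies in the kernel of a
character `ξ` of `C_G(P)` occurring in the Brauer-map image of the idempotent of `β`. -/
theorem ker_iff_of_brauer (hM : IsPModular p M) {P L : Subgroup G}
    [Fintype (Subgroup.centralizer (P : Set G))] (hP : IsPGroup p P)
    (hCL : Subgroup.centralizer (P : Set G) ≤ L) (hPL : P ≤ Subgroup.normalizer (L : Set G))
    {β : Set (IrrCharacter L)} (hβ : IsPBlock M β) (hstab : ∀ x ∈ P, StabilizesBlock L β x)
    (K : Subgroup L) [K.Normal] (hK : ¬ p ∣ Nat.card K)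
    (hKP : ∀ x ∈ P, ∀ k k' : L, (k' : G) = x * (k : G) * x⁻¹ → k ∈ K → k' ∈ K)
    (ξ : IrrCharacter (Subgroup.centralizer (P : Set G)))
    (hξ : ¬ MemLocalIdeal M (omega (ξ : Subgroup.centralizer (P : Set G) → ℂ)
      (resC P (Subgroup.centralizer (P : Set G)) (ext0 L (blockCoeff β))))) :
    (∀ χ ∈ β, ∀ k ∈ K, (χ : L → ℂ) k = (χ : L → ℂ) 1) ↔
      ∀ c : Subgroup.centralizer (P : Set G), (⟨(c : G), hCL c.2⟩ : L) ∈ K →
        (ξ : Subgroup.centralizer (P : Set G) → ℂ) c =
          (ξ : Subgroup.centralizer (P : Set G) → ℂ) 1 := by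
  classical
  haveI hMp : M.IsPrime := hM.2.1.isPrime
  haveI : Fintype L := Fintype.ofFinite _
  letI : Fintype (IrrCharacter L) := irrFintype
  letI : Fintype (IrrCharacter (Subgroup.centralizer (P : Set G))) := irrFintype
  set ν : L → ℂ := fun g => if g ∈ K then (Nat.card K : ℂ)⁻¹ else 0 with hν
  have hνcf : IsClassFunction L ν := isClassFunction_normalIdem K
  have hνR : ∀ l, MemLocalRing M (ν l) := memLocalRing_normalIdem hM K hK
  set a : G → ℂ := ext0 L (blockCoeff β) with ha
  set c : G → ℂ := ext0 L ν with hc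
  have haP : ConjInv P a := conjInv_ext0_blockCoeff_of_stabilizes L P hPL hstab
  have haC : ConjInv (Subgroup.centralizer (P : Set G)) a :=
    (conjInv_ext0 L (isClassFunction_blockCoeff β)).mono hCL
  have hcC : ConjInv (Subgroup.centralizer (P : Set G)) c := (conjInv_ext0 L hνcf).mono hCL
  have hcP : ConjInv P c := by
    intro s hs g
    have hsN := hPL hs
    by_cases hg : g ∈ L
    · have hg' : s * g * s⁻¹ ∈ L := (Subgroup.mem_normalizer_iff.1 hsN g).1 hg
      rw [hc, ext0_of_mem _ _ hg, ext0_of_mem _ _ hg']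
      have hiff : (⟨s * g * s⁻¹, hg'⟩ : L) ∈ K ↔ (⟨g, hg⟩ : L) ∈ K := by
        constructor
        · intro h
          refine hKP s⁻¹ (P.inv_mem hs) ⟨s * g * s⁻¹, hg'⟩ ⟨g, hg⟩ ?_ h
          show g = s⁻¹ * (s * g * s⁻¹) * s⁻¹⁻¹
          group
        · intro h
          exact hKP s hs ⟨g, hg⟩ ⟨s * g * s⁻¹, hg'⟩ rfl h
      simp only [hν, hiff]
    · have hg' : s * g * s⁻¹ ∉ L := by
        intro h
        exact hg ((Subgroup.mem_normalizer_iff.1 hsN g).2 h)
      rw [hc, ext0_of_not_mem _ _ hg, ext0_of_not_mem _ _ hg']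
  have haR : ∀ g, MemLocalRing M (a g) := memLocalRing_ext0 L (memLocalRing_blockCoeff hMp hβ)
  have hcR : ∀ g, MemLocalRing M (c g) := memLocalRing_ext0 L hνR
  have key := omega_resC_conv_cong P hM hP ξ haP hcP haC hcC haR hcR
  -- the subgroup `C_K(P)`
  set KC : Subgroup (Subgroup.centralizer (P : Set G)) := K.comap (Subgroup.inclusion hCL)
    with hKC
  haveI : KC.Normal := (inferInstance : K.Normal).comap _
  have hmemKC : ∀ y : Subgroup.centralizer (P : Set G), y ∈ KC ↔
      (⟨(y : G), hCL y.2⟩ : L) ∈ K := fun y => Iff.rfl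
  have hcardK : (Nat.card K : ℂ) ≠ 0 := by
    exact_mod_cast (Nat.card_pos (α := K)).ne'
  have hcardKC : (Nat.card KC : ℂ) ≠ 0 := by
    exact_mod_cast (Nat.card_pos (α := KC)).ne'
  set r : ℂ := (Nat.card KC : ℂ) * (Nat.card K : ℂ)⁻¹ with hr
  have hresc : resC P (Subgroup.centralizer (P : Set G)) c =
      r • (fun y : Subgroup.centralizer (P : Set G) =>
        if y ∈ KC then (Nat.card KC : ℂ)⁻¹ else 0) := by
    funext y
    rw [hc, resC_ext0_apply P L hCL, Pi.smul_apply, smul_eq_mul]
    by_cases hy : y ∈ KC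
    · rw [if_pos hy]
      simp only [hν]
      rw [if_pos ((hmemKC y).1 hy), hr]
      field_simp
    · rw [if_neg hy, mul_zero]
      simp only [hν]
      rw [if_neg (fun h => hy ((hmemKC y).2 h))]
  have hdvd : Nat.card KC ∣ Nat.card K := by
    let f : KC →* K :=
      ((Subgroup.inclusion hCL).comp KC.subtype).codRestrict K (fun n => n.2)
    have hf : Function.Injective f := by
      intro x y hxy
      have h1 := congrArg (fun t : K => ((t : L) : G)) hxy
      exact Subtype.ext (Subtype.ext h1)
    exact Subgroup.card_dvd_of_injective f hf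
  have hKC' : ¬ p ∣ Nat.card KC := fun h => hK (h.trans hdvd)
  have hKinvR : MemLocalRing M ((Nat.card K : ℂ)⁻¹) := by
    apply memLocalRing_inv (memLocalRing_natCast _)
    rw [memLocalIdeal_natCast_iff hM]
    exact hK
  have hrR : MemLocalRing M r := memLocalRing_mul (memLocalRing_natCast _) hKinvR
  have hrU : ¬ MemLocalIdeal M r := by
    intro h
    have h1 := memLocalIdeal_mul_right h (memLocalRing_natCast (M := M) (Nat.card K))
    rw [hr, mul_assoc, inv_mul_cancel₀ hcardK, mul_one, memLocalIdeal_natCast_iff hM] at h1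
    exact hKC' h1
  have hωc : omega (ξ : Subgroup.centralizer (P : Set G) → ℂ)
      (resC P (Subgroup.centralizer (P : Set G)) c) =
      r * (if ∀ n ∈ KC, (ξ : Subgroup.centralizer (P : Set G) → ℂ) n =
        (ξ : Subgroup.centralizer (P : Set G) → ℂ) 1 then 1 else 0) := by
    rw [hresc, omega_smul, omega_normal_idem KC ξ]
  have hconv : conv a c = ext0 L (conv (blockCoeff β) ν) := conv_ext0 L _ _
  have hωaR : MemLocalRing M (omega (ξ : Subgroup.centralizer (P : Set G) → ℂ)
      (resC P (Subgroup.centralizer (P : Set G)) a)) := by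
    apply memLocalRing_omega ξ
    · exact isClassFunction_resC_of_conjInv P _ (Subgroup.centralizer_le_normalizer _) haC
    · exact memLocalRing_resC P _ haR
  rcases conv_blockCoeff_normalIdem hM hβ K hK with ⟨hall, h1⟩ | ⟨hnall, h0⟩
  · -- `K` in the kernel
    constructor
    · intro _ y hy
      by_contra hcon
      have hnot : ¬ ∀ n ∈ KC, (ξ : Subgroup.centralizer (P : Set G) → ℂ) n =
          (ξ : Subgroup.centralizer (P : Set G) → ℂ) 1 := by
        intro h
        exact hcon (h y ((hmemKC y).2 hy))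
      rw [hωc, if_neg hnot, mul_zero, mul_zero, sub_zero, hconv, h1] at key
      exact hξ key
    · intro _
      exact hall
  · -- `K` not in the kernel
    constructor
    · intro h
      exact absurd h hnall
    · intro hR
      exfalso
      have hyes : ∀ n ∈ KC, (ξ : Subgroup.centralizer (P : Set G) → ℂ) n =
          (ξ : Subgroup.centralizer (P : Set G) → ℂ) 1 := by
        intro n hn
        exact hR n ((hmemKC n).1 hn)
      have hz : resC P (Subgroup.centralizer (P : Set G)) (ext0 L (0 : L → ℂ)) = 0 := by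
        funext y
        rw [resC_ext0_apply P L hCL]
        rfl
      rw [hωc, if_pos hyes, mul_one, hconv, h0, hz, omega_zero, zero_sub] at key
      have key' := memLocalIdeal_neg key
      rw [neg_neg] at key'
      rcases memLocalIdeal_or_of_mul hωaR hrR key' with h | h
      · exact hξ h
      · exact hrU h

end KerLemma

end Cfsg.Agent.Helper23.Blk
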