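import Mathlib
import Cfsg.Agent.Lib.Helper23.BlockKerPairs
import Cfsg.Agent.Lib.Helper23.BlockConj4

/-!
# `O_π'` of centralizers in the kernels of Brauer pairs (helper23's shared library)
-/

set_option autoImplicit false
set_option linter.unusedSectionVars false
set_option linter.style.haveILetI false

namespace Cfsg.Agent.Helper23.Blk

open Cfsg Cfsg.Agent.Helper24 Cfsg.Agent.Helper23 Cfsg.Agent.Helper10
open scoped ComplexConjugate

universe u

section KerProp

variable {G : Type u} [Group G]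

/-- `O_π'(C_G(Q))` lies in the kernel of the block `f` of `C_G(Q)` -/
def KerProp (π : Set ℕ) (Q : Subgroup G)
    (f : Set (IrrCharacter (Subgroup.centralizer (Q : Set G)))) : Prop :=
  ∀ c ∈ piCore {q | q ∉ π} ↥(Subgroup.centralizer (Q : Set G)), ∀ ξ ∈ f,
    (ξ : Subgroup.centralizer (Q : Set G) → ℂ) c = (ξ : Subgroup.centralizer (Q : Set G) → ℂ) 1

/-- `O_π'(C_G(Q))` contains all `π'`-elements of `C_G(Q)` -/
def HallProp (π : Set ℕ) (Q : Subgroup G) : Prop :=
  ∀ x : ↥(Subgroup.centralizer (Q : Set G)), (∀ q : ℕ, q.Prime → q ∣ orderOf x → q ∉ π) →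
    x ∈ piCore {q | q ∉ π} ↥(Subgroup.centralizer (Q : Set G))

theorem not_dvd_card_piCore_compl {X : Type*} [Group X] [Finite X] {p : ℕ} (hp : p.Prime)
    {π : Set ℕ} (hpπ : p ∈ π) : ¬ p ∣ Nat.card ↥(piCore {q | q ∉ π} X) := by
  intro h
  exact (card_piCore {q | q ∉ π} (G := X) p hp h) hpπ

variable [Fintype G] {M : Ideal AlgInt} {p : ℕ}

/-- conjugation by an element normalizing `L` preserves `O_π(L)` -/
theorem conj_mem_piCore (π : Set ℕ) {L : Subgroup G} {x : G}
    (hx : x ∈ Subgroup.normalizer (L : Set G)) (k k' : L) (hk : (k' : G) = x * (k : G) * x⁻¹)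
    (h : k ∈ piCore π ↥L) : k' ∈ piCore π ↥L := by
  have hiff : ∀ y, y ∈ L ↔ x⁻¹ * y * x ∈ L := by
    intro y
    have h1 := Subgroup.mem_normalizer_iff.1 (Subgroup.inv_mem _ hx) y
    rw [inv_inv] at h1
    exact h1
  have h2 := mem_piCore_map_equiv π (subConjEquiv L L x hiff) h
  have h3 : subConjEquiv L L x hiff k = k' := by
    apply Subtype.ext
    rw [hk]
    rfl
  rwa [h3] at h2

/-- the kernel property goes down along a normal inclusion of Brauer pairs -/
theorem kerProp_down (hM : IsPModular p M) {π : Set ℕ} (hpπ : p ∈ π) {Q P : Subgroup G}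
    {f : Set (IrrCharacter (Subgroup.centralizer (Q : Set G)))}
    {e : Set (IrrCharacter (Subgroup.centralizer (P : Set G)))}
    (h : IsNormalSubpair p M Q f P e) (hPe : KerProp π P e) : KerProp π Q f := by
  classical
  haveI hMp : M.IsPrime := hM.2.1.isPrime
  haveI : Fintype (Subgroup.centralizer (P : Set G)) := Fintype.ofFinite _
  obtain ⟨⟨hQ, hf⟩, ⟨hP, he⟩, hQP, hPN, hstab, hbr⟩ := h
  have hCL : Subgroup.centralizer (P : Set G) ≤ Subgroup.centralizer (Q : Set G) :=
    Subgroup.centralizer_le hQP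
  have hPL : P ≤ Subgroup.normalizer
      ((Subgroup.centralizer (Q : Set G) : Subgroup G) : Set G) :=
    hPN.trans (normalizer_le_normalizer_centralizer Q)
  obtain ⟨ξ, hξ⟩ := block_nonempty hM he
  have h1 := hbr ξ hξ
  rw [brauerOmega_eq_omega, subgroupBlockCoeff_eq_ext0] at h1
  have hξ' := not_memLocalIdeal_of_cong h1 not_memLocalIdeal_one
  have hiff := ker_iff_of_brauer hM hP hCL hPL hf hstab
    (piCore {q | q ∉ π} ↥(Subgroup.centralizer (Q : Set G)))
    (not_dvd_card_piCore_compl hM.1 hpπ)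
    (fun x hx k k' hk hkK => conj_mem_piCore _ (hPL hx) k k' hk hkK) ξ hξ'
  have h2 := hiff.2 (fun c hc => hPe c (mem_piCore_of_mem_piCore_of_le _ hCL hc) ξ hξ)
  intro c hc χ hχ
  exact h2 χ hχ c hc

/-- the kernel property together with the Hall property goes up along a normal inclusion of
Brauer pairs -/
theorem kerProp_up (hM : IsPModular p M) {π : Set ℕ} (hpπ : p ∈ π) {Q P : Subgroup G}
    {f : Set (IrrCharacter (Subgroup.centralizer (Q : Set G)))}
    {e : Set (IrrCharacter (Subgroup.centralizer (P : Set G)))}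
    (h : IsNormalSubpair p M Q f P e) (hQf : KerProp π Q f) (hH : HallProp π Q) :
    KerProp π P e ∧ HallProp π P := by
  classical
  haveI hMp : M.IsPrime := hM.2.1.isPrime
  haveI : Fintype (Subgroup.centralizer (P : Set G)) := Fintype.ofFinite _
  obtain ⟨⟨hQ, hf⟩, ⟨hP, he⟩, hQP, hPN, hstab, hbr⟩ := h
  have hCL : Subgroup.centralizer (P : Set G) ≤ Subgroup.centralizer (Q : Set G) :=
    Subgroup.centralizer_le hQP
  have hPL : P ≤ Subgroup.normalizer
      ((Subgroup.centralizer (Q : Set G) : Subgroup G) : Set G) :=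
    hPN.trans (normalizer_le_normalizer_centralizer Q)
  have hH' : ∀ x : ↥(Subgroup.centralizer (Q : Set G)),
      (∀ q : ℕ, q.Prime → q ∣ orderOf x → q ∈ {q | q ∉ π}) →
        x ∈ piCore {q | q ∉ π} ↥(Subgroup.centralizer (Q : Set G)) := hH
  constructor
  · intro c hc ξ hξ
    have h1 := hbr ξ hξ
    rw [brauerOmega_eq_omega, subgroupBlockCoeff_eq_ext0] at h1
    have hξ' := not_memLocalIdeal_of_cong h1 not_memLocalIdeal_one
    have hiff := ker_iff_of_brauer hM hP hCL hPL hf hstab
      (piCore {q | q ∉ π} ↥(Subgroup.centralizer (Q : Set G)))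
      (not_dvd_card_piCore_compl hM.1 hpπ)
      (fun x hx k k' hk hkK => conj_mem_piCore _ (hPL hx) k k' hk hkK) ξ hξ'
    exact hiff.1 (fun χ hχ k hk => hQf k hk χ hχ) c (mem_piCore_of_hall _ hCL hH' hc)
  · intro x hx
    apply mem_piCore_of_mem_piCore_of_le _ hCL
    apply hH
    have h2 : orderOf (⟨(x : G), hCL x.2⟩ : Subgroup.centralizer (Q : Set G)) = orderOf x := by
      rw [← Subgroup.orderOf_coe, ← Subgroup.orderOf_coe x]
    rw [h2]
    exact hx

/-- the kernel property goes down along inclusions of Brauer pairs -/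
theorem kerProp_of_chain (hM : IsPModular p M) {π : Set ℕ} (hpπ : p ∈ π)
    {a b : BrauerPairIdx G} (hab : Relation.ReflTransGen (NormalSubpairRel p M) a b)
    (hb : KerProp π b.1 b.2) : KerProp π a.1 a.2 := by
  induction hab with
  | refl => exact hb
  | tail _ hstep ih => exact ih (kerProp_down hM hpπ hstep hb)

/-- the kernel and Hall properties go up along inclusions of Brauer pairs -/
theorem kerProp_hall_of_chain (hM : IsPModular p M) {π : Set ℕ} (hpπ : p ∈ π)
    {a b : BrauerPairIdx G} (hab : Relation.ReflTransGen (NormalSubpairRel p M) a b)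
    (ha : KerProp π a.1 a.2 ∧ HallProp π a.1) : KerProp π b.1 b.2 ∧ HallProp π b.1 := by
  induction hab with
  | refl => exact ha
  | tail _ hstep ih => exact kerProp_up hM hpπ hstep ih.1 ih.2

theorem kerProp_of_subpairLE (hM : IsPModular p M) {π : Set ℕ} (hpπ : p ∈ π) {Q P : Subgroup G}
    {f : Set (IrrCharacter (Subgroup.centralizer (Q : Set G)))}
    {e : Set (IrrCharacter (Subgroup.centralizer (P : Set G)))}
    (h : SubpairLE p M Q f P e) (hPe : KerProp π P e) : KerProp π Q f :=
  kerProp_of_chain hM hpπ (a := ⟨Q, f⟩) (b := ⟨P, e⟩) h hPe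

theorem kerProp_hall_of_subpairLE (hM : IsPModular p M) {π : Set ℕ} (hpπ : p ∈ π)
    {Q P : Subgroup G}
    {f : Set (IrrCharacter (Subgroup.centralizer (Q : Set G)))}
    {e : Set (IrrCharacter (Subgroup.centralizer (P : Set G)))}
    (h : SubpairLE p M Q f P e) (hQf : KerProp π Q f) (hH : HallProp π Q) :
    KerProp π P e ∧ HallProp π P :=
  kerProp_hall_of_chain hM hpπ (a := ⟨Q, f⟩) (b := ⟨P, e⟩) h ⟨hQf, hH⟩

/-- the kernel property is invariant under conjugation -/
theorem kerProp_conj_iff (π : Set ℕ) (x : G) (Q : Subgroup G)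
    (f : Set (IrrCharacter (Subgroup.centralizer (Q : Set G)))) :
    KerProp π (Q.map (MulAut.conj x).toMonoidHom) (conjBlock Q x f) ↔ KerProp π Q f := by
  rw [conjBlock_eq_image]
  constructor
  · intro h c hc ξ hξ
    have h1 := h (centConj Q x c) (mem_piCore_map_equiv _ (centConj Q x) hc)
      (irrComp (centConj Q x).symm ξ) ⟨ξ, hξ, rfl⟩
    rw [irrComp_apply, irrComp_apply, MulEquiv.symm_apply_apply, map_one] at h1
    exact h1
  · rintro h c' hc' _ ⟨ξ, hξ, rfl⟩
    rw [irrComp_apply, irrComp_apply, map_one]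
    exact h _ (mem_piCore_map_equiv _ (centConj Q x).symm hc') ξ hξ

/-- the Hall property is invariant under conjugation -/
theorem hallProp_conj_iff (π : Set ℕ) (x : G) (Q : Subgroup G) :
    HallProp π (Q.map (MulAut.conj x).toMonoidHom) ↔ HallProp π Q := by
  constructor
  · intro h c hc
    have h1 := h (centConj Q x c) (by
      rw [MulEquiv.orderOf_eq]
      exact hc)
    exact (mem_piCore_equiv_iff _ (centConj Q x)).1 h1
  · intro h c' hc'
    have h1 := h ((centConj Q x).symm c') (by
      rw [MulEquiv.orderOf_eq]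
      exact hc')
    have h2 := mem_piCore_map_equiv {q | q ∉ π} (centConj Q x) h1
    rwa [MulEquiv.apply_symm_apply] at h2

end KerProp

end Cfsg.Agent.Helper23.Blk
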