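import Mathlib
import Cfsg.Agent.Lib.Helper23.BlockKerPairs2
import Cfsg.Agent.Lib.Helper18.PairBridge

/-!
# `O_π'` in the kernels of blocks: the Brauer correspondent and local blocks
(helper23's shared library)
-/

set_option autoImplicit false
set_option linter.unusedSectionVars false
set_option linter.style.haveILetI false

namespace Cfsg.Agent.Helper23.Blk

open Cfsg Cfsg.Agent.Helper24 Cfsg.Agent.Helper23 Cfsg.Agent.Helper10 Cfsg.Agent.Helper18
open scoped ComplexConjugate

universe u

section Top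

variable {G : Type u} [Group G] [Fintype G] {M : Ideal AlgInt} {p : ℕ}

/-- **The maximal Brauer pair attached to a block of `N_G(D)` inducing `B`**, with the
translation of the kernel condition. -/
theorem exists_maxPair_of_normalizer_block (hM : IsPModular p M) [Fact p.Prime]
    {B : Set (IrrCharacter G)} {D : Subgroup G} (hBD : IsDefectGroup p M B D)
    {B₁ : Set (IrrCharacter (Subgroup.normalizer (D : Set G)))}
    (hB₁ : IsInducedBlock M (Subgroup.normalizer (D : Set G)) B₁ B) :
    ∃ e : Set (IrrCharacter (Subgroup.centralizer (D : Set G))),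
      IsMaximalBrauerPair p M B D e ∧
      ∀ π : Set ℕ, p ∈ π →
        ((∀ n ∈ piCore {q | q ∉ π} ↥(Subgroup.normalizer (D : Set G)), n ∈ blockKer B₁) →
          KerProp π D e) ∧
        (KerProp π D e → HallProp π D →
          ∀ n ∈ piCore {q | q ∉ π} ↥(Subgroup.normalizer (D : Set G)), n ∈ blockKer B₁) := by
  classical
  haveI hMp : M.IsPrime := hM.2.1.isPrime
  haveI : Fintype (Subgroup.centralizer (D : Set G)) := Fintype.ofFinite _
  haveI : Fintype (Subgroup.normalizer (D : Set G)) := Fintype.ofFinite _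
  letI : Fintype (IrrCharacter (Subgroup.centralizer (D : Set G))) := irrFintype
  have hD : IsPGroup p D := isPGroup_of_isDefectGroup hM hBD
  have hDL : D ≤ Subgroup.normalizer (D : Set G) := Subgroup.le_normalizer
  have hCL : Subgroup.centralizer (D : Set G) ≤ Subgroup.normalizer (D : Set G) :=
    Subgroup.centralizer_le_normalizer _
  have hNN : Subgroup.normalizer (D : Set G) ≤ Subgroup.normalizer
      ((Subgroup.centralizer (D : Set G) : Subgroup G) : Set G) :=
    normalizer_le_normalizer_centralizer D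
  obtain ⟨e, he, hbc⟩ := PairRel.exists_block_centralizer_of_block hM hD hDL hCL le_rfl hB₁.1
  have hpair := PairRel.isBrauerPairOf_of_induced hM hD hDL hCL le_rfl he hB₁.1 hbc hB₁
  refine ⟨e, ⟨hpair, ?_⟩, ?_⟩
  · intro R g hRg hle
    have h1 : D ≤ R := chain_le hle
    have h2 := card_le_of_subConj (subConj_of_isBrauerPairOf hM hRg hBD)
    exact (Subgroup.eq_of_le_of_card_ge h1 h2).symm
  · intro π hpπ
    have hPL : D ≤ Subgroup.normalizer
        ((Subgroup.normalizer (D : Set G) : Subgroup G) : Set G) :=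
      hDL.trans Subgroup.le_normalizer
    have hstab : ∀ x ∈ D, StabilizesBlock (Subgroup.normalizer (D : Set G)) B₁ x :=
      fun x hx => stabilizesBlock_of_mem _ B₁ (hDL hx)
    have hξ : ∀ ξ ∈ e, ¬ MemLocalIdeal M
        (omega (ξ : Subgroup.centralizer (D : Set G) → ℂ)
          (resC D (Subgroup.centralizer (D : Set G))
            (ext0 (Subgroup.normalizer (D : Set G)) (blockCoeff B₁)))) := by
      intro ξ hξ
      have h1 : ext0 (Subgroup.normalizer (D : Set G)) (blockCoeff B₁) =
          orbitSum (Subgroup.centralizer (D : Set G)) (Subgroup.normalizer (D : Set G))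
            hNN e := by
        funext g
        by_cases hg : g ∈ Subgroup.normalizer (D : Set G)
        · rw [ext0_of_mem _ _ hg, hbc]
        · rw [ext0_of_not_mem _ _ hg, orbitSum_of_not_mem _ _ _ _ (fun h => hg (hCL h))]
      rw [h1, orbitSum_eq_ext0', resC_ext0_self, omega_orbitSumC _ _ hNN he,
        if_pos ⟨e, self_mem_blockOrbit _ _ hNN e, hξ⟩]
      exact not_memLocalIdeal_one
    have hiff := fun (ξ : IrrCharacter (Subgroup.centralizer (D : Set G))) (hξmem : ξ ∈ e) =>
      ker_iff_of_brauer hM hD hCL hPL hB₁.1 hstab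
        (piCore {q | q ∉ π} ↥(Subgroup.normalizer (D : Set G)))
        (not_dvd_card_piCore_compl hM.1 hpπ)
        (fun x hx k k' hk hkK => conj_mem_piCore _ (hPL hx) k k' hk hkK) ξ (hξ ξ hξmem)
    constructor
    · intro hker c hc ξ hξmem
      exact (hiff ξ hξmem).1 (fun χ hχ k hk => hker k hk χ hχ) c
        (mem_piCore_of_normal _ hCL hNN hc)
    · intro hK hH n hn χ hχ
      obtain ⟨ξ, hξmem⟩ := block_nonempty hM he
      refine (hiff ξ hξmem).2 (fun c hc => hK c (hH c ?_) ξ hξmem) χ hχ n hn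
      have h1 := isPiNum_orderOf_of_mem_piCore _ hc
      have h2 : orderOf (⟨(c : G), hCL c.2⟩ : Subgroup.normalizer (D : Set G)) = orderOf c := by
        rw [← Subgroup.orderOf_coe, ← Subgroup.orderOf_coe c]
      rw [h2] at h1
      exact h1

end Top

section Bottom

variable {G : Type u} [Group G] [Fintype G] {M : Ideal AlgInt} {p : ℕ}

set_option maxHeartbeats 800000 in
/-- **A Brauer pair of `B` attached to a block `B₀` of `G₀ ≥ C_G(D₀)` inducing `B`.** -/
theorem exists_pair_of_induced_defect (hM : IsPModular p M) [Fact p.Prime]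
    {B : Set (IrrCharacter G)} {G₀ : Subgroup G} {B₀ : Set (IrrCharacter G₀)}
    (hB₀ : IsInducedBlock M G₀ B₀ B) {D₀ : Subgroup G₀} (hD₀ : IsDefectGroup p M B₀ D₀)
    [Fintype (Subgroup.centralizer ((D₀.map G₀.subtype : Subgroup G) : Set G))]
    (hC : Subgroup.centralizer ((D₀.map G₀.subtype : Subgroup G) : Set G) ≤ G₀) :
    ∃ ξ : IrrCharacter (Subgroup.centralizer ((D₀.map G₀.subtype : Subgroup G) : Set G)),
      ¬ MemLocalIdeal M
        (omega (ξ : Subgroup.centralizer ((D₀.map G₀.subtype : Subgroup G) : Set G) → ℂ)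
          (resC (D₀.map G₀.subtype)
            (Subgroup.centralizer ((D₀.map G₀.subtype : Subgroup G) : Set G))
            (ext0 G₀ (blockCoeff B₀)))) ∧
      IsBrauerPairOf p M B (D₀.map G₀.subtype)
        (blockOf M (ξ : Subgroup.centralizer ((D₀.map G₀.subtype : Subgroup G) : Set G) → ℂ)) := by
  classical
  haveI hMp : M.IsPrime := hM.2.1.isPrime
  haveI : Fintype G₀ := Fintype.ofFinite _
  letI : Fintype (IrrCharacter G) := irrFintype
  letI : Fintype (IrrCharacter G₀) := irrFintype
  letI : Fintype (IrrCharacter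
    (Subgroup.centralizer ((D₀.map G₀.subtype : Subgroup G) : Set G))) := irrFintype
  have hP : IsPGroup p (D₀.map G₀.subtype) := (isPGroup_of_isDefectGroup hM hD₀).map _
  have hPG₀ : D₀.map G₀.subtype ≤ G₀ := by
    rintro _ ⟨d, -, rfl⟩
    exact d.2
  have hb₀ : IsPBlock M B₀ := hB₀.1
  have hB : IsPBlock M B := hB₀.2.1
  set a : G → ℂ := ext0 G₀ (blockCoeff B₀) with ha
  have haR : ∀ g, MemLocalRing M (a g) := memLocalRing_ext0 G₀ (memLocalRing_blockCoeff hMp hb₀)
  have hacf : ConjInv G₀ a := conjInv_ext0 G₀ (isClassFunction_blockCoeff B₀)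
  have haP : ConjInv (D₀.map G₀.subtype) a := hacf.mono hPG₀
  have haC : ConjInv (Subgroup.centralizer ((D₀.map G₀.subtype : Subgroup G) : Set G)) a :=
    hacf.mono hC
  set z := resC (D₀.map G₀.subtype)
    (Subgroup.centralizer ((D₀.map G₀.subtype : Subgroup G) : Set G)) a with hz
  have hzcf : IsClassFunction _ z :=
    isClassFunction_resC_of_conjInv _ _ (Subgroup.centralizer_le_normalizer _) haC
  have hzR : ∀ y, MemLocalRing M (z y) := memLocalRing_resC _ _ haR
  -- the defect class
  obtain ⟨g₀, hcls, Syl, hDeq⟩ := hD₀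
  have hg₀C : (g₀ : G) ∈ Subgroup.centralizer ((D₀.map G₀.subtype : Subgroup G) : Set G) := by
    rw [Subgroup.mem_centralizer_iff]
    rintro _ ⟨d, hd, rfl⟩
    rw [hDeq] at hd
    obtain ⟨s, -, rfl⟩ := hd
    have hs := Subgroup.mem_centralizer_iff.1 s.2 g₀ (Set.mem_singleton _)
    have := congrArg (fun t : G₀ => (t : G)) hs
    simp only [Subgroup.coe_mul] at this
    exact this.symm
  have hzg₀ : ¬ MemLocalIdeal M (z ⟨(g₀ : G), hg₀C⟩) := by
    rw [hz, ha, resC_ext0_apply _ G₀ hC]
    exact hcls.2.1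
  -- idempotency
  have hidem : ∀ y, MemLocalIdeal M (conv z z y - z y) := by
    intro y
    have h1 := resC_conv_cong' (D₀.map G₀.subtype)
      (Subgroup.centralizer ((D₀.map G₀.subtype : Subgroup G) : Set G)) hM hP le_rfl haP haP
      haR haR y
    have h2 : conv a a = a := by
      rw [ha, conv_ext0, conv_blockCoeff hb₀ hb₀, if_pos rfl]
    rw [h2] at h1
    exact cong_symm h1
  have hex : ∃ ξ : IrrCharacter
      (Subgroup.centralizer ((D₀.map G₀.subtype : Subgroup G) : Set G)),
      ¬ MemLocalIdeal M (omega (ξ : _ → ℂ) z) := by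
    by_contra hcon
    push Not at hcon
    exact hzg₀ (null_of_idem_of_omega hzcf hzR hidem hcon _)
  obtain ⟨ξ, hξ⟩ := hex
  refine ⟨ξ, hξ, ?_⟩
  -- the central characters attached to `ξ`
  obtain ⟨χ, hχ⟩ := exists_irr_brauerPair (D₀.map G₀.subtype) hM hP ξ
  obtain ⟨χ₀, hχ₀⟩ := (isCentralHom_brauer_ext0 hM (D₀.map G₀.subtype) G₀ hP hPG₀ hC
    ξ).exists_irr hM
  have hχ₀B₀ : χ₀ ∈ B₀ := by
    have h1 := hχ₀ (blockCoeff B₀) (isClassFunction_blockCoeff B₀)
      (memLocalRing_blockCoeff hMp hb₀)
    rw [omega_blockCoeff] at h1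
    by_contra hcon
    rw [if_neg hcon, sub_zero] at h1
    exact hξ h1
  obtain ⟨χ₁, hχ₁⟩ := block_nonempty hM hB
  have hsame : SameBlock M (χ₁ : G → ℂ) (χ : G → ℂ) := by
    intro h
    rw [← omega_classInd, ← omega_classInd]
    have hcf := isClassFunction_classInd h
    have hR : ∀ x, MemLocalRing M (classInd h x) := memLocalRing_classInd h
    have e1 := hχ _ hcf hR
    have hwcf : IsClassFunction G₀ (fun t : G₀ => classInd h (t : G)) :=
      isClassFunction_comp_subtype G₀ hcf
    have e2 := hχ₀ _ hwcf (fun t => hR _)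
    have e3 := IsInducedBlock.omega_cong G₀ hB₀ hχ₀B₀ hχ₁ hcf hR
    have hres : resC (D₀.map G₀.subtype)
        (Subgroup.centralizer ((D₀.map G₀.subtype : Subgroup G) : Set G))
        (ext0 G₀ (fun t : G₀ => classInd h (t : G))) =
        resC (D₀.map G₀.subtype)
        (Subgroup.centralizer ((D₀.map G₀.subtype : Subgroup G) : Set G)) (classInd h) := by
      funext y
      rw [resC_ext0_apply _ G₀ hC]
      unfold resC
      rw [if_pos y.2]
    rw [hres] at e2
    -- ω_χ₁ ≡ ω_χ₀ ≡ ω_ξ ≡ ω_χ
    exact cong_trans (cong_symm e3) (cong_trans (cong_symm e2) e1)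
  have hχB : χ ∈ B := by
    have h1 : B = blockOf M (χ₁ : G → ℂ) := by
      obtain ⟨χ₂, rfl⟩ := hB
      exact (blockOf_eq_of_mem hχ₁).symm
    rw [h1]
    exact hsame
  exact (isBrauerPairOf_iff (D₀.map G₀.subtype) hM hP ⟨ξ, rfl⟩ (mem_blockOf_self ξ) hχ hB).2 hχB

end Bottom

end Cfsg.Agent.Helper23.Blk
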