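import Mathlib
import Cfsg.Agent.Lib.Helper23.BlockKerPairs3

/-!
# Blocks `b` of `H` with `C_G(D₀) ≤ H` for a defect group `D₀`: the induced block
(helper23's shared library)
-/

set_option autoImplicit false
set_option linter.unusedSectionVars false
set_option linter.style.haveILetI false

namespace Cfsg.Agent.Helper23.Blk

open Cfsg Cfsg.Agent.Helper24 Cfsg.Agent.Helper23
open scoped ComplexConjugate

universe u

section Induced

variable {G : Type u} [Group G] [Fintype G] {M : Ideal AlgInt} {p : ℕ}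

/-- the induced block is unique -/
theorem isInducedBlock_unique' (hM : IsPModular p M) {H : Subgroup G}
    {b : Set (IrrCharacter H)} {B₁ B₂ : Set (IrrCharacter G)} (h₁ : IsInducedBlock M H b B₁)
    (h₂ : IsInducedBlock M H b B₂) : B₁ = B₂ := by
  haveI hMp : M.IsPrime := hM.2.1.isPrime
  obtain ⟨ξ, hξ⟩ := block_nonempty hM h₁.1
  obtain ⟨χ₁, hχ₁⟩ := block_nonempty hM h₁.2.1
  obtain ⟨χ₂, hχ₂⟩ := block_nonempty hM h₂.2.1
  have hsame : SameBlock M (χ₁ : G → ℂ) (χ₂ : G → ℂ) := by
    intro g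
    have a1 := h₁.2.2 ξ hξ χ₁ hχ₁ g
    have a2 := h₂.2.2 ξ hξ χ₂ hχ₂ g
    exact cong_trans (cong_symm a1) a2
  have hχ₂' : χ₂ ∈ B₁ := by
    obtain ⟨χ₀, rfl⟩ := h₁.2.1
    exact sameBlock_trans hχ₁ hsame
  exact isPBlock_eq_of_mem h₁.2.1 h₂.2.1 hχ₂' hχ₂

set_option maxHeartbeats 1600000 in
/-- **A block `b` of `H` with `C_G(D₀) ≤ H` induces a block of `G`**, with the attached Brauer
pair on `D₀`. -/
theorem exists_induced_of_defect (hM : IsPModular p M) [Fact p.Prime]
    {H : Subgroup G} {b : Set (IrrCharacter H)} (hb : IsPBlock M b)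
    {D₀ : Subgroup H} (hD₀ : IsDefectGroup p M b D₀)
    [Fintype (Subgroup.centralizer ((D₀.map H.subtype : Subgroup G) : Set G))]
    (hC : Subgroup.centralizer ((D₀.map H.subtype : Subgroup G) : Set G) ≤ H) :
    ∃ (ξ : IrrCharacter (Subgroup.centralizer ((D₀.map H.subtype : Subgroup G) : Set G)))
      (χ : IrrCharacter G),
      ¬ MemLocalIdeal M
        (omega (ξ : Subgroup.centralizer ((D₀.map H.subtype : Subgroup G) : Set G) → ℂ)
          (resC (D₀.map H.subtype)
            (Subgroup.centralizer ((D₀.map H.subtype : Subgroup G) : Set G))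
            (ext0 H (blockCoeff b)))) ∧
      IsInducedBlock M H b (blockOf M (χ : G → ℂ)) ∧
      IsBrauerPairOf p M (blockOf M (χ : G → ℂ)) (D₀.map H.subtype)
        (blockOf M (ξ : Subgroup.centralizer ((D₀.map H.subtype : Subgroup G) : Set G) → ℂ)) := by
  classical
  haveI hMp : M.IsPrime := hM.2.1.isPrime
  haveI : Fintype H := Fintype.ofFinite _
  letI : Fintype (IrrCharacter G) := irrFintype
  letI : Fintype (IrrCharacter H) := irrFintype
  letI : Fintype (IrrCharacter
    (Subgroup.centralizer ((D₀.map H.subtype : Subgroup G) : Set G))) := irrFintype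
  have hP : IsPGroup p (D₀.map H.subtype) := (isPGroup_of_isDefectGroup hM hD₀).map _
  have hPH : D₀.map H.subtype ≤ H := by
    rintro _ ⟨d, -, rfl⟩
    exact d.2
  set a : G → ℂ := ext0 H (blockCoeff b) with ha
  have haR : ∀ g, MemLocalRing M (a g) := memLocalRing_ext0 H (memLocalRing_blockCoeff hMp hb)
  have hacf : ConjInv H a := conjInv_ext0 H (isClassFunction_blockCoeff b)
  have haP : ConjInv (D₀.map H.subtype) a := hacf.mono hPH
  have haC : ConjInv (Subgroup.centralizer ((D₀.map H.subtype : Subgroup G) : Set G)) a :=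
    hacf.mono hC
  set z := resC (D₀.map H.subtype)
    (Subgroup.centralizer ((D₀.map H.subtype : Subgroup G) : Set G)) a with hz
  have hzcf : IsClassFunction _ z :=
    isClassFunction_resC_of_conjInv _ _ (Subgroup.centralizer_le_normalizer _) haC
  have hzR : ∀ y, MemLocalRing M (z y) := memLocalRing_resC _ _ haR
  obtain ⟨g₀, hcls, Syl, hDeq⟩ := hD₀
  have hg₀C : (g₀ : G) ∈ Subgroup.centralizer ((D₀.map H.subtype : Subgroup G) : Set G) := by
    rw [Subgroup.mem_centralizer_iff]
    rintro _ ⟨d, hd, rfl⟩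
    rw [hDeq] at hd
    obtain ⟨s, -, rfl⟩ := hd
    have hs := Subgroup.mem_centralizer_iff.1 s.2 g₀ (Set.mem_singleton _)
    have := congrArg (fun t : H => (t : G)) hs
    simp only [Subgroup.coe_mul] at this
    exact this.symm
  have hzg₀ : ¬ MemLocalIdeal M (z ⟨(g₀ : G), hg₀C⟩) := by
    rw [hz, ha, resC_ext0_apply _ H hC]
    exact hcls.2.1
  have hidem : ∀ y, MemLocalIdeal M (conv z z y - z y) := by
    intro y
    have h1 := resC_conv_cong' (D₀.map H.subtype)
      (Subgroup.centralizer ((D₀.map H.subtype : Subgroup G) : Set G)) hM hP le_rfl haP haP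
      haR haR y
    have h2 : conv a a = a := by
      rw [ha, conv_ext0, conv_blockCoeff hb hb, if_pos rfl]
    rw [h2] at h1
    exact cong_symm h1
  have hex : ∃ ξ : IrrCharacter
      (Subgroup.centralizer ((D₀.map H.subtype : Subgroup G) : Set G)),
      ¬ MemLocalIdeal M (omega (ξ : _ → ℂ) z) := by
    by_contra hcon
    push Not at hcon
    exact hzg₀ (null_of_idem_of_omega hzcf hzR hidem hcon _)
  obtain ⟨ξ, hξ⟩ := hex
  obtain ⟨χ, hχ⟩ := exists_irr_brauerPair (D₀.map H.subtype) hM hP ξ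
  obtain ⟨χ₀, hχ₀⟩ := (isCentralHom_brauer_ext0 hM (D₀.map H.subtype) H hP hPH hC
    ξ).exists_irr hM
  have hχ₀b : χ₀ ∈ b := by
    have h1 := hχ₀ (blockCoeff b) (isClassFunction_blockCoeff b)
      (memLocalRing_blockCoeff hMp hb)
    rw [omega_blockCoeff] at h1
    by_contra hcon
    rw [if_neg hcon, sub_zero] at h1
    exact hξ h1
  refine ⟨ξ, χ, hξ, ⟨hb, ⟨χ, rfl⟩, ?_⟩, ?_⟩
  · intro ξ' hξ' χ' hχ' h
    have hcf := isClassFunction_classInd h
    have hR : ∀ x, MemLocalRing M (classInd h x) := memLocalRing_classInd h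
    have hwcf : IsClassFunction H (fun t : H => classInd h (t : G)) :=
      isClassFunction_comp_subtype H hcf
    have hsame : SameBlock M (ξ' : H → ℂ) (χ₀ : H → ℂ) := by
      obtain ⟨ξ₀, rfl⟩ := hb
      exact sameBlock_trans (sameBlock_symm hξ') hχ₀b
    have e0 := memLocalIdeal_omega_sub (M := M) hsame hwcf (fun t => hR _)
    have e1 := hχ _ hcf hR
    have e2 := hχ₀ _ hwcf (fun t => hR _)
    have hres : resC (D₀.map H.subtype)
        (Subgroup.centralizer ((D₀.map H.subtype : Subgroup G) : Set G))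
        (ext0 H (fun t : H => classInd h (t : G))) =
        resC (D₀.map H.subtype)
        (Subgroup.centralizer ((D₀.map H.subtype : Subgroup G) : Set G)) (classInd h) := by
      funext y
      rw [resC_ext0_apply _ H hC]
      unfold resC
      rw [if_pos y.2]
    rw [hres] at e2
    rw [Cfsg.Agent.Helper23.Blk.inducedCentralChar_eq_omega H, ← omega_classInd]
    have e3 : MemLocalIdeal M (omega (χ : G → ℂ) (classInd h) -
        omega (χ' : G → ℂ) (classInd h)) := by
      rw [omega_classInd, omega_classInd]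
      exact hχ' h
    -- ω_ξ' ≡ ω_χ₀ ≡ ω_ξ ≡ ω_χ ≡ ω_χ'
    exact cong_trans e0 (cong_trans (cong_symm e2) (cong_trans e1 e3))
  · exact (isBrauerPairOf_iff (D₀.map H.subtype) hM hP ⟨ξ, rfl⟩ (mem_blockOf_self ξ) hχ
      ⟨χ, rfl⟩).2 (mem_blockOf_self χ)

/-- the defect groups of a block of `C_G(P)` occurring in the Brauer-map image at `P` of the
idempotent of `b` lie in `P`, when `P` is a defect group of the block `b` of `H ≥ C_G(P)` -/
theorem defectGroup_le_of_brauer (hM : IsPModular p M) [Fact p.Prime]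
    {H : Subgroup G} {b : Set (IrrCharacter H)} (hb : IsPBlock M b)
    {D₀ : Subgroup H} (hD₀ : IsDefectGroup p M b D₀) {P : Subgroup G}
    (hPD₀ : D₀.map H.subtype = P)
    [Fintype (Subgroup.centralizer (P : Set G))]
    (hC : Subgroup.centralizer (P : Set G) ≤ H)
    (ξ : IrrCharacter (Subgroup.centralizer (P : Set G)))
    (hξ : ¬ MemLocalIdeal M (omega (ξ : Subgroup.centralizer (P : Set G) → ℂ)
      (resC P (Subgroup.centralizer (P : Set G)) (ext0 H (blockCoeff b)))))
    {R : Subgroup (Subgroup.centralizer (P : Set G))}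
    (hR : IsDefectGroup p M (blockOf M (ξ : Subgroup.centralizer (P : Set G) → ℂ)) R) :
    R.map (Subgroup.centralizer (P : Set G)).subtype ≤ P := by
  classical
  haveI hMp : M.IsPrime := hM.2.1.isPrime
  haveI : Fintype H := Fintype.ofFinite _
  letI : Fintype (IrrCharacter H) := irrFintype
  letI : Fintype (IrrCharacter (Subgroup.centralizer (P : Set G))) := irrFintype
  have hD₀p : IsPGroup p D₀ := isPGroup_of_isDefectGroup hM hD₀
  have hRp : IsPGroup p R := isPGroup_of_isDefectGroup hM hR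
  have hmemP : ∀ d : H, d ∈ D₀ → (d : G) ∈ P := by
    intro d hd
    rw [← hPD₀]
    exact ⟨d, hd, rfl⟩
  have hmemD : ∀ d : H, (d : G) ∈ P → d ∈ D₀ := by
    intro d hd
    rw [← hPD₀] at hd
    obtain ⟨d', hd', hdd⟩ := hd
    have : d' = d := Subtype.ext hdd
    rwa [this] at hd'
  set a : G → ℂ := ext0 H (blockCoeff b) with ha
  have haR : ∀ g, MemLocalRing M (a g) := memLocalRing_ext0 H (memLocalRing_blockCoeff hMp hb)
  have haC : ConjInv (Subgroup.centralizer (P : Set G)) a :=
    (conjInv_ext0 H (isClassFunction_blockCoeff b)).mono hC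
  have hzcf : IsClassFunction _ (resC P (Subgroup.centralizer (P : Set G)) a) :=
    isClassFunction_resC_of_conjInv _ _ (Subgroup.centralizer_le_normalizer _) haC
  have hzR : ∀ y, MemLocalRing M (resC P (Subgroup.centralizer (P : Set G)) a y) :=
    memLocalRing_resC _ _ haR
  obtain ⟨x, hx1, hx2⟩ := exists_of_not_memLocalIdeal_omega ξ hzcf hzR hξ
  rw [ha, resC_ext0_apply _ H hC] at hx1
  obtain ⟨S⟩ : Nonempty (Sylow p (Subgroup.centralizer ({x} : Set
    (Subgroup.centralizer (P : Set G))))) := inferInstance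
  obtain ⟨c, hc⟩ := subConj_of_centralChar hM ⟨ξ, rfl⟩ hR ⟨ξ, mem_blockOf_self ξ, hx2⟩ S
  -- the conjugate of `R`, inside `H`
  set R₁ : Subgroup H := (R.map (MulAut.conj c).toMonoidHom).map (Subgroup.inclusion hC)
    with hR₁
  have hR₁p : IsPGroup p R₁ := (hRp.map _).map _
  have hR₁C : ∀ r₁ ∈ R₁, (r₁ : G) ∈ Subgroup.centralizer (P : Set G) := by
    rintro _ ⟨y, -, rfl⟩
    exact y.2
  have hcomm : ∀ r₁ ∈ R₁, ∀ d ∈ D₀, r₁ * d * r₁⁻¹ = d := by
    intro r₁ hr₁ d hd
    apply Subtype.ext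
    have h1 := Subgroup.mem_centralizer_iff.1 (hR₁C r₁ hr₁) (d : G) (hmemP d hd)
    show (r₁ : G) * (d : G) * (r₁ : G)⁻¹ = d
    rw [← h1, mul_inv_cancel_right]
  have hR₁N : R₁ ≤ Subgroup.normalizer (D₀ : Set H) := by
    intro r₁ hr₁
    rw [Subgroup.mem_normalizer_iff]
    intro h
    constructor
    · intro hh
      rw [hcomm r₁ hr₁ h hh]
      exact hh
    · intro hh
      have h1 := hcomm r₁⁻¹ (R₁.inv_mem hr₁) _ hh
      have h2 : r₁⁻¹ * (r₁ * h * r₁⁻¹) * r₁⁻¹⁻¹ = h := by group
      rw [h2] at h1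
      rw [h1]
      exact hh
  have hQ'p : IsPGroup p (R₁ ⊔ D₀ : Subgroup H) := hR₁p.to_sup_of_normal_right' hD₀p hR₁N
  set xH : H := ⟨(x : G), hC x.2⟩ with hxH
  have hQ'x : (R₁ ⊔ D₀ : Subgroup H) ≤ Subgroup.centralizer ({xH} : Set H) := by
    apply sup_le
    · rintro _ ⟨_, ⟨r, hr, rfl⟩, rfl⟩
      rw [Subgroup.mem_centralizer_singleton_iff]
      obtain ⟨s, hs, hsr⟩ := hc r hr
      have h1 := Subgroup.mem_centralizer_singleton_iff.1 s.2
      apply Subtype.ext
      have h2 := congrArg (fun t : Subgroup.centralizer (P : Set G) => (t : G)) h1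
      simp only [Subgroup.coe_mul] at h2
      show ((MulAut.conj c r : Subgroup.centralizer (P : Set G)) : G) * (x : G) =
        (x : G) * ((MulAut.conj c r : Subgroup.centralizer (P : Set G)) : G)
      rw [MulAut.conj_apply, ← hsr]
      exact h2
    · intro d hd
      rw [Subgroup.mem_centralizer_singleton_iff]
      apply Subtype.ext
      have h1 := Subgroup.mem_centralizer_iff.1 x.2 (d : G) (hmemP d hd)
      exact h1
  have hsub := subConj_of_blockCoeff hM hb hD₀ hx1 hQ'p hQ'x
  have hcard := card_le_of_subConj hsub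
  have heq : D₀ = R₁ ⊔ D₀ := Subgroup.eq_of_le_of_card_ge le_sup_right hcard
  have hR₁D : R₁ ≤ D₀ := by
    rw [heq]
    exact le_sup_left
  rintro _ ⟨r, hr, rfl⟩
  have h1 : (Subgroup.inclusion hC) (MulAut.conj c r) ∈ D₀ :=
    hR₁D ⟨_, ⟨r, hr, rfl⟩, rfl⟩
  have h2 := hmemP _ h1
  have h3 : ((Subgroup.inclusion hC (MulAut.conj c r) : H) : G) = (c : G) * (r : G) * (c : G)⁻¹ := by
    rw [MulAut.conj_apply]
    rfl
  rw [h3] at h2
  have h4 := Subgroup.mem_centralizer_iff.1 c.2 _ h2
  have h5 : (r : G) = (c : G) * (r : G) * (c : G)⁻¹ := by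
    have : (c : G) * (r : G) = (c : G) * ((c : G) * (r : G) * (c : G)⁻¹) := by
      rw [← h4]
      group
    exact mul_left_cancel this
  show (r : G) ∈ P
  rw [h5]
  exact h2

end Induced

end Cfsg.Agent.Helper23.Blk
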