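import Mathlib
import Cfsg.Prelude.Def_Blocks
import Cfsg.Agent.S0919
import Cfsg.Agent.S0923
import Cfsg.Agent.S0936
import Cfsg.Agent.Lib.Helper18.BlockOver
import Cfsg.Agent.Lib.Helper23.BlockOrtho
import Cfsg.Agent.Lib.Helper23.BlockInducedDefect
import Cfsg.Agent.Lib.Helper23.BlockContrib

/-!
S4441 / S0960, PIECE SM (`sum_pcore_eq_zero`): for a Sylow `p`-subgroup `P` of order `p`,
`1 ≠ x ∈ P` and an irreducible character `ψ` outside the principal block,
`∑_{y ∈ K} ψ (x y) = 0`, `K` the set of `p`-regular elements of `C_G(P)`.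

Proof: second main theorem (S0923) for the principal block `b₀` of `C = C_G(x)`, which induces the
principal block of `G` (S0919 + S0936) and hence not the block of `ψ`; the `b₀`-part of
`c ↦ ψ (x c)` at `1` is `|C|⁻¹ ∑_c ψ (x c) ∑_{ξ ∈ b₀} ξ 1 conj (ξ c)`, and by weak block
orthogonality and the triviality of `b₀` on the normal `p`-complement `K` of `C` the inner sum is
`S · [c ∈ K]` with `S > 0`.
-/

set_option autoImplicit false
set_option linter.unusedSectionVars false
set_option linter.style.haveILetI false

namespace Cfsg.Agent.Helper5.TL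

open Cfsg Cfsg.Agent.Helper23.Blk Cfsg.Agent.Helper24 Cfsg.Agent.Helper18
open scoped ComplexConjugate

universe u

/-- Characters of the principal block are trivial on every normal subgroup of order prime to `p`. -/
theorem sm_principal_trivial {K : Type u} [Group K] [Finite K] {p : ℕ} [Fact p.Prime]
    {M : Ideal AlgInt} (hM : IsPModular p M) (N : Subgroup K) [N.Normal]
    (hpN : ¬ p ∣ Nat.card N) (χ : IrrCharacter K) (hχ : χ ∈ principalBlock M K) :
    ∀ n ∈ N, (χ : K → ℂ) n = (χ : K → ℂ) 1 := by
  classical
  haveI : Fintype K := Fintype.ofFinite K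
  haveI : Fintype N := Fintype.ofFinite _
  haveI : M.IsPrime := hM.2.1.isPrime
  have h : SameBlock M
      (((⟨fun _ => 1, isIrrCharacter_one⟩ : IrrCharacter K)) : K → ℂ) (χ : K → ℂ) := hχ
  have hone : IsIrrCharacter N (fun _ : N => (1 : ℂ)) := isIrrCharacter_one
  have h1 : classInner (fun n : N =>
      (((⟨fun _ => 1, isIrrCharacter_one⟩ : IrrCharacter K)) : K → ℂ) n)
      (fun _ : N => (1 : ℂ)) ≠ 0 := by
    have := irr_orthogonality hone hone
    rw [if_pos rfl] at this
    show classInner (fun _ : N => (1 : ℂ)) (fun _ : N => (1 : ℂ)) ≠ 0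
    rw [this]
    exact one_ne_zero
  have h2 := over_of_sameBlock N hM hpN hone h h1
  obtain ⟨e, -, -, he⟩ := Cfsg.Agent.Helper5.restrict_eq_smul_of_invariant N χ.2
    hone (fun g => rfl) h2
  intro n hn
  have h3 := congrFun he ⟨n, hn⟩
  have h4 := congrFun he 1
  simp only [Pi.smul_apply, smul_eq_mul, mul_one] at h3 h4
  show (χ : K → ℂ) n = (χ : K → ℂ) 1
  rw [h3]
  exact h4.symm

/-- the sum of `ξ 1 * conj (ξ 1)` over a set of irreducible characters containing the principal
character is nonzero -/
theorem sm_sum_sq_ne_zero {K : Type u} [Group K] [Fintype K] [Fintype (IrrCharacter K)]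
    (b : Set (IrrCharacter K)) [DecidablePred (· ∈ b)] (h1 : principalChar K ∈ b) :
    (∑ ξ : IrrCharacter K, if ξ ∈ b then (ξ : K → ℂ) 1 * conj ((ξ : K → ℂ) 1) else 0) ≠ 0 := by
  intro h0
  have hre := congrArg Complex.re h0
  rw [Complex.re_sum, Complex.zero_re] at hre
  have hnn : ∀ ξ : IrrCharacter K, ξ ∈ Finset.univ →
      0 ≤ (if ξ ∈ b then (ξ : K → ℂ) 1 * conj ((ξ : K → ℂ) 1) else 0 : ℂ).re := by
    intro ξ _
    split_ifs
    · rw [Complex.mul_conj]
      exact_mod_cast Complex.normSq_nonneg _
    · simp
  have hz := (Finset.sum_eq_zero_iff_of_nonneg hnn).1 hre (principalChar K) (Finset.mem_univ _)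
  rw [if_pos h1] at hz
  have : ((principalChar K : IrrCharacter K) : K → ℂ) 1 = 1 := rfl
  rw [this] at hz
  simp at hz

/-- **General form.** `x` a `p`-element, `ψ` outside the principal block, `N` a normal subgroup of
`C_G(x)` of order prime to `p` containing all `p`-regular elements of `C_G(x)`:
`∑_{c ∈ N} ψ (x c) = 0`. -/
theorem sm_general {G : Type u} [Group G] [Finite G] {p : ℕ} [Fact p.Prime] {M : Ideal AlgInt}
    (hM : IsPModular p M) (x : G) (hx : ∃ k : ℕ, orderOf x = p ^ k)
    (ψ : IrrCharacter G) (hψ : ψ ∉ principalBlock M G)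
    (N : Subgroup (Subgroup.centralizer ({x} : Set G))) [N.Normal] (hpN : ¬ p ∣ Nat.card N)
    (hreg : ∀ c : Subgroup.centralizer ({x} : Set G), ¬ p ∣ orderOf c → c ∈ N)
    [Fintype (Subgroup.centralizer ({x} : Set G))] :
    ∑ c : Subgroup.centralizer ({x} : Set G),
      (N : Set (Subgroup.centralizer ({x} : Set G))).indicator
        (fun c => (ψ : G → ℂ) (x * (c : G))) c = 0 := by
  classical
  haveI : Fintype G := Fintype.ofFinite G
  letI : Fintype (IrrCharacter (Subgroup.centralizer ({x} : Set G))) := irrFintype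
  haveI hMp : M.IsPrime := hM.2.1.isPrime
  -- the principal block of the centralizer and its induced block
  have hb₀ : IsPBlock M (principalBlock M (Subgroup.centralizer ({x} : Set G))) :=
    isPBlock_principalBlock
  have hxz : (Subgroup.zpowers x : Set G) ⊆ Subgroup.centralizer ({x} : Set G) := by
    intro u hu
    rw [SetLike.mem_coe, Subgroup.mem_centralizer_iff]
    intro y hy
    rw [Set.mem_singleton_iff] at hy
    subst hy
    obtain ⟨k, rfl⟩ := Subgroup.mem_zpowers_iff.1 hu
    exact ((Commute.refl y).zpow_right k).eq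
  have hdef : InducedBlockDefined M (Subgroup.centralizer ({x} : Set G))
      (principalBlock M (Subgroup.centralizer ({x} : Set G))) := by
    refine Cfsg.Agent.S0919.result p M hM (Subgroup.zpowers x) _ ?_ hxz ?_ ?_ _ hb₀
    · obtain ⟨k, hk⟩ := hx
      exact IsPGroup.of_card (n := k) (by rw [Nat.card_zpowers, hk])
    · exact Subgroup.centralizer_le (by
        intro y hy
        rw [Set.mem_singleton_iff] at hy
        subst hy
        exact Subgroup.mem_zpowers y)
    · intro c hc
      rw [Subgroup.mem_centralizer_iff] at hc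
      have hcx : x * c = c * x := hc x rfl
      rw [Subgroup.mem_normalizer_iff]
      intro u
      have hconj : ∀ u ∈ Subgroup.zpowers x, c * u * c⁻¹ = u := by
        intro u hu
        obtain ⟨k, rfl⟩ := Subgroup.mem_zpowers_iff.1 hu
        have : Commute c (x ^ k) := (Commute.zpow_right hcx.symm k)
        rw [this.eq, mul_inv_cancel_right]
      constructor
      · intro hu
        rw [hconj u hu]
        exact hu
      · intro hu
        have := hconj _ hu
        have h2 : c * u * c⁻¹ = u := by
          have h3 : c * (c * u * c⁻¹) * c⁻¹ = c * u * c⁻¹ := this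
          have h4 : c⁻¹ * (c * (c * u * c⁻¹) * c⁻¹) * c = c⁻¹ * (c * u * c⁻¹) * c := by rw [h3]
          simpa [mul_assoc] using h4
        rw [← h2]
        exact hu
  have hB : IsPBlock M (blockOf M (ψ : G → ℂ)) := ⟨ψ, rfl⟩
  have hψB : ψ ∈ blockOf M (ψ : G → ℂ) := mem_blockOf_self ψ
  have hnot : ¬ IsInducedBlock M (Subgroup.centralizer ({x} : Set G))
      (principalBlock M (Subgroup.centralizer ({x} : Set G))) (blockOf M (ψ : G → ℂ)) := by
    intro hind
    have h3 := (Cfsg.Agent.S0936.result p M hM (Subgroup.centralizer ({x} : Set G))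
      (principalBlock M (Subgroup.centralizer ({x} : Set G))) hdef).2 rfl
    have := isInducedBlock_unique' hM hind h3
    exact hψ (this ▸ hψB)
  have h0 := Cfsg.Agent.S0923.result p M hM x hx _ hB ψ hψB _ hb₀ hnot 1
    (by
      rw [orderOf_one]
      exact fun h => (Fact.out : p.Prime).one_lt.ne' (Nat.dvd_one.1 h))
  rw [blockPart_eq_sum, Finset.sum_apply] at h0
  -- the inner sums
  have hT : ∀ c : Subgroup.centralizer ({x} : Set G),
      (∑ ξ : IrrCharacter (Subgroup.centralizer ({x} : Set G)),
        if ξ ∈ principalBlock M (Subgroup.centralizer ({x} : Set G)) then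
          (ξ : Subgroup.centralizer ({x} : Set G) → ℂ) 1 *
            conj ((ξ : Subgroup.centralizer ({x} : Set G) → ℂ) c) else 0) =
      (N : Set (Subgroup.centralizer ({x} : Set G))).indicator
        (fun _ => ∑ ξ : IrrCharacter (Subgroup.centralizer ({x} : Set G)),
          if ξ ∈ principalBlock M (Subgroup.centralizer ({x} : Set G)) then
            (ξ : Subgroup.centralizer ({x} : Set G) → ℂ) 1 *
              conj ((ξ : Subgroup.centralizer ({x} : Set G) → ℂ) 1) else 0) c := by
    intro c
    by_cases hc : c ∈ N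
    · rw [Set.indicator_of_mem (show c ∈ (N : Set _) from hc)]
      apply Finset.sum_congr rfl
      intro ξ _
      split_ifs with hξ
      · rw [sm_principal_trivial hM N hpN ξ hξ c hc]
      · rfl
    · rw [Set.indicator_of_notMem (show c ∉ (N : Set _) from hc)]
      have hcp : p ∣ orderOf c := by
        by_contra hcon
        exact hc (hreg c hcon)
      have hw := weak_block_orthogonality hM hb₀ (x := (1 : Subgroup.centralizer ({x} : Set G)))
        (y := c) (by
          rw [orderOf_one]
          exact fun h => (Fact.out : p.Prime).one_lt.ne' (Nat.dvd_one.1 h)) hcp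
      rw [finsum_mem_def, finsum_eq_sum_of_fintype] at hw
      refine Eq.trans ?_ hw
      apply Finset.sum_congr rfl
      intro ξ _
      by_cases hξ : ξ ∈ principalBlock M (Subgroup.centralizer ({x} : Set G))
      · rw [if_pos hξ, Set.indicator_of_mem hξ]
      · rw [if_neg hξ, Set.indicator_of_notMem hξ]
  -- rearrange `h0`
  have hS := sm_sum_sq_ne_zero (principalBlock M (Subgroup.centralizer ({x} : Set G)))
    (principalChar_mem_principalBlock (M := M) (G := Subgroup.centralizer ({x} : Set G)))
  have hcard : (Nat.card (Subgroup.centralizer ({x} : Set G)) : ℂ) ≠ 0 := by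
    exact_mod_cast Nat.card_pos.ne'
  have key : (∑ ξ : IrrCharacter (Subgroup.centralizer ({x} : Set G)),
      ((if ξ ∈ principalBlock M (Subgroup.centralizer ({x} : Set G)) then
        classInner (fun c : Subgroup.centralizer ({x} : Set G) => (ψ : G → ℂ) (x * (c : G)))
          (ξ : Subgroup.centralizer ({x} : Set G) → ℂ) else 0) •
        (ξ : Subgroup.centralizer ({x} : Set G) → ℂ)) 1) =
      (Nat.card (Subgroup.centralizer ({x} : Set G)) : ℂ)⁻¹ *
        ((∑ ξ : IrrCharacter (Subgroup.centralizer ({x} : Set G)),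
          if ξ ∈ principalBlock M (Subgroup.centralizer ({x} : Set G)) then
            (ξ : Subgroup.centralizer ({x} : Set G) → ℂ) 1 *
              conj ((ξ : Subgroup.centralizer ({x} : Set G) → ℂ) 1) else 0) *
        ∑ c : Subgroup.centralizer ({x} : Set G),
          (N : Set (Subgroup.centralizer ({x} : Set G))).indicator
            (fun c => (ψ : G → ℂ) (x * (c : G))) c) := by
    have h1 : ∀ ξ : IrrCharacter (Subgroup.centralizer ({x} : Set G)),
        ((if ξ ∈ principalBlock M (Subgroup.centralizer ({x} : Set G)) then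
          classInner (fun c : Subgroup.centralizer ({x} : Set G) => (ψ : G → ℂ) (x * (c : G)))
            (ξ : Subgroup.centralizer ({x} : Set G) → ℂ) else 0) •
          (ξ : Subgroup.centralizer ({x} : Set G) → ℂ)) 1 =
        (Nat.card (Subgroup.centralizer ({x} : Set G)) : ℂ)⁻¹ *
          ∑ c : Subgroup.centralizer ({x} : Set G), (ψ : G → ℂ) (x * (c : G)) *
            (if ξ ∈ principalBlock M (Subgroup.centralizer ({x} : Set G)) then
              (ξ : Subgroup.centralizer ({x} : Set G) → ℂ) 1 *
                conj ((ξ : Subgroup.centralizer ({x} : Set G) → ℂ) c) else 0) := by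
      intro ξ
      rw [Pi.smul_apply, smul_eq_mul]
      split_ifs with hξ
      · rw [classInner, mul_assoc, Finset.sum_mul]
        congr 1
        apply Finset.sum_congr rfl
        intro c _
        ring
      · simp
    rw [Finset.sum_congr rfl (fun ξ _ => h1 ξ), ← Finset.mul_sum, Finset.sum_comm]
    congr 1
    rw [Finset.mul_sum]
    apply Finset.sum_congr rfl
    intro c _
    rw [← Finset.mul_sum, hT c]
    by_cases hc : c ∈ N
    · rw [Set.indicator_of_mem (show c ∈ (N : Set _) from hc),
        Set.indicator_of_mem (show c ∈ (N : Set _) from hc)]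
      ring
    · rw [Set.indicator_of_notMem (show c ∉ (N : Set _) from hc),
        Set.indicator_of_notMem (show c ∉ (N : Set _) from hc)]
      ring
  rw [key] at h0
  rcases mul_eq_zero.1 h0 with h | h
  · exact absurd (inv_eq_zero.1 h) hcard
  · rcases mul_eq_zero.1 h with h | h
    · exact absurd h hS
    · exact h

section PartIV

variable (p : ℕ) [Fact p.Prime]
variable {G : Type*} [Group G] [Finite G]

/-- in a Sylow subgroup of order `p`, every element is a power of a given nontrivial element -/
theorem sm_mem_zpowers (P : Sylow p G) (hP : Nat.card P = p) (x : G) (hx : x ∈ (P : Subgroup G))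
    (hx1 : x ≠ 1) {u : G} (hu : u ∈ (P : Subgroup G)) : u ∈ Subgroup.zpowers x := by
  have hne : (⟨x, hx⟩ : (P : Subgroup G)) ≠ 1 := by
    intro h
    exact hx1 (congrArg Subtype.val h)
  have htop := zpowers_eq_top_of_prime_card (G := (P : Subgroup G)) hP hne
  have hmem : (⟨u, hu⟩ : (P : Subgroup G)) ∈ Subgroup.zpowers (⟨x, hx⟩ : (P : Subgroup G)) := by
    rw [htop]
    exact Subgroup.mem_top _
  obtain ⟨k, hk⟩ := Subgroup.mem_zpowers_iff.1 hmem
  refine Subgroup.mem_zpowers_iff.2 ⟨k, ?_⟩
  have := congrArg Subtype.val hk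
  simpa using this

theorem sm_centralizer_eq (P : Sylow p G) (hP : Nat.card P = p) (x : G)
    (hx : x ∈ (P : Subgroup G)) (hx1 : x ≠ 1) :
    Subgroup.centralizer ((P : Subgroup G) : Set G) = Subgroup.centralizer ({x} : Set G) := by
  apply le_antisymm
  · apply Subgroup.centralizer_le
    intro y hy
    rw [Set.mem_singleton_iff] at hy
    subst hy
    exact hx
  · intro c hc
    rw [Subgroup.mem_centralizer_iff] at hc ⊢
    intro u hu
    obtain ⟨k, rfl⟩ := Subgroup.mem_zpowers_iff.1 (sm_mem_zpowers p P hP x hx hx1 hu)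
    have hcx : x * c = c * x := hc x rfl
    exact (Commute.zpow_left hcx k).eq

/-- PIECE SM (second main theorem consequence): characters outside the principal block have zero
principal-block component on `x · K`. -/
theorem sum_pcore_eq_zero (M : Ideal Cfsg.AlgInt) (hM : Cfsg.IsPModular p M) (P : Sylow p G)
    (hP : Nat.card P = p) (x : G) (hx : x ∈ (P : Subgroup G)) (hx1 : x ≠ 1)
    (ψ : Cfsg.IrrCharacter G) (hψ : ψ ∉ Cfsg.principalBlock M G) :
    ∑ᶠ y ∈ {y : G | y ∈ Subgroup.centralizer ((P : Subgroup G) : Set G) ∧ ¬ p ∣ orderOf y},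
      (ψ : G → ℂ) (x * y) = 0 := by
  classical
  have hpP : p.Prime := Fact.out
  have hcent := sm_centralizer_eq p P hP x hx hx1
  -- the order of `x`
  have hox : orderOf x = p := by
    have h1 : orderOf x ∣ p := by
      have := Subgroup.orderOf_dvd_natCard (P : Subgroup G) hx
      rwa [hP] at this
    rcases (Nat.dvd_prime hpP).1 h1 with h | h
    · exact absurd (orderOf_eq_one_iff.1 h) hx1
    · exact h
  have hx' : ∃ k : ℕ, orderOf x = p ^ k := ⟨1, by rw [hox, pow_one]⟩
  -- the Sylow subgroup of the centralizer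
  have hPle : (P : Subgroup G) ≤ Subgroup.centralizer ({x} : Set G) := by
    intro u hu
    rw [Subgroup.mem_centralizer_iff]
    intro y hy
    rw [Set.mem_singleton_iff] at hy
    subst hy
    obtain ⟨k, rfl⟩ := Subgroup.mem_zpowers_iff.1 (sm_mem_zpowers p P hP y hx hx1 hu)
    exact ((Commute.refl y).zpow_right k).eq
  have hcentral : ∀ (c u : Subgroup.centralizer ({x} : Set G)),
      u ∈ (P.subtype hPle : Subgroup (Subgroup.centralizer ({x} : Set G))) → u * c = c * u := by
    intro c u hu
    have hu' : (u : G) ∈ (P : Subgroup G) := by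
      rw [Sylow.coe_subtype, Subgroup.mem_subgroupOf] at hu
      exact hu
    obtain ⟨k, hk⟩ := Subgroup.mem_zpowers_iff.1 (sm_mem_zpowers p P hP x hx hx1 hu')
    have hc := c.2
    rw [Subgroup.mem_centralizer_iff] at hc
    have hcx : x * (c : G) = (c : G) * x := hc x rfl
    apply Subtype.ext
    show (u : G) * (c : G) = (c : G) * (u : G)
    rw [← hk]
    exact (Commute.zpow_left hcx k).eq
  have hNC : Subgroup.normalizer
      ((P.subtype hPle : Subgroup (Subgroup.centralizer ({x} : Set G))) :
        Set (Subgroup.centralizer ({x} : Set G))) ≤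
      Subgroup.centralizer
      ((P.subtype hPle : Subgroup (Subgroup.centralizer ({x} : Set G))) :
        Set (Subgroup.centralizer ({x} : Set G))) := by
    intro c _
    rw [Subgroup.mem_centralizer_iff]
    intro u hu
    exact hcentral c u hu
  have hpN : ¬ p ∣ Nat.card (MonoidHom.transferSylow (P.subtype hPle) hNC).ker :=
    MonoidHom.not_dvd_card_ker_transferSylow (P.subtype hPle) hNC
  have hreg : ∀ c : Subgroup.centralizer ({x} : Set G), ¬ p ∣ orderOf c →
      c ∈ (MonoidHom.transferSylow (P.subtype hPle) hNC).ker := by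
    intro c hc
    rw [MonoidHom.mem_ker]
    have h1 : orderOf (MonoidHom.transferSylow (P.subtype hPle) hNC c) ∣ orderOf c :=
      orderOf_map_dvd _ c
    obtain ⟨k, hk⟩ := (P.subtype hPle).2 (MonoidHom.transferSylow (P.subtype hPle) hNC c)
    have h2 : orderOf (MonoidHom.transferSylow (P.subtype hPle) hNC c) ∣ p ^ k :=
      orderOf_dvd_of_pow_eq_one hk
    obtain ⟨j, -, hj⟩ := (Nat.dvd_prime_pow hpP).1 h2
    rcases Nat.eq_zero_or_pos j with rfl | hjpos
    · rw [pow_zero] at hj
      exact orderOf_eq_one_iff.1 hj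
    · exfalso
      apply hc
      rw [hj] at h1
      exact dvd_trans (dvd_pow_self p hjpos.ne') h1
  haveI : Fintype (Subgroup.centralizer ({x} : Set G)) := Fintype.ofFinite _
  have key := sm_general hM x hx' ψ hψ (MonoidHom.transferSylow (P.subtype hPle) hNC).ker hpN hreg
  -- rewrite the index set
  have hset : {y : G | y ∈ Subgroup.centralizer ((P : Subgroup G) : Set G) ∧ ¬ p ∣ orderOf y} =
      Subtype.val '' (((MonoidHom.transferSylow (P.subtype hPle) hNC).ker :
        Subgroup (Subgroup.centralizer ({x} : Set G))) :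
        Set (Subgroup.centralizer ({x} : Set G))) := by
    ext y
    constructor
    · rintro ⟨hy, hyp⟩
      rw [hcent] at hy
      refine ⟨⟨y, hy⟩, hreg ⟨y, hy⟩ ?_, rfl⟩
      rwa [Subgroup.orderOf_mk]
    · rintro ⟨c, hc, rfl⟩
      refine ⟨by rw [hcent]; exact c.2, ?_⟩
      intro hdiv
      apply hpN
      have h1 : orderOf c ∣ Nat.card (MonoidHom.transferSylow (P.subtype hPle) hNC).ker :=
        Subgroup.orderOf_dvd_natCard _ hc
      rw [← Subgroup.orderOf_coe] at h1
      exact dvd_trans hdiv h1
  rw [hset, finsum_mem_image (Subtype.val_injective.injOn), finsum_mem_def,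
    finsum_eq_sum_of_fintype]
  exact key

end PartIV

end Cfsg.Agent.Helper5.TL
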