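import Mathlib
import Cfsg.Agent.Lib.Helper23.BlockSubsectionCount

/-!
# Counting the characters of a block with a single class of non-trivial subsections
(helper23's shared library)

`card_eq_blockRank_add_of_single_class`: if the non-trivial `B`-subsections all sit on the
class of one `p`-element `u₀`, then `k(B) = l(B) + ∑_{b^G = B} l(b)`, `b` over blocks of
`C_G(u₀)`.
-/

set_option autoImplicit false
set_option linter.unusedSectionVars false
set_option linter.style.haveILetI false

namespace Cfsg.Agent.Helper23.Blk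

open Cfsg Cfsg.Agent.Helper24 Cfsg.Agent.Helper18
open scoped ComplexConjugate

universe u

section CountClasses

variable {G : Type u} [Group G] [Fintype G] {M : Ideal AlgInt} {p : ℕ}

theorem isPPart_one_iff (g : G) : IsPPart p g 1 ↔ ¬ p ∣ orderOf g := by
  constructor
  · rintro ⟨y, hy, -, -, h⟩
    rw [one_mul] at hy
    rwa [← hy]
  · intro h
    exact ⟨g, one_mul g, Commute.one_left g, ⟨0, by rw [orderOf_one, pow_zero]⟩, h⟩

/-- the section sum of the identity -/
theorem secSum_one (hM : IsPModular p M) [Fintype (IrrCharacter G)] {B : Set (IrrCharacter G)}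
    (hB : IsPBlock M B) :
    secSum p B 1 = (Nat.card G : ℂ) * (blockRank p B : ℂ) := by
  classical
  have hG0 : (Nat.card G : ℂ) ≠ 0 := by exact_mod_cast (Nat.card_pos (α := G)).ne'
  rw [blockRank_block p hM hB, Finset.mul_sum]
  unfold secSum blockSq
  have h1 : ∀ g : G, (if IsPPart p g 1 then ∑ ζ : IrrCharacter G, B.indicator
      (fun ζ : IrrCharacter G => (ζ : G → ℂ) g * conj ((ζ : G → ℂ) g)) ζ else 0) =
      ∑ ζ : IrrCharacter G, if ζ ∈ B then
        pRegularPart p (ζ : G → ℂ) g * conj ((ζ : G → ℂ) g) else 0 := by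
    intro g
    by_cases hg : p ∣ orderOf g
    · rw [if_neg (fun h => (isPPart_one_iff g).1 h hg)]
      symm
      apply Finset.sum_eq_zero
      intro ζ _
      split_ifs
      · rw [pRegularPart_of_dvd p _ hg, zero_mul]
      · rfl
    · rw [if_pos ((isPPart_one_iff g).2 hg)]
      apply Finset.sum_congr rfl
      intro ζ _
      by_cases hζ : ζ ∈ B
      · rw [Set.indicator_of_mem hζ, if_pos hζ, pRegularPart_of_not_dvd p _ hg]
      · rw [Set.indicator_of_notMem hζ, if_neg hζ]
  rw [Finset.sum_congr rfl (fun g _ => h1 g), Finset.sum_comm]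
  apply Finset.sum_congr rfl
  intro ζ _
  by_cases hζ : ζ ∈ B
  · simp only [if_pos hζ]
    unfold classInner
    rw [← mul_assoc, mul_inv_cancel₀ hG0, one_mul]
  · simp only [if_neg hζ]
    rw [Finset.sum_const_zero, mul_zero]

open Classical in
/-- **`k(B) = l(B) + ∑ l(b)` when all non-trivial subsections sit on one class** -/
theorem card_eq_blockRank_add_of_single_class (hM : IsPModular p M) {B : Set (IrrCharacter G)}
    (hB : IsPBlock M B) (u₀ : G) (hu₀ : ∃ k : ℕ, orderOf u₀ = p ^ k) (hu₀1 : u₀ ≠ 1)
    (ha : ∀ z : G, (∃ k : ℕ, orderOf z = p ^ k) → z ≠ 1 →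
      (∃ b : Set (IrrCharacter (Subgroup.centralizer ({z} : Set G))),
        IsInducedBlock M (Subgroup.centralizer ({z} : Set G)) b B) → IsConj u₀ z)
    (m : ℕ)
    (hb : ∑ᶠ b ∈ {b : Set (IrrCharacter (Subgroup.centralizer ({u₀} : Set G))) |
      IsInducedBlock M (Subgroup.centralizer ({u₀} : Set G)) b B}, blockRank p b = m) :
    Nat.card B = blockRank p B + m := by
  letI : Fintype (IrrCharacter G) := irrFintype
  have hp : p.Prime := hM.1
  have hG0 : (Nat.card G : ℂ) ≠ 0 := by exact_mod_cast (Nat.card_pos (α := G)).ne'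
  have h1 := sum_blockSq B
  rw [← sum_secSum hp B] at h1
  -- split the sum
  have hsplit : ∀ z : G, secSum p B z = (if z = 1 then secSum p B 1 else 0) +
      (if IsConj u₀ z then secSum p B z else 0) := by
    intro z
    by_cases hz1 : z = 1
    · rw [if_pos hz1, if_neg, add_zero, hz1]
      intro hc
      apply hu₀1
      rw [hz1] at hc
      exact isConj_one_right.1 hc.symm
    · rw [if_neg hz1, zero_add]
      by_cases hc : IsConj u₀ z
      · rw [if_pos hc]
      · rw [if_neg hc]
        by_cases hz : ∃ k : ℕ, orderOf z = p ^ k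
        · rw [secSum_eq_card_mul hM hB hz]
          have hempty : {b : Set (IrrCharacter (Subgroup.centralizer ({z} : Set G))) |
              IsInducedBlock M (Subgroup.centralizer ({z} : Set G)) b B} = ∅ := by
            ext b
            simp only [Set.mem_setOf_eq, Set.mem_empty_iff_false, iff_false]
            intro hbi
            exact hc (ha z hz hz1 ⟨b, hbi⟩)
          rw [hempty, finsum_mem_empty, Nat.cast_zero, mul_zero]
        · exact secSum_eq_zero B hz
  rw [Finset.sum_congr rfl (fun z _ => hsplit z), Finset.sum_add_distrib, Finset.sum_ite_eq'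
    , if_pos (Finset.mem_univ _), ← Finset.sum_filter] at h1
  have h2 := sum_isConj_eq u₀ (secSum p B) (secSum_conj B)
  rw [secSum_eq_card_mul hM hB hu₀, hb] at h2
  have hC0 : (Nat.card (Subgroup.centralizer ({u₀} : Set G)) : ℂ) ≠ 0 := by
    exact_mod_cast (Nat.card_pos (α := Subgroup.centralizer ({u₀} : Set G))).ne'
  have h3 : ∑ z ∈ Finset.univ.filter (IsConj u₀), secSum p B z = (Nat.card G : ℂ) * m := by
    apply mul_left_cancel₀ hC0
    rw [h2]
    ring
  rw [h3, secSum_one hM hB, ← mul_add] at h1
  have h4 := mul_left_cancel₀ hG0 h1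
  exact_mod_cast h4.symm

end CountClasses

end Cfsg.Agent.Helper23.Blk
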