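import Mathlib
import Cfsg.Prelude.Def_Blocks
import Cfsg.Agent.Lib.Helper5.TLDDefs
import Cfsg.Agent.Lib.Helper12.TLDDSM
import Cfsg.Agent.Lib.Helper23.BlockIdem
import Cfsg.Agent.Lib.Helper23.BlockInducedDefect

set_option autoImplicit false
set_option linter.style.haveILetI false

/-!
# S4442 GLUE piece GSMB (helper23): `FP_eq_zero_of_not_mem`
-/

namespace Cfsg.Agent.Helper5.TLD

open scoped ComplexConjugate
open Cfsg

variable (p : ℕ) [Fact p.Prime] {G : Type*} [Group G] [Finite G]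

/-- GLUE GSMB: the `θ`-part of a character outside `B = b^G` vanishes on `P^#`. -/
theorem FP_eq_zero_of_not_mem (M : Ideal AlgInt) (hM : IsPModular p M) (P : Sylow p G)
    (hP : Nat.card P = p) (B : Set (IrrCharacter G)) (hB : IsPBlock M B)
    (b : Set (IrrCharacter (Subgroup.centralizer ((P : Subgroup G) : Set G))))
    (hind : IsInducedBlock M (Subgroup.centralizer ((P : Subgroup G) : Set G)) b B)
    (θ : IrrCharacter (Subgroup.centralizer ((P : Subgroup G) : Set G))) (hθ : θ ∈ b)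
    (hθP : ∀ x : Subgroup.centralizer ((P : Subgroup G) : Set G), (x : G) ∈ (P : Subgroup G) →
      (θ : Subgroup.centralizer ((P : Subgroup G) : Set G) → ℂ) x =
        (θ : Subgroup.centralizer ((P : Subgroup G) : Set G) → ℂ) 1)
    (χ : IrrCharacter G) (hχ : χ ∉ B) (a : G) (ha : a ∈ (P : Subgroup G)) (ha1 : a ≠ 1) :
    FP p P (θ : Subgroup.centralizer ((P : Subgroup G) : Set G) → ℂ) (χ : G → ℂ) a = 0 := by
  haveI hMp : M.IsPrime := hM.2.1.isPrime
  haveI : Fintype G := Fintype.ofFinite G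
  haveI : Fintype (Subgroup.centralizer ((P : Subgroup G) : Set G)) := Fintype.ofFinite _
  have hbθ : blockOf M (θ : Subgroup.centralizer ((P : Subgroup G) : Set G) → ℂ) = b := by
    obtain ⟨ξ, hξ⟩ := hind.1
    rw [hξ] at hθ ⊢
    exact Cfsg.Agent.Helper23.Blk.blockOf_eq_of_mem hθ
  refine FP_eq_zero_of_not_induced p M hM P hP (blockOf M (χ : G → ℂ)) ⟨χ, rfl⟩ χ
    (Cfsg.Agent.Helper23.Blk.mem_blockOf_self χ) θ hθP ?_ a ha ha1
  intro h
  rw [hbθ] at h
  have hBB : B = blockOf M (χ : G → ℂ) :=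
    Cfsg.Agent.Helper23.Blk.isInducedBlock_unique' hM hind h
  exact hχ (hBB ▸ Cfsg.Agent.Helper23.Blk.mem_blockOf_self χ)

end Cfsg.Agent.Helper5.TLD
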