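import Mathlib
import Cfsg.Prelude.Def_Blocks
import Cfsg.Agent.Lib.Helper5.TLDDefs
import Cfsg.Agent.Lib.Helper6.TLDDDEG0
import Cfsg.Agent.Lib.Helper23.TLDGGSMB

set_option autoImplicit false

/-!
# S4442 GLUE piece GB (helper23): `deg_rel`
-/

namespace Cfsg.Agent.Helper5.TLD

open scoped ComplexConjugate
open Cfsg

variable (p : ℕ) [Fact p.Prime] {G : Type*} [Group G] [Finite G]

/-- GLUE GB: the degree relation restricted to `B`. -/
theorem deg_rel (M : Ideal AlgInt) (hM : IsPModular p M) (P : Sylow p G)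
    (hP : Nat.card P = p) (B : Set (IrrCharacter G)) (hB : IsPBlock M B)
    (b : Set (IrrCharacter (Subgroup.centralizer ((P : Subgroup G) : Set G))))
    (hind : IsInducedBlock M (Subgroup.centralizer ((P : Subgroup G) : Set G)) b B)
    (θ : IrrCharacter (Subgroup.centralizer ((P : Subgroup G) : Set G))) (hθ : θ ∈ b)
    (hθP : ∀ x : Subgroup.centralizer ((P : Subgroup G) : Set G), (x : G) ∈ (P : Subgroup G) →
      (θ : Subgroup.centralizer ((P : Subgroup G) : Set G) → ℂ) x =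
        (θ : Subgroup.centralizer ((P : Subgroup G) : Set G) → ℂ) 1)
    (X : Finset (IrrCharacter G)) (hX : ∀ χ, χ ∈ X ↔ χ ∈ B)
    (a : (P : Subgroup G)) (ha : a ≠ 1) :
    ∑ χ ∈ X, (charDegree (χ : G → ℂ) : ℂ) *
      FP p P (θ : Subgroup.centralizer ((P : Subgroup G) : Set G) → ℂ) (χ : G → ℂ) (a : G) = 0 := by
  have ha1 : (a : G) ≠ 1 := fun h => ha (Subtype.ext h)
  have h0 := sum_degree_mul_FP p P hP
    (θ : Subgroup.centralizer ((P : Subgroup G) : Set G) → ℂ) (a : G) a.2 ha1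
  rw [← h0]
  symm
  apply finsum_eq_sum_of_support_subset
  intro χ hχ
  rw [Function.mem_support] at hχ
  rw [Finset.mem_coe, hX]
  by_contra hnot
  apply hχ
  rw [FP_eq_zero_of_not_mem p M hM P hP B hB b hind θ hθ hθP χ hnot (a : G) a.2 ha1, mul_zero]

end Cfsg.Agent.Helper5.TLD
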