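import Mathlib
import Cfsg.Prelude.Def_Blocks
import Cfsg.Agent.Lib.Helper5.TLDDefs
import Cfsg.Agent.Lib.Helper6.TLDDCOL
import Cfsg.Agent.Lib.Helper23.TLDGGSMB

set_option autoImplicit false

/-!
# S4442 GLUE piece GCOL (helper23): `col_rel`
-/

namespace Cfsg.Agent.Helper5.TLD

open scoped ComplexConjugate
open Cfsg

variable (p : ℕ) [Fact p.Prime] {G : Type*} [Group G] [Finite G]

/-- GLUE GCOL: the column relations in the form of `abs_structure`. -/
theorem col_rel (M : Ideal AlgInt) (hM : IsPModular p M) (P : Sylow p G)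
    (hP : Nat.card P = p) (B : Set (IrrCharacter G)) (hB : IsPBlock M B)
    (b : Set (IrrCharacter (Subgroup.centralizer ((P : Subgroup G) : Set G))))
    (hind : IsInducedBlock M (Subgroup.centralizer ((P : Subgroup G) : Set G)) b B)
    (θ : IrrCharacter (Subgroup.centralizer ((P : Subgroup G) : Set G))) (hθ : θ ∈ b)
    (hθP : ∀ x : Subgroup.centralizer ((P : Subgroup G) : Set G), (x : G) ∈ (P : Subgroup G) →
      (θ : Subgroup.centralizer ((P : Subgroup G) : Set G) → ℂ) x =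
        (θ : Subgroup.centralizer ((P : Subgroup G) : Set G) → ℂ) 1)
    (T : Subgroup G)
    (hT : ∀ g : G, g ∈ T ↔ (g ∈ Subgroup.normalizer ((P : Subgroup G) : Set G) ∧
      ∀ c c' : Subgroup.centralizer ((P : Subgroup G) : Set G), (c' : G) = g * c * g⁻¹ →
        (θ : Subgroup.centralizer ((P : Subgroup G) : Set G) → ℂ) c' =
          (θ : Subgroup.centralizer ((P : Subgroup G) : Set G) → ℂ) c))
    (e : ℕ) (ν : MulAut (P : Subgroup G))
    (hfpf : ∀ k : ℕ, 0 < k → k < e → ∀ a : (P : Subgroup G), (ν ^ k) a = a → a = 1)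
    (hν3 : ∀ t ∈ T, ∃ k < e, ∀ a : (P : Subgroup G),
        t * (a : G) * t⁻¹ = (((ν ^ k) a : (P : Subgroup G)) : G))
    (hν4 : ∀ k : ℕ, ∃ t ∈ T, ∀ a : (P : Subgroup G),
        t * (a : G) * t⁻¹ = (((ν ^ k) a : (P : Subgroup G)) : G))
    [DecidableEq (P : Subgroup G)]
    (X : Finset (IrrCharacter G)) (hX : ∀ χ, χ ∈ X ↔ χ ∈ B)
    (a a' : (P : Subgroup G)) (ha : a ≠ 1) (ha' : a' ≠ 1) :
    ∑ χ ∈ X, FP p P (θ : Subgroup.centralizer ((P : Subgroup G) : Set G) → ℂ) (χ : G → ℂ) (a : G) *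
      conj (FP p P (θ : Subgroup.centralizer ((P : Subgroup G) : Set G) → ℂ) (χ : G → ℂ) (a' : G)) =
      (p : ℂ) * ∑ k ∈ Finset.range e, (if a' = (ν ^ k) a then (1 : ℂ) else 0) := by
  have ha1 : (a : G) ≠ 1 := fun h => ha (Subtype.ext h)
  have ha'1 : (a' : G) ≠ 1 := fun h => ha' (Subtype.ext h)
  -- step 1: the finite sum over `X` is the finsum over all irreducible characters
  have h1 : ∑ χ ∈ X, FP p P (θ : Subgroup.centralizer ((P : Subgroup G) : Set G) → ℂ)
        (χ : G → ℂ) (a : G) *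
      conj (FP p P (θ : Subgroup.centralizer ((P : Subgroup G) : Set G) → ℂ) (χ : G → ℂ) (a' : G)) =
      ∑ᶠ χ : IrrCharacter G, FP p P (θ : Subgroup.centralizer ((P : Subgroup G) : Set G) → ℂ)
        (χ : G → ℂ) (a : G) *
      conj (FP p P (θ : Subgroup.centralizer ((P : Subgroup G) : Set G) → ℂ) (χ : G → ℂ)
        (a' : G)) := by
    symm
    apply finsum_eq_sum_of_support_subset
    intro χ hχ
    rw [Function.mem_support] at hχ
    rw [Finset.mem_coe, hX]
    by_contra hnot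
    apply hχ
    rw [FP_eq_zero_of_not_mem p M hM P hP B hB b hind θ hθ hθP χ hnot (a : G) a.2 ha1, zero_mul]
  rw [h1, sum_FP_mul_conj p P hP θ hθP T hT (a : G) (a' : G) a.2 ha1 a'.2 ha'1]
  -- step 2: the indicator
  have hiff : (∃ t ∈ T, (a' : G) = t * (a : G) * t⁻¹) ↔ ∃ k < e, a' = (ν ^ k) a := by
    constructor
    · rintro ⟨t, ht, hta⟩
      obtain ⟨k, hk, hkt⟩ := hν3 t ht
      exact ⟨k, hk, Subtype.ext (by rw [hta, hkt a])⟩
    · rintro ⟨k, _, hka⟩
      obtain ⟨t, ht, hkt⟩ := hν4 k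
      exact ⟨t, ht, by rw [hkt a, hka]⟩
  have huniq : ∀ k k' : ℕ, k < e → k' < e → (ν ^ k) a = (ν ^ k') a → k = k' := by
    -- wlog k ≤ k'
    have key : ∀ k k' : ℕ, k < k' → k' < e → (ν ^ k) a = (ν ^ k') a → False := by
      intro k k' hkk' hk' heq
      have hd : 0 < k' - k := Nat.sub_pos_of_lt hkk'
      have hd' : k' - k < e := lt_of_le_of_lt (Nat.sub_le _ _) hk'
      have hsplit : ν ^ k' = ν ^ (k' - k) * ν ^ k := by
        rw [← pow_add, Nat.sub_add_cancel hkk'.le]
      have hfix : (ν ^ (k' - k)) ((ν ^ k) a) = (ν ^ k) a := by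
        rw [heq]
        conv_rhs => rw [hsplit]
        rw [MulAut.mul_apply, ← heq]
      have h1' := hfpf (k' - k) hd hd' _ hfix
      have : a = 1 := by
        have := congrArg (ν ^ k).symm h1'
        simpa using this
      exact ha this
    intro k k' hk hk' heq
    rcases lt_trichotomy k k' with h | h | h
    · exact (key k k' h hk' heq).elim
    · exact h
    · exact (key k' k h hk heq.symm).elim
  by_cases hex : ∃ k < e, a' = (ν ^ k) a
  · obtain ⟨k0, hk0, hk0a⟩ := hex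
    have hmem : (a' : G) ∈ {u : G | ∃ t ∈ T, u = t * (a : G) * t⁻¹} :=
      hiff.mpr ⟨k0, hk0, hk0a⟩
    rw [Set.indicator_of_mem hmem]
    have hsum : ∑ k ∈ Finset.range e, (if a' = (ν ^ k) a then (1 : ℂ) else 0) = 1 := by
      rw [Finset.sum_eq_single k0]
      · rw [if_pos hk0a]
      · intro k hk hne
        rw [Finset.mem_range] at hk
        rw [if_neg]
        intro hka
        exact hne (huniq k k0 hk hk0 (by rw [← hka, ← hk0a]))
      · intro hk
        exact (hk (Finset.mem_range.mpr hk0)).elim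
    rw [hsum, mul_one]
  · have hnmem : (a' : G) ∉ {u : G | ∃ t ∈ T, u = t * (a : G) * t⁻¹} := fun h => hex (hiff.mp h)
    rw [Set.indicator_of_notMem hnmem]
    have hsum : ∑ k ∈ Finset.range e, (if a' = (ν ^ k) a then (1 : ℂ) else 0) = 0 := by
      apply Finset.sum_eq_zero
      intro k hk
      rw [Finset.mem_range] at hk
      rw [if_neg]
      intro hka
      exact hex ⟨k, hk, hka⟩
    rw [hsum, mul_zero]

end Cfsg.Agent.Helper5.TLD
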