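import Mathlib
import Cfsg.Agent.Lib.Helper5.TLRDefs
import Cfsg.Agent.Lib.Helper5.TLRHomDefs
import Cfsg.Agent.Lib.Helper5.TLRHom
import Cfsg.Agent.Lib.Helper5.TLRGen0

set_option autoImplicit false
set_option linter.unusedSectionVars false
set_option linter.unusedVariables false

/-!
# S4442 lattice side, LAYER C, PIECE HOM-EV (helper23): the Schur relations `ptr_ev`, `ptr_ev_twist`
-/

namespace Cfsg.Agent.Helper5.TLR

section Ev

variable {R : Type*} [CommRing R]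
variable {U : Type*} [AddCommGroup U] [Module R U] [Module.Free R U] [Module.Finite R U]
variable {M : Type*} [AddCommGroup M] [Module R M]
variable {ι : Type*} [Fintype ι] [DecidableEq ι] (b : Module.Basis ι R U)
variable {K : Type*} [Group K] [Fintype K]

/-- the averaging operator on `U →ₗ[R] M`. -/
noncomputable def avgK (u₀ : R) (σ : Representation R K M) (𝔛 : Representation R K U) :
    Module.End R (U →ₗ[R] M) :=
  u₀ • ∑ k : K, post U (σ k) * pre M (𝔛 k⁻¹)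

omit [Module.Free R U] [Module.Finite R U] in
theorem homev_avgK_apply (u₀ : R) (σ : Representation R K M) (𝔛 : Representation R K U)
    (φ : U →ₗ[R] M) : avgK u₀ σ 𝔛 φ = u₀ • ∑ k : K, σ k ∘ₗ φ ∘ₗ 𝔛 k⁻¹ := by
  unfold avgK
  rw [LinearMap.smul_apply, LinearMap.sum_apply]
  rfl

/-- the twisted averaging of an endomorphism of `U` -/
noncomputable def homevLam (u₀ : R) (𝔛 : Representation R K U) (α : K →* K) (E : Module.End R U) :
    Module.End R U :=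
  u₀ • ∑ k : K, 𝔛 (α k) * E * 𝔛 k⁻¹

omit [Module.Free R U] [Module.Finite R U] in
theorem homevLam_twist (u₀ : R) (𝔛 : Representation R K U) (α : K →* K) (E : Module.End R U)
    (k' : K) : homevLam u₀ 𝔛 α E * 𝔛 k' = 𝔛 (α k') * homevLam u₀ 𝔛 α E := by
  unfold homevLam
  rw [smul_mul_assoc, mul_smul_comm, Finset.sum_mul, Finset.mul_sum]
  congr 1
  rw [← Equiv.sum_comp (Equiv.mulLeft k')]
  refine Finset.sum_congr rfl fun j _ => ?_
  have h1 : 𝔛 (k' * j)⁻¹ * 𝔛 k' = 𝔛 j⁻¹ := by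
    rw [← map_mul, mul_inv_rev, inv_mul_cancel_right]
  show 𝔛 (α (k' * j)) * E * 𝔛 (k' * j)⁻¹ * 𝔛 k' = _
  rw [mul_assoc _ _ (𝔛 k'), h1, map_mul, map_mul]
  simp only [mul_assoc]

omit [Module.Free R U] [Module.Finite R U] in
theorem homev_avgK_comp (u₀ : R) (σ : Representation R K M) (𝔛 : Representation R K U)
    (α : K →* K) (ψ : U →ₗ[R] M) (hψ : ∀ k, σ k ∘ₗ ψ = ψ ∘ₗ 𝔛 (α k)) (E : Module.End R U) :
    avgK u₀ σ 𝔛 (ψ ∘ₗ E) = ψ ∘ₗ homevLam u₀ 𝔛 α E := by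
  rw [homev_avgK_apply]
  unfold homevLam
  ext w
  simp only [LinearMap.smul_apply, LinearMap.sum_apply, LinearMap.comp_apply, map_smul, map_sum,
    Module.End.mul_apply]
  congr 1
  refine Finset.sum_congr rfl fun k _ => ?_
  exact LinearMap.congr_fun (hψ k) (E (𝔛 k⁻¹ w))

omit [Module.Free R U] [Module.Finite R U] in
theorem homev_smulRight_comp (ψ : U →ₗ[R] M) (ξ : U →ₗ[R] R) (u : U) :
    ξ.smulRight (ψ u) = ψ ∘ₗ ξ.smulRight u := by
  ext w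
  simp

theorem homev_trace_Lam (u₀ : R) (hu₀ : u₀ * (Fintype.card K : R) = 1)
    (𝔛 : Representation R K U) (E : Module.End R U) :
    LinearMap.trace R U (homevLam u₀ 𝔛 (MonoidHom.id K) E) = LinearMap.trace R U E := by
  unfold homevLam
  rw [map_smul, map_sum]
  have h1 : ∀ k : K, LinearMap.trace R U (𝔛 ((MonoidHom.id K) k) * E * 𝔛 k⁻¹) =
      LinearMap.trace R U E := by
    intro k
    rw [MonoidHom.id_apply, LinearMap.trace_mul_comm, ← mul_assoc, ← map_mul, inv_mul_cancel,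
      map_one, one_mul]
  rw [Finset.sum_congr rfl (fun k _ => h1 k), Finset.sum_const, Finset.card_univ, nsmul_eq_mul,
    smul_eq_mul, ← mul_assoc, hu₀, one_mul]

/-- (`Ψ (b.coord i ⊗ ψ u) = Ψ (avgK (b.coord i ⊗ ψ u)) = Ψ (ψ ∘ Λ_i)` with
`Λ_i = u₀ Σ_k 𝔛 k ∘ (b.coord i ⊗ u) ∘ 𝔛 k⁻¹` in the commutant of `𝔛`, so `Λ_i = c_i • 1`,
`(rank U) c_i = tr Λ_i = b.coord i u`; sum over `i`.) -/
theorem ptr_ev (u₀ : R) (hu₀ : u₀ * (Fintype.card K : R) = 1)
    (σ : Representation R K M) (𝔛 : Representation R K U)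
    (hEnd : ∀ φ : Module.End R U, (∀ k, Commute φ (𝔛 k)) → ∃ c : R, φ = c • 1)
    (Ψ : Module.End R (U →ₗ[R] M)) (hΨ : Ψ * avgK u₀ σ 𝔛 = Ψ)
    (ψ : U →ₗ[R] M) (hψ : ∀ k, σ k ∘ₗ ψ = ψ ∘ₗ 𝔛 k) (u : U) :
    (Module.finrank R U : R) • ptr b Ψ (ψ u) = Ψ ψ u := by
  have hΨ' : ∀ φ, Ψ φ = Ψ (avgK u₀ σ 𝔛 φ) := by
    intro φ
    conv_lhs => rw [← hΨ]
    rfl
  have hterm : ∀ i : ι, (Module.finrank R U : R) • Ψ ((b.coord i).smulRight (ψ u)) (b i) =
      (b.coord i u) • Ψ ψ (b i) := by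
    intro i
    set E : Module.End R U := (b.coord i).smulRight u with hE
    obtain ⟨c, hc⟩ := hEnd (homevLam u₀ 𝔛 (MonoidHom.id K) E) (fun k => by
      have := homevLam_twist u₀ 𝔛 (MonoidHom.id K) E k
      rw [MonoidHom.id_apply] at this
      exact this)
    have htr : c * (Module.finrank R U : R) = b.coord i u := by
      have h1 := homev_trace_Lam u₀ hu₀ 𝔛 E
      rw [hc, map_smul, LinearMap.trace_one, smul_eq_mul, hE, LinearMap.trace_smulRight] at h1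
      exact h1
    rw [homev_smulRight_comp, hΨ', homev_avgK_comp u₀ σ 𝔛 (MonoidHom.id K) ψ
      (fun k => by rw [MonoidHom.id_apply]; exact hψ k) E, hc]
    have h2 : ψ ∘ₗ (c • (1 : Module.End R U)) = c • ψ := by
      ext w
      simp
    rw [h2, map_smul, LinearMap.smul_apply, smul_smul, mul_comm, htr]
  rw [ptr_apply, Finset.smul_sum, Finset.sum_congr rfl (fun i _ => hterm i)]
  conv_rhs => rw [← b.sum_repr u]
  rw [map_sum]
  refine Finset.sum_congr rfl fun i _ => ?_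
  rw [map_smul, Module.Basis.coord_apply]

/-- (As above with `Λ = u₀ Σ_k 𝔛 (α k) ∘ (ξ ⊗ u) ∘ 𝔛 k⁻¹`, which satisfies `Λ 𝔛 k = 𝔛 (α k) Λ`,
hence `Λ = 0`.) -/
theorem ptr_ev_twist (u₀ : R)
    (σ : Representation R K M) (𝔛 : Representation R K U) (α : K →* K)
    (hne : ∀ φ : Module.End R U, (∀ k, φ * 𝔛 k = 𝔛 (α k) * φ) → φ = 0)
    (Ψ : Module.End R (U →ₗ[R] M)) (hΨ : Ψ * avgK u₀ σ 𝔛 = Ψ)
    (ψ : U →ₗ[R] M) (hψ : ∀ k, σ k ∘ₗ ψ = ψ ∘ₗ 𝔛 (α k)) (u : U) :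
    ptr b Ψ (ψ u) = 0 := by
  have hΨ' : ∀ φ, Ψ φ = Ψ (avgK u₀ σ 𝔛 φ) := by
    intro φ
    conv_lhs => rw [← hΨ]
    rfl
  rw [ptr_apply]
  refine Finset.sum_eq_zero fun i _ => ?_
  rw [homev_smulRight_comp, hΨ', homev_avgK_comp u₀ σ 𝔛 α ψ hψ,
    hne _ (homevLam_twist u₀ 𝔛 α _), LinearMap.comp_zero, map_zero, LinearMap.zero_apply]

end Ev

end Cfsg.Agent.Helper5.TLR
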