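import Mathlib
import Cfsg.Agent.Lib.Helper5.TLRDefs
import Cfsg.Agent.Lib.Helper5.TLRGen0

set_option autoImplicit false
set_option linter.unusedSectionVars false
set_option linter.unusedVariables false

/-!
# S4442 lattice side, LAYER C: PIECE NAVG (helper23)
(averaging a `T`-equivariant endomorphism over `N / T`)
-/

namespace Cfsg.Agent.Helper5.TLR

variable (p : ℕ) [Fact p.Prime]
variable {R : Type*} [CommRing R] [IsDomain R] [IsDiscreteValuationRing R] [CharZero R] [PUnif R p]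
variable {G : Type*} [Group G] [Finite G]
variable {M : Type*} [AddCommGroup M] [Module R M]

omit [IsDomain R] [IsDiscreteValuationRing R] [CharZero R] [Finite G] in
theorem navg_conj_commute (ρ : Representation R G M) (g y : G) (Ψ : Module.End R M)
    (h : Commute Ψ (ρ (g⁻¹ * y * g))) : Commute (ρ g * Ψ * ρ g⁻¹) (ρ y) := by
  have e1 : ρ g⁻¹ * ρ y = ρ (g⁻¹ * y * g) * ρ g⁻¹ := by
    rw [← map_mul, ← map_mul]; congr 1; group
  have e2 : ρ y * ρ g = ρ g * ρ (g⁻¹ * y * g) := by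
    rw [← map_mul, ← map_mul]; congr 1; group
  show ρ g * Ψ * ρ g⁻¹ * ρ y = ρ y * (ρ g * Ψ * ρ g⁻¹)
  calc ρ g * Ψ * ρ g⁻¹ * ρ y = ρ g * Ψ * (ρ g⁻¹ * ρ y) := by rw [mul_assoc]
    _ = ρ g * Ψ * (ρ (g⁻¹ * y * g) * ρ g⁻¹) := by rw [e1]
    _ = ρ g * (Ψ * ρ (g⁻¹ * y * g)) * ρ g⁻¹ := by simp only [mul_assoc]
    _ = ρ g * (ρ (g⁻¹ * y * g) * Ψ) * ρ g⁻¹ := by rw [h.eq]
    _ = (ρ g * ρ (g⁻¹ * y * g)) * Ψ * ρ g⁻¹ := by simp only [mul_assoc]
    _ = ρ y * ρ g * Ψ * ρ g⁻¹ := by rw [← e2]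
    _ = ρ y * (ρ g * Ψ * ρ g⁻¹) := by simp only [mul_assoc]

/-- the defect of `n`-equivariance of `Φt` -/
def navgD (ρ : Representation R G M) (Φt : Module.End R M) (n : G) : Module.End R M :=
  ρ n * Φt * ρ n⁻¹ - Φt

omit [IsDomain R] [IsDiscreteValuationRing R] [CharZero R] [Finite G] in
theorem navgD_mul (ρ : Representation R G M) (Φt : Module.End R M) (n n' : G) :
    navgD ρ Φt (n * n') = ρ n * navgD ρ Φt n' * ρ n⁻¹ + navgD ρ Φt n := by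
  unfold navgD
  rw [map_mul, mul_inv_rev, map_mul]
  noncomm_ring

/-- PIECE NAVG. -/
theorem navg_equivariant (b : Bool) (ρ : Representation R G M) (P : Sylow p G)
    (hP : Nat.card P = p) (K : Subgroup G)
    (hKN : ∀ n ∈ Subgroup.normalizer ((P : Subgroup G) : Set G), ∀ k ∈ K, n * k * n⁻¹ ∈ K)
    (hC : ∀ c : G, (∀ u ∈ (P : Subgroup G), c * u = u * c) →
      ∃ u k : G, u ∈ (P : Subgroup G) ∧ k ∈ K ∧ c = u * k)
    (n₀ : G) (hn₀ : n₀ ∈ Subgroup.normalizer ((P : Subgroup G) : Set G))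
    (hgen : ∀ n ∈ Subgroup.normalizer ((P : Subgroup G) : Set G),
      ∃ (i : ℕ) (c : G), (∀ u ∈ (P : Subgroup G), c * u = u * c) ∧ n = n₀ ^ i * c)
    (x : G) (hx : x ∈ (P : Subgroup G)) (hx1 : x ≠ 1)
    (Φ : Module.End R M) (hΦx : Commute Φ (ρ x)) (hΦK : ∀ k ∈ K, Commute Φ (ρ k))
    (s : ℕ) (hs : 0 < s)
    (hΦt : ∀ v ∈ topS p b (ρ x), ρ (n₀ ^ s) (Φ (ρ (n₀ ^ s)⁻¹ v)) - Φ v ∈ botS p b (ρ x)) :
    Commute (∑ r ∈ Finset.range s, ρ (n₀ ^ r) * Φ * ρ (n₀ ^ r)⁻¹) (ρ x) ∧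
    ∀ n ∈ Subgroup.normalizer ((P : Subgroup G) : Set G), ∀ v ∈ topS p b (ρ x),
      ρ n ((∑ r ∈ Finset.range s, ρ (n₀ ^ r) * Φ * ρ (n₀ ^ r)⁻¹) (ρ n⁻¹ v)) -
        (∑ r ∈ Finset.range s, ρ (n₀ ^ r) * Φ * ρ (n₀ ^ r)⁻¹) v ∈ botS p b (ρ x) := by
  classical
  have hΦP : ∀ u ∈ (P : Subgroup G), Commute Φ (ρ u) := by
    intro u hu
    obtain ⟨i, rfl⟩ := exists_pow_eq p P hP x hx hx1 u hu
    rw [map_pow]
    exact hΦx.pow_right i
  have hpowN : ∀ r : ℕ, n₀ ^ r ∈ Subgroup.normalizer ((P : Subgroup G) : Set G) :=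
    fun r => Subgroup.pow_mem _ hn₀ r
  have hconjP : ∀ g ∈ Subgroup.normalizer ((P : Subgroup G) : Set G), ∀ u ∈ (P : Subgroup G),
      g⁻¹ * u * g ∈ (P : Subgroup G) := by
    intro g hg u hu
    have hg' := Subgroup.inv_mem _ hg
    rw [Subgroup.mem_normalizer_iff] at hg'
    have := (hg' u).1 hu
    simpa using this
  have hconjK : ∀ g ∈ Subgroup.normalizer ((P : Subgroup G) : Set G), ∀ k ∈ K,
      g⁻¹ * k * g ∈ K := by
    intro g hg k hk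
    have := hKN g⁻¹ (Subgroup.inv_mem _ hg) k hk
    simpa using this
  set Φr : ℕ → Module.End R M := fun r => ρ (n₀ ^ r) * Φ * ρ (n₀ ^ r)⁻¹ with hΦr
  have hsum : (∑ r ∈ Finset.range s, ρ (n₀ ^ r) * Φ * ρ (n₀ ^ r)⁻¹) =
      ∑ r ∈ Finset.range s, Φr r := rfl
  rw [hsum]
  set Φt : Module.End R M := ∑ r ∈ Finset.range s, Φr r with hΦtdef
  have hrP : ∀ r, ∀ u ∈ (P : Subgroup G), Commute (Φr r) (ρ u) := fun r u hu =>
    navg_conj_commute ρ (n₀ ^ r) u Φ (hΦP _ (hconjP _ (hpowN r) u hu))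
  have hrK : ∀ r, ∀ k ∈ K, Commute (Φr r) (ρ k) := fun r k hk =>
    navg_conj_commute ρ (n₀ ^ r) k Φ (hΦK _ (hconjK _ (hpowN r) k hk))
  have htP : ∀ u ∈ (P : Subgroup G), Commute Φt (ρ u) := fun u hu =>
    Commute.sum_left _ _ _ (fun r _ => hrP r u hu)
  have htK : ∀ k ∈ K, Commute Φt (ρ k) := fun k hk =>
    Commute.sum_left _ _ _ (fun r _ => hrK r k hk)
  refine ⟨htP x hx, ?_⟩
  have hD : ∀ n v, ρ n (Φt (ρ n⁻¹ v)) - Φt v = navgD ρ Φt n v := by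
    intro n v; rfl
  have hQc : ∀ c : G, (∀ u ∈ (P : Subgroup G), c * u = u * c) → navgD ρ Φt c = 0 := by
    intro c hc
    obtain ⟨u, k, hu, hk, rfl⟩ := hC c hc
    have hcomm : Commute Φt (ρ (u * k)) := by
      rw [map_mul]; exact (htP u hu).mul_right (htK k hk)
    unfold navgD
    rw [← hcomm.eq, mul_assoc, ← map_mul, mul_inv_cancel, map_one, mul_one, sub_self]
  have hQmul : ∀ n ∈ Subgroup.normalizer ((P : Subgroup G) : Set G), ∀ n',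
      (∀ v ∈ topS p b (ρ x), navgD ρ Φt n v ∈ botS p b (ρ x)) →
      (∀ v ∈ topS p b (ρ x), navgD ρ Φt n' v ∈ botS p b (ρ x)) →
      ∀ v ∈ topS p b (ρ x), navgD ρ Φt (n * n') v ∈ botS p b (ρ x) := by
    intro n hn n' h1 h2 v hv
    rw [navgD_mul, LinearMap.add_apply]
    apply Submodule.add_mem
    · show ρ n (navgD ρ Φt n' (ρ n⁻¹ v)) ∈ _
      apply bot_of_normalizer p b ρ P hP x hx hx1 n hn
      apply h2
      exact top_of_normalizer p b ρ P hP x hx hx1 n⁻¹ (Subgroup.inv_mem _ hn) hv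
    · exact h1 v hv
  have hQ0 : ∀ v ∈ topS p b (ρ x), navgD ρ Φt n₀ v ∈ botS p b (ρ x) := by
    intro v hv
    have hop : navgD ρ Φt n₀ = Φr s - Φr 0 := by
      unfold navgD
      rw [hΦtdef, Finset.mul_sum, Finset.sum_mul, ← Finset.sum_sub_distrib,
        ← Finset.sum_range_sub Φr s]
      refine Finset.sum_congr rfl fun r _ => ?_
      congr 1
      show ρ n₀ * (ρ (n₀ ^ r) * Φ * ρ (n₀ ^ r)⁻¹) * ρ n₀⁻¹ =
        ρ (n₀ ^ (r + 1)) * Φ * ρ (n₀ ^ (r + 1))⁻¹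
      rw [pow_succ' n₀ r, mul_inv_rev, map_mul, map_mul]
      simp only [mul_assoc]
    rw [hop, LinearMap.sub_apply]
    have h0 : Φr 0 v = Φ v := by
      show (ρ (n₀ ^ 0) * Φ * ρ (n₀ ^ 0)⁻¹) v = Φ v
      rw [pow_zero, inv_one, map_one, one_mul, mul_one]
    rw [h0]
    exact hΦt v hv
  have hQpow : ∀ i : ℕ, ∀ v ∈ topS p b (ρ x), navgD ρ Φt (n₀ ^ i) v ∈ botS p b (ρ x) := by
    intro i
    induction i with
    | zero =>
      intro v hv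
      have h1 : navgD ρ Φt (n₀ ^ 0) = 0 := by
        unfold navgD
        rw [pow_zero, inv_one, map_one, one_mul, mul_one, sub_self]
      rw [h1, LinearMap.zero_apply]
      exact Submodule.zero_mem _
    | succ i ih =>
      rw [pow_succ']
      exact hQmul n₀ hn₀ (n₀ ^ i) hQ0 ih
  intro n hn v hv
  obtain ⟨i, c, hc, rfl⟩ := hgen n hn
  rw [hD]
  refine hQmul (n₀ ^ i) (hpowN i) c (hQpow i) ?_ v hv
  intro w hw
  rw [hQc c hc, LinearMap.zero_apply]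
  exact Submodule.zero_mem _

end Cfsg.Agent.Helper5.TLR
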