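import Mathlib
import Cfsg.Prelude.Def_Blocks
import Cfsg.Agent.Lib.Helper24.CharLinear
import Cfsg.Agent.Lib.Helper24.CharInduced
import Cfsg.Agent.Lib.Helper24.CharComplete
import Cfsg.Agent.Lib.Helper24.CharAlgebra
import Cfsg.Agent.Lib.Helper10.BR996Defs
import Cfsg.Agent.Lib.Helper6.BR996GA
import Cfsg.Agent.Lib.Helper5.BR996VALS

/-!
# S0996, PIECE MUSTAR (helper23): the exceptional characters are `±1` on `N ∖ P`, and `w` is even
-/

set_option autoImplicit false
set_option linter.unusedSectionVars false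
set_option linter.unusedVariables false
set_option linter.style.haveILetI false

namespace Cfsg.Agent.Helper10.BR996

open scoped ComplexConjugate
open Cfsg Cfsg.Agent.Helper24

universe u

namespace MUSTAR

/-- a real complex number of finite multiplicative order is `±1`. -/
theorem sq_eq_one_of_real_of_pow {z : ℂ} (hreal : conj z = z) {k : ℕ} (hk : 0 < k)
    (hpow : z ^ k = 1) : z ^ 2 = 1 := by
  have hnorm : ‖z‖ = 1 := by
    have h1 : ‖z‖ ^ k = 1 := by rw [← norm_pow, hpow, norm_one]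
    exact (pow_eq_one_iff_of_nonneg (norm_nonneg z) hk.ne').mp h1
  have h2 : z * conj z = 1 := by
    rw [Complex.mul_conj, Complex.normSq_eq_norm_sq, hnorm]; simp
  rw [hreal] at h2
  rw [sq]; exact h2

variable {G : Type u} [Group G] [Fintype G]

open Classical in
/-- `dsum` of a function constant on `P ∖ 1`. -/
theorem dsum_const' (p : ℕ) (P : Subgroup G) (hcard : Nat.card P = p) {ψ : G → ℂ} (c : ℂ)
    (h : ∀ z ∈ P, z ≠ 1 → ψ z = c) : dsum P ψ = ((p : ℂ) - 1) * c := by
  have hp1 : 1 ≤ p := by rw [← hcard]; exact Nat.card_pos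
  unfold dsum
  have h1 : ∀ z : G, (if z ∈ P ∧ z ≠ 1 then ψ z else 0) = (if z ∈ P ∧ z ≠ 1 then c else 0) := by
    intro z
    split_ifs with hz
    · exact h z hz.1 hz.2
    · rfl
  rw [Finset.sum_congr rfl fun z _ => h1 z, ← Finset.sum_filter, Finset.sum_const, nsmul_eq_mul]
  have hcnt : (Finset.univ.filter (fun z : G => z ∈ P ∧ z ≠ 1)).card = p - 1 := by
    have h2 : (Finset.univ.filter (fun z : G => z ∈ P)).card = p := by
      rw [← hcard, Nat.card_eq_fintype_card, Fintype.card_subtype]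
    have h3 : Finset.univ.filter (fun z : G => z ∈ P ∧ z ≠ 1) =
        (Finset.univ.filter (fun z : G => z ∈ P)).erase 1 := by
      ext z
      simp only [Finset.mem_filter, Finset.mem_univ, true_and, Finset.mem_erase]
      tauto
    rw [h3, Finset.card_erase_of_mem (by simp [P.one_mem]), h2]
  rw [hcnt, Nat.cast_sub hp1]
  simp

end MUSTAR

variable {G : Type u} [Group G] [Fintype G] [Fintype (IrrCharacter G)]
  (p : ℕ) [Fact p.Prime] (P : Subgroup G)

local notation "𝒩" => Subgroup.normalizer (P : Set G)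

/-- PIECE MUSTAR. -/
theorem mustar (hcard : Nat.card P = p) (hcent : Subgroup.centralizer (P : Set G) ≤ P)
    (w t : ℕ) (hw : P.relIndex 𝒩 = w) (hp : p = w * t + 1) (ht : 2 ≤ t)
    (D : BrauerData p P w t)
    (hA : ∀ θ ∈ D.Y, Aw P (θ : G → ℂ) = 1)
    (hπ : ∀ θ ∈ D.Y, classInner (θ : G → ℂ) (permN P) = 0) :
    Even w ∧ ∀ τ : G, τ ∈ 𝒩 → τ ∉ P → τ * τ = 1 →
      ∃ ε : ℤ, (ε = 1 ∨ ε = -1) ∧ ∀ θ ∈ D.Y, (θ : G → ℂ) τ = (ε : ℂ) := by
  classical
  have hpp : p.Prime := Fact.out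
  have hp2 : 2 ≤ p := hpp.two_le
  -- w ≥ 1, p odd
  have hw1 : 1 ≤ w := by
    rcases Nat.eq_zero_or_pos w with h0 | h0
    · subst h0; omega
    · exact h0
  have hpodd : ¬ 2 ∣ p := by
    intro h2
    have : p = 2 := ((Nat.prime_dvd_prime_iff_eq Nat.prime_two hpp).mp h2).symm
    have h3 : w * t = 1 := by omega
    have h4 : t ∣ 1 := ⟨w, by rw [mul_comm]; exact h3.symm⟩
    have := Nat.le_of_dvd one_pos h4
    omega
  -- pick θ₀ ∈ Y
  have hYne : D.Y.Nonempty := by
    rw [← Finset.card_pos, D.cardY]; omega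
  obtain ⟨θ₀, hθ₀⟩ := hYne
  have hθ₀char : IsCharacter G (θ₀ : G → ℂ) := isCharacter_of_isIrrCharacter θ₀.2
  haveI : Fintype ↥𝒩 := Fintype.ofFinite _
  obtain ⟨f, hfchar, hfP, hf1, hfval, hfinner⟩ := exists_fixChar p P hcard hcent hθ₀char
  rw [hA θ₀ hθ₀] at hf1
  rw [hπ θ₀ hθ₀] at hfinner
  have hfmul : ∀ a b : ↥𝒩, f (a * b) = f a * f b := char_mul_of_degree_one hfchar hf1
  -- conj θ₀ ∈ Y
  let θ' : IrrCharacter G := ⟨fun g => conj ((θ₀ : G → ℂ) g), isIrrCharacter_conj θ₀.2⟩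
  have hθ'val : ∀ g : G, (θ' : G → ℂ) g = conj ((θ₀ : G → ℂ) g) := fun g => rfl
  have hds : dsum P (θ₀ : G → ℂ) = (D.d0 : ℂ) * (w : ℂ) := D.sumY θ₀ hθ₀
  have hθ'Y : θ' ∈ D.Y := by
    by_contra hnY
    by_cases hX : θ' ∈ D.X
    · -- θ₀ constant ±1 on P ∖ 1
      have hc : ∀ z ∈ P, z ≠ 1 → (θ₀ : G → ℂ) z = (D.sg θ' : ℂ) := by
        intro z hz hz1
        have h1 := D.valX θ' hX z hz hz1
        rw [hθ'val] at h1
        have h2 := congrArg conj h1
        rw [Complex.conj_conj] at h2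
        rw [h2]; simp
      rw [MUSTAR.dsum_const' p P hcard _ hc] at hds
      have hint : ((p : ℤ) - 1) * D.sg θ' = D.d0 * (w : ℤ) := by
        have : ((((p : ℤ) - 1) * D.sg θ' : ℤ) : ℂ) = ((D.d0 * (w : ℤ) : ℤ) : ℂ) := by
          push_cast; exact hds
        exact_mod_cast this
      have hpw : (p : ℤ) = w * t + 1 := by exact_mod_cast hp
      have hwt : (w : ℤ) * t = w ∨ (w : ℤ) * t = -w := by
        rcases D.sg_pm θ' hX with hs | hs <;> rcases D.d0_pm with hd | hd <;>
          rw [hs, hd] at hint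
        · left; linarith
        · right; linarith
        · right; linarith
        · left; linarith
      have hw1' : (1 : ℤ) ≤ w := by exact_mod_cast hw1
      have ht' : (2 : ℤ) ≤ t := by exact_mod_cast ht
      rcases hwt with h | h <;> nlinarith
    · have hc : ∀ z ∈ P, z ≠ 1 → (θ₀ : G → ℂ) z = (0 : ℂ) := by
        intro z hz hz1
        have h1 := D.valD θ' hX hnY z hz hz1
        rw [hθ'val] at h1
        have h2 := congrArg conj h1
        rw [Complex.conj_conj] at h2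
        rw [h2]; simp
      rw [MUSTAR.dsum_const' p P hcard _ hc, mul_zero] at hds
      have hw0 : (w : ℂ) ≠ 0 := by exact_mod_cast (by omega : w ≠ 0)
      have hd0 : (D.d0 : ℂ) ≠ 0 := by
        rcases D.d0_pm with hd | hd <;> rw [hd] <;> simp
      exact (mul_ne_zero hd0 hw0) hds.symm
  -- θ₀ is real on p-regular elements
  have hreal : ∀ g : G, ¬ p ∣ orderOf g → conj ((θ₀ : G → ℂ) g) = (θ₀ : G → ℂ) g := by
    intro g hg
    have := D.regY θ' hθ'Y θ₀ hθ₀ g hg
    rw [hθ'val] at this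
    exact this
  -- f is ±1 on N
  have hfsq : ∀ y : ↥𝒩, f y ^ 2 = 1 := by
    intro y
    by_cases hyP : (y : G) ∈ P
    · rw [hfP y hyP, hf1]; simp
    · have hreg := not_dvd_orderOf_of_mem_normalizer p P hcard hcent y.2 hyP
      have h1 : conj (f y) = f y := by rw [hfval y hyP]; exact hreal _ hreg
      have hpow : f y ^ orderOf y = 1 := by
        have hfpow : ∀ k : ℕ, f (y ^ k) = f y ^ k := by
          intro k
          induction k with
          | zero => simp [hf1]
          | succ k ih => rw [pow_succ, hfmul, ih, pow_succ]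
        rw [← hfpow, pow_orderOf_eq_one, hf1]
      exact MUSTAR.sq_eq_one_of_real_of_pow h1 (orderOf_pos y) hpow
  have hfpm : ∀ y : ↥𝒩, f y = 1 ∨ f y = -1 := fun y => sq_eq_one_iff.mp (hfsq y)
  refine ⟨?_, ?_⟩
  · -- Even w
    -- ∑ f = 0
    have hsum : ∑ y : ↥𝒩, f y = 0 := by
      simp only [classInner, map_one, mul_one] at hfinner
      have hcard0 : (Nat.card ↥𝒩 : ℂ) ≠ 0 := by
        exact_mod_cast (Nat.card_pos (α := ↥𝒩)).ne'
      rcases mul_eq_zero.mp hfinner with h0 | h0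
      · exact absurd (inv_eq_zero.mp h0) hcard0
      · exact h0
    let g : ↥𝒩 → ℤ := fun y => if f y = 1 then 1 else -1
    have hg : ∀ y, f y = (g y : ℂ) := by
      intro y
      rcases hfpm y with h | h
      · simp only [g, h, if_true]; simp
      · have hne : f y ≠ 1 := by rw [h]; norm_num
        simp only [g, if_neg hne, h]; simp
    have hgsum : ∑ y : ↥𝒩, g y = 0 := by
      have : ((∑ y : ↥𝒩, g y : ℤ) : ℂ) = 0 := by
        push_cast; rw [← hsum]; exact Finset.sum_congr rfl fun y _ => (hg y).symm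
      exact_mod_cast this
    have hodd : ∀ y, (2 : ℤ) ∣ g y - 1 := by
      intro y
      simp only [g]
      split_ifs <;> norm_num
    have h2 : (2 : ℤ) ∣ ∑ y : ↥𝒩, (g y - 1) := Finset.dvd_sum fun y _ => hodd y
    rw [Finset.sum_sub_distrib, hgsum, Finset.sum_const, Finset.card_univ] at h2
    simp only [nsmul_eq_mul, mul_one, zero_sub, dvd_neg] at h2
    have h3 : 2 ∣ Fintype.card ↥𝒩 := by exact_mod_cast h2
    rw [← Nat.card_eq_fintype_card, card_normalizer p P hcard, hw] at h3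
    rcases (Nat.Prime.dvd_mul Nat.prime_two).mp h3 with h | h
    · exact absurd h hpodd
    · exact even_iff_two_dvd.mpr h
  · intro τ hτN hτP hτ2
    have hreg := not_dvd_orderOf_of_mem_normalizer p P hcard hcent hτN hτP
    have hval : (θ₀ : G → ℂ) τ = f ⟨τ, hτN⟩ := (hfval ⟨τ, hτN⟩ hτP).symm
    rcases hfpm ⟨τ, hτN⟩ with h | h
    · refine ⟨1, Or.inl rfl, fun θ hθ => ?_⟩
      rw [D.regY θ hθ θ₀ hθ₀ τ hreg, hval, h]; simp
    · refine ⟨-1, Or.inr rfl, fun θ hθ => ?_⟩
      rw [D.regY θ hθ θ₀ hθ₀ τ hreg, hval, h]; simp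

end Cfsg.Agent.Helper10.BR996
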