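import Mathlib
import Cfsg.Prelude.Def_Blocks
import Cfsg.Agent.Lib.Helper24.CharLinear
import Cfsg.Agent.Lib.Helper24.CharInduced
import Cfsg.Agent.Lib.Helper24.CharComplete
import Cfsg.Agent.Lib.Helper24.GlaubPGroup
import Cfsg.Agent.Lib.Helper10.BR996Defs
import Cfsg.Agent.Lib.Helper6.BR996GA
import Cfsg.Agent.Lib.Helper21.BTDefs
import Cfsg.Agent.Lib.Helper23.BlockDefect

/-!
# S0997 piece BLKASM (helper23): the principal `2`-block step, with the pieces BLKDVD and BURN as hypotheses
-/

set_option autoImplicit false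
set_option linter.unusedSectionVars false
set_option linter.unusedVariables false
set_option linter.style.haveILetI false

namespace Cfsg.Agent.Helper21.BT

open scoped ComplexConjugate
open Cfsg Cfsg.Agent.Helper24 Cfsg.Agent.Helper10.BR996

universe u

namespace BLKASM

variable {G : Type u} [Group G] [Fintype G] [Fintype (IrrCharacter G)]

variable (p : ℕ) [Fact p.Prime] (P : Subgroup G)

/-- an element of even order is `p`-regular (`p` odd, `C_G(P) = P`, `|P| = p`) -/
theorem not_dvd_of_even (hp2 : p ≠ 2) (hcard : Nat.card P = p)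
    (hcent : Subgroup.centralizer (P : Set G) ≤ P) {g : G} (hg : 2 ∣ orderOf g) :
    ¬ p ∣ orderOf g := by
  intro hpg
  have hp : p.Prime := Fact.out
  obtain ⟨x, hxP, hx1⟩ := exists_conj_mem_of_dvd p P hcard hcent hpg
  have ho : orderOf (x⁻¹ * g * x) = orderOf g := by
    have h1 : x⁻¹ * g * x = MulAut.conj x⁻¹ g := by simp
    rw [h1, MulEquiv.orderOf_eq]
  have h2 : orderOf (x⁻¹ * g * x) ∣ p := by
    have h3 : orderOf (⟨x⁻¹ * g * x, hxP⟩ : P) ∣ Nat.card P := orderOf_dvd_natCard _
    rw [hcard] at h3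
    have h4 : orderOf (⟨x⁻¹ * g * x, hxP⟩ : P) = orderOf (x⁻¹ * g * x) :=
      (Subgroup.orderOf_mk _ hxP)
    rw [← h4]
    exact h3
  rw [ho] at h2
  have h5 : 2 ∣ p := hg.trans h2
  rcases (Nat.dvd_prime hp).mp h5 with h | h
  · omega
  · exact hp2 h.symm

/-- PIECE BLKASM with BLKDVD (for `ℓ = 2`) and BURN as hypotheses. -/
theorem core [IsSimpleGroup G] (hG : ¬ IsCyclic G) (hp2 : p ≠ 2) (hcard : Nat.card P = p)
    (hcent : Subgroup.centralizer (P : Set G) ≤ P) (w t : ℕ) (D : BTData p P w t)
    (θ₀ : IrrCharacter G) (hθ₀ : θ₀ ∈ D.Y)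
    (hBLK : ∀ (M : Ideal AlgInt) (hM : IsPModular 2 M) (c : IrrCharacter G → ℤ)
      (hvan : ∀ g : G, 2 ∣ orderOf g → ∑ χ : IrrCharacter G, (c χ : ℂ) * (χ : G → ℂ) g = 0)
      (S : Finset (IrrCharacter G)) (hS : ∀ χ : IrrCharacter G, χ ∈ S ↔ χ ∈ principalBlock M G)
      (Q : Subgroup G) (hQ : IsPGroup 2 Q),
      (Nat.card Q : ℤ) ∣ ∑ χ ∈ S, c χ * (charDegree (χ : G → ℂ) : ℤ))
    (hBURN : ∀ (M : Ideal AlgInt) (hM : IsPModular 2 M), 2 ∣ Nat.card G →
      ∀ (χ : IrrCharacter G), χ ≠ principalChar G → ∀ k : ℕ,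
        charDegree (χ : G → ℂ) = 2 ^ k → χ ∉ principalBlock M G) :
    ∃ (S : Finset (IrrCharacter G)) (c : ℤ), S ⊆ D.X ∧ (c = 0 ∨ c = 1) ∧
      (principalChar G ∈ D.X → principalChar G ∈ S) ∧
      (∀ χ ∈ S, χ ≠ principalChar G → ∀ k : ℕ, charDegree (χ : G → ℂ) ≠ 2 ^ k) ∧
      ∀ k : ℕ, 2 ^ k ∣ Nat.card G →
        ((2 : ℤ) ^ k) ∣ ∑ χ ∈ S, D.sg χ * (charDegree (χ : G → ℂ) : ℤ) +
          c * D.d0 * (charDegree (θ₀ : G → ℂ) : ℤ) := by
  classical
  by_cases h2 : 2 ∣ Nat.card G
  swap
  · -- odd order
    refine ⟨D.X.filter (fun χ => χ = principalChar G), 0, Finset.filter_subset _ _, Or.inl rfl,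
      ?_, ?_, ?_⟩
    · intro h
      exact Finset.mem_filter.mpr ⟨h, rfl⟩
    · intro χ hχ hne
      exact absurd (Finset.mem_filter.mp hχ).2 hne
    · intro k hk
      have hk0 : k = 0 := by
        by_contra hne
        apply h2
        exact (dvd_pow_self 2 hne).trans hk
      subst hk0
      simp
  · obtain ⟨M, hM⟩ := Cfsg.Agent.Helper24.Glaub.exists_isPModular (p := 2) Nat.prime_two
    haveI hMp : M.IsPrime := hM.2.1.isPrime
    have hθX : θ₀ ∉ D.X := fun h => (Finset.disjoint_left.mp D.disj h) hθ₀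
    set c : ℤ := if θ₀ ∈ principalBlock M G then 1 else 0 with hc
    refine ⟨D.X.filter (fun χ => χ ∈ principalBlock M G), c, Finset.filter_subset _ _, ?_, ?_, ?_, ?_⟩
    · rw [hc]
      split_ifs
      · exact Or.inr rfl
      · exact Or.inl rfl
    · intro h
      exact Finset.mem_filter.mpr
        ⟨h, Cfsg.Agent.Helper23.Blk.principalChar_mem_principalBlock⟩
    · intro χ hχ hne k hk
      exact hBURN M hM h2 χ hne k hk (Finset.mem_filter.mp hχ).2
    · intro k hk
      -- a subgroup of order `2 ^ k`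
      haveI : Fact (Nat.Prime 2) := ⟨Nat.prime_two⟩
      obtain ⟨Q, hQ⟩ := Sylow.exists_subgroup_card_pow_prime 2 hk
      have hQp : IsPGroup 2 Q := IsPGroup.of_card hQ
      -- the coefficient function
      set cf : IrrCharacter G → ℤ :=
        fun χ => if χ ∈ D.X then D.sg χ else if χ = θ₀ then D.d0 else 0 with hcf
      have hsplit : ∀ F : IrrCharacter G → ℂ, ∑ χ : IrrCharacter G, (cf χ : ℂ) * F χ =
          ∑ χ ∈ D.X, (D.sg χ : ℂ) * F χ + (D.d0 : ℂ) * F θ₀ := by
        intro F
        rw [← Finset.sum_filter_add_sum_filter_not Finset.univ (fun χ => χ ∈ D.X)]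
        congr 1
        · rw [Finset.filter_mem_eq_inter, Finset.univ_inter]
          refine Finset.sum_congr rfl fun χ hχ => ?_
          rw [hcf]
          simp only [if_pos hχ]
        · rw [Finset.sum_eq_single θ₀]
          · rw [hcf]
            simp only [if_neg hθX, if_true]
          · intro χ hχ hne
            rw [hcf]
            have h1 : χ ∉ D.X := (Finset.mem_filter.mp hχ).2
            simp only [if_neg h1, if_neg hne, Int.cast_zero, zero_mul]
          · intro h
            exact absurd (by simp [hθX]) h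
      have hvan : ∀ g : G, 2 ∣ orderOf g →
          ∑ χ : IrrCharacter G, (cf χ : ℂ) * (χ : G → ℂ) g = 0 := by
        intro g hg
        have hreg := not_dvd_of_even p P hp2 hcard hcent hg
        rw [hsplit (fun χ => (χ : G → ℂ) g), add_comm]
        exact D.orth θ₀ hθ₀ g hreg
      have hdvd := hBLK M hM cf hvan
        (Finset.univ.filter (fun χ => χ ∈ principalBlock M G))
        (fun χ => by simp) Q hQp
      rw [hQ] at hdvd
      have hsum : ∑ χ ∈ Finset.univ.filter (fun χ => χ ∈ principalBlock M G),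
            cf χ * (charDegree (χ : G → ℂ) : ℤ) =
          ∑ χ ∈ D.X.filter (fun χ => χ ∈ principalBlock M G),
              D.sg χ * (charDegree (χ : G → ℂ) : ℤ) +
            c * D.d0 * (charDegree (θ₀ : G → ℂ) : ℤ) := by
        rw [← Finset.sum_filter_add_sum_filter_not
          (Finset.univ.filter (fun χ => χ ∈ principalBlock M G)) (fun χ => χ ∈ D.X)]
        congr 1
        · have he : (Finset.univ.filter (fun χ => χ ∈ principalBlock M G)).filter
              (fun χ => χ ∈ D.X) = D.X.filter (fun χ => χ ∈ principalBlock M G) := by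
            ext χ
            simp only [Finset.mem_filter, Finset.mem_univ, true_and]
            tauto
          rw [he]
          refine Finset.sum_congr rfl fun χ hχ => ?_
          rw [hcf]
          simp only [if_pos (Finset.mem_filter.mp hχ).1]
        · by_cases hθB : θ₀ ∈ principalBlock M G
          · rw [hc, if_pos hθB, one_mul, Finset.sum_eq_single θ₀]
            · rw [hcf]
              simp only [if_neg hθX, if_true]
            · intro χ hχ hne
              have h1 : χ ∉ D.X := (Finset.mem_filter.mp hχ).2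
              rw [hcf]
              simp only [if_neg h1, if_neg hne, zero_mul]
            · intro h
              exfalso
              apply h
              rw [Finset.mem_filter, Finset.mem_filter]
              exact ⟨⟨Finset.mem_univ _, hθB⟩, hθX⟩
          · rw [hc, if_neg hθB, zero_mul, zero_mul]
            apply Finset.sum_eq_zero
            intro χ hχ
            have h1 : χ ∉ D.X := (Finset.mem_filter.mp hχ).2
            have h3 : χ ∈ principalBlock M G :=
              (Finset.mem_filter.mp (Finset.mem_filter.mp hχ).1).2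
            have h4 : χ ≠ θ₀ := fun h => hθB (h ▸ h3)
            rw [hcf]
            simp only [if_neg h1, if_neg h4, zero_mul]
      rw [hsum] at hdvd
      have : ((2 ^ k : ℕ) : ℤ) = (2 : ℤ) ^ k := by push_cast; rfl
      rw [this] at hdvd
      exact hdvd

end BLKASM

end Cfsg.Agent.Helper21.BT
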