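import Mathlib
import Cfsg.Agent.Lib.Helper23.BTBLKASMCore
import Cfsg.Agent.Lib.Helper18.BTBLKDVD
import Cfsg.Agent.Lib.Helper27.BTBURN

/-!
# S0997 piece BLKASM (helper23): the principal `2`-block step
-/

set_option autoImplicit false
set_option linter.unusedSectionVars false
set_option linter.unusedVariables false
set_option linter.style.haveILetI false

namespace Cfsg.Agent.Helper21.BT

open scoped ComplexConjugate
open Cfsg Cfsg.Agent.Helper24 Cfsg.Agent.Helper10.BR996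

universe u

section

variable {G : Type u} [Group G] [Fintype G] [Fintype (IrrCharacter G)]

variable (p : ℕ) [Fact p.Prime] (P : Subgroup G)

/-- PIECE BLKASM. -/
theorem exists_blk [IsSimpleGroup G] (hG : ¬ IsCyclic G) (hp2 : p ≠ 2) (hcard : Nat.card P = p)
    (hcent : Subgroup.centralizer (P : Set G) ≤ P) (w t : ℕ) (D : BTData p P w t)
    (θ₀ : IrrCharacter G) (hθ₀ : θ₀ ∈ D.Y) :
    ∃ (S : Finset (IrrCharacter G)) (c : ℤ), S ⊆ D.X ∧ (c = 0 ∨ c = 1) ∧
      (principalChar G ∈ D.X → principalChar G ∈ S) ∧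
      (∀ χ ∈ S, χ ≠ principalChar G → ∀ k : ℕ, charDegree (χ : G → ℂ) ≠ 2 ^ k) ∧
      ∀ k : ℕ, 2 ^ k ∣ Nat.card G →
        ((2 : ℤ) ^ k) ∣ ∑ χ ∈ S, D.sg χ * (charDegree (χ : G → ℂ) : ℤ) +
          c * D.d0 * (charDegree (θ₀ : G → ℂ) : ℤ) := by
  haveI : Fact (Nat.Prime 2) := ⟨Nat.prime_two⟩
  refine BLKASM.core p P hG hp2 hcard hcent w t D θ₀ hθ₀ ?_ ?_
  · intro M hM c hvan S hS Q hQ
    exact card_dvd_blockDegree 2 M hM c hvan S hS Q hQ
  · intro M hM h2 χ hχ k hk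
    exact not_mem_principalBlock_of_two_pow hG M hM h2 χ hχ k hk

end

end Cfsg.Agent.Helper21.BT
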