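import Mathlib

/-!
# Groups generated by a normal subgroup and one element (helper23's shared library)

* `commutator_le_of_sup_zpowers`: if `G = N⟨x⟩`, `T` is normal, `[N,N] ≤ T` and `[x,n] ∈ T`
  for `n ∈ N`, then `G' ≤ T`.
* `card_fixed_mul_card_commutator`: for `G = N⟨x⟩` finite with `N` normal,
  `#{n ∈ N | [x,n] ∈ N'} * |G'| = |N| * |N'|` (a version of Isaacs, Lemma 12.12).
-/

set_option autoImplicit false

namespace Cfsg.Agent.Helper23

open scoped commutatorElement

theorem mul_comm_of_closure_eq_top {Q : Type*} [Group Q] (k : Set Q)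
    (hk : Subgroup.closure k = ⊤) (hcomm : ∀ x ∈ k, ∀ y ∈ k, x * y = y * x) (a b : Q) :
    a * b = b * a := by
  have ha : a ∈ Subgroup.closure k := hk ▸ Subgroup.mem_top a
  have hb : b ∈ Subgroup.closure k := hk ▸ Subgroup.mem_top b
  letI := Subgroup.closureCommGroupOfComm hcomm
  have := mul_comm (⟨a, ha⟩ : Subgroup.closure k) ⟨b, hb⟩
  exact congrArg Subtype.val this

theorem commutator_le_of_sup_zpowers {G : Type*} [Group G] (N T : Subgroup G) [T.Normal] (x : G)
    (hgen : N ⊔ Subgroup.zpowers x = ⊤) (hNN : ⁅N, N⁆ ≤ T) (hx : ∀ n ∈ N, ⁅x, n⁆ ∈ T) :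
    commutator G ≤ T := by
  rw [← Subgroup.Normal.quotient_commutative_iff_commutator_le]
  have hk : Subgroup.closure ((QuotientGroup.mk' T) '' ((N : Set G) ∪ {x})) = ⊤ := by
    rw [← MonoidHom.map_closure, Subgroup.closure_union, Subgroup.closure_eq,
      ← Subgroup.zpowers_eq_closure, hgen]
    exact Subgroup.map_top_of_surjective _ (QuotientGroup.mk'_surjective T)
  have hxn : ∀ n ∈ N, (QuotientGroup.mk' T x) * (QuotientGroup.mk' T n) =
      (QuotientGroup.mk' T n) * (QuotientGroup.mk' T x) := by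
    intro n hn
    rw [← commutatorElement_eq_one_iff_mul_comm, ← map_commutatorElement]
    exact (QuotientGroup.eq_one_iff _).2 (hx n hn)
  have hnn : ∀ n ∈ N, ∀ m ∈ N, (QuotientGroup.mk' T n) * (QuotientGroup.mk' T m) =
      (QuotientGroup.mk' T m) * (QuotientGroup.mk' T n) := by
    intro n hn m hm
    rw [← commutatorElement_eq_one_iff_mul_comm, ← map_commutatorElement]
    exact (QuotientGroup.eq_one_iff _).2 (hNN (Subgroup.commutator_mem_commutator hn hm))
  refine ⟨⟨fun a b => mul_comm_of_closure_eq_top _ hk ?_ a b⟩⟩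
  rintro _ ⟨a, ha, rfl⟩ _ ⟨b, hb, rfl⟩
  rcases ha with ha | ha <;> rcases hb with hb | hb
  · exact hnn a ha b hb
  · rw [Set.mem_singleton_iff] at hb
    subst hb
    exact (hxn a ha).symm
  · rw [Set.mem_singleton_iff] at ha
    subst ha
    exact hxn b hb
  · rw [Set.mem_singleton_iff] at ha hb
    subst ha
    subst hb
    rfl

/-- The homomorphism `n ↦ [x, n] N'` from a normal subgroup `N` to its abelianization. -/
noncomputable def commHom {G : Type*} [Group G] (N : Subgroup G) [N.Normal] (x : G) :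
    N →* Abelianization N :=
  (Abelianization.of.comp (MulAut.conjNormal x : MulAut N).toMonoidHom) / Abelianization.of

theorem commHom_apply {G : Type*} [Group G] (N : Subgroup G) [N.Normal] (x : G) (n : N) :
    commHom N x n = Abelianization.of (MulAut.conjNormal x n * n⁻¹) := by
  unfold commHom
  rw [MonoidHom.div_apply, MonoidHom.comp_apply, map_mul, map_inv, div_eq_mul_inv]
  rfl

theorem mem_ker_commHom {G : Type*} [Group G] (N : Subgroup G) [N.Normal] (x : G) (n : N) :
    n ∈ (commHom N x).ker ↔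
      x * n * x⁻¹ * (n : G)⁻¹ ∈ (commutator N).map N.subtype := by
  rw [MonoidHom.mem_ker, commHom_apply, ← MonoidHom.mem_ker, Abelianization.ker_of]
  constructor
  · intro h
    exact ⟨_, h, by simp⟩
  · rintro ⟨y, hy, hyx⟩
    have : y = MulAut.conjNormal x n * n⁻¹ := by
      apply Subtype.ext
      rw [← Subgroup.subtype_apply, hyx]
      simp
    rwa [← this]

/-- conjugation by an element commuting with `x` commutes with `commHom`. -/
theorem map_conj_commHom {G : Type*} [Group G] (N : Subgroup G) [N.Normal] (x y : G)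
    (hxy : y * x = x * y) (m : N) :
    Abelianization.map (MulAut.conjNormal y : MulAut N).toMonoidHom (commHom N x m) =
      commHom N x (MulAut.conjNormal y m) := by
  rw [commHom_apply, commHom_apply, Abelianization.map_of]
  congr 1
  apply Subtype.ext
  have hxy' : x⁻¹ * y⁻¹ = y⁻¹ * x⁻¹ := by rw [← mul_inv_rev, ← mul_inv_rev, hxy]
  simp only [MulEquiv.coe_toMonoidHom, map_mul, map_inv, Subgroup.coe_mul, Subgroup.coe_inv,
    MulAut.conjNormal_apply, mul_inv_rev, inv_inv]
  calc y * (x * ↑m * x⁻¹) * y⁻¹ * (y * ((↑m)⁻¹ * y⁻¹))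
      = (y * x) * ↑m * (x⁻¹ * y⁻¹) * (y * (↑m)⁻¹ * y⁻¹) := by group
    _ = (x * y) * ↑m * (y⁻¹ * x⁻¹) * (y * (↑m)⁻¹ * y⁻¹) := by rw [hxy, hxy']
    _ = x * (y * ↑m * y⁻¹) * x⁻¹ * (y * ((↑m)⁻¹ * y⁻¹)) := by group

/-- The subgroup `T = {t ∈ N | t N' ∈ range (commHom N x)}` of `G`. -/
noncomputable def commImage {G : Type*} [Group G] (N : Subgroup G) [N.Normal] (x : G) :
    Subgroup G :=
  ((commHom N x).range.comap Abelianization.of).map N.subtype

theorem mem_commImage {G : Type*} [Group G] (N : Subgroup G) [N.Normal] (x : G) (t : G) :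
    t ∈ commImage N x ↔
      ∃ (ht : t ∈ N) (m : N), commHom N x m = Abelianization.of ⟨t, ht⟩ := by
  unfold commImage
  constructor
  · rintro ⟨t₀, ht₀, rfl⟩
    obtain ⟨m, hm⟩ := ht₀
    exact ⟨t₀.2, m, hm⟩
  · rintro ⟨ht, m, hm⟩
    exact ⟨⟨t, ht⟩, ⟨m, hm⟩, rfl⟩

theorem commImage_le {G : Type*} [Group G] (N : Subgroup G) [N.Normal] (x : G) :
    commImage N x ≤ N := by
  intro t ht
  obtain ⟨h, -⟩ := (mem_commImage N x t).1 ht
  exact h

theorem commutator_le_commImage {G : Type*} [Group G] (N : Subgroup G) [N.Normal] (x : G) :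
    ⁅N, N⁆ ≤ commImage N x := by
  rw [← Subgroup.map_subtype_commutator]
  unfold commImage
  apply Subgroup.map_mono
  rw [← Abelianization.ker_of]
  exact Subgroup.ker_le_comap _ _

theorem commutatorElement_mem_commImage {G : Type*} [Group G] (N : Subgroup G) [N.Normal] (x : G)
    (n : G) (hn : n ∈ N) : ⁅x, n⁆ ∈ commImage N x := by
  rw [mem_commImage]
  have h1 : ⁅x, n⁆ ∈ N := by
    rw [commutatorElement_def]
    exact mul_mem (Subgroup.Normal.conj_mem inferInstance n hn x) (inv_mem hn)
  refine ⟨h1, ⟨n, hn⟩, ?_⟩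
  rw [commHom_apply]
  congr 1

theorem commImage_le_commutator {G : Type*} [Group G] (N : Subgroup G) [N.Normal] (x : G) :
    commImage N x ≤ commutator G := by
  intro t ht
  obtain ⟨htN, m, hm⟩ := (mem_commImage N x t).1 ht
  rw [commHom_apply] at hm
  have h2 : (MulAut.conjNormal x m * m⁻¹)⁻¹ * ⟨t, htN⟩ ∈ commutator N := by
    rw [← Abelianization.ker_of, MonoidHom.mem_ker, map_mul, map_inv, hm, inv_mul_cancel]
  have h3 : ((MulAut.conjNormal x m * m⁻¹ : N) : G)⁻¹ * t ∈ ⁅N, N⁆ := by
    rw [← Subgroup.map_subtype_commutator]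
    exact ⟨_, h2, by simp⟩
  have h4 : ((MulAut.conjNormal x m * m⁻¹ : N) : G) = ⁅x, (m : G)⁆ := by
    simp [commutatorElement_def]
  have h5 : ⁅N, N⁆ ≤ commutator G := by
    rw [commutator_def]
    exact Subgroup.commutator_mono le_top le_top
  have h6 : ⁅x, (m : G)⁆ ∈ commutator G := by
    rw [commutator_def]
    exact Subgroup.commutator_mem_commutator (Subgroup.mem_top _) (Subgroup.mem_top _)
  have := mul_mem h6 (h5 h3)
  rwa [h4, mul_inv_cancel_left] at this

theorem commImage_conj_mem {G : Type*} [Group G] (N : Subgroup G) [N.Normal] (x y : G)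
    (hxy : y * x = x * y) (t : G) (ht : t ∈ commImage N x) : y * t * y⁻¹ ∈ commImage N x := by
  obtain ⟨htN, m, hm⟩ := (mem_commImage N x t).1 ht
  rw [mem_commImage]
  refine ⟨Subgroup.Normal.conj_mem inferInstance t htN y, MulAut.conjNormal y m, ?_⟩
  rw [← map_conj_commHom N x y hxy m, hm, Abelianization.map_of]
  congr 1

theorem commImage_conj_mem_of_mem {G : Type*} [Group G] (N : Subgroup G) [N.Normal] (x n : G)
    (hn : n ∈ N) (t : G) (ht : t ∈ commImage N x) : n * t * n⁻¹ ∈ commImage N x := by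
  obtain ⟨htN, m, hm⟩ := (mem_commImage N x t).1 ht
  rw [mem_commImage]
  refine ⟨Subgroup.Normal.conj_mem inferInstance t htN n, m, ?_⟩
  rw [hm]
  have : (⟨n * t * n⁻¹, Subgroup.Normal.conj_mem inferInstance t htN n⟩ : N) =
      ⟨n, hn⟩ * ⟨t, htN⟩ * ⟨n, hn⟩⁻¹ := by
    apply Subtype.ext
    simp
  rw [this, map_mul, map_mul, map_inv, mul_comm, inv_mul_cancel_left]

theorem commImage_normal {G : Type*} [Group G] (N : Subgroup G) [N.Normal] (x : G)
    (hgen : N ⊔ Subgroup.zpowers x = ⊤) : (commImage N x).Normal := by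
  rw [← Subgroup.normalizer_eq_top_iff, eq_top_iff, ← hgen, sup_le_iff, Subgroup.zpowers_le]
  have key : ∀ g : G, (∀ t ∈ commImage N x, g * t * g⁻¹ ∈ commImage N x) →
      (∀ t ∈ commImage N x, g⁻¹ * t * g⁻¹⁻¹ ∈ commImage N x) →
      g ∈ Subgroup.normalizer ((commImage N x : Subgroup G) : Set G) := by
    intro g h1 h2
    rw [Subgroup.mem_normalizer_iff]
    intro t
    refine ⟨h1 t, fun h => ?_⟩
    have := h2 _ h
    simpa [mul_assoc] using this
  constructor
  · intro n hn
    exact key n (commImage_conj_mem_of_mem N x n hn)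
      (commImage_conj_mem_of_mem N x n⁻¹ (inv_mem hn))
  · refine key x (commImage_conj_mem N x x rfl) (commImage_conj_mem N x x⁻¹ ?_)
    simp

theorem commutator_eq_commImage {G : Type*} [Group G] (N : Subgroup G) [N.Normal] (x : G)
    (hgen : N ⊔ Subgroup.zpowers x = ⊤) : commutator G = commImage N x := by
  haveI := commImage_normal N x hgen
  exact le_antisymm
    (commutator_le_of_sup_zpowers N _ x hgen (commutator_le_commImage N x)
      (commutatorElement_mem_commImage N x))
    (commImage_le_commutator N x)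

/-- For `G = N⟨x⟩` finite with `N` normal: `#{n ∈ N | [x,n] ∈ N'} * |G'| = |N| * |N'|`. -/
theorem card_fixed_mul_card_commutator {G : Type*} [Group G] [Finite G] (N : Subgroup G)
    [N.Normal] (x : G) (hgen : N ⊔ Subgroup.zpowers x = ⊤) :
    Nat.card {n : N // x * n * x⁻¹ * (n : G)⁻¹ ∈ (commutator N).map N.subtype} *
        Nat.card (commutator G) = Nat.card N * Nat.card (commutator N) := by
  have hk : Nat.card {n : N // x * n * x⁻¹ * (n : G)⁻¹ ∈ (commutator N).map N.subtype} =
      Nat.card (commHom N x).ker :=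
    Nat.card_congr (Equiv.subtypeEquivRight fun n => (mem_ker_commHom N x n).symm)
  rw [hk, commutator_eq_commImage N x hgen]
  unfold commImage
  rw [Subgroup.card_map_of_injective N.subtype_injective]
  obtain ⟨R, hR⟩ : ∃ R : Subgroup (Abelianization N), R = (commHom N x).range := ⟨_, rfl⟩
  rw [← hR]
  -- counting
  have h1 : Nat.card (R.comap Abelianization.of) * (R.comap Abelianization.of).index =
      Nat.card N := Subgroup.card_mul_index _
  have h2 : (R.comap (Abelianization.of (G := N))).index = R.index :=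
    Subgroup.index_comap_of_surjective _ (QuotientGroup.mk'_surjective _)
  have h3 : Nat.card R * R.index = Nat.card (Abelianization N) := Subgroup.card_mul_index _
  have h4 : Nat.card N = Nat.card (Abelianization N) * Nat.card (commutator N) :=
    Subgroup.card_eq_card_quotient_mul_card_subgroup _
  have h5 : Nat.card (commHom N x).ker * Nat.card R = Nat.card N := by
    rw [hR, ← Subgroup.index_ker]
    exact Subgroup.card_mul_index _
  have hi : 0 < R.index := Nat.pos_of_ne_zero Subgroup.index_ne_zero_of_finite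
  rw [h2] at h1
  -- t * i = n, r * i = a, n = a * c, k * r = n ⊢ k * t = n * c
  have h6 : Nat.card (R.comap Abelianization.of) = Nat.card R * Nat.card (commutator N) := by
    apply Nat.eq_of_mul_eq_mul_right hi
    rw [h1, h4, ← h3]
    ring
  rw [h6, ← mul_assoc, h5]

/-- A subgroup of prime index together with any element outside it generates the group. -/
theorem sup_zpowers_eq_top_of_index_prime {G : Type*} [Group G] (N : Subgroup G) {p : ℕ}
    (hp : p.Prime) (hN : N.index = p) (x : G) (hx : x ∉ N) : N ⊔ Subgroup.zpowers x = ⊤ := by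
  have hle : N ≤ N ⊔ Subgroup.zpowers x := le_sup_left
  have h1 := Subgroup.relIndex_mul_index hle
  rw [hN] at h1
  have h2 : (N ⊔ Subgroup.zpowers x).index ∣ p := Dvd.intro_left _ h1
  rcases (Nat.dvd_prime hp).1 h2 with h3 | h3
  · exact Subgroup.index_eq_one.1 h3
  · rw [h3] at h1
    have h4 : N.relIndex (N ⊔ Subgroup.zpowers x) = 1 := by
      have := hp.pos
      nlinarith
    have h5 := Subgroup.relIndex_eq_one.1 h4
    exact absurd (h5 (le_sup_right (a := N) (Subgroup.mem_zpowers x))) hx

/-- If `A` is an abelian normal subgroup of prime index of the finite group `P`, containing the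
centre, then `|Z(P)| * |P'| = |A|` (Isaacs, Lemma 12.12). -/
theorem card_center_mul_card_commutator {P : Type*} [Group P] [Finite P] {p : ℕ} (hp : p.Prime)
    (A : Subgroup P) [A.Normal] (hA : ∀ a ∈ A, ∀ b ∈ A, a * b = b * a) (hidx : A.index = p)
    (hZ : Subgroup.center P ≤ A) :
    Nat.card (Subgroup.center P) * Nat.card (commutator P) = Nat.card A := by
  have hex : ∃ y : P, y ∉ A := by
    by_contra hcon
    push_neg at hcon
    have : A = ⊤ := eq_top_iff.2 fun x _ => hcon x
    rw [this, Subgroup.index_top] at hidx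
    exact hp.one_lt.ne' hidx.symm
  obtain ⟨y, hy⟩ := hex
  have hgen := sup_zpowers_eq_top_of_index_prime A hp hidx y hy
  have h1 := card_fixed_mul_card_commutator A y hgen
  have hbot : commutator A = ⊥ := by
    rw [eq_bot_iff, commutator_def, Subgroup.commutator_le]
    intro a _ b _
    rw [Subgroup.mem_bot, commutatorElement_eq_one_iff_mul_comm]
    exact Subtype.ext (hA a a.2 b b.2)
  rw [hbot, Subgroup.card_bot, mul_one, Subgroup.map_bot] at h1
  rw [← h1]
  congr 1
  apply Nat.card_congr
  have hcent : ∀ n : A, y * n * y⁻¹ * (n : P)⁻¹ ∈ (⊥ : Subgroup P) → (n : P) ∈ Subgroup.center P := by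
    intro n hn
    rw [Subgroup.mem_bot] at hn
    have hyn : y * n = n * y := by
      have := congrArg (fun t => t * (n : P) * y) hn
      simpa [mul_assoc] using this
    have hle : A ⊔ Subgroup.zpowers y ≤ Subgroup.centralizer {(n : P)} := by
      rw [sup_le_iff, Subgroup.zpowers_le]
      refine ⟨fun a ha => ?_, ?_⟩
      · rw [Subgroup.mem_centralizer_singleton_iff]
        exact hA a ha n n.2
      · rw [Subgroup.mem_centralizer_singleton_iff]
        exact hyn
    rw [Subgroup.mem_center_iff]
    intro g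
    have hg : g ∈ A ⊔ Subgroup.zpowers y := by rw [hgen]; exact Subgroup.mem_top g
    exact Subgroup.mem_centralizer_singleton_iff.1 (hle hg)
  refine ⟨fun z => ⟨⟨z.1, hZ z.2⟩, ?_⟩, fun n => ⟨n.1.1, hcent n.1 n.2⟩, fun z => rfl, fun n => rfl⟩
  rw [Subgroup.mem_bot]
  have := Subgroup.mem_center_iff.1 z.2 y
  simp only
  rw [this]
  group

end Cfsg.Agent.Helper23
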