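import Mathlib

/-!
# Involutions inverting Sylow subgroups of odd-order centralizers (helper23's shared library)
-/

set_option autoImplicit false

namespace Cfsg.Agent.Helper23

open scoped Pointwise

/-- A fixed-point-free involutory conjugation on a finite subgroup inverts it. -/
theorem inverts_of_fixed_point_free {G : Type*} [Group G] (g : G) (hg : g * g = 1)
    (Q : Subgroup G) [Finite Q]
    (hinv : ∀ u ∈ Q, g * u * g⁻¹ ∈ Q) (hfree : ∀ u ∈ Q, g * u * g⁻¹ = u → u = 1) :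
    ∀ u ∈ Q, g * u * g⁻¹ = u⁻¹ := by
  have hginv : g⁻¹ = g := inv_eq_of_mul_eq_one_right hg
  obtain ⟨f, hf⟩ : ∃ f : Q → Q, ∀ u : Q, ((f u : Q) : G) = (u : G)⁻¹ * (g * u * g⁻¹) :=
    ⟨fun u => ⟨(u : G)⁻¹ * (g * u * g⁻¹), Q.mul_mem (Q.inv_mem u.2) (hinv u u.2)⟩, fun u => rfl⟩
  have hinj : Function.Injective f := by
    intro u u' h
    have h1 : (u : G)⁻¹ * (g * u * g⁻¹) = (u' : G)⁻¹ * (g * u' * g⁻¹) := by
      rw [← hf, ← hf, h]
    have h2 : g * ((u' : G) * (u : G)⁻¹) * g⁻¹ = (u' : G) * (u : G)⁻¹ := by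
      have e1 : g * ((u' : G) * (u : G)⁻¹) * g⁻¹ = (g * u' * g⁻¹) * (g * u * g⁻¹)⁻¹ := by group
      have e2 : g * (u' : G) * g⁻¹ = (u' : G) * ((u : G)⁻¹ * (g * u * g⁻¹)) := by
        rw [h1]; group
      rw [e1, e2]; group
    have h3 := hfree _ (Q.mul_mem u'.2 (Q.inv_mem u.2)) h2
    apply Subtype.ext
    exact (mul_inv_eq_one.1 h3).symm
  have hsurj : Function.Surjective f := Finite.injective_iff_surjective.1 hinj
  intro u hu
  obtain ⟨x, hx⟩ := hsurj ⟨u, hu⟩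
  have hux : u = (x : G)⁻¹ * (g * x * g⁻¹) := by
    rw [← hf, hx]
  rw [hux]
  have e1 : g * ((x : G)⁻¹ * (g * x * g⁻¹)) * g⁻¹ = g * (x : G)⁻¹ * g * x * (g * g)⁻¹ := by group
  have e2 : ((x : G)⁻¹ * (g * x * g⁻¹))⁻¹ = g * (x : G)⁻¹ * g⁻¹ * x := by group
  rw [e1, e2, hg, inv_one, mul_one, hginv]

/-- If the involution `g` inverts `w`, the centralizer of `w` has odd order, and `g` commutes
with no non-identity `p`-element, then `g` inverts some Sylow `p`-subgroup of `C_G(w)`. -/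
theorem exists_inverted_sylow_centralizer {G : Type*} [Group G] [Finite G] (p : ℕ) [Fact p.Prime]
    (g w : G) (hg : g * g = 1) (hgw : g * w * g⁻¹ = w⁻¹)
    (hodd : Odd (Nat.card (Subgroup.centralizer ({w} : Set G))))
    (hfree : ∀ u : G, u ≠ 1 → (∃ k : ℕ, orderOf u = p ^ k) → g * u * g⁻¹ ≠ u) :
    ∃ Q : Subgroup G, Q ≤ Subgroup.centralizer ({w} : Set G) ∧
      Nat.card Q = p ^ (Nat.card (Subgroup.centralizer ({w} : Set G))).factorization p ∧
      (∀ u ∈ Q, g * u * g⁻¹ = u⁻¹) ∧ ((∃ k : ℕ, orderOf w = p ^ k) → w ∈ Q) := by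
  classical
  have hginv : g⁻¹ = g := inv_eq_of_mul_eq_one_right hg
  obtain ⟨C, hCdef⟩ : ∃ C : Subgroup G, C = Subgroup.centralizer ({w} : Set G) := ⟨_, rfl⟩
  rw [← hCdef] at hodd ⊢
  have hmemC : ∀ h : G, h ∈ C ↔ h * w = w * h := by
    intro h; rw [hCdef]; exact Subgroup.mem_centralizer_singleton_iff
  have hconjC : ∀ h ∈ C, g * h * g⁻¹ ∈ C := by
    intro h hh
    rw [hmemC] at hh ⊢
    -- g h g⁻¹ w = w g h g⁻¹
    have hw' : g⁻¹ * w * g = w⁻¹ := by
      have : g⁻¹ * w * g = g * w * g⁻¹ := by rw [hginv]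
      rw [this, hgw]
    have hh' : h * w⁻¹ = w⁻¹ * h := by
      have := congrArg (fun t => w⁻¹ * t * w⁻¹) hh
      beta_reduce at this
      rw [show w⁻¹ * (h * w) * w⁻¹ = w⁻¹ * h by group,
        show w⁻¹ * (w * h) * w⁻¹ = h * w⁻¹ by group] at this
      exact this.symm
    calc g * h * g⁻¹ * w = g * (h * (g⁻¹ * w * g)) * g⁻¹ := by group
      _ = g * (h * w⁻¹) * g⁻¹ := by rw [hw']
      _ = g * (w⁻¹ * h) * g⁻¹ := by rw [hh']
      _ = g * ((g⁻¹ * w * g) * h) * g⁻¹ := by rw [hw']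
      _ = w * (g * h * g⁻¹) := by group
  have hgN : g ∈ Subgroup.normalizer (C : Set G) := by
    rw [Subgroup.mem_normalizer_iff]
    intro h
    refine ⟨hconjC h, fun hh => ?_⟩
    have := hconjC _ hh
    rw [show g * (g * h * g⁻¹) * g⁻¹ = (g * g) * h * (g * g)⁻¹ by group, hg] at this
    simpa using this
  obtain ⟨φ, hφ⟩ : ∃ φ : MulAut C, ∀ c : C, ((φ c : C) : G) = g * c * g⁻¹ :=
    ⟨C.normalizerMonoidHom ⟨g, hgN⟩, fun c => rfl⟩
  have hφ2 : φ * φ = 1 := by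
    ext c
    rw [MulAut.mul_apply, hφ, hφ, MulAut.one_apply]
    rw [show g * (g * (c : G) * g⁻¹) * g⁻¹ = (g * g) * c * (g * g)⁻¹ by group, hg]
    simp
  -- the 2-group generated by φ acts on the Sylow p-subgroups of C
  have hA : IsPGroup 2 (Subgroup.zpowers φ) := by
    rw [IsPGroup.iff_orderOf]
    rintro ⟨a, ha⟩
    rw [Subgroup.orderOf_mk]
    obtain ⟨k, rfl⟩ := Subgroup.mem_zpowers_iff.1 ha
    have h1 : (φ ^ k) ^ 2 = 1 := by
      rw [← zpow_natCast, ← zpow_mul, mul_comm, zpow_mul, zpow_natCast, sq, hφ2, one_zpow]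
    have h2 : orderOf (φ ^ k) ∣ 2 := orderOf_dvd_of_pow_eq_one h1
    rcases (Nat.dvd_prime Nat.prime_two).1 h2 with h | h
    · exact ⟨0, by rw [h, pow_zero]⟩
    · exact ⟨1, by rw [h, pow_one]⟩
  have hcard : ¬ 2 ∣ Nat.card (Sylow p C) := by
    obtain ⟨Q0⟩ : Nonempty (Sylow p C) := inferInstance
    have h1 : Nat.card (Sylow p C) ∣ Nat.card C :=
      (Q0.card_dvd_index).trans (Subgroup.index_dvd_card _)
    intro h2
    have := h2.trans h1
    rw [← even_iff_two_dvd] at this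
    exact (Nat.not_even_iff_odd.2 hodd) this
  have : Fact (Nat.Prime 2) := ⟨Nat.prime_two⟩
  obtain ⟨Q₀, hQ₀⟩ := hA.nonempty_fixed_point_of_prime_not_dvd_card (Sylow p C) hcard
  have hfix : φ • Q₀ = Q₀ := hQ₀ ⟨φ, Subgroup.mem_zpowers φ⟩
  have hQinv : ∀ c : C, c ∈ (Q₀ : Subgroup C) → φ c ∈ (Q₀ : Subgroup C) := by
    intro c hc
    have h1 : φ c ∈ φ • (Q₀ : Subgroup C) := Subgroup.smul_mem_pointwise_smul c φ _ hc
    have h2 : ((φ • Q₀ : Sylow p C) : Subgroup C) = φ • (Q₀ : Subgroup C) := rfl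
    rw [← h2, hfix] at h1
    exact h1
  refine ⟨(Q₀ : Subgroup C).map C.subtype, Subgroup.map_subtype_le _, ?_, ?_, ?_⟩
  · rw [Subgroup.card_map_of_injective C.subtype_injective]
    exact Q₀.card_eq_multiplicity
  rotate_left
  · rintro ⟨k, hk⟩
    have hwC : w ∈ C := (hmemC w).2 rfl
    have hcen : (⟨w, hwC⟩ : C) ∈ Subgroup.center C := by
      rw [Subgroup.mem_center_iff]
      intro c
      exact Subtype.ext ((hmemC c).1 c.2)
    haveI : (Subgroup.zpowers (⟨w, hwC⟩ : C)).Normal := by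
      constructor
      intro n hn c
      have hn' : n ∈ Subgroup.center C := (Subgroup.zpowers_le.2 hcen) hn
      have := Subgroup.mem_center_iff.1 hn' c
      rw [this, mul_inv_cancel_right]
      exact hn
    have hpN : IsPGroup p (Subgroup.zpowers (⟨w, hwC⟩ : C)) := by
      apply IsPGroup.of_card (n := k)
      rw [Nat.card_zpowers, Subgroup.orderOf_mk, hk]
    have hle := hpN.le_sylow_of_normal Q₀
    exact ⟨⟨w, hwC⟩, hle (Subgroup.mem_zpowers _), rfl⟩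
  · apply inverts_of_fixed_point_free g hg
    · rintro _ ⟨c, hc, rfl⟩
      exact ⟨φ c, hQinv c hc, by rw [Subgroup.subtype_apply, hφ]; rfl⟩
    · rintro _ ⟨c, hc, rfl⟩ hfixc
      by_contra hne
      obtain ⟨k, hk⟩ := (IsPGroup.iff_orderOf.1 Q₀.2) ⟨c, hc⟩
      rw [Subgroup.orderOf_mk, ← Subgroup.orderOf_coe] at hk
      exact hfree _ hne ⟨k, hk⟩ hfixc

end Cfsg.Agent.Helper23
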