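import Mathlib
import Cfsg.Prelude.Def_Blocks
import Cfsg.Agent.S0876
import Cfsg.Agent.Lib.Helper23.BlockSecondMain4
import Cfsg.Agent.Lib.Helper23.BlockDefectGroup
import Cfsg.Agent.Lib.Helper23.BlockDefectGroup2
import Cfsg.Agent.Lib.Helper23.BlockFirstMain
import Cfsg.Agent.Lib.Helper23.BlockCongr
import Cfsg.Agent.Lib.Helper23.BlockConv

/-!
# Major subsections exist (helper23's shared library)

If `y` is a central element of a defect group `D` of the block `B`, then some block `b` of
`C_G(y)` induces `B` and has defect at least (hence exactly) the defect of `B`.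
-/

set_option autoImplicit false
set_option linter.unusedSectionVars false
set_option linter.style.haveILetI false

namespace Cfsg.Agent.Helper23.Blk

open Cfsg Cfsg.Agent.Helper24
open scoped ComplexConjugate

universe u

section Val

variable {K : Type u} [Group K] [Fintype K] {M : Ideal AlgInt} {p : ℕ}

/-- a character value at an element whose class size is less divisible by `p` than the degree
lies in the local ideal -/
theorem irr_apply_memLocalIdeal_of_factorization_lt (hM : IsPModular p M) (ψ : IrrCharacter K)
    (u : K)
    (h : ((Subgroup.centralizer ({u} : Set K)).index).factorization p <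
      (charDegree (ψ : K → ℂ)).factorization p) : MemLocalIdeal M ((ψ : K → ℂ) u) := by
  haveI hMp : M.IsPrime := isPrime_of_isPModular hM
  letI : Fintype (IrrCharacter K) := irrFintype
  have h1 : MemLocalRing M (centralChar (ψ : K → ℂ) u) := memLocalRing_centralChar ψ u
  have hd0 : charDegree (ψ : K → ℂ) ≠ 0 := by
    intro h0
    have := irr_one_ne_zero ψ.2
    rw [irr_one_eq_charDegree ψ.2, h0] at this
    exact this (by simp)
  have hi0 : (Subgroup.centralizer ({u} : Set K)).index ≠ 0 := Subgroup.index_ne_zero_of_finite
  have h2 := memLocalIdeal_natCast_div hM hd0 hi0 h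
  have h3 : (ψ : K → ℂ) u = centralChar (ψ : K → ℂ) u *
      ((charDegree (ψ : K → ℂ) : ℂ) / ((Subgroup.centralizer ({u} : Set K)).index : ℂ)) := by
    unfold centralChar
    rw [irr_one_eq_charDegree ψ.2]
    have hd0' : (charDegree (ψ : K → ℂ) : ℂ) ≠ 0 := by exact_mod_cast hd0
    have hi0' : ((Subgroup.centralizer ({u} : Set K)).index : ℂ) ≠ 0 := by exact_mod_cast hi0
    field_simp
  rw [h3]
  exact memLocalIdeal_mul_left h1 h2

/-- degrees in a block are divisible by `p ^ (a - d)` -/
theorem sub_blockDefect_le_factorization (p : ℕ) {b : Set (IrrCharacter K)} {ψ : IrrCharacter K}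
    (hψ : ψ ∈ b) :
    (Nat.card K).factorization p - blockDefect p b ≤
      (charDegree (ψ : K → ℂ)).factorization p := by
  unfold blockDefect
  have h1 : sInf ((fun χ : IrrCharacter K => (charDegree (χ : K → ℂ)).factorization p) '' b) ≤
      (charDegree (ψ : K → ℂ)).factorization p := Nat.sInf_le ⟨ψ, hψ, rfl⟩
  omega

end Val

section Major

variable {G : Type u} [Group G] [Fintype G] {M : Ideal AlgInt} {p : ℕ}

set_option maxHeartbeats 1600000 in
/-- **Major subsections exist**: for `y` central in a defect group of `B`, some block of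
`C_G(y)` inducing `B` has defect at least that of `B`. -/
theorem exists_major_subsection (hM : IsPModular p M) {B : Set (IrrCharacter G)}
    (hB : IsPBlock M B) {D : Subgroup G} (hD : IsDefectGroup p M B D) {y : G} (hyD : y ∈ D)
    (hyc : ∀ w ∈ D, y * w = w * y) :
    ∃ b : Set (IrrCharacter (Subgroup.centralizer ({y} : Set G))),
      IsInducedBlock M (Subgroup.centralizer ({y} : Set G)) b B ∧
        blockDefect p B ≤ blockDefect p b := by
  classical
  have hp : p.Prime := hM.1
  haveI : Fact p.Prime := ⟨hp⟩
  haveI hMp : M.IsPrime := isPrime_of_isPModular hM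
  letI : Fintype (IrrCharacter G) := irrFintype
  haveI : Fintype (Subgroup.centralizer ({y} : Set G)) := Fintype.ofFinite _
  letI : Fintype (IrrCharacter (Subgroup.centralizer ({y} : Set G))) := irrFintype
  -- `y` is a `p`-element
  have hDp : IsPGroup p D := isPGroup_of_isDefectGroup hM hD
  have hyp : ∃ k : ℕ, orderOf y = p ^ k := by
    obtain ⟨k, hk⟩ := (IsPGroup.iff_orderOf.1 hDp) ⟨y, hyD⟩
    exact ⟨k, by rw [← hk, Subgroup.orderOf_mk]⟩
  have hcardD : Nat.card D = p ^ blockDefect p B := card_defectGroup hM hB hD
  -- the defect class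
  obtain ⟨c, hc, P, hPD⟩ := hD
  have hDc : ∀ w ∈ D, w * c = c * w := by
    intro w hw
    rw [hPD] at hw
    obtain ⟨w', -, rfl⟩ := hw
    have := Subgroup.mem_centralizer_iff.1 w'.2 c (Set.mem_singleton c)
    exact this.symm
  have hcreg : ¬ p ∣ orderOf c := by
    intro hdvd
    apply hc.2.1
    rw [blockCoeff_eq_zero_of_pSingular hM hB hdvd]
    exact memLocalIdeal_zero ne_top
  have hyc' : Commute y c := hDc y hyD
  -- `c` and `y * c` as elements of the centralizer
  have hcC : c ∈ Subgroup.centralizer ({y} : Set G) := by
    rw [Subgroup.mem_centralizer_singleton_iff]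
    exact hyc'.eq.symm
  set cC : Subgroup.centralizer ({y} : Set G) := ⟨c, hcC⟩ with hcCdef
  have hcCreg : ¬ p ∣ orderOf cC := by
    rw [← Subgroup.orderOf_coe]
    exact hcreg
  set yC : Subgroup.centralizer ({y} : Set G) := ⟨y, self_mem_centralizer_singleton y⟩ with hyCdef
  set u : Subgroup.centralizer ({y} : Set G) := yC * cC with hu
  -- a character of height zero
  obtain ⟨χ, hχ, hχdeg⟩ := exists_factorization_le_of_isDefectClass hM hB hc
  have hd0 : charDegree (χ : G → ℂ) ≠ 0 := by
    intro h0
    have := irr_one_ne_zero χ.2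
    rw [irr_one_eq_charDegree χ.2, h0] at this
    exact this (by simp)
  have hi0 : (Subgroup.centralizer ({c} : Set G)).index ≠ 0 := Subgroup.index_ne_zero_of_finite
  have hχc : ¬ MemLocalIdeal M ((χ : G → ℂ) c) := by
    intro hcon
    apply hc.2.2 χ hχ
    unfold centralChar
    have h1 := (memLocalRing_natCast_div hM hi0 hd0 hχdeg).1
    have h2 : ((Subgroup.centralizer ({c} : Set G)).index : ℂ) * (χ : G → ℂ) c / (χ : G → ℂ) 1 =
        ((Subgroup.centralizer ({c} : Set G)).index : ℂ) / (charDegree (χ : G → ℂ) : ℂ) *
          (χ : G → ℂ) c := by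
      rw [irr_one_eq_charDegree χ.2]
      ring
    rw [h2]
    exact memLocalIdeal_mul_left h1 hcon
  have hχyc : ¬ MemLocalIdeal M ((χ : G → ℂ) (y * c)) := by
    intro hcon
    apply hχc
    have hpp1 : IsPPart p (y * c) y := ⟨c, rfl, hyc', hyp, hcreg⟩
    have hpp2 : IsPPart p c 1 := ⟨c, one_mul c, Commute.one_left c, ⟨0, by simp⟩, hcreg⟩
    have hconj : IsConj (y⁻¹ * (y * c)) (1⁻¹ * c) := by
      rw [inv_mul_cancel_left, inv_one, one_mul]
    have h1 := (Cfsg.Agent.S0876.result p M hM (y * c) c y 1 hpp1 hpp2).1 hconj χ
    have h2 : (χ : G → ℂ) c = (χ : G → ℂ) (y * c) - ((χ : G → ℂ) (y * c) - (χ : G → ℂ) c) := by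
      ring
    rw [h2]
    exact memLocalIdeal_sub hcon h1
  -- argue by contradiction
  by_contra hno
  push Not at hno
  apply hχyc
  obtain ⟨𝔅, h𝔅⟩ := exists_finset_blocks (K := Subgroup.centralizer ({y} : Set G)) (M := M)
  have hsum := sum_blocks_shift 𝔅 h𝔅
    (fun c' : Subgroup.centralizer ({y} : Set G) => (χ : G → ℂ) (y * (c' : G))) cC
  have hsum' : (χ : G → ℂ) (y * c) = ∑ b ∈ 𝔅, ∑ k : Subgroup.centralizer ({y} : Set G),
      blockCoeff b k * (χ : G → ℂ) (y * ((cC * k : Subgroup.centralizer ({y} : Set G)) : G)) := by
    rw [hsum]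
  rw [hsum']
  apply memLocalIdeal_sum
  intro b hb
  have hbB : IsPBlock M b := (h𝔅 b).1 hb
  obtain ⟨B₁, hind⟩ := exists_isInducedBlock_centralizer hM hyp hbB
  by_cases hB₁ : χ ∈ B₁
  · -- `b` induces `B`
    have hBB₁ : B₁ = B := isPBlock_eq_of_mem hind.2.1 hB hB₁ hχ
    rw [hBB₁] at hind
    have hlt := hno b hind
    -- expand the restriction of `χ`
    have hres : IsCharacter (Subgroup.centralizer ({y} : Set G))
        (fun c' : Subgroup.centralizer ({y} : Set G) => (χ : G → ℂ) (c' : G)) :=
      isCharacter_restrict _ (isCharacter_of_isIrrCharacter χ.2)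
    obtain ⟨hm, hdec⟩ := isCharacter_decomp hres
    have hval : ∀ c' : Subgroup.centralizer ({y} : Set G), (χ : G → ℂ) (c' : G) =
        ∑ ψ : IrrCharacter (Subgroup.centralizer ({y} : Set G)),
          classInner (fun c' : Subgroup.centralizer ({y} : Set G) => (χ : G → ℂ) (c' : G))
            (ψ : Subgroup.centralizer ({y} : Set G) → ℂ) *
            (ψ : Subgroup.centralizer ({y} : Set G) → ℂ) c' := by
      intro c'
      have := congrFun hdec c'
      rw [Finset.sum_apply] at this
      rw [this]
      apply Finset.sum_congr rfl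
      intro ψ _
      rw [Pi.smul_apply, smul_eq_mul]
    have hterm : ∀ k : Subgroup.centralizer ({y} : Set G),
        (χ : G → ℂ) (y * ((cC * k : Subgroup.centralizer ({y} : Set G)) : G)) =
        ∑ ψ : IrrCharacter (Subgroup.centralizer ({y} : Set G)),
          classInner (fun c' : Subgroup.centralizer ({y} : Set G) => (χ : G → ℂ) (c' : G))
            (ψ : Subgroup.centralizer ({y} : Set G) → ℂ) *
            (ψ : Subgroup.centralizer ({y} : Set G) → ℂ) (u * k) := by
      intro k
      have e : y * ((cC * k : Subgroup.centralizer ({y} : Set G)) : G) =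
          ((u * k : Subgroup.centralizer ({y} : Set G)) : G) := by
        rw [hu, mul_assoc]
        rfl
      rw [e, hval]
    have hT : ∑ k : Subgroup.centralizer ({y} : Set G), blockCoeff b k *
        (χ : G → ℂ) (y * ((cC * k : Subgroup.centralizer ({y} : Set G)) : G)) =
        ∑ ψ : IrrCharacter (Subgroup.centralizer ({y} : Set G)),
          classInner (fun c' : Subgroup.centralizer ({y} : Set G) => (χ : G → ℂ) (c' : G))
            (ψ : Subgroup.centralizer ({y} : Set G) → ℂ) *
            ((if ψ ∈ b then (1 : ℂ) else 0) *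
              (ψ : Subgroup.centralizer ({y} : Set G) → ℂ) u) := by
      rw [Finset.sum_congr rfl (fun k _ => by rw [hterm k, Finset.mul_sum]), Finset.sum_comm]
      apply Finset.sum_congr rfl
      intro ψ _
      have h1 := sum_classFunction_mul_char ψ.2 (isClassFunction_blockCoeff b) u
      rw [omega_blockCoeff] at h1
      rw [← h1, Finset.mul_sum]
      apply Finset.sum_congr rfl
      intro k _
      ring
    rw [hT]
    apply memLocalIdeal_sum
    intro ψ _
    obtain ⟨mψ, hmψ⟩ := hm ψ
    rw [hmψ]
    by_cases hψ : ψ ∈ b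
    · rw [if_pos hψ, one_mul]
      apply memLocalIdeal_mul_left (memLocalRing_natCast mψ)
      apply irr_apply_memLocalIdeal_of_factorization_lt hM ψ u
      -- valuations
      have h1 := sub_blockDefect_le_factorization p hψ
      -- `D` centralizes `u`
      have hDle : D ≤ Subgroup.centralizer ({y} : Set G) := by
        intro w hw
        rw [Subgroup.mem_centralizer_singleton_iff]
        exact (hyc w hw).symm
      have hDu : D.subgroupOf (Subgroup.centralizer ({y} : Set G)) ≤
          Subgroup.centralizer ({u} : Set (Subgroup.centralizer ({y} : Set G))) := by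
        intro w hw
        rw [Subgroup.mem_subgroupOf] at hw
        rw [Subgroup.mem_centralizer_singleton_iff]
        apply Subtype.ext
        rw [hu]
        push_cast
        show (w : G) * (y * c) = y * c * (w : G)
        calc (w : G) * (y * c) = ((w : G) * y) * c := (mul_assoc _ _ _).symm
          _ = (y * (w : G)) * c := by rw [hyc _ hw]
          _ = y * ((w : G) * c) := mul_assoc _ _ _
          _ = y * (c * (w : G)) := by rw [hDc _ hw]
          _ = y * c * (w : G) := (mul_assoc _ _ _).symm
      have hcardsub : Nat.card (D.subgroupOf (Subgroup.centralizer ({y} : Set G))) =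
          p ^ blockDefect p B := by
        rw [← hcardD]
        exact Nat.card_congr (Subgroup.subgroupOfEquivOfLe hDle).toEquiv
      have hdvd : p ^ blockDefect p B ∣
          Nat.card (Subgroup.centralizer ({u} : Set (Subgroup.centralizer ({y} : Set G)))) := by
        rw [← hcardsub]
        exact Subgroup.card_dvd_of_le hDu
      have hcu0 : Nat.card (Subgroup.centralizer
          ({u} : Set (Subgroup.centralizer ({y} : Set G)))) ≠ 0 := Nat.card_pos.ne'
      have hle : blockDefect p B ≤ (Nat.card (Subgroup.centralizer
          ({u} : Set (Subgroup.centralizer ({y} : Set G))))).factorization p :=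
        (hp.pow_dvd_iff_le_factorization hcu0).1 hdvd
      have hmul := Subgroup.card_mul_index (Subgroup.centralizer
          ({u} : Set (Subgroup.centralizer ({y} : Set G))))
      have hix0 : (Subgroup.centralizer
          ({u} : Set (Subgroup.centralizer ({y} : Set G)))).index ≠ 0 :=
        Subgroup.index_ne_zero_of_finite
      have hfac : (Nat.card (Subgroup.centralizer ({y} : Set G))).factorization p =
          (Nat.card (Subgroup.centralizer
            ({u} : Set (Subgroup.centralizer ({y} : Set G))))).factorization p +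
          ((Subgroup.centralizer
            ({u} : Set (Subgroup.centralizer ({y} : Set G)))).index).factorization p := by
        rw [← hmul, Nat.factorization_mul hcu0 hix0, Finsupp.add_apply]
      omega
    · rw [if_neg hψ, zero_mul, mul_zero]
      exact memLocalIdeal_zero ne_top
  · -- `b` induces another block: the second main theorem
    rw [sum_blockCoeff_char_shift_eq_zero hM hyp hind hB₁ cC hcCreg]
    exact memLocalIdeal_zero ne_top

end Major

end Cfsg.Agent.Helper23.Blk
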