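import Mathlib
import Cfsg.Prelude.Def_Blocks
import Cfsg.Prelude.Def_CaseTheorems
import Cfsg.Agent.Lib.Helper18.BlockQuot3
import Cfsg.Agent.Lib.Helper23.BlockKernel
import Cfsg.Agent.Lib.Helper23.BlockDefect
import Cfsg.Agent.Lib.Helper18.GaloisConj
import Cfsg.Agent.Lib.Helper18.GaloisRat

/-!
# Blocks of `G ⧸ N` for a normal `p'`-subgroup `N`, and the principal block (helper23's library)
-/

set_option autoImplicit false
set_option linter.style.haveILetI false

namespace Cfsg.Agent.Helper23.Blk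

open Cfsg Cfsg.Agent.Helper24 Cfsg.Agent.Helper18
open scoped ComplexConjugate

universe u

section Quot

variable {G : Type u} [Group G] [Finite G] {p : ℕ} {M : Ideal AlgInt}

theorem inflate_injective (N : Subgroup G) [N.Normal] :
    Function.Injective (fun ψ : IrrCharacter (G ⧸ N) => ((inflateEquiv N ψ).1 : IrrCharacter G)) := by
  intro ψ₁ ψ₂ h
  exact (inflateEquiv N).injective (Subtype.ext h)

/-- The idempotent coefficient of an inflated set of irreducible characters. -/
theorem blockCoeff_inflate (N : Subgroup G) [N.Normal] (A : Set (IrrCharacter (G ⧸ N))) (g : G) :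
    blockCoeff ((fun ψ : IrrCharacter (G ⧸ N) => ((inflateEquiv N ψ).1 : IrrCharacter G)) '' A) g =
      (Nat.card N : ℂ)⁻¹ * blockCoeff A (g : G ⧸ N) := by
  unfold blockCoeff
  rw [finsum_mem_image (fun a _ b _ h => inflate_injective N h)]
  have hcard : (Nat.card G : ℂ) = (Nat.card (G ⧸ N) : ℂ) * (Nat.card N : ℂ) := by
    have := Subgroup.card_eq_card_quotient_mul_card_subgroup N
    exact_mod_cast this
  have hq : (Nat.card (G ⧸ N) : ℂ) ≠ 0 := by
    have : Nat.card (G ⧸ N) ≠ 0 := Nat.card_pos.ne'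
    exact_mod_cast this
  have hn : (Nat.card N : ℂ) ≠ 0 := by
    have : Nat.card N ≠ 0 := Nat.card_pos.ne'
    exact_mod_cast this
  have hterm : ∀ j : IrrCharacter (G ⧸ N),
      (((inflateEquiv N j).1 : IrrCharacter G) : G → ℂ) 1 *
        conj ((((inflateEquiv N j).1 : IrrCharacter G) : G → ℂ) g) =
      (j : G ⧸ N → ℂ) 1 * conj ((j : G ⧸ N → ℂ) (g : G ⧸ N)) := by
    intro j
    rw [inflateEquiv_coe]
    simp only [Function.comp_apply, QuotientGroup.mk_one]
  simp only [hterm]
  rw [hcard, mul_inv, mul_comm (Nat.card (G ⧸ N) : ℂ)⁻¹, mul_assoc]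

/-- For a normal `p'`-subgroup `N`, the irreducible characters of `G ⧸ N` whose inflation lies
in a fixed block `B` of `G` form a single block of `G ⧸ N` (if there are any). -/
theorem quot_block_eq_blockOf (hM : IsPModular p M) (N : Subgroup G) [N.Normal]
    (hN : ¬ p ∣ Nat.card N) {B : Set (IrrCharacter G)} (hB : IsPBlock M B)
    (ψ₀ : IrrCharacter (G ⧸ N)) (hψ₀ : ((inflateEquiv N ψ₀).1 : IrrCharacter G) ∈ B) :
    {ψ : IrrCharacter (G ⧸ N) | ((inflateEquiv N ψ).1 : IrrCharacter G) ∈ B} =
      blockOf M (ψ₀ : G ⧸ N → ℂ) := by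
  classical
  haveI : Fintype G := Fintype.ofFinite G
  haveI hMp : M.IsPrime := hM.2.1.isPrime
  apply Set.Subset.antisymm
  · intro ψ hψ
    change ((inflateEquiv N ψ).1 : IrrCharacter G) ∈ B at hψ
    have hA' : ∀ g : G, MemLocalRing M
        (blockCoeff ((fun ψ : IrrCharacter (G ⧸ N) => ((inflateEquiv N ψ).1 : IrrCharacter G)) ''
          (blockOf M (ψ₀ : G ⧸ N → ℂ))) g) := by
      intro g
      rw [blockCoeff_inflate]
      apply memLocalRing_mul
      · apply memLocalRing_inv (memLocalRing_natCast _)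
        rw [memLocalIdeal_natCast_iff hM]
        exact hN
      · exact memLocalRing_blockCoeff hMp ⟨ψ₀, rfl⟩ _
    have hmem : ((inflateEquiv N ψ₀).1 : IrrCharacter G) ∈
        ((fun ψ : IrrCharacter (G ⧸ N) => ((inflateEquiv N ψ).1 : IrrCharacter G)) ''
          (blockOf M (ψ₀ : G ⧸ N → ℂ))) := ⟨ψ₀, mem_blockOf_self ψ₀, rfl⟩
    have hsub := blockOf_subset_of_memLocalRing hMp hA' hmem
    obtain ⟨χ₀, rfl⟩ := hB
    have hBeq := blockOf_eq_of_mem hψ₀
    rw [← hBeq] at hψ
    obtain ⟨ψ', hψ', he⟩ := hsub hψ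
    rw [← inflate_injective N he]
    exact hψ'
  · have hA : ∀ g : G ⧸ N, MemLocalRing M
        (blockCoeff {ψ : IrrCharacter (G ⧸ N) | ((inflateEquiv N ψ).1 : IrrCharacter G) ∈ B} g) := by
      intro g
      obtain ⟨y, rfl⟩ := QuotientGroup.mk_surjective g
      haveI : Fintype N := Fintype.ofFinite N
      rw [blockCoeff_quot_eq_sum]
      apply memLocalRing_sum
      intro u _
      exact memLocalRing_blockCoeff hMp hB _
    exact blockOf_subset_of_memLocalRing hMp hA hψ₀

/-- A normal `p'`-subgroup lies in the kernel of every character of the principal block. -/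
theorem principalBlock_trivial_on (hM : IsPModular p M) (N : Subgroup G) [N.Normal]
    (hN : ¬ p ∣ Nat.card N) {χ : IrrCharacter G} (hχ : χ ∈ principalBlock M G) :
    ∀ n ∈ N, (χ : G → ℂ) n = (χ : G → ℂ) 1 := by
  classical
  haveI : Fintype G := Fintype.ofFinite G
  have h : SameBlock M ((principalChar G : IrrCharacter G) : G → ℂ) (χ : G → ℂ) := hχ
  exact le_ker_of_sameBlock hM h N hN (fun n _ => rfl)

theorem inflate_principalChar (N : Subgroup G) [N.Normal] :
    ((inflateEquiv N (principalChar (G ⧸ N))).1 : IrrCharacter G) = principalChar G := by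
  apply Subtype.ext
  rfl

/-- For a normal `p'`-subgroup `N`, the principal block of `G ⧸ N` consists of the characters
whose inflation lies in the principal block of `G`. -/
theorem principalBlock_quot (hM : IsPModular p M) (N : Subgroup G) [N.Normal]
    (hN : ¬ p ∣ Nat.card N) :
    {ψ : IrrCharacter (G ⧸ N) | ((inflateEquiv N ψ).1 : IrrCharacter G) ∈ principalBlock M G} =
      principalBlock M (G ⧸ N) := by
  haveI hMp : M.IsPrime := hM.2.1.isPrime
  rw [principalBlock_eq (G := G ⧸ N)]
  apply quot_block_eq_blockOf hM N hN isPBlock_principalBlock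
  rw [inflate_principalChar]
  exact principalChar_mem_principalBlock

/-- Inflation is a bijection from the principal block of `G ⧸ N` onto that of `G`, for a normal
`p'`-subgroup `N`. -/
theorem bijOn_inflate_principalBlock (hM : IsPModular p M) (N : Subgroup G) [N.Normal]
    (hN : ¬ p ∣ Nat.card N) :
    Set.BijOn (fun ψ : IrrCharacter (G ⧸ N) => ((inflateEquiv N ψ).1 : IrrCharacter G))
      (principalBlock M (G ⧸ N)) (principalBlock M G) := by
  refine ⟨?_, (inflate_injective N).injOn, ?_⟩
  · intro ψ hψ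
    rw [← principalBlock_quot hM N hN] at hψ
    exact hψ
  · intro χ hχ
    have htriv := principalBlock_trivial_on hM N hN hχ
    refine ⟨(inflateEquiv N).symm ⟨χ, htriv⟩, ?_, ?_⟩
    · rw [← principalBlock_quot hM N hN]
      change ((inflateEquiv N ((inflateEquiv N).symm ⟨χ, htriv⟩)).1 : IrrCharacter G) ∈
        principalBlock M G
      rw [Equiv.apply_symm_apply]
      exact hχ
    · change ((inflateEquiv N ((inflateEquiv N).symm ⟨χ, htriv⟩)).1 : IrrCharacter G) = χ
      rw [Equiv.apply_symm_apply]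

/-- Sums over the principal block of `G` can be computed in `G ⧸ N`. -/
theorem finsum_principalBlock_quot (hM : IsPModular p M) (N : Subgroup G) [N.Normal]
    (hN : ¬ p ∣ Nat.card N) {α : Type*} [AddCommMonoid α] (F : (G → ℂ) → α) :
    ∑ᶠ χ ∈ principalBlock M G, F (χ : G → ℂ) =
      ∑ᶠ ψ ∈ principalBlock M (G ⧸ N), F ((ψ : G ⧸ N → ℂ) ∘ (QuotientGroup.mk : G → G ⧸ N)) := by
  symm
  apply finsum_mem_eq_of_bijOn _ (bijOn_inflate_principalBlock hM N hN)
  intro ψ _
  rfl

end Quot

section Galois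

variable {G : Type u} [Group G] [Finite G] {M : Ideal AlgInt}

theorem centralizer_pow_eq_of_coprime {g : G} {k : ℕ} (hk : Nat.Coprime (Nat.card G) k) :
    Subgroup.centralizer ({g ^ k} : Set G) = Subgroup.centralizer ({g} : Set G) := by
  have hg : g = (g ^ k) ^ (Nat.card G).gcdB k := ((powCoprime hk).symm_apply_apply g).symm
  ext x
  simp only [Subgroup.mem_centralizer_iff, Set.mem_singleton_iff, forall_eq]
  constructor
  · intro h
    have hc : Commute (g ^ k) x := h
    have := hc.zpow_left ((Nat.card G).gcdB k)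
    rw [← hg] at this
    exact this
  · intro h
    have hc : Commute g x := h
    exact hc.pow_left k

theorem centralChar_comp_pow (χ : G → ℂ) {k : ℕ} (hk : Nat.Coprime (Nat.card G) k) (g : G) :
    centralChar (fun x => χ (x ^ k)) g = centralChar χ (g ^ k) := by
  unfold centralChar
  rw [centralizer_pow_eq_of_coprime hk]
  simp only [one_pow]

/-- The power twist of an irreducible character, as an irreducible character. -/
noncomputable def powTwist {k : ℕ} (hk : Nat.Coprime (Nat.card G) k) (χ : IrrCharacter G) :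
    IrrCharacter G :=
  haveI : Fintype G := Fintype.ofFinite G
  ⟨fun g => (χ : G → ℂ) (g ^ k), isIrrCharacter_comp_pow χ.2 hk⟩

theorem powTwist_apply {k : ℕ} (hk : Nat.Coprime (Nat.card G) k) (χ : IrrCharacter G) (g : G) :
    (powTwist hk χ : G → ℂ) g = (χ : G → ℂ) (g ^ k) := rfl

theorem powTwist_injective {k : ℕ} (hk : Nat.Coprime (Nat.card G) k) :
    Function.Injective (powTwist (G := G) hk) := by
  intro χ ψ h
  apply Subtype.ext
  funext g
  have h1 := congrArg (fun φ : IrrCharacter G => (φ : G → ℂ) ((powCoprime hk).symm g)) h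
  simp only [powTwist_apply] at h1
  have h2 : ((powCoprime hk).symm g) ^ k = g := (powCoprime hk).apply_symm_apply g
  rw [h2] at h1
  exact h1

/-- The principal block is stable under power twists (Galois conjugation). -/
theorem powTwist_mem_principalBlock {χ : IrrCharacter G} (hχ : χ ∈ principalBlock M G) {k : ℕ}
    (hk : Nat.Coprime (Nat.card G) k) : powTwist hk χ ∈ principalBlock M G := by
  intro g
  have h1 := hχ (g ^ k)
  have h2 : centralChar (fun _ : G => (1 : ℂ)) g = centralChar (fun _ : G => (1 : ℂ)) (g ^ k) :=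
    centralChar_comp_pow (fun _ : G => (1 : ℂ)) hk g
  have h3 : centralChar (powTwist hk χ : G → ℂ) g = centralChar (χ : G → ℂ) (g ^ k) :=
    centralChar_comp_pow (χ : G → ℂ) hk g
  rw [h2, h3]
  exact h1

theorem exists_rat_of_forall_coprime_eq_fintype {n : ℕ} {ι : Type*} [Fintype ι] (hn : 0 < n)
    (μ : ι → ℂ) (hμ : ∀ i, μ i ^ n = 1)
    (h : ∀ k : ℕ, Nat.Coprime k n → ∑ i, μ i ^ k = ∑ i, μ i) :
    ∃ q : ℚ, ∑ i, μ i = (q : ℂ) := by
  classical
  set e := Fintype.equivFin ι with he
  have h1 : ∀ k : ℕ, ∑ j : Fin (Fintype.card ι), (μ (e.symm j)) ^ k = ∑ i, μ i ^ k :=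
    fun k => Equiv.sum_comp e.symm (fun i => μ i ^ k)
  obtain ⟨q, hq⟩ := exists_rat_of_forall_coprime_eq hn (fun j => μ (e.symm j))
    (fun j => hμ _) (by
      intro k hk
      rw [h1 k, h k hk]
      have := h1 1
      simp only [pow_one] at this
      rw [this])
  refine ⟨q, ?_⟩
  rw [← hq]
  have := h1 1
  simp only [pow_one] at this
  rw [this]

theorem exists_roots_irr (χ : IrrCharacter G) (x : G) :
    ∃ (d : ℕ) (μ : Fin d → ℂ), (∀ i, μ i ^ Nat.card G = 1) ∧
      ∀ k : ℕ, (χ : G → ℂ) (x ^ k) = ∑ i, μ i ^ k := by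
  obtain ⟨n, ρ, hρ, hρχ⟩ := χ.2
  obtain ⟨μ, hμ, hpow, -⟩ := exists_roots_of_unity ρ x
  exact ⟨_, μ, hμ, fun k => by rw [← hρχ]; exact hpow k⟩

/-- For a set `B` of irreducible characters stable under all power twists, the sums
`∑_{χ ∈ B} χ(x) conj χ(x)` are rational. -/
theorem exists_rat_sum_mul_conj_of_stable (B : Set (IrrCharacter G))
    (hB : ∀ χ ∈ B, ∀ (k : ℕ) (hk : Nat.Coprime (Nat.card G) k), powTwist hk χ ∈ B) (x : G) :
    ∃ q : ℚ, ∑ᶠ χ ∈ B, (χ : G → ℂ) x * conj ((χ : G → ℂ) x) = (q : ℂ) := by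
  classical
  haveI : Fintype G := Fintype.ofFinite G
  letI : Fintype (IrrCharacter G) := irrFintype
  have hn : 0 < Nat.card G := Nat.card_pos
  choose d μ hμ hpow using fun χ : IrrCharacter G => exists_roots_irr χ x
  let ι := Σ χ : {χ : IrrCharacter G // χ ∈ B}, Fin (d χ.1) × Fin (d χ.1)
  let ν : ι → ℂ := fun a => μ a.1.1 a.2.1 * (μ a.1.1 a.2.2)⁻¹
  have hν : ∀ a, ν a ^ Nat.card G = 1 := by
    intro a
    simp only [ν, mul_pow, inv_pow, hμ, inv_one, mul_one]
  have hconj : ∀ (χ : IrrCharacter G) (j : Fin (d χ)), conj (μ χ j) = (μ χ j)⁻¹ := by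
    intro χ j
    exact (Complex.inv_eq_conj (Complex.norm_eq_one_of_pow_eq_one (hμ χ j) hn.ne')).symm
  have hsum : ∀ k : ℕ, ∑ a, ν a ^ k = ∑ χ : {χ : IrrCharacter G // χ ∈ B},
      (χ.1 : G → ℂ) (x ^ k) * conj ((χ.1 : G → ℂ) (x ^ k)) := by
    intro k
    rw [Fintype.sum_sigma]
    apply Finset.sum_congr rfl
    intro χ _
    rw [Fintype.sum_prod_type, hpow χ.1 k, map_sum, Finset.sum_mul_sum]
    apply Finset.sum_congr rfl
    intro i _
    apply Finset.sum_congr rfl
    intro j _
    simp only [ν, mul_pow, map_pow, hconj]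
  have hstab : ∀ k : ℕ, Nat.Coprime k (Nat.card G) → ∑ a, ν a ^ k = ∑ a, ν a := by
    intro k hk
    have h1 := hsum k
    have h2 := hsum 1
    simp only [pow_one] at h2
    rw [h1, h2]
    let T : {χ : IrrCharacter G // χ ∈ B} → {χ : IrrCharacter G // χ ∈ B} :=
      fun χ => ⟨powTwist hk.symm χ.1, hB χ.1 χ.2 k hk.symm⟩
    have hT : Function.Injective T := by
      intro a b h
      apply Subtype.ext
      apply powTwist_injective hk.symm
      exact congrArg Subtype.val h
    have hTb : Function.Bijective T := Finite.injective_iff_bijective.mp hT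
    exact hTb.sum_comp (fun χ => (χ.1 : G → ℂ) x * conj ((χ.1 : G → ℂ) x))
  obtain ⟨q, hq⟩ := exists_rat_of_forall_coprime_eq_fintype hn ν hν hstab
  refine ⟨q, ?_⟩
  rw [← hq]
  have h2 := hsum 1
  simp only [pow_one] at h2
  rw [h2, ← finsum_set_coe_eq_finsum_mem, finsum_eq_sum_of_fintype]

/-- The sum of `|χ(x)|²` over the principal block is a positive integer. -/
theorem exists_nat_sum_normSq_principalBlock [hMp : M.IsPrime] (x : G) :
    ∃ n : ℕ, 0 < n ∧ ∑ᶠ χ ∈ principalBlock M G, Complex.normSq ((χ : G → ℂ) x) = (n : ℝ) := by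
  classical
  haveI : Fintype G := Fintype.ofFinite G
  letI : Fintype (IrrCharacter G) := irrFintype
  obtain ⟨q, hq⟩ := exists_rat_sum_mul_conj_of_stable (principalBlock M G)
    (fun χ hχ k hk => powTwist_mem_principalBlock hχ hk) x
  have hC : ∑ᶠ χ ∈ principalBlock M G, (χ : G → ℂ) x * conj ((χ : G → ℂ) x) =
      ∑ χ : {χ : IrrCharacter G // χ ∈ principalBlock M G},
        (χ.1 : G → ℂ) x * conj ((χ.1 : G → ℂ) x) := by
    rw [← finsum_set_coe_eq_finsum_mem, finsum_eq_sum_of_fintype]
  have hR : ∑ᶠ χ ∈ principalBlock M G, Complex.normSq ((χ : G → ℂ) x) =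
      ∑ χ : {χ : IrrCharacter G // χ ∈ principalBlock M G},
        Complex.normSq ((χ.1 : G → ℂ) x) := by
    rw [← finsum_set_coe_eq_finsum_mem, finsum_eq_sum_of_fintype]
  have hCR : ∑ᶠ χ ∈ principalBlock M G, (χ : G → ℂ) x * conj ((χ : G → ℂ) x) =
      ((∑ᶠ χ ∈ principalBlock M G, Complex.normSq ((χ : G → ℂ) x) : ℝ) : ℂ) := by
    rw [hC, hR, Complex.ofReal_sum]
    apply Finset.sum_congr rfl
    intro χ _
    exact Complex.mul_conj _
  have hint : IsIntegral ℤ (∑ᶠ χ ∈ principalBlock M G,
      (χ : G → ℂ) x * conj ((χ : G → ℂ) x)) := by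
    rw [hC]
    apply IsIntegral.sum
    intro χ _
    have h1 := isIntegral_of_isCharacter (isCharacter_of_isIrrCharacter χ.1.2) x
    have h2 := isIntegral_of_isCharacter (isCharacter_of_isIrrCharacter χ.1.2) x⁻¹
    rw [irr_inv (isCharacter_of_isIrrCharacter χ.1.2)] at h2
    exact h1.mul h2
  rw [hq] at hint
  have hint' : IsIntegral ℤ (algebraMap ℚ ℂ q) := hint
  rw [isIntegral_algebraMap_iff (algebraMap ℚ ℂ).injective] at hint'
  obtain ⟨z, hz⟩ := IsIntegrallyClosed.isIntegral_iff.mp hint'
  have hz' : (z : ℚ) = q := hz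
  have hSz : ∑ᶠ χ ∈ principalBlock M G, Complex.normSq ((χ : G → ℂ) x) = (z : ℝ) := by
    apply Complex.ofReal_injective
    rw [← hCR, hq, ← hz']
    push_cast
    rfl
  have hpos : (1 : ℝ) ≤ ∑ᶠ χ ∈ principalBlock M G, Complex.normSq ((χ : G → ℂ) x) := by
    rw [hR]
    have h1 := Finset.single_le_sum (s := Finset.univ)
      (f := fun χ : {χ : IrrCharacter G // χ ∈ principalBlock M G} =>
        Complex.normSq ((χ.1 : G → ℂ) x))
      (fun χ _ => Complex.normSq_nonneg _)
      (Finset.mem_univ ⟨principalChar G, principalChar_mem_principalBlock⟩)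
    refine le_trans ?_ h1
    change (1 : ℝ) ≤ Complex.normSq ((principalChar G : G → ℂ) x)
    unfold principalChar
    simp
  rw [hSz] at hpos
  have hz1 : (1 : ℤ) ≤ z := by exact_mod_cast hpos
  refine ⟨z.toNat, by omega, ?_⟩
  rw [hSz]
  have : ((z.toNat : ℤ) : ℝ) = (z : ℝ) := by
    rw [Int.toNat_of_nonneg (by omega)]
  exact_mod_cast this.symm

/-- Second orthogonality bounds partial sums of `|χ(x)|²`. -/
theorem finsum_normSq_le_card_centralizer (B : Set (IrrCharacter G)) (x : G) :
    ∑ᶠ χ ∈ B, Complex.normSq ((χ : G → ℂ) x) ≤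
      (Nat.card (Subgroup.centralizer ({x} : Set G)) : ℝ) := by
  classical
  haveI : Fintype G := Fintype.ofFinite G
  letI : Fintype (IrrCharacter G) := irrFintype
  have h := second_orthogonality' x x
  rw [if_pos (IsConj.refl x)] at h
  have htot : ∑ χ : IrrCharacter G, Complex.normSq ((χ : G → ℂ) x) =
      (Nat.card (Subgroup.centralizer ({x} : Set G)) : ℝ) := by
    apply Complex.ofReal_injective
    rw [Complex.ofReal_sum]
    push_cast
    rw [← h]
    apply Finset.sum_congr rfl
    intro χ _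
    exact (Complex.mul_conj _).symm
  rw [← htot, finsum_mem_def, finsum_eq_sum_of_fintype]
  apply Finset.sum_le_sum
  intro χ _
  by_cases hχ : χ ∈ B
  · rw [Set.indicator_of_mem hχ]
  · rw [Set.indicator_of_notMem hχ]
    exact Complex.normSq_nonneg _

/-- The squares of the degrees in a set of irreducible characters sum to the group order exactly
when the set contains all irreducible characters. -/
theorem finsum_charDegree_sq_eq_card_iff (B : Set (IrrCharacter G)) :
    ∑ᶠ χ ∈ B, charDegree (χ : G → ℂ) ^ 2 = Nat.card G ↔ B = Set.univ := by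
  classical
  haveI : Fintype G := Fintype.ofFinite G
  letI : Fintype (IrrCharacter G) := irrFintype
  rw [← sum_charDegree_sq (G := G), finsum_mem_def, finsum_eq_sum_of_fintype]
  have hle : ∀ χ ∈ (Finset.univ : Finset (IrrCharacter G)),
      Set.indicator B (fun χ : IrrCharacter G => charDegree (χ : G → ℂ) ^ 2) χ ≤
        charDegree (χ : G → ℂ) ^ 2 := by
    intro χ _
    by_cases hχ : χ ∈ B
    · rw [Set.indicator_of_mem hχ]
    · rw [Set.indicator_of_notMem hχ]
      exact Nat.zero_le _
  rw [Finset.sum_eq_sum_iff_of_le hle]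
  constructor
  · intro h
    apply Set.eq_univ_of_forall
    intro χ
    by_contra hχ
    have h1 := h χ (Finset.mem_univ χ)
    rw [Set.indicator_of_notMem hχ] at h1
    have h2 := charDegree_pos χ.2
    have h3 : 0 < charDegree (χ : G → ℂ) ^ 2 := pow_pos h2 2
    omega
  · intro h χ _
    rw [Set.indicator_of_mem (by rw [h]; exact Set.mem_univ χ)]

/-- Every block is principal exactly when the principal block contains everything. -/
theorem forall_isPBlock_eq_principalBlock_iff [hMp : M.IsPrime] :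
    (∀ B : Set (IrrCharacter G), IsPBlock M B → B = principalBlock M G) ↔
      principalBlock M G = Set.univ := by
  classical
  haveI : Fintype G := Fintype.ofFinite G
  constructor
  · intro h
    apply Set.eq_univ_of_forall
    intro ψ
    rw [← h _ ⟨ψ, rfl⟩]
    exact mem_blockOf_self ψ
  · rintro h B ⟨χ, rfl⟩
    have hχ : χ ∈ principalBlock M G := by rw [h]; exact Set.mem_univ χ
    rw [principalBlock_eq] at hχ ⊢
    exact blockOf_eq_of_mem hχ

end Galois

end Cfsg.Agent.Helper23.Blk
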