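import Mathlib
import Cfsg.Prelude.Def_Local
import Cfsg.Agent.Lib.Helper23.PSolvable

/-!
# `p`-solvable groups, part 2 (helper23 library): the upper `p`-series

* `PSolv.upperPSeries_succ_even`, `PSolv.upperPSeries_succ_odd`: unfolding lemmas;
* `PSolv.pPrimeCore_quotient_comap`: `O_{p'}(G/U) = 1` when `U/W = O_{p'}(G/W)`;
* `PSolv.pPrimeCore_quotient_upperPSeries_odd`: `O_{p'}(G / U_{2k+1}) = 1`;
* `PSolv.centralizer_upperPSeries_le`: Hall--Higman 1.2.3 along the upper `p`-series.
-/

set_option autoImplicit false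

namespace Cfsg.Agent.Helper23.PSolv

open Subgroup

variable {G : Type*} [Group G]

theorem upperPSeries_succ_odd (p : ℕ) (n : ℕ) (h : ¬ Even n) :
    (upperPSeries p G (n + 1)).1 =
      (pCore p (G ⧸ (upperPSeries p G n).1)).comap
        (QuotientGroup.mk' (upperPSeries p G n).1) := by
  rw [upperPSeries]
  simp only [h, if_false]

theorem upperPSeries_succ_even (p : ℕ) (n : ℕ) (h : Even n) :
    (upperPSeries p G (n + 1)).1 =
      (pPrimeCore p (G ⧸ (upperPSeries p G n).1)).comap
        (QuotientGroup.mk' (upperPSeries p G n).1) := by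
  rw [upperPSeries]
  simp only [h, if_true]

/-- If `U` is the preimage of `O_{p'}(G/W)` then `O_{p'}(G/U) = 1`. -/
theorem pPrimeCore_quotient_comap [Finite G] (p : ℕ) (W U : Subgroup G) [W.Normal] [U.Normal]
    (hU : U = (pPrimeCore p (G ⧸ W)).comap (QuotientGroup.mk' W)) :
    pPrimeCore p (G ⧸ U) = ⊥ := by
  haveI : (pPrimeCore p (G ⧸ W)).Normal := Helper22.pPrimeCore_normal p
  haveI : (pPrimeCore p (G ⧸ U)).Normal := Helper22.pPrimeCore_normal p
  obtain ⟨L, hL⟩ : ∃ L : Subgroup G, L = (pPrimeCore p (G ⧸ U)).comap (QuotientGroup.mk' U) :=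
    ⟨_, rfl⟩
  haveI hLn : L.Normal := by rw [hL]; exact Subgroup.Normal.comap inferInstance _
  have hker : ∀ (N : Subgroup G) [N.Normal] (M : Subgroup (G ⧸ N)),
      N ≤ M.comap (QuotientGroup.mk' N) := by
    intro N _ M x hx
    rw [mem_comap]
    have : QuotientGroup.mk' N x = 1 := (QuotientGroup.eq_one_iff x).mpr hx
    rw [this]; exact one_mem _
  have hWU : W ≤ U := by rw [hU]; exact hker W _
  have hUL : U ≤ L := by rw [hL]; exact hker U _
  have hmapU : U.map (QuotientGroup.mk' W) = pPrimeCore p (G ⧸ W) := by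
    rw [hU]; exact map_comap_eq_self_of_surjective (QuotientGroup.mk'_surjective W) _
  have hmapL : L.map (QuotientGroup.mk' U) = pPrimeCore p (G ⧸ U) := by
    rw [hL]; exact map_comap_eq_self_of_surjective (QuotientGroup.mk'_surjective U) _
  have h1 : W.relIndex U = Nat.card (pPrimeCore p (G ⧸ W)) := by
    have := relIndex_ker (QuotientGroup.mk' W) (K := U)
    rw [QuotientGroup.ker_mk', hmapU] at this
    exact this
  have h2 : U.relIndex L = Nat.card (pPrimeCore p (G ⧸ U)) := by
    have := relIndex_ker (QuotientGroup.mk' U) (K := L)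
    rw [QuotientGroup.ker_mk', hmapL] at this
    exact this
  have h3 : W.relIndex L = Nat.card (L.map (QuotientGroup.mk' W)) := by
    have := relIndex_ker (QuotientGroup.mk' W) (K := L)
    rw [QuotientGroup.ker_mk'] at this
    exact this
  have h4 : W.relIndex U * U.relIndex L = W.relIndex L := relIndex_mul_relIndex W U L hWU hUL
  have hcop : (Nat.card (L.map (QuotientGroup.mk' W))).Coprime p := by
    rw [← h3, ← h4, h1, h2]
    exact Nat.Coprime.mul_left (Helper22.card_pPrimeCore_coprime p)
      (Helper22.card_pPrimeCore_coprime p)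
  have hLW : L.map (QuotientGroup.mk' W) ≤ pPrimeCore p (G ⧸ W) :=
    Helper22.le_pPrimeCore p _ (Subgroup.Normal.map hLn _ (QuotientGroup.mk'_surjective W)) hcop
  have hLU : L ≤ U := by
    rw [hU]
    exact map_le_iff_le_comap.mp hLW
  rw [← hmapL, eq_bot_iff]
  rintro _ ⟨x, hx, rfl⟩
  rw [mem_bot]
  exact (QuotientGroup.eq_one_iff x).mpr (hLU hx)

/-- `O_{p'}(G / U_{2k+1}) = 1`. -/
theorem pPrimeCore_quotient_upperPSeries_odd [Finite G] (p : ℕ) (k : ℕ) :
    pPrimeCore p (G ⧸ (upperPSeries p G (2 * k + 1)).1) = ⊥ :=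
  pPrimeCore_quotient_comap p (upperPSeries p G (2 * k)).1 (upperPSeries p G (2 * k + 1)).1
    (upperPSeries_succ_even p (2 * k) (even_two_mul k))

/-- The image of `U_{2k+2}` in `G / U_{2k+1}` is `O_p(G / U_{2k+1})`. -/
theorem map_upperPSeries_even_succ (p : ℕ) (k : ℕ) :
    (upperPSeries p G (2 * k + 2)).1.map (QuotientGroup.mk' (upperPSeries p G (2 * k + 1)).1) =
      pCore p (G ⧸ (upperPSeries p G (2 * k + 1)).1) := by
  have h : ¬ Even (2 * k + 1) := by
    rw [Nat.not_even_iff_odd]; exact odd_two_mul_add_one k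
  have := upperPSeries_succ_odd (G := G) p (2 * k + 1) h
  rw [show 2 * k + 2 = 2 * k + 1 + 1 from rfl, this]
  exact map_comap_eq_self_of_surjective (QuotientGroup.mk'_surjective _) _

/-- Hall--Higman 1.2.3 along the upper `p`-series: each `p`-factor contains its centralizer in
the corresponding quotient. -/
theorem centralizer_upperPSeries_le [Finite G] {p : ℕ} [Fact p.Prime] (hsol : IsPSolvable p G)
    (k : ℕ) :
    centralizer ((((upperPSeries p G (2 * k + 2)).1.map
        (QuotientGroup.mk' (upperPSeries p G (2 * k + 1)).1)) :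
          Subgroup (G ⧸ (upperPSeries p G (2 * k + 1)).1)) :
            Set (G ⧸ (upperPSeries p G (2 * k + 1)).1)) ≤
      (upperPSeries p G (2 * k + 2)).1.map (QuotientGroup.mk' (upperPSeries p G (2 * k + 1)).1) := by
  rw [map_upperPSeries_even_succ]
  exact centralizer_pCore_le (isPSolvable_quotient _ hsol)
    (pPrimeCore_quotient_upperPSeries_odd p k)

end Cfsg.Agent.Helper23.PSolv
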