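import Mathlib
import Cfsg.Agent.Lib.Helper1.Coprime

/-!
# Burnside's theorem on the Frattini quotient (helper23 library)

`centralizes_of_frattini`: if a `p'`-subgroup `A` (solvable, e.g. cyclic) of a finite group acts on
the `p`-subgroup `R` trivially modulo the Frattini subgroup of `R`, then `A` centralizes `R`.
Uses helper1's fixed points in invariant cosets (`exists_centralizer_mem_coset`).
-/

set_option autoImplicit false

namespace Cfsg.Agent.Helper23

open Subgroup

theorem centralizes_of_frattini {G : Type*} [Group G] [Finite G] {p : ℕ} [Fact p.Prime]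
    (R : Subgroup G) (hRp : IsPGroup p R) (A : Subgroup G) (hA : (Nat.card A).Coprime p)
    (hAsolv : Group.IsSolvable A)
    (hAΦ : A ≤ normalizer (((frattini R).map R.subtype : Subgroup G) : Set G))
    (hact : ∀ a ∈ A, ∀ r ∈ R, a * r * a⁻¹ * r⁻¹ ∈ (frattini R).map R.subtype) :
    R ≤ centralizer (A : Set G) := by
  obtain ⟨Φ', hΦ'⟩ : ∃ Φ' : Subgroup G, Φ' = (frattini R).map R.subtype := ⟨_, rfl⟩
  rw [← hΦ'] at hAΦ hact
  have hΦR : Φ' ≤ R := by rw [hΦ']; exact map_subtype_le _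
  have hΦp : IsPGroup p Φ' := hRp.to_le hΦR
  have hcop : (Nat.card A).Coprime (Nat.card Φ') := by
    obtain ⟨n, hn⟩ := IsPGroup.iff_card.mp hΦp
    rw [hn]; exact Nat.Coprime.pow_right n hA
  have hΦconj : ∀ r ∈ R, ∀ z ∈ Φ', r⁻¹ * z * r ∈ Φ' := by
    intro r hr z hz
    rw [hΦ'] at hz ⊢
    obtain ⟨z', hz', rfl⟩ := hz
    have hn : (frattini R).Normal := inferInstance
    have := hn.conj_mem z' hz' (⟨r, hr⟩ : R)⁻¹
    refine ⟨_, this, ?_⟩
    simp
  have htop : (centralizer (A : Set G)).subgroupOf R ⊔ frattini R = ⊤ := by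
    rw [eq_top_iff]
    intro r _
    have hx : ∀ a ∈ A, (r : G)⁻¹ * a * (r : G) * a⁻¹ ∈ Φ' := by
      intro a ha
      have h1 := hact a ha r r.2
      have h2 := hΦconj r r.2 _ h1
      have : (r : G)⁻¹ * (a * (r : G) * a⁻¹ * (r : G)⁻¹) * (r : G) = (r : G)⁻¹ * a * (r : G) * a⁻¹ := by
        group
      rwa [this] at h2
    obtain ⟨c, hc, hrc⟩ := Helper1.exists_centralizer_mem_coset Φ' A hAΦ hcop (Or.inl hAsolv)
      (r : G) hx
    have hcR : c ∈ R := by
      have : c = (r : G) * ((r : G)⁻¹ * c) := by group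
      rw [this]; exact R.mul_mem r.2 (hΦR hrc)
    have hz : ((r : G)⁻¹ * c)⁻¹ ∈ Φ' := Φ'.inv_mem hrc
    rw [hΦ'] at hz
    obtain ⟨z', hz', hz'eq⟩ := hz
    have hr : r = (⟨c, hcR⟩ : R) * z' := by
      apply Subtype.ext
      rw [Subgroup.coe_mul]
      show (r : G) = c * R.subtype z'
      rw [hz'eq]; group
    rw [hr]
    exact mul_mem_sup (mem_subgroupOf.mpr hc) hz'
  have h2 := frattini_nongenerating htop
  exact subgroupOf_eq_top.mp h2

end Cfsg.Agent.Helper23
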