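import Mathlib

/-!
# Basic facts on finite `p`-groups: maximal subgroups contain the derived subgroup

Shared library of helper23.  Everything lives in `Cfsg.Agent.Helper23`.
-/

set_option autoImplicit false

namespace Cfsg.Agent.Helper23

/-- In a finite `p`-group, a maximal subgroup is normal. -/
theorem normal_of_isCoatom_pgroup {P : Type*} [Group P] [Finite P] (p : ℕ) [Fact p.Prime]
    (hP : IsPGroup p P) (M : Subgroup P) (hM : IsCoatom M) : M.Normal := by
  have : Group.IsNilpotent P := hP.isNilpotent
  exact Subgroup.NormalizerCondition.normal_of_coatom M Group.normalizerCondition_of_isNilpotent hM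

/-- In a finite `p`-group, a maximal subgroup contains the derived subgroup. -/
theorem commutator_le_of_isCoatom_pgroup {P : Type*} [Group P] [Finite P] (p : ℕ) [Fact p.Prime]
    (hP : IsPGroup p P) (M : Subgroup P) (hM : IsCoatom M) : commutator P ≤ M := by
  have hn : M.Normal := normal_of_isCoatom_pgroup p hP M hM
  rw [← Subgroup.Normal.quotient_commutative_iff_commutator_le]
  have hQ : IsPGroup p (P ⧸ M) := hP.to_quotient M
  have hnt : Nontrivial (P ⧸ M) := by
    by_contra h
    rw [not_nontrivial_iff_subsingleton] at h
    apply hM.1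
    rw [← Subgroup.index_eq_one, Subgroup.index_eq_card]
    exact Nat.card_eq_one_iff_unique.2 ⟨h, ⟨1⟩⟩
  have hC : Subgroup.center (P ⧸ M) ≠ ⊥ := by
    have := hQ.center_nontrivial
    exact (Subgroup.nontrivial_iff_ne_bot _).1 this
  have hsurj : Function.Surjective (QuotientGroup.mk' M) := QuotientGroup.mk'_surjective M
  set C := Subgroup.center (P ⧸ M) with hCdef
  have hle : M ≤ C.comap (QuotientGroup.mk' M) := by
    intro x hx
    rw [Subgroup.mem_comap, QuotientGroup.mk'_apply, (QuotientGroup.eq_one_iff x).2 hx]
    exact Subgroup.one_mem _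
  have hne : M ≠ C.comap (QuotientGroup.mk' M) := by
    intro heq
    apply hC
    have := Subgroup.map_comap_eq_self_of_surjective hsurj C
    rw [← heq] at this
    rw [← this, eq_bot_iff]
    rintro _ ⟨x, hx, rfl⟩
    rw [Subgroup.mem_bot, QuotientGroup.mk'_apply]
    exact (QuotientGroup.eq_one_iff x).2 hx
  have htop : C.comap (QuotientGroup.mk' M) = ⊤ := hM.2 _ (lt_of_le_of_ne hle hne)
  have hCtop : C = ⊤ := by
    have := Subgroup.map_comap_eq_self_of_surjective hsurj C
    rw [htop, Subgroup.map_top_of_surjective _ hsurj] at this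
    exact this.symm
  refine ⟨⟨fun a b => ?_⟩⟩
  have hb : b ∈ C := by rw [hCtop]; trivial
  exact Subgroup.mem_center_iff.1 hb a

/-- In a finite `p`-group, the Frattini subgroup contains the derived subgroup. -/
theorem commutator_le_frattini_pgroup {P : Type*} [Group P] [Finite P] (p : ℕ) [Fact p.Prime]
    (hP : IsPGroup p P) : commutator P ≤ frattini P := by
  unfold frattini Order.radical
  apply le_iInf
  intro M
  apply le_iInf
  intro hM
  exact commutator_le_of_isCoatom_pgroup p hP M hM

end Cfsg.Agent.Helper23
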