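import Mathlib
import Cfsg.Agent.Lib.Helper14.GAG40Defs
import Cfsg.Agent.Lib.Helper11.Zas120A
import Cfsg.Agent.Lib.Helper20.GAG40CHAIN

/-!
# S4840 piece IDX2 (helper23): `good_of_cyclic`, `good_of_index_two`
-/

set_option autoImplicit false

namespace Cfsg.Agent.Helper14.Gag40

open Cfsg

section IDX2
variable {p : ℕ} {X : Type*} [Group X]

theorem good_of_cyclic [Finite X] [hp : Fact p.Prime] (T : Subgroup X) [T.Normal]
    (hT : IsCyclic T) : Good p T := by
  have hn : (Subgroup.centralizer (T : Set X)).Normal := Subgroup.normal_centralizer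
  exact chain (p := p) (Subgroup.centralizer (T : Set X)) (Subgroup.centralizer (T : Set X))
    le_rfl (fun y hy _ => hy)
    (Or.inl (Cfsg.Agent.Helper11.Zas120.commutator_le_centralizer_of_cyclic T hT))

/-- iterate: if `y * t * y⁻¹ = t * a` and `y` commutes with `a` then `y^k * t * y^-k = t * a^k`. -/
private theorem idx2_iter (y t a : X) (h : y * t * y⁻¹ = t * a) (hya : y * a = a * y) (k : ℕ) :
    y ^ k * t * (y ^ k)⁻¹ = t * a ^ k := by
  induction k with
  | zero => simp
  | succ k ih =>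
    have hya' : y * a ^ k * y⁻¹ = a ^ k := by
      have : Commute y (a ^ k) := (show Commute y a from hya).pow_right k
      rw [this.eq, mul_inv_cancel_right]
    calc y ^ (k + 1) * t * (y ^ (k + 1))⁻¹
        = y * (y ^ k * t * (y ^ k)⁻¹) * y⁻¹ := by
          rw [pow_succ', mul_inv_rev]; group
      _ = y * (t * a ^ k) * y⁻¹ := by rw [ih]
      _ = (y * t * y⁻¹) * (y * a ^ k * y⁻¹) := by group
      _ = t * a * a ^ k := by rw [h, hya']
      _ = t * a ^ (k + 1) := by rw [pow_succ', mul_assoc]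

theorem good_of_index_two [Finite X] [hp : Fact p.Prime] {l : ℕ} [hl : Fact l.Prime] (hlp : l ≠ p)
    (T A : Subgroup X) [T.Normal] [A.Normal] (hAT : A ≤ T) (hT : IsPGroup l T) (hA : IsCyclic A)
    (hidx : A.relIndex T = 2) : Good p T := by
  have hn : (Subgroup.centralizer (A : Set X)).Normal := Subgroup.normal_centralizer
  have hCY : Subgroup.centralizer (T : Set X) ≤ Subgroup.centralizer (A : Set X) :=
    Subgroup.centralizer_le (fun x hx => hAT hx)
  refine chain (p := p) (Subgroup.centralizer (T : Set X)) (Subgroup.centralizer (A : Set X))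
    hCY ?_ (Or.inl (Cfsg.Agent.Helper11.Zas120.commutator_le_centralizer_of_cyclic A hA))
  rintro y hy ⟨m, hm⟩
  rw [Subgroup.mem_centralizer_iff]
  intro t ht
  have ht : t ∈ T := ht
  -- a := t⁻¹ * (y * t * y⁻¹) ∈ A
  have hyt : y * t * y⁻¹ ∈ T := ‹T.Normal›.conj_mem t ht y
  have hidx' : (A.subgroupOf T).index = 2 := hidx
  have haA : t⁻¹ * (y * t * y⁻¹) ∈ A := by
    have h := Subgroup.mul_mem_iff_of_index_two hidx' (a := (⟨t, ht⟩ : T)⁻¹)
      (b := (⟨y * t * y⁻¹, hyt⟩ : T))
    simp only [Subgroup.mem_subgroupOf, Subgroup.coe_mul, Subgroup.coe_inv] at h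
    rw [h, inv_mem_iff]
    constructor
    · intro h1; exact ‹A.Normal›.conj_mem t h1 y
    · intro h1
      have := ‹A.Normal›.conj_mem _ h1 y⁻¹
      simpa [mul_assoc] using this
  set a := t⁻¹ * (y * t * y⁻¹) with ha
  have hya : y * a = a * y := ((Subgroup.mem_centralizer_iff.mp hy) a haA).symm
  have h0 : y * t * y⁻¹ = t * a := by rw [ha, mul_inv_cancel_left]
  have hk := idx2_iter y t a h0 hya (orderOf y)
  rw [pow_orderOf_eq_one, one_mul, inv_one, mul_one] at hk
  have hapm : a ^ (p ^ m) = 1 := by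
    rw [← hm]
    exact (mul_eq_left.mp hk.symm)
  obtain ⟨n, hn'⟩ := hT ⟨a, hAT haA⟩
  have haln : a ^ (l ^ n) = 1 := by
    have := congrArg Subtype.val hn'
    simpa using this
  have hcop : Nat.Coprime (p ^ m) (l ^ n) := by
    apply Nat.Coprime.pow
    exact (Nat.coprime_primes hp.out hl.out).mpr (Ne.symm hlp)
  have ha1 : a = 1 := by
    have hd1 : orderOf a ∣ p ^ m := orderOf_dvd_of_pow_eq_one hapm
    have hd2 : orderOf a ∣ l ^ n := orderOf_dvd_of_pow_eq_one haln
    have : orderOf a = 1 := Nat.eq_one_of_dvd_coprimes hcop hd1 hd2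
    exact orderOf_eq_one_iff.mp this
  rw [ha1, mul_one] at h0
  -- y * t * y⁻¹ = t  →  t * y = y * t
  have : y * t = t * y := by
    calc y * t = (y * t * y⁻¹) * y := by group
      _ = t * y := by rw [h0]
  exact this.symm

end IDX2

end Cfsg.Agent.Helper14.Gag40
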