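import Mathlib
import Cfsg.Agent.Lib.Helper14.BGUniqO

/-!
# Bender–Glauberman section 10, part A (helper23)

Consequences of the Uniqueness Theorem (taken as a hypothesis `UniqThm G`, the statement of
S1403 for `G`): `α(M) ⊆ σ(M)`, and Lemma 10.5 (primes of `τ₂(M)` are not ideal).
-/

set_option autoImplicit false

namespace Cfsg.Agent.Helper23.BG10

open Cfsg Subgroup
open Cfsg.Agent.Helper14.BGTrans Cfsg.Agent.Helper14.BGUniq
open Cfsg.Agent.Helper15 (IsSylowIn isSylowIn_map_subtype exists_isSylowIn_ge)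

universe u

variable {G : Type u} [Group G] [Finite G]

/-- the Uniqueness Theorem (the statement of S1403) for the group `G` -/
def UniqThm (G : Type u) [Group G] : Prop :=
  ∀ K : Subgroup G, K ≠ ⊤ → ¬ RankLE 1 ↥K →
    (¬ RankLE 2 ↥K ∨ ¬ RankLE 2 ↥(centralizer (K : Set G))) → InUniqueMaximal K

omit [Finite G] in
theorem centralizer_ne_top' (hG : IsMinSimpleOddOrder G) {A : Subgroup G} (hA : A ≠ ⊥) :
    centralizer (A : Set G) ≠ ⊤ := by
  obtain ⟨a, ha, ha1⟩ := exists_mem_ne_one hA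
  intro h
  apply centralizer_singleton_ne_top hG ha1
  rw [eq_top_iff, ← h]
  exact Subgroup.centralizer_le (by simpa using ha)

/-- elementary abelian subgroups of order `p ^ 2` of `M` are maximal elementary abelian in `G`
when `M` has `p`-rank 2 -/
theorem eq_of_elemAb_sq_le (hG : IsMinSimpleOddOrder G) (hU : UniqThm G) {M : Subgroup G}
    (hM : IsCoatom M) {p : ℕ} [Fact p.Prime] (hr2 : PRankLE p 2 ↥M) {A : Subgroup G}
    (hAM : A ≤ M) (hAe : IsElementaryAbelian p A) (hAc : Nat.card ↥A = p ^ 2) {B : Subgroup G}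
    (hBe : IsElementaryAbelian p B) (hAB : A ≤ B) : B = A := by
  have hp : p.Prime := Fact.out
  by_contra hne
  have hlt : A < B := lt_of_le_of_ne hAB (Ne.symm hne)
  have hcard : p ^ 2 < Nat.card ↥B := by
    rw [← hAc]
    by_contra hle
    exact hne (Subgroup.eq_of_le_of_card_ge hAB (not_lt.mp hle)).symm
  have hBC : B ≤ centralizer (A : Set G) :=
    (le_centralizer_self_of_isElementaryAbelian hBe).trans (Subgroup.centralizer_le hAB)
  have h1 : ¬ RankLE 2 ↥(centralizer (A : Set G)) := not_rankLE_of_lt hBC hBe hcard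
  have h2 : ¬ RankLE 1 ↥A := by
    apply not_rankLE_of_lt le_rfl hAe
    rw [hAc]
    exact Nat.pow_lt_pow_right hp.one_lt (by norm_num)
  have hA1 : A ≠ ⊥ := by
    intro h
    rw [h, Subgroup.card_bot] at hAc
    have := Nat.one_lt_pow (n := 2) (by norm_num) hp.one_lt
    omega
  have h3 : A ≠ ⊤ := ne_top_of_isPGroup hG (isPGroup_of_isElementaryAbelian hAe)
  obtain ⟨L, ⟨hL, hAL⟩, huniq⟩ := hU A h3 h2 (Or.inr h1)
  have hLM : M = L := huniq M ⟨hM, hAM⟩
  have hCM : centralizer (A : Set G) ≤ M :=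
    le_of_inUniqueMaximal (centralizer_ne_top' hG hA1)
      (le_centralizer_self_of_isElementaryAbelian hAe) (fun H hH => (huniq H hH).trans hLM.symm)
  exact not_pRankLE_of_le (hBC.trans hCM) hBe hcard hr2

/-- a subgroup of `p`-rank exactly 2 contains an elementary abelian subgroup of order `p ^ 2` -/
theorem exists_elemAb_sq {M : Subgroup G} {p : ℕ} [Fact p.Prime] (hr2 : PRankLE p 2 ↥M)
    (hr1 : ¬ PRankLE p 1 ↥M) :
    ∃ A : Subgroup G, A ≤ M ∧ IsElementaryAbelian p A ∧ Nat.card ↥A = p ^ 2 := by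
  have hp : p.Prime := Fact.out
  obtain ⟨A, hAM, hAe, hAc⟩ := exists_elemAb_of_not_pRankLE hr1
  refine ⟨A, hAM, hAe, ?_⟩
  obtain ⟨k, hk⟩ := (isPGroup_of_isElementaryAbelian hAe).exists_card_eq
  have h1 : Nat.card ↥A ≤ p ^ 2 := by
    by_contra h
    exact not_pRankLE_of_le hAM hAe (not_le.mp h) hr2
  rw [hk] at hAc h1 ⊢
  have h2 : 1 < k := (Nat.pow_lt_pow_iff_right hp.one_lt).mp hAc
  have h3 : k ≤ 2 := (Nat.pow_le_pow_iff_right hp.one_lt).mp h1
  have : k = 2 := by omega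
  rw [this]

/-- BG Lemma 10.5 (the statement of S1408), from the Uniqueness Theorem -/
theorem lemma_10_5 (hG : IsMinSimpleOddOrder G) (hU : UniqThm G) (M : Subgroup G)
    (hM : IsCoatom M) (p : ℕ) [Fact p.Prime] (hr2 : PRankLE p 2 ↥M) (hr1 : ¬ PRankLE p 1 ↥M) :
    ¬ IsIdealPrime p G ∧ ∀ A : Subgroup G, A ≤ M → IsElementaryAbelian p A →
      Nat.card ↥A = p ^ 2 → ∀ B : Subgroup G, IsElementaryAbelian p B → A ≤ B → B = A := by
  refine ⟨?_, fun A hAM hAe hAc B hBe hAB => eq_of_elemAb_sq_le hG hU hM hr2 hAM hAe hAc hBe hAB⟩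
  rintro ⟨-, -, hid⟩
  obtain ⟨A, hAM, hAe, hAc⟩ := exists_elemAb_sq hr2 hr1
  obtain ⟨P, hAP⟩ := (isPGroup_of_isElementaryAbelian hAe).exists_le_sylow
  obtain ⟨B, -, hBe, hAB⟩ := hid P A hAP hAe hAc
  exact hAB.ne' (eq_of_elemAb_sq_le hG hU hM hr2 hAM hAe hAc hBe hAB.le)

/-- a Sylow `p`-subgroup of `M` of rank at least 3 has its normalizer in `M` -/
theorem normalizer_le_of_sylow_rank (hG : IsMinSimpleOddOrder G) (hU : UniqThm G)
    {M : Subgroup G} (hM : IsCoatom M) {p : ℕ} [Fact p.Prime] (hr : ¬ PRankLE p 2 ↥M)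
    {S : Subgroup G} (hS : IsSylowIn p S M) : normalizer (S : Set G) ≤ M := by
  have hp : p.Prime := Fact.out
  obtain ⟨E, hEM, hEe, hEc⟩ := exists_elemAb_of_not_pRankLE hr
  obtain ⟨T, hET, hT⟩ := exists_isSylowIn_ge (isPGroup_of_isElementaryAbelian hEe) hEM
  have hTU : InUniqueMaximal T := by
    apply hU T (ne_top_of_isPGroup hG hT.isPGroup)
    · apply not_rankLE_of_lt hET hEe
      exact lt_trans (Nat.pow_lt_pow_right hp.one_lt (by norm_num)) hEc
    · exact Or.inl (not_rankLE_of_lt hET hEe hEc)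
  obtain ⟨m, hm, hmT⟩ := hT.exists_conj hS
  have hSU : InUniqueMaximal S := by
    rw [← hmT]
    exact inUniqueMaximal_map_conj hTU m
  obtain ⟨L, ⟨hL, hSL⟩, huniq⟩ := hSU
  have hLM : M = L := huniq M ⟨hM, hS.le⟩
  exact normalizer_le_of_inUniqueMaximal hG hM hS.le (fun H hH => (huniq H hH).trans hLM.symm)

/-- `α(M) ⊆ σ(M)` -/
theorem alpha_subset_sigma (hG : IsMinSimpleOddOrder G) (hU : UniqThm G)
    {M : Subgroup G} (hM : IsCoatom M) : alpha M ⊆ sigma M := by
  rintro p ⟨hp, hr⟩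
  have : Fact p.Prime := ⟨hp⟩
  obtain ⟨P⟩ : Nonempty (Sylow p ↥M) := inferInstance
  refine ⟨hp, ?_, P, normalizer_le_of_sylow_rank hG hU hM hr (isSylowIn_map_subtype P)⟩
  obtain ⟨E, hEM, hEe, hEc⟩ := exists_elemAb_of_not_pRankLE hr
  obtain ⟨k, hk⟩ := (isPGroup_of_isElementaryAbelian hEe).exists_card_eq
  have hk0 : k ≠ 0 := by
    rintro rfl
    rw [pow_zero] at hk
    have := Nat.one_lt_pow (n := 2) (by norm_num) hp.one_lt
    omega
  have h1 : p ∣ Nat.card ↥E := by rw [hk]; exact dvd_pow_self p hk0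
  exact h1.trans (Subgroup.card_dvd_of_le hEM)

end Cfsg.Agent.Helper23.BG10
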