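import Mathlib
import Cfsg.Agent.Lib.Helper23.BG10A

/-!
# Bender–Glauberman section 10, part C (helper23): towards Theorem 10.2

With the Uniqueness Theorem and Lemma 10.1(a) (the statements of S1403 and S1404) as
hypotheses: a Sylow `p`-subgroup of `M`, `p ∈ α(M)`, is a Sylow subgroup of `G` and lies in `M'`.
-/

set_option autoImplicit false

namespace Cfsg.Agent.Helper23.BG10

open Cfsg Subgroup
open scoped commutatorElement
open Cfsg.Agent.Helper14.BGTrans Cfsg.Agent.Helper14.BGUniq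
open Cfsg.Agent.Helper15 (IsSylowIn isSylowIn_map_subtype exists_isSylowIn_ge)

universe u

variable {G : Type u} [Group G]

/-- Lemma 10.1(a),(b) (the statement of S1404) for the group `G` -/
def FusionThm (G : Type u) [Group G] : Prop :=
  ∀ M : Subgroup G, IsCoatom M → ∀ (p : ℕ) [Fact p.Prime], p ∈ sigma M →
    ∀ X : Subgroup G, IsPGroup p ↥X → X ≠ ⊥ → X ≤ M →
      (∀ g : G, X.map (MulAut.conj g).toMonoidHom ≤ M →
        ∃ m ∈ M, ∃ c ∈ centralizer (X : Set G), g = m * c) ∧
      normalizer (X : Set G) = (M ⊓ normalizer (X : Set G)) ⊔ centralizer (X : Set G)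

theorem commutator_eq_top' (hG : IsMinSimpleOddOrder G) : commutator G = ⊤ := by
  have := hG.2.1
  rcases (inferInstance : (commutator G).Normal).eq_bot_or_eq_top with h | h
  · exfalso
    apply hG.2.2.1
    rw [commutator_eq_bot_iff_center_eq_top] at h
    refine ⟨⟨fun a b => ?_⟩⟩
    have : b ∈ Subgroup.center G := by rw [h]; trivial
    exact (Subgroup.mem_center_iff.mp this) a
  · exact h

variable [Finite G]

/-- a Sylow subgroup of `M` whose normalizer lies in `M` is a Sylow subgroup of `G` -/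
theorem isSylowIn_top_of_normalizer_le {M S : Subgroup G} {p : ℕ} [Fact p.Prime]
    (hS : IsSylowIn p S M) (hN : normalizer (S : Set G) ≤ M) : IsSylowIn p S ⊤ := by
  apply isSylowIn_of_inf_normalizer
  apply hS.of_le (le_inf le_top Subgroup.le_normalizer)
  exact inf_le_right.trans hN

/-- if `M` controls fusion in a Sylow `p`-subgroup `S` of `G` (as in Lemma 10.1(a)) then
`S ≤ M'` -/
theorem sylow_le_commutator (hG : IsMinSimpleOddOrder G) (hF : FusionThm G) {M : Subgroup G}
    (hM : IsCoatom M) {p : ℕ} [Fact p.Prime] (hp : p ∈ sigma M) {S : Subgroup G}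
    (hSM : S ≤ M) (hS : IsSylowIn p S ⊤) : S ≤ ⁅M, M⁆ := by
  have h1 := Subgroup.commutator_inf_eq_focalSubgroup hS.sylowOfTop
  rw [commutator_eq_top' hG, top_inf_eq, hS.coe_sylowOfTop] at h1
  rw [h1, Subgroup.focalSubgroup, Subgroup.closure_le]
  rintro g ⟨hgS, x, hxS, u, rfl⟩
  by_cases hx1 : x = 1
  · subst hx1
    simp [commutatorElement_def]
  have hXp : IsPGroup p ↥(zpowers x) := hS.isPGroup.to_le (by rwa [Subgroup.zpowers_le])
  have hX1 : zpowers x ≠ ⊥ := by
    rwa [Ne, Subgroup.zpowers_eq_bot]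
  have hXM : zpowers x ≤ M := by
    rw [Subgroup.zpowers_le]; exact hSM hxS
  have hconj : u * x * u⁻¹ ∈ S := by
    have h2 : x⁻¹ * ⁅x, u⁆ ∈ S := mul_mem (inv_mem hxS) hgS
    have h3 : x⁻¹ * ⁅x, u⁆ = (u * x * u⁻¹)⁻¹ := by
      rw [commutatorElement_def]; group
    rw [h3] at h2
    exact (inv_mem_iff (H := S)).mp h2
  have hXg : (zpowers x).map (MulAut.conj u).toMonoidHom ≤ M := by
    rw [MonoidHom.map_zpowers, Subgroup.zpowers_le]
    exact hSM hconj
  obtain ⟨m, hm, c, hc, rfl⟩ := (hF M hM p hp (zpowers x) hXp hX1 hXM).1 u hXg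
  have hcx : c * x = x * c := by
    rw [Subgroup.mem_centralizer_iff] at hc
    exact (hc x (Subgroup.mem_zpowers x)).symm
  have h4 : ⁅x, m * c⁆ = ⁅x, m⁆ := by
    rw [commutatorElement_def, commutatorElement_def]
    have : c * x⁻¹ * c⁻¹ = x⁻¹ := by
      have : c * x⁻¹ = x⁻¹ * c := by
        have h5 : x⁻¹ * (c * x) * x⁻¹ = x⁻¹ * (x * c) * x⁻¹ := by rw [hcx]
        simpa [mul_assoc] using h5.symm
      rw [this, mul_assoc, mul_inv_cancel, mul_one]
    calc x * (m * c) * x⁻¹ * (m * c)⁻¹ = x * m * (c * x⁻¹ * c⁻¹) * m⁻¹ := by group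
      _ = x * m * x⁻¹ * m⁻¹ := by rw [this]
  rw [SetLike.mem_coe, h4]
  exact Subgroup.commutator_mem_commutator (hSM hxS) hm

end Cfsg.Agent.Helper23.BG10
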