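import Mathlib
import Cfsg.Agent.Lib.Helper23.BG10C
import Cfsg.Agent.S1451
import Cfsg.Agent.Lib.Helper11.QdInvolve
import Cfsg.Agent.Lib.Helper7.Bender2
import Cfsg.Agent.Lib.Helper10.PiCore

/-!
# Bender–Glauberman section 10, part D (helper23): Theorem 10.2 (the statement of S1405)

With the Uniqueness Theorem and Lemma 10.1(a) (the statements of S1403 and S1404) as hypotheses.
-/

set_option autoImplicit false

namespace Cfsg.Agent.Helper23.BG10

open Cfsg Subgroup
open Cfsg.Agent.Helper14.BGTrans Cfsg.Agent.Helper14.BGUniq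
open Cfsg.Agent.Helper15 (IsSylowIn isSylowIn_map_subtype exists_isSylowIn_ge)

universe u

section general

variable {H : Type u} [Group H] [Finite H]

/-- if `O_π(H) = 1` then no prime of `π` divides the order of a nilpotent normal subgroup -/
theorem not_dvd_card_of_nilpotent_normal {π : Set ℕ} (hπ : piCore π H = ⊥) {q : ℕ}
    [Fact q.Prime] (hq : q ∈ π) (K : Subgroup H) [K.Normal] (hK : Group.IsNilpotent ↥K) :
    ¬ q ∣ Nat.card ↥K := by
  intro h
  have h1 : K ≤ fittingSubgroup H := Cfsg.Agent.Helper7.le_fittingSubgroup K hK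
  have h2 : q ∣ Nat.card ↥(fittingSubgroup H) := h.trans (Subgroup.card_dvd_of_le h1)
  have h3 := Cfsg.Agent.Helper7.pCore_ne_bot_of_dvd_card_fittingSubgroup q h2
  apply h3
  rw [eq_bot_iff, ← hπ]
  apply Cfsg.Agent.Helper10.le_piCore π inferInstance
  intro r hr hrd
  obtain ⟨k, hk⟩ := (Cfsg.Agent.Helper7.pCore_isPGroup (G := H) q).exists_card_eq
  rw [hk] at hrd
  have := (Nat.prime_dvd_prime_iff_eq hr Fact.out).mp (hr.dvd_of_dvd_pow hrd)
  rw [this]; exact hq

theorem pRankLE_of_not_dvd {q k : ℕ} [Fact q.Prime] (h : ¬ q ∣ Nat.card H) : PRankLE q k H := by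
  intro A _ hAe
  have hAp : IsPGroup q ↥A := by
    intro a
    refine ⟨1, ?_⟩
    rw [pow_one]
    exact Subtype.ext (by simpa using hAe a a.2)
  obtain ⟨j, hj⟩ := hAp.exists_card_eq
  have hj0 : j = 0 := by
    by_contra hj0
    apply h
    have : q ∣ Nat.card ↥A := by rw [hj]; exact dvd_pow_self q hj0
    exact this.trans (Subgroup.card_subgroup_dvd_card A)
  rw [hj, hj0, pow_zero]
  exact Nat.one_le_pow _ _ (Fact.out : q.Prime).pos

theorem coprime_card_piCore {π : Set ℕ} {q : ℕ} (hq : q.Prime) (hqπ : q ∉ π) :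
    (Nat.card ↥(piCore π H)).Coprime q := by
  rw [Nat.coprime_comm, Nat.Prime.coprime_iff_not_dvd hq]
  intro h
  exact hqπ (Cfsg.Agent.Helper10.card_piCore π q hq h)

/-- the Fitting subgroup of `H / O_π(H)` has rank at most 2 if `H` has `q`-rank at most 2 for
every prime `q` outside `π` -/
theorem rankLE_fitting_quotient (π : Set ℕ) (hr : ∀ q : ℕ, q.Prime → q ∉ π → PRankLE q 2 H) :
    RankLE 2 ↥(fittingSubgroup (H ⧸ piCore π H)) := by
  intro q hq
  have : Fact q.Prime := ⟨hq⟩
  by_cases hqπ : q ∈ π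
  · apply pRankLE_of_not_dvd
    have : (fittingSubgroup (H ⧸ piCore π H)).Normal :=
      Cfsg.Agent.Helper7.fittingSubgroup_mem.1
    exact not_dvd_card_of_nilpotent_normal (Cfsg.Agent.Helper10.piCore_quotient_eq_bot π) hqπ _
      Cfsg.Agent.Helper7.fittingSubgroup_isNilpotent
  · have h1 : PRankLE q 2 (H ⧸ piCore π H) :=
      Cfsg.Agent.Helper11.QdR.pRankLE_quotient (hr q hq hqπ) (piCore π H) (coprime_card_piCore hq hqπ)
    exact pRankLE_of_injective' (fittingSubgroup (H ⧸ piCore π H)).subtype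
      (Subgroup.subtype_injective _) h1

omit [Finite H] in
theorem map_mk'_commutator (N : Subgroup H) [N.Normal] :
    (commutator H).map (QuotientGroup.mk' N) = commutator (H ⧸ N) := by
  rw [commutator_def, commutator_def, Subgroup.map_commutator, ← MonoidHom.range_eq_map,
    MonoidHom.range_eq_top.mpr (QuotientGroup.mk'_surjective N)]

end general

variable {G : Type u} [Group G] [Finite G]

omit [Finite G] in
theorem odd_card_quotient (hG : IsMinSimpleOddOrder G) (M : Subgroup G) (N : Subgroup ↥M)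
    [N.Normal] : Odd (Nat.card (↥M ⧸ N)) := by
  have h1 : Nat.card (↥M ⧸ N) ∣ Nat.card G :=
    (Subgroup.card_quotient_dvd_card N).trans (Subgroup.card_subgroup_dvd_card M)
  exact Odd.of_dvd_nat hG.1 h1

theorem rankLE_fitting_alpha (M : Subgroup G) :
    RankLE 2 ↥(fittingSubgroup (↥M ⧸ piCore (alpha M) ↥M)) := by
  apply rankLE_fitting_quotient
  intro q hq hqα
  by_contra h
  exact hqα ⟨hq, h⟩

theorem isNilpotent_commutator_quotient (hG : IsMinSimpleOddOrder G) {M : Subgroup G}
    (hM : IsCoatom M) : Group.IsNilpotent ↥(commutator (↥M ⧸ piCore (alpha M) ↥M)) := by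
  have : Group.IsSolvable ↥M := isSolvable_of_ne_top hG hM.1
  exact (Cfsg.Agent.S1451.result (odd_card_quotient hG M _) (Or.inr (rankLE_fitting_alpha M))).1

/-- the Sylow `p`-subgroups of `M`, `p ∈ α(M)`, lie in `O_α(M)` -/
theorem sylow_le_piCore_alpha (hG : IsMinSimpleOddOrder G) (hU : UniqThm G) (hF : FusionThm G)
    {M : Subgroup G} (hM : IsCoatom M) {p : ℕ} [Fact p.Prime] (hp : p ∈ alpha M)
    (P : Sylow p ↥M) : (P : Subgroup ↥M) ≤ piCore (alpha M) ↥M := by
  have hS : IsSylowIn p ((P : Subgroup ↥M).map M.subtype) M := isSylowIn_map_subtype P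
  have hN := normalizer_le_of_sylow_rank hG hU hM hp.2 hS
  have hST := isSylowIn_top_of_normalizer_le hS hN
  have hSc := sylow_le_commutator hG hF hM (alpha_subset_sigma hG hU hM hp) hS.le hST
  rw [← Subgroup.map_subtype_commutator] at hSc
  have hPc : (P : Subgroup ↥M) ≤ commutator ↥M :=
    (Subgroup.map_le_map_iff_of_injective M.subtype_injective).mp hSc
  have h1 : (P : Subgroup ↥M).map (QuotientGroup.mk' (piCore (alpha M) ↥M)) ≤
      commutator (↥M ⧸ piCore (alpha M) ↥M) := by
    rw [← map_mk'_commutator]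
    exact Subgroup.map_mono hPc
  have hnd : ¬ p ∣ Nat.card ↥(commutator (↥M ⧸ piCore (alpha M) ↥M)) :=
    not_dvd_card_of_nilpotent_normal (Cfsg.Agent.Helper10.piCore_quotient_eq_bot _) hp _
      (isNilpotent_commutator_quotient hG hM)
  have h2 : (P : Subgroup ↥M).map (QuotientGroup.mk' (piCore (alpha M) ↥M)) = ⊥ := by
    have hp' : IsPGroup p ↥((P : Subgroup ↥M).map (QuotientGroup.mk' (piCore (alpha M) ↥M))) :=
      P.isPGroup'.map _
    obtain ⟨j, hj⟩ := hp'.exists_card_eq
    have hj0 : j = 0 := by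
      by_contra hj0
      apply hnd
      have : p ∣ Nat.card ↥((P : Subgroup ↥M).map (QuotientGroup.mk' (piCore (alpha M) ↥M))) := by
        rw [hj]; exact dvd_pow_self p hj0
      exact this.trans (Subgroup.card_dvd_of_le h1)
    rw [hj0, pow_zero] at hj
    exact Subgroup.card_eq_one.mp hj
  have h3 := (Subgroup.map_eq_bot_iff _).mp h2
  rwa [QuotientGroup.ker_mk'] at h3

end Cfsg.Agent.Helper23.BG10
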