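import Mathlib
import Cfsg.Agent.Lib.Helper23.BG10D

/-!
# Bender–Glauberman section 10, part E (helper23): Theorem 10.2 (the statement of S1405)

With the Uniqueness Theorem and Lemma 10.1(a) (the statements of S1403 and S1404) as hypotheses.
-/

set_option autoImplicit false

namespace Cfsg.Agent.Helper23.BG10

open Cfsg Subgroup
open Cfsg.Agent.Helper14.BGTrans Cfsg.Agent.Helper14.BGUniq
open Cfsg.Agent.Helper15 (IsSylowIn isSylowIn_map_subtype exists_isSylowIn_ge)

universe u

variable {G : Type u} [Group G] [Finite G]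

theorem not_dvd_index_piCore_alpha (hG : IsMinSimpleOddOrder G) (hU : UniqThm G)
    (hF : FusionThm G) {M : Subgroup G} (hM : IsCoatom M) {p : ℕ} (hpp : p.Prime)
    (hp : p ∈ alpha M) : ¬ p ∣ (piCore (alpha M) ↥M).index := by
  have : Fact p.Prime := ⟨hpp⟩
  obtain ⟨P⟩ : Nonempty (Sylow p ↥M) := inferInstance
  intro h
  exact P.not_dvd_index
    (h.trans (Subgroup.index_dvd_of_le (sylow_le_piCore_alpha hG hU hF hM hp P)))

/-- **BG Theorem 10.2** (the statement of S1405) -/
theorem theorem_10_2 (hG : IsMinSimpleOddOrder G) (hU : UniqThm G) (hF : FusionThm G)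
    (M : Subgroup G) (hM : IsCoatom M) :
    IsPiHallOf (alpha M) (alphaCore M) M ∧ IsPiHall (alpha M) (alphaCore M) ∧
      alphaCore M ≤ sigmaCore M ∧ RankLE 2 (↥M ⧸ piCore (alpha M) ↥M) ∧
      Group.IsNilpotent ↥((commutator ↥M).map (QuotientGroup.mk' (piCore (alpha M) ↥M))) := by
  have hpi : ∀ p : ℕ, p.Prime → p ∣ Nat.card ↥(alphaCore M) → p ∈ alpha M :=
    card_piCoreOf (alpha M) M
  refine ⟨⟨piCoreOf_le _ _, hpi, ?_⟩, ⟨hpi, ?_⟩, ?_, ?_, ?_⟩
  · intro p hpp hp
    have h1 : (alphaCore M).relIndex M = (piCore (alpha M) ↥M).index := by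
      unfold Subgroup.relIndex
      rw [show alphaCore M = piCoreOf (alpha M) M from rfl, piCoreOf_subgroupOf]
    rw [h1]
    exact not_dvd_index_piCore_alpha hG hU hF hM hpp hp
  · intro p hpp hp
    have : Fact p.Prime := ⟨hpp⟩
    obtain ⟨P⟩ : Nonempty (Sylow p ↥M) := inferInstance
    have hS : IsSylowIn p ((P : Subgroup ↥M).map M.subtype) M := isSylowIn_map_subtype P
    have hN := normalizer_le_of_sylow_rank hG hU hM hp.2 hS
    have hST := isSylowIn_top_of_normalizer_le hS hN
    have hle : (P : Subgroup ↥M).map M.subtype ≤ alphaCore M :=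
      Subgroup.map_mono (sylow_le_piCore_alpha hG hU hF hM hp P)
    intro h
    have h2 := hST.sylowOfTop.not_dvd_index
    rw [hST.coe_sylowOfTop] at h2
    exact h2 (h.trans (Subgroup.index_dvd_of_le hle))
  · apply Subgroup.map_mono
    apply sSup_le_sSup
    rintro N ⟨hN, hNp⟩
    exact ⟨hN, fun p hpp hpN => alpha_subset_sigma hG hU hM (hNp p hpp hpN)⟩
  · intro q hq
    have : Fact q.Prime := ⟨hq⟩
    by_cases hqα : q ∈ alpha M
    · apply pRankLE_of_not_dvd
      have h1 : Nat.card (↥M ⧸ piCore (alpha M) ↥M) = (piCore (alpha M) ↥M).index := rfl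
      rw [h1]
      exact not_dvd_index_piCore_alpha hG hU hF hM hq hqα
    · have hr : PRankLE q 2 ↥M := by
        by_contra h
        exact hqα ⟨hq, h⟩
      exact Cfsg.Agent.Helper11.QdR.pRankLE_quotient hr (piCore (alpha M) ↥M)
        (coprime_card_piCore hq hqα)
  · rw [map_mk'_commutator]
    exact isNilpotent_commutator_quotient hG hM

end Cfsg.Agent.Helper23.BG10
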