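import Mathlib
import Cfsg.Agent.Lib.Helper22.CyclicChain
import Cfsg.Agent.Lib.Helper4.CyclicMax

/-!
# Coprime automorphisms of cyclic `p`-groups fixing a non-trivial element
(helper23's shared library)

`mem_centralizer_of_fix_cyclic`: an element `g` normalizing a cyclic `p`-subgroup `P`, with a
`p'`-power centralizing `P`, that centralizes a non-trivial element of `P`, centralizes `P`.
-/

set_option autoImplicit false
set_option linter.unusedSectionVars false
set_option linter.style.haveILetI false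

namespace Cfsg.Agent.Helper23

universe u

section CyclicFix

variable {G : Type u} [Group G]

theorem comm_of_mem_cyclic (P : Subgroup G) (hcyc : IsCyclic P) {a b : G} (ha : a ∈ P)
    (hb : b ∈ P) : a * b = b * a := by
  obtain ⟨r, -, hr⟩ := Cfsg.Agent.Helper4.exists_zpowers_eq_of_isCyclic P hcyc
  rw [← hr] at ha hb
  obtain ⟨i, rfl⟩ := Subgroup.mem_zpowers_iff.1 ha
  obtain ⟨j, rfl⟩ := Subgroup.mem_zpowers_iff.1 hb
  exact (Commute.zpow_zpow_self r i j).eq

/-- in a cyclic subgroup, two subgroups of the same order coincide -/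
theorem subgroup_eq_of_card_eq_of_le_cyclic [Finite G] (W : Subgroup G) (hW : IsCyclic W)
    {A B : Subgroup G} (hA : A ≤ W) (hB : B ≤ W) (h : Nat.card A = Nat.card B) : A = B := by
  haveI : IsCyclic W := hW
  have key : ∀ {A B : Subgroup G}, A ≤ W → B ≤ W → Nat.card A = Nat.card B → A ≤ B := by
    intro A B hA hB h x hx
    have h1 : A.subgroupOf W ≤ B.subgroupOf W := by
      apply Cfsg.Agent.Helper22.le_of_card_dvd_of_isCyclic
      rw [Nat.card_congr (Subgroup.subgroupOfEquivOfLe hA).toEquiv,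
        Nat.card_congr (Subgroup.subgroupOfEquivOfLe hB).toEquiv, h]
    have h2 : (⟨x, hA hx⟩ : W) ∈ A.subgroupOf W := by rw [Subgroup.mem_subgroupOf]; exact hx
    have h3 := h1 h2
    rw [Subgroup.mem_subgroupOf] at h3
    exact h3
  exact le_antisymm (key hA hB h) (key hB hA h.symm)

theorem conj_pow_eq (g y : G) (n : ℕ) : g * y ^ n * g⁻¹ = (g * y * g⁻¹) ^ n := by
  have := map_pow (MulAut.conj g) y n
  simpa [MulAut.conj_apply] using this

theorem conj_zpow_eq (g y : G) (n : ℤ) : g * y ^ n * g⁻¹ = (g * y * g⁻¹) ^ n := by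
  have := map_zpow (MulAut.conj g) y n
  simpa [MulAut.conj_apply] using this

set_option maxHeartbeats 800000 in
/-- **a coprime automorphism of a cyclic `p`-group fixing a non-trivial element is trivial** -/
theorem mem_centralizer_of_fix_cyclic [Finite G] {p : ℕ} [Fact p.Prime] (P : Subgroup G)
    (hcyc : IsCyclic P) (hP : IsPGroup p P) {g : G}
    (hgN : g ∈ Subgroup.normalizer (P : Set G)) {k : ℕ} (hk : Nat.Coprime k p)
    (hgk : g ^ k ∈ Subgroup.centralizer (P : Set G)) {x : G} (hx : x ∈ P) (hx1 : x ≠ 1)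
    (hfix : g * x * g⁻¹ = x) : g ∈ Subgroup.centralizer (P : Set G) := by
  classical
  have hp : p.Prime := Fact.out
  haveI : IsCyclic P := hcyc
  have hcP : ∀ y ∈ P, g * y * g⁻¹ ∈ P := fun y hy => (Subgroup.mem_normalizer_iff.1 hgN y).1 hy
  have hcomm : ∀ a ∈ P, ∀ b ∈ P, a * b = b * a := fun a ha b hb => comm_of_mem_cyclic P hcyc ha hb
  -- elements of order `p` are fixed
  have C1 : ∀ y ∈ P, y ^ p = 1 → g * y * g⁻¹ = y := by
    intro y hy hyp
    set x' : P := ⟨x, hx⟩ with hx'
    set y' : P := ⟨y, hy⟩ with hy'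
    have hx'1 : x' ≠ 1 := fun h => hx1 (congrArg Subtype.val h)
    obtain ⟨j, hj⟩ := (IsPGroup.iff_orderOf.1 hP) x'
    have hj0 : j ≠ 0 := by
      rintro rfl
      rw [pow_zero, orderOf_eq_one_iff] at hj
      exact hx'1 hj
    obtain ⟨j', rfl⟩ := Nat.exists_eq_succ_of_ne_zero hj0
    have hy'p : y' ^ p = 1 := by
      apply Subtype.ext
      rw [Subgroup.coe_pow, Subgroup.coe_one]
      exact hyp
    have hmem : y' ∈ Subgroup.zpowers x' := by
      apply Cfsg.Agent.Helper22.mem_of_pow_card_eq_one_of_isCyclic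
      rw [Nat.card_zpowers, hj, pow_succ', pow_mul, hy'p, one_pow]
    obtain ⟨i, hi⟩ := Subgroup.mem_zpowers_iff.1 hmem
    have hyi : y = x ^ i := by
      have := congrArg Subtype.val hi
      rw [Subgroup.coe_zpow] at this
      exact this.symm
    rw [hyi, conj_zpow_eq, hfix]
  -- induction on the order
  have key : ∀ m : ℕ, ∀ y ∈ P, y ^ p ^ (m + 1) = 1 → g * y * g⁻¹ = y := by
    intro m
    induction m with
    | zero =>
      intro y hy hyp
      rw [zero_add, pow_one] at hyp
      exact C1 y hy hyp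
    | succ m ih =>
      intro y hy hyp
      have hypP : y ^ p ∈ P := P.pow_mem hy p
      have h1 : g * y ^ p * g⁻¹ = y ^ p := by
        apply ih _ hypP
        rw [← pow_mul, ← pow_succ']
        exact hyp
      set z : G := y⁻¹ * (g * y * g⁻¹) with hz
      have hzP : z ∈ P := P.mul_mem (P.inv_mem hy) (hcP y hy)
      have hzp : z ^ p = 1 := by
        have hc : Commute y⁻¹ (g * y * g⁻¹) := hcomm _ (P.inv_mem hy) _ (hcP y hy)
        rw [hz, hc.mul_pow, ← conj_pow_eq, h1, inv_pow, inv_mul_cancel]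
      have hzfix : g * z * g⁻¹ = z := C1 z hzP hzp
      have hgy : g * y * g⁻¹ = y * z := by rw [hz]; group
      have hpow : ∀ j : ℕ, g ^ j * y * (g ^ j)⁻¹ = y * z ^ j := by
        intro j
        induction j with
        | zero => simp
        | succ j ihj =>
          calc g ^ (j + 1) * y * (g ^ (j + 1))⁻¹ = g * (g ^ j * y * (g ^ j)⁻¹) * g⁻¹ := by
                rw [pow_succ']; group
            _ = g * (y * z ^ j) * g⁻¹ := by rw [ihj]
            _ = (g * y * g⁻¹) * (g * z ^ j * g⁻¹) := by group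
            _ = y * z * z ^ j := by rw [conj_pow_eq, hzfix, hgy]
            _ = y * z ^ (j + 1) := by rw [pow_succ', mul_assoc]
      have h2 := hpow k
      have h3 : g ^ k * y * (g ^ k)⁻¹ = y := by
        have := Subgroup.mem_centralizer_iff.1 hgk y hy
        calc g ^ k * y * (g ^ k)⁻¹ = y * g ^ k * (g ^ k)⁻¹ := by rw [this]
          _ = y := by group
      rw [h3] at h2
      have hzk : z ^ k = 1 := by
        have : y * 1 = y * z ^ k := by rw [mul_one]; exact h2
        exact (mul_left_cancel this).symm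
      have hz1 : z = 1 := by
        have h4 : orderOf z ∣ k := orderOf_dvd_of_pow_eq_one hzk
        have h5 : orderOf z ∣ p := orderOf_dvd_of_pow_eq_one hzp
        have h6 : orderOf z ∣ Nat.gcd k p := Nat.dvd_gcd h4 h5
        rw [hk, Nat.dvd_one, orderOf_eq_one_iff] at h6
        exact h6
      rw [hgy, hz1, mul_one]
  rw [Subgroup.mem_centralizer_iff]
  intro y hy
  obtain ⟨n, hn⟩ := (IsPGroup.iff_orderOf.1 hP) ⟨y, hy⟩
  have hyn : y ^ p ^ (n + 1) = 1 := by
    have h1 : orderOf y = p ^ n := by rw [← hn, Subgroup.orderOf_mk]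
    rw [pow_succ, pow_mul, ← h1, pow_orderOf_eq_one, one_pow]
  have h2 := key n y hy hyn
  calc y * g = g * y * g⁻¹ * g := by rw [h2]
    _ = g * y := by group

end CyclicFix

end Cfsg.Agent.Helper23
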