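import Mathlib
import Cfsg.Agent.Lib.Helper23.BG10A
import Cfsg.Agent.Lib.Helper23.CyclicAutFix
import Cfsg.Agent.Lib.Helper19.PGroupBasic

/-!
# Bender–Glauberman section 10, part B (helper23): Lemma 10.6 (the statement of S1409)
-/

set_option autoImplicit false

namespace Cfsg.Agent.Helper23.BG10

open Cfsg Subgroup
open Cfsg.Agent.Helper14.BGTrans Cfsg.Agent.Helper14.BGUniq
open Cfsg.Agent.Helper15 (IsSylowIn isSylowIn_map_subtype exists_isSylowIn_ge
  card_map_conj map_conj_eq_of_mem_normalizer map_conj_mono)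

universe u

variable {G : Type u} [Group G]

/-- the join of two commuting elementary abelian `p`-subgroups is elementary abelian -/
theorem isElementaryAbelian_sup {p : ℕ} {H K : Subgroup G} (hH : IsElementaryAbelian p H)
    (hK : IsElementaryAbelian p K) (hc : K ≤ centralizer (H : Set G)) :
    IsElementaryAbelian p (H ⊔ K) := by
  have hHH : H ≤ centralizer (H : Set G) := by
    have := hH.1
    exact Subgroup.le_centralizer_iff_isMulCommutative.mpr inferInstance
  have hKK : K ≤ centralizer (K : Set G) := by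
    have := hK.1
    exact Subgroup.le_centralizer_iff_isMulCommutative.mpr inferInstance
  have hc' : H ≤ centralizer (K : Set G) := Subgroup.le_centralizer_iff.mp hc
  have h1 : H ⊔ K ≤ centralizer ((H ⊔ K : Subgroup G) : Set G) := by
    apply sup_le
    · rw [Subgroup.le_centralizer_iff]; exact sup_le hHH hc
    · rw [Subgroup.le_centralizer_iff]; exact sup_le hc' hKK
  have hcomm : ∀ a ∈ H ⊔ K, ∀ b ∈ H ⊔ K, a * b = b * a := by
    intro a ha b hb
    have := h1 ha
    rw [Subgroup.mem_centralizer_iff] at this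
    exact (this b hb).symm
  refine ⟨Subgroup.le_centralizer_iff_isMulCommutative.mp h1, ?_⟩
  let T : Subgroup G :=
    { carrier := {g | g ∈ H ⊔ K ∧ g ^ p = 1}
      one_mem' := ⟨one_mem _, one_pow _⟩
      mul_mem' := by
        rintro a b ⟨ha, hap⟩ ⟨hb, hbp⟩
        refine ⟨mul_mem ha hb, ?_⟩
        have : Commute a b := hcomm a ha b hb
        rw [this.mul_pow, hap, hbp, one_mul]
      inv_mem' := by
        rintro a ⟨ha, hap⟩
        exact ⟨inv_mem ha, by rw [inv_pow, hap, inv_one]⟩ }
  have hT : H ⊔ K ≤ T := by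
    apply sup_le
    · intro a ha; exact ⟨le_sup_left (a := H) (b := K) ha, hH.2 a ha⟩
    · intro a ha; exact ⟨le_sup_right (a := H) (b := K) ha, hK.2 a ha⟩
  intro a ha
  exact (hT ha).2

theorem isElementaryAbelian_of_card_eq {p : ℕ} [Fact p.Prime] {X : Subgroup G}
    (hX : Nat.card ↥X = p) : IsElementaryAbelian p X := by
  have : IsCyclic ↥X := isCyclic_of_prime_card hX
  refine ⟨inferInstance, fun a ha => ?_⟩
  have h := pow_card_eq_one' (G := ↥X) (x := ⟨a, ha⟩)
  rw [hX] at h
  exact congrArg Subtype.val h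

theorem isElementaryAbelian_zpowers {p : ℕ} {z : G} (hz : z ^ p = 1) :
    IsElementaryAbelian p (zpowers z) := by
  refine ⟨inferInstance, fun a ha => ?_⟩
  obtain ⟨k, rfl⟩ := Subgroup.mem_zpowers_iff.mp ha
  rw [← zpow_natCast, ← zpow_mul, mul_comm, zpow_mul, zpow_natCast, hz, one_zpow]

/-- a nontrivial subgroup `E` of a `p`-group `S` normalized by `S` contains a nontrivial element
centralized by `S` -/
theorem exists_central_mem [Finite G] {p : ℕ} [Fact p.Prime] {S E : Subgroup G}
    (hS : IsPGroup p ↥S) (hES : E ≤ S) (hn : S ≤ normalizer (E : Set G)) (hE : E ≠ ⊥) :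
    ∃ z ∈ E, z ≠ 1 ∧ ∀ s ∈ S, s * z = z * s := by
  have : (E.subgroupOf S).Normal := (Subgroup.normal_subgroupOf_iff_le_normalizer hES).mpr hn
  have hne : E.subgroupOf S ≠ ⊥ := by
    intro h
    apply hE
    rw [eq_bot_iff]
    intro x hx
    have : (⟨x, hES hx⟩ : ↥S) ∈ E.subgroupOf S := by rw [Subgroup.mem_subgroupOf]; exact hx
    rw [h, Subgroup.mem_bot] at this
    rw [Subgroup.mem_bot]
    exact congrArg Subtype.val this
  have h1 := Cfsg.Agent.Helper19.normal_inf_center_ne_bot hS (E.subgroupOf S) hne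
  obtain ⟨b, hb, hb1⟩ := exists_mem_ne_one h1
  refine ⟨(b : G), Subgroup.mem_subgroupOf.mp hb.1, fun h => hb1 (Subtype.ext h), ?_⟩
  intro s hs
  have := Subgroup.mem_center_iff.mp hb.2 ⟨s, hs⟩
  exact congrArg Subtype.val this

variable [Finite G]

/-- BG Lemma 10.6 (the statement of S1409), from the Uniqueness Theorem -/
theorem lemma_10_6 (hG : IsMinSimpleOddOrder G) (hU : UniqThm G) (M : Subgroup G)
    (hM : IsCoatom M) (p : ℕ) [Fact p.Prime] (hp : p ∉ sigma M) (X : Subgroup G)
    (hX : Nat.card ↥X = p) (hNX : normalizer (X : Set G) ≤ M) :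
    (PRankLE p 2 ↥M ∧ ¬ PRankLE p 1 ↥M) ∧ ¬ IsIdealPrime p G ∧
      ∃ A : Subgroup G, IsElementaryAbelian p A ∧ Nat.card ↥A = p ^ 2 ∧ X ≤ A := by
  have hpp : p.Prime := Fact.out
  have hXM : X ≤ M := Subgroup.le_normalizer.trans hNX
  have hXp : IsPGroup p ↥X := IsPGroup.of_card (n := 1) (by rw [hX, pow_one])
  have hXe : IsElementaryAbelian p X := isElementaryAbelian_of_card_eq hX
  obtain ⟨S, hXS, hS⟩ := exists_isSylowIn_ge hXp hXM
  have hpM : p ∣ Nat.card ↥M := by
    rw [← hX]; exact Subgroup.card_dvd_of_le hXM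
  have hpG : p ∣ Nat.card G := hpM.trans (Subgroup.card_subgroup_dvd_card M)
  have hp2 : p ≠ 2 := prime_ne_two_of_dvd hG hpG
  have hNS : ¬ normalizer (S : Set G) ≤ M := by
    intro h
    apply hp
    refine ⟨hpp, hpM, hS.toSylow, ?_⟩
    rw [hS.map_toSylow]
    exact h
  have hr2 : PRankLE p 2 ↥M := by
    by_contra h
    exact hNS (normalizer_le_of_sylow_rank hG hU hM h hS)
  have hcyc : ¬ IsCyclic ↥S := by
    intro hc
    apply hNS
    intro g hg
    apply hNX
    apply Cfsg.Agent.Helper15.mem_normalizer_of_map_conj_eq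
    apply Cfsg.Agent.Helper23.subgroup_eq_of_card_eq_of_le_cyclic S hc _ hXS
    · exact card_map_conj X g
    · have := map_conj_mono hXS g
      rwa [map_conj_eq_of_mem_normalizer hg] at this
  obtain ⟨E, hES, hSE, hEe, hEc⟩ := exists_normal_elemAb_sq hp2 hS.isPGroup hcyc
  have hr1 : ¬ PRankLE p 1 ↥M := by
    apply not_pRankLE_of_le (hES.trans hS.le) hEe
    rw [hEc]
    exact Nat.pow_lt_pow_right hpp.one_lt (by norm_num)
  refine ⟨⟨hr2, hr1⟩, (lemma_10_5 hG hU M hM p hr2 hr1).1, ?_⟩
  by_cases hXE : X ≤ E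
  · exact ⟨E, hEe, hEc, hXE⟩
  · have hE1 : E ≠ ⊥ := by
      intro h
      rw [h, Subgroup.card_bot] at hEc
      have := Nat.one_lt_pow (n := 2) (by norm_num) hpp.one_lt
      omega
    obtain ⟨z, hzE, hz1, hzc⟩ := exists_central_mem hS.isPGroup hES hSE hE1
    have hzX : z ∉ X := by
      intro hz
      apply hXE
      have h1 : zpowers z = X := by
        apply Subgroup.eq_of_le_of_card_ge (by rwa [Subgroup.zpowers_le])
        rw [hX, Nat.card_zpowers]
        have h2 : orderOf z ∣ p := by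
          apply orderOf_dvd_of_pow_eq_one
          exact hEe.2 z hzE
        rcases (Nat.dvd_prime hpp).mp h2 with h3 | h3
        · exact absurd (orderOf_eq_one_iff.mp h3) hz1
        · exact h3.ge
      rw [← h1, Subgroup.zpowers_le]
      exact hzE
    have hZe : IsElementaryAbelian p (zpowers z) := isElementaryAbelian_zpowers (hEe.2 z hzE)
    have hZc : zpowers z ≤ centralizer (X : Set G) := by
      rw [Subgroup.zpowers_le, Subgroup.mem_centralizer_iff]
      intro x hx
      exact hzc x (hXS hx)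
    have hAe : IsElementaryAbelian p (X ⊔ zpowers z) := isElementaryAbelian_sup hXe hZe hZc
    have hAM : X ⊔ zpowers z ≤ M := by
      apply sup_le hXM
      rw [Subgroup.zpowers_le]
      exact hS.le (hES hzE)
    refine ⟨X ⊔ zpowers z, hAe, ?_, le_sup_left⟩
    obtain ⟨k, hk⟩ := (isPGroup_of_isElementaryAbelian hAe).exists_card_eq
    have h1 : Nat.card ↥(X ⊔ zpowers z) ≤ p ^ 2 := by
      by_contra h
      exact not_pRankLE_of_le hAM hAe (not_le.mp h) hr2
    have h2 : p < Nat.card ↥(X ⊔ zpowers z) := by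
      rw [← hX]
      by_contra hle
      have h3 : X = X ⊔ zpowers z := Subgroup.eq_of_le_of_card_ge le_sup_left (not_lt.mp hle)
      apply hzX
      rw [h3]
      exact le_sup_right (a := X) (Subgroup.mem_zpowers z)
    rw [hk] at h1 h2 ⊢
    have h4 : 1 < k := by
      have : p ^ 1 < p ^ k := by rwa [pow_one]
      exact (Nat.pow_lt_pow_iff_right hpp.one_lt).mp this
    have h5 : k ≤ 2 := (Nat.pow_le_pow_iff_right hpp.one_lt).mp h1
    have : k = 2 := by omega
    rw [this]

end Cfsg.Agent.Helper23.BG10
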