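import Mathlib
import Cfsg.Prelude.Def_Blocks
import Cfsg.Agent.Lib.Helper24.CharLinear
import Cfsg.Agent.Lib.Helper16.ITODefs
import Cfsg.Agent.Lib.Helper18.GaloisConj

/-!
# S4705 (Brauer: a faithful irreducible character of degree `p - 2`): definitions (helper23)

Paper proof: `plans/S4705_proof.md`.  Skeleton with all piece statements: `plans/S4705_Skel.lean.txt`.
-/

set_option autoImplicit false

namespace Cfsg.Agent.Helper23.B2

open scoped ComplexConjugate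
open Cfsg Cfsg.Agent.Helper24

universe u

variable {G : Type u} [Group G] [Fintype G]

/-- `χ` lies over the central character of `ζ`: `χ(z)/χ(1) = ζ(z)/ζ(1)` for central `z`. -/
def Over (ζ χ : G → ℂ) : Prop := ∀ z ∈ Subgroup.center G, χ z * ζ 1 = ζ z * χ 1

/-- the symmetric square of a class function (the alternating square is `Helper16.ITO.lam2`). -/
noncomputable def sym2 (ζ : G → ℂ) : G → ℂ := fun g => (ζ g ^ 2 + ζ (g * g)) / 2

/-- the Galois conjugate `χ^(k)`, `g ↦ χ (g ^ k)`, of an irreducible character (`k` prime to `|G|`). -/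
noncomputable def gal (χ : IrrCharacter G) {k : ℕ} (hk : Nat.Coprime (Nat.card G) k) :
    IrrCharacter G :=
  ⟨fun g => (χ : G → ℂ) (g ^ k), Cfsg.Agent.Helper18.isIrrCharacter_comp_pow χ.2 hk⟩

/-- The CORE hypotheses (O1)-(O4) of `plans/S4705_proof.md`. -/
structure Core (p : ℕ) (P : Sylow p G) (ζ : IrrCharacter G) : Prop where
  hp : 5 < p
  cardP : Nat.card (P : Subgroup G) = p
  deg : (ζ : G → ℂ) 1 = (p : ℂ) - 2
  cen : ∀ g : G, ‖(ζ : G → ℂ) g‖ = (p : ℝ) - 2 → g ∈ Subgroup.center G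
  nn : ¬ (P : Subgroup G).Normal
  two : ∀ z ∈ Subgroup.center G, (∃ k : ℕ, orderOf z = 2 ^ k) → (ζ : G → ℂ) z = (ζ : G → ℂ) 1

/-- The local structure and the block of `ζ` (Theorem A'' of the paper proof). -/
structure BData (p : ℕ) (P : Sylow p G) (ζ : IrrCharacter G) where
  /-- `C_G(P) = P Z(G)` -/
  cent : ∀ c ∈ Subgroup.centralizer ((P : Subgroup G) : Set G),
    ∃ a ∈ (P : Subgroup G), ∃ z ∈ Subgroup.center G, c = a * z
  /-- `|N_G(P) : C_G(P)| = 2` -/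
  relIndex : (Subgroup.centralizer ((P : Subgroup G) : Set G)).relIndex
    (Subgroup.normalizer ((P : Subgroup G) : Set G)) = 2
  /-- `ζ|_P = ρ - ψ - conj ψ` -/
  ψ : IrrCharacter ↥(P : Subgroup G)
  ψ_ne : ψ ≠ principalChar ↥(P : Subgroup G)
  valP : ∀ a : ↥(P : Subgroup G), a ≠ 1 →
    (ζ : G → ℂ) (a : G) = -((ψ : ↥(P : Subgroup G) → ℂ) a + conj ((ψ : ↥(P : Subgroup G) → ℂ) a))
  /-- the exceptional characters of the block of `ζ` -/
  Y : Finset (IrrCharacter G)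
  mem : ζ ∈ Y
  cardY : 2 * Y.card = p - 1
  regY : ∀ η ∈ Y, ∀ g : G, ¬ p ∣ orderOf g → (η : G → ℂ) g = (ζ : G → ℂ) g
  /-- irreducible characters over the central character of `ζ` outside `Y` are constant on `P ∖ 1` -/
  valD : ∀ χ : IrrCharacter G, Over (ζ : G → ℂ) (χ : G → ℂ) → χ ∉ Y →
    ∃ c : ℂ, ∀ a ∈ (P : Subgroup G), a ≠ 1 → (χ : G → ℂ) a = c
  sq_rel : ∀ η ∈ Y, ∀ a ∈ (P : Subgroup G), a ≠ 1 →
    (η : G → ℂ) a ^ 2 = 2 - (η : G → ℂ) (a * a)
  sumY : ∀ a ∈ (P : Subgroup G), a ≠ 1 → ∑ η ∈ Y, (η : G → ℂ) a = 1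
  indep : ∀ (c : IrrCharacter G → ℂ) (c₀ : ℂ),
    (∀ a ∈ (P : Subgroup G), a ≠ 1 → ∑ η ∈ Y, c η * (η : G → ℂ) a = c₀) → ∀ η ∈ Y, c η = c₀

/-- The properties of the exponent `r` (`r ≡ 2` modulo the odd `p'`-part of `|G|`, `r ≡ 1` modulo `p` and
modulo the `2`-part). -/
structure IsR (p : ℕ) (P : Sylow p G) (r : ℕ) : Prop where
  cop : Nat.Coprime (Nat.card G) r
  onP : ∀ a ∈ (P : Subgroup G), a ^ r = a
  onTwo : ∀ x : G, (∃ k : ℕ, orderOf x = 2 ^ k) → x ^ r = x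
  onOdd : ∀ h : G, Odd (orderOf h) → ¬ p ∣ orderOf h → h ^ r = h * h

end Cfsg.Agent.Helper23.B2
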