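import Mathlib
import Cfsg.Agent.Lib.Helper23.BG10B

/-!
# Bender–Glauberman section 10, part F (helper23): Lemma 10.4 (the statement of S1407)

With the Uniqueness Theorem and Lemma 10.3 (the statements of S1403 and S1406) as hypotheses.
-/

set_option autoImplicit false

namespace Cfsg.Agent.Helper23.BG10

open Cfsg Subgroup
open Cfsg.Agent.Helper14.BGTrans Cfsg.Agent.Helper14.BGUniq
open Cfsg.Agent.Helper15 (IsSylowIn isSylowIn_map_subtype exists_isSylowIn_ge
  card_map_conj map_conj_eq_of_mem_normalizer map_conj_mono)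

universe u

variable {G : Type u} [Group G]

/-- BG Lemma 10.3 (the statement of S1406) for the group `G` -/
def Lemma103 (G : Type u) [Group G] : Prop :=
  ∀ M : Subgroup G, IsCoatom M → ∀ X : Subgroup G, X ≤ M →
    (∀ p : ℕ, p.Prime → p ∣ Nat.card ↥X → p ∉ alpha M) →
    ¬ RankLE 1 ↥(alphaCore M ⊓ centralizer (X : Set G)) →
      InUniqueMaximal (M ⊓ centralizer (X : Set G))

theorem centralizer_zpowers' (x : G) :
    centralizer ((zpowers x : Subgroup G) : Set G) = centralizer ({x} : Set G) := by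
  rw [Subgroup.zpowers_eq_closure, Subgroup.centralizer_closure]

/-- membership in the image in `G` of the centre of a subgroup `P` of `M` -/
theorem mem_map_center_iff {M : Subgroup G} (P : Subgroup ↥M) (y : G) :
    y ∈ ((Subgroup.center ↥P).map P.subtype).map M.subtype ↔
      y ∈ P.map M.subtype ∧ ∀ s ∈ P.map M.subtype, s * y = y * s := by
  constructor
  · rintro ⟨_, ⟨z, hz, rfl⟩, rfl⟩
    refine ⟨⟨(z : ↥M), z.2, rfl⟩, ?_⟩
    rintro _ ⟨s, hs, rfl⟩
    have := Subgroup.mem_center_iff.mp hz ⟨s, hs⟩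
    have h2 : (s : ↥M) * (z : ↥M) = (z : ↥M) * (s : ↥M) := congrArg Subtype.val this
    exact congrArg Subtype.val h2
  · rintro ⟨⟨y', hy', rfl⟩, hc⟩
    refine ⟨y', ⟨⟨y', hy'⟩, ?_, rfl⟩, rfl⟩
    refine Subgroup.mem_center_iff.mpr ?_
    intro s
    apply Subtype.ext
    apply Subtype.ext
    exact hc _ ⟨(s : ↥M), s.2, rfl⟩

variable [Finite G]

/-- a subgroup of rank at most 1 of a group of odd order is a Z-group -/
theorem isZGroup_of_rankLE_one (hodd : Odd (Nat.card G)) {K : Subgroup G} (hr : RankLE 1 ↥K) :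
    IsZGroup ↥K := by
  refine ⟨fun q hq Q => ?_⟩
  have : Fact q.Prime := ⟨hq⟩
  have hQp : IsPGroup q ↥((Q : Subgroup ↥K).map K.subtype) := Q.isPGroup'.map _
  have hiso : ↥(Q : Subgroup ↥K) ≃* ↥((Q : Subgroup ↥K).map K.subtype) :=
    (Q : Subgroup ↥K).equivMapOfInjective K.subtype K.subtype_injective
  by_cases hq2 : q = 2
  · subst hq2
    obtain ⟨k, hk⟩ := Q.isPGroup'.exists_card_eq
    have hk0 : k = 0 := by
      by_contra hk0
      have h1 : 2 ∣ Nat.card ↥(Q : Subgroup ↥K) := by rw [hk]; exact dvd_pow_self 2 hk0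
      have h2 : 2 ∣ Nat.card G :=
        h1.trans ((Subgroup.card_subgroup_dvd_card _).trans (Subgroup.card_subgroup_dvd_card K))
      rw [Nat.odd_iff] at hodd
      omega
    rw [hk0, pow_zero] at hk
    have : Subsingleton ↥(Q : Subgroup ↥K) := (Nat.card_eq_one_iff_unique.mp hk).1
    exact isCyclic_of_subsingleton
  · by_contra hnc
    have hnc' : ¬ IsCyclic ↥((Q : Subgroup ↥K).map K.subtype) := by
      intro h
      exact hnc (isCyclic_of_surjective hiso.symm hiso.symm.surjective)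
    obtain ⟨E, hEQ, -, hEe, hEc⟩ := exists_normal_elemAb_sq hq2 hQp hnc'
    apply not_pRankLE_of_le (hEQ.trans (Subgroup.map_subtype_le _)) hEe _ (hr q hq)
    rw [hEc]
    exact Nat.pow_lt_pow_right hq.one_lt (by norm_num)

/-- if `C_G(x)` is not a uniqueness subgroup over `M`, then `C_{M_α}(x)` is a Z-group -/
theorem isZGroup_of_not_uniq (hG : IsMinSimpleOddOrder G) (hU : UniqThm G) (h103 : Lemma103 G)
    {M : Subgroup G} (hM : IsCoatom M) {p : ℕ} [Fact p.Prime] (hp : p ∉ sigma M) {x : G}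
    (hxM : x ∈ M) (hx : orderOf x = p)
    (hnu : ¬ (centralizer ({x} : Set G) ≤ M ∧
      ∀ L : Subgroup G, IsCoatom L → centralizer ({x} : Set G) ≤ L → L = M)) :
    IsZGroup ↥(alphaCore M ⊓ centralizer ({x} : Set G)) := by
  have hpp : p.Prime := Fact.out
  apply isZGroup_of_rankLE_one hG.1
  by_contra hr
  have hx1 : x ≠ 1 := by
    rintro rfl
    rw [orderOf_one] at hx
    exact hpp.one_lt.ne hx
  have hXM : zpowers x ≤ M := by rwa [Subgroup.zpowers_le]
  have hXα : ∀ q : ℕ, q.Prime → q ∣ Nat.card ↥(zpowers x) → q ∉ alpha M := by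
    intro q hq hqd hqα
    rw [Nat.card_zpowers, hx] at hqd
    have : q = p := (Nat.prime_dvd_prime_iff_eq hq hpp).mp hqd
    subst this
    exact hp (alpha_subset_sigma hG hU hM hqα)
  have h1 := h103 M hM (zpowers x) hXM hXα (by rwa [centralizer_zpowers'])
  rw [centralizer_zpowers'] at h1
  obtain ⟨L, ⟨hL, hLle⟩, huniq⟩ := h1
  have hLM : M = L := huniq M ⟨hM, inf_le_left⟩
  apply hnu
  refine ⟨?_, fun L' hL' hle => (huniq L' ⟨hL', inf_le_right.trans hle⟩).trans hLM.symm⟩
  exact le_of_inUniqueMaximal (centralizer_singleton_ne_top hG hx1) inf_le_right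
    (fun H hH => (huniq H hH).trans hLM.symm)

theorem normalizer_le_of_isCoatom (hG : IsMinSimpleOddOrder G) {M : Subgroup G}
    (hM : IsCoatom M) : normalizer (M : Set G) ≤ M := by
  apply normalizer_le_of_inUniqueMaximal hG hM le_rfl
  rintro H ⟨hH, hMH⟩
  by_contra hne
  exact hH.1 (hM.2 H (lt_of_le_of_ne hMH (Ne.symm hne)))

/-- **BG Lemma 10.4** (the statement of S1407) -/
theorem lemma_10_4 (hG : IsMinSimpleOddOrder G) (hU : UniqThm G) (h103 : Lemma103 G)
    (M : Subgroup G) (hM : IsCoatom M) (p : ℕ) [Fact p.Prime] (hpM : p ∣ Nat.card ↥M)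
    (hp : p ∉ sigma M) (P : Sylow p ↥M) :
    ∃ x : G, x ∈ ((Subgroup.center ↥(P : Subgroup ↥M)).map (P : Subgroup ↥M).subtype).map
        M.subtype ∧ orderOf x = p ∧
      IsZGroup ↥(alphaCore M ⊓ centralizer ({x} : Set G)) ∧
      ¬ (centralizer ({x} : Set G) ≤ M ∧
        ∀ L : Subgroup G, IsCoatom L → centralizer ({x} : Set G) ≤ L → L = M) := by
  have hpp : p.Prime := Fact.out
  -- an element of order `p` in the centre of `P`
  have hPnt : Nontrivial ↥(P : Subgroup ↥M) := by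
    rw [← Finite.one_lt_card_iff_nontrivial, P.card_eq_multiplicity]
    apply Nat.one_lt_pow _ hpp.one_lt
    have : 0 < (Nat.card ↥M).factorization p :=
      hpp.factorization_pos_of_dvd Nat.card_pos.ne' hpM
    omega
  have hcnt : Nontrivial ↥(Subgroup.center ↥(P : Subgroup ↥M)) :=
    IsPGroup.center_nontrivial P.isPGroup'
  have hcp : IsPGroup p ↥(Subgroup.center ↥(P : Subgroup ↥M)) := P.isPGroup'.to_subgroup _
  obtain ⟨k, hk0, hk⟩ := hcp.nontrivial_iff_card.mp hcnt
  have hdvd : p ∣ Nat.card ↥(Subgroup.center ↥(P : Subgroup ↥M)) := by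
    rw [hk]; exact dvd_pow_self p (ne_of_gt hk0)
  obtain ⟨z, hz⟩ := exists_prime_orderOf_dvd_card' (G := ↥(Subgroup.center ↥(P : Subgroup ↥M))) p hdvd
  have hx0 : (((z : ↥(P : Subgroup ↥M)) : ↥M) : G) ∈
      ((Subgroup.center ↥(P : Subgroup ↥M)).map (P : Subgroup ↥M).subtype).map M.subtype :=
    ⟨_, ⟨(z : ↥(P : Subgroup ↥M)), z.2, rfl⟩, rfl⟩
  have hx0o : orderOf (((z : ↥(P : Subgroup ↥M)) : ↥M) : G) = p := by
    rw [Subgroup.orderOf_coe, Subgroup.orderOf_coe, Subgroup.orderOf_coe, hz]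
  generalize (((z : ↥(P : Subgroup ↥M)) : ↥M) : G) = x0 at hx0 hx0o
  -- some such element has a centralizer that is not a uniqueness subgroup over `M`
  have hex : ∃ x : G, x ∈ ((Subgroup.center ↥(P : Subgroup ↥M)).map
      (P : Subgroup ↥M).subtype).map M.subtype ∧ orderOf x = p ∧
      ¬ (centralizer ({x} : Set G) ≤ M ∧
        ∀ L : Subgroup G, IsCoatom L → centralizer ({x} : Set G) ≤ L → L = M) := by
    by_contra hcon
    push Not at hcon
    apply hp
    refine ⟨hpp, hpM, P, ?_⟩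
    intro g hg
    apply normalizer_le_of_isCoatom hG hM
    apply Cfsg.Agent.Helper15.mem_normalizer_of_map_conj_eq
    -- the conjugate of the chosen element
    have hx0' := (mem_map_center_iff (P : Subgroup ↥M) _).mp hx0
    have hginv : g⁻¹ ∈ normalizer (((P : Subgroup ↥M).map M.subtype : Subgroup G) : Set G) :=
      inv_mem hg
    have hy : g * x0 * g⁻¹ ∈
        ((Subgroup.center ↥(P : Subgroup ↥M)).map (P : Subgroup ↥M).subtype).map M.subtype := by
      rw [mem_map_center_iff]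
      refine ⟨(Subgroup.mem_normalizer_iff.mp hg _).mp hx0'.1, ?_⟩
      intro s hs
      have hs' : g⁻¹ * s * g⁻¹⁻¹ ∈ (P : Subgroup ↥M).map M.subtype :=
        (Subgroup.mem_normalizer_iff.mp hginv _).mp hs
      have h3 := hx0'.2 _ hs'
      rw [inv_inv] at h3
      calc s * (g * x0 * g⁻¹) = g * ((g⁻¹ * s * g) * x0) * g⁻¹ := by group
        _ = g * (x0 * (g⁻¹ * s * g)) * g⁻¹ := by rw [h3]
        _ = g * x0 * g⁻¹ * s := by group
    have hyo : orderOf (g * x0 * g⁻¹) = p := by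
      have := orderOf_injective (MulAut.conj g).toMonoidHom (MulAut.conj g).injective x0
      rw [← hx0o, ← this]
      simp [MulAut.conj_apply]
    have h1 := hcon _ hx0 hx0o
    have h2 := hcon _ hy hyo
    apply h2.2 _ (isCoatom_map_conj hM g)
    intro c hc
    rw [Cfsg.Agent.Helper15.mem_map_conj_iff]
    apply h1.1
    rw [Subgroup.mem_centralizer_singleton_iff] at hc ⊢
    have : g⁻¹ * (c * (g * x0 * g⁻¹)) * g = g⁻¹ * ((g * x0 * g⁻¹) * c) * g := by rw [hc]
    calc g⁻¹ * c * g * x0 = g⁻¹ * (c * (g * x0 * g⁻¹)) * g := by group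
      _ = g⁻¹ * ((g * x0 * g⁻¹) * c) * g := this
      _ = x0 * (g⁻¹ * c * g) := by group
  obtain ⟨x, hx, hxo, hnu⟩ := hex
  have hxM : x ∈ M := by
    have := ((mem_map_center_iff (P : Subgroup ↥M) x).mp hx).1
    exact Subgroup.map_subtype_le _ this
  exact ⟨x, hx, hxo, isZGroup_of_not_uniq hG hU h103 hM hp hxM hxo hnu, hnu⟩

end Cfsg.Agent.Helper23.BG10
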