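import Mathlib
import Cfsg.Agent.Lib.Helper23.BG10E
import Cfsg.Agent.Lib.Helper23.BG10B
import Cfsg.Agent.Lib.Helper10.OmegaLemma
import Cfsg.Agent.S0025
import Cfsg.Agent.S0028

/-!
# Bender–Glauberman section 10, part H (helper23): Lemma 10.3 (the statement of S1406)

With the Uniqueness Theorem and Lemma 10.1(a) (the statements of S1403 and S1404) as hypotheses.
-/

set_option autoImplicit false

namespace Cfsg.Agent.Helper23.BG10

open Cfsg Subgroup
open Cfsg.Agent.Helper14.BGTrans Cfsg.Agent.Helper14.BGUniq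
open Cfsg.Agent.Helper15 (IsSylowIn isSylowIn_map_subtype exists_isSylowIn_ge)

universe u

variable {G : Type u} [Group G] [Finite G]

/-- a Sylow `p`-subgroup of `M` of rank at least 3 is a uniqueness subgroup -/
theorem inUniqueMaximal_of_sylow_rank (hG : IsMinSimpleOddOrder G) (hU : UniqThm G)
    {M : Subgroup G} {p : ℕ} [Fact p.Prime] (hr : ¬ PRankLE p 2 ↥M)
    {S : Subgroup G} (hS : IsSylowIn p S M) : InUniqueMaximal S := by
  have hp : p.Prime := Fact.out
  obtain ⟨E, hEM, hEe, hEc⟩ := exists_elemAb_of_not_pRankLE hr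
  obtain ⟨T, hET, hT⟩ := exists_isSylowIn_ge (isPGroup_of_isElementaryAbelian hEe) hEM
  have hTU : InUniqueMaximal T := by
    apply hU T (ne_top_of_isPGroup hG hT.isPGroup)
    · apply not_rankLE_of_lt hET hEe
      exact lt_trans (Nat.pow_lt_pow_right hp.one_lt (by norm_num)) hEc
    · exact Or.inl (not_rankLE_of_lt hET hEe hEc)
  obtain ⟨m, hm, hmT⟩ := hT.exists_conj hS
  rw [← hmT]
  exact inUniqueMaximal_map_conj hTU m

/-- a Sylow `p`-subgroup of `M_α` is a Sylow `p`-subgroup of `M`, for `p ∈ α(M)` -/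
theorem isSylowIn_of_alphaCore (hG : IsMinSimpleOddOrder G) (hU : UniqThm G) (hF : FusionThm G)
    {M : Subgroup G} (hM : IsCoatom M) {p : ℕ} [Fact p.Prime] (hp : p ∈ alpha M)
    {S : Subgroup G} (hS : IsSylowIn p S (alphaCore M)) : IsSylowIn p S M := by
  have hKM : alphaCore M ≤ M := piCoreOf_le _ _
  obtain ⟨T, hST, hT⟩ := exists_isSylowIn_ge hS.isPGroup (hS.le.trans hKM)
  have h1 := sylow_le_piCore_alpha hG hU hF hM hp hT.toSylow
  have h2 : T ≤ alphaCore M := by
    have := Subgroup.map_mono (f := M.subtype) h1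
    rwa [hT.map_toSylow] at this
  have h3 : T = S := hS.eq_of_le hT.isPGroup hST h2
  rw [← h3]
  exact hT

/-- **BG Lemma 10.3** (the statement of S1406) -/
theorem lemma_10_3 (hG : IsMinSimpleOddOrder G) (hU : UniqThm G) (hF : FusionThm G)
    (M : Subgroup G) (hM : IsCoatom M) (X : Subgroup G) (hXM : X ≤ M)
    (hXα : ∀ p : ℕ, p.Prime → p ∣ Nat.card ↥X → p ∉ alpha M)
    (hr : ¬ RankLE 1 ↥(alphaCore M ⊓ centralizer (X : Set G))) :
    InUniqueMaximal (M ⊓ centralizer (X : Set G)) := by
  obtain ⟨p, hpp, A, hAle, hAe, hAc⟩ := exists_elemAb_of_not_rankLE hr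
  rw [pow_one] at hAc
  have : Fact p.Prime := ⟨hpp⟩
  have hAK : A ≤ alphaCore M := hAle.trans inf_le_left
  have hAX : A ≤ centralizer (X : Set G) := hAle.trans inf_le_right
  have hXA : X ≤ centralizer (A : Set G) := Subgroup.le_centralizer_iff.mp hAX
  have hKM : alphaCore M ≤ M := piCoreOf_le _ _
  have hAp : IsPGroup p ↥A := isPGroup_of_isElementaryAbelian hAe
  -- `p ∈ α(M)`
  have hpA : p ∣ Nat.card ↥A := by
    obtain ⟨k, hk⟩ := hAp.exists_card_eq
    have hk0 : k ≠ 0 := by
      rintro rfl
      rw [pow_zero] at hk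
      have := hpp.one_lt
      omega
    rw [hk]; exact dvd_pow_self p hk0
  have hpα : p ∈ alpha M :=
    card_piCoreOf (alpha M) M p hpp (hpA.trans (Subgroup.card_dvd_of_le hAK))
  have hpG : p ∣ Nat.card G := hpA.trans (Subgroup.card_subgroup_dvd_card A)
  have hp2 : p ≠ 2 := prime_ne_two_of_dvd hG hpG
  -- coprimality
  have hcop : (Nat.card ↥X).Coprime (Nat.card ↥(alphaCore M)) := by
    apply Nat.Coprime.symm
    apply Nat.coprime_of_dvd
    intro q hq hqK hqX
    exact hXα q hq hqX (card_piCoreOf (alpha M) M q hq hqK)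
  have hcopp : (Nat.card ↥X).Coprime p := by
    rw [Nat.coprime_comm, Nat.Prime.coprime_iff_not_dvd hpp]
    intro h
    exact hXα p hpp h hpα
  have hXK : X ≤ normalizer ((alphaCore M : Subgroup G) : Set G) :=
    hXM.trans (le_normalizer_piCoreOf _ _)
  have hsolvM : Group.IsSolvable ↥M := isSolvable_of_ne_top hG hM.1
  have hsolvX : Group.IsSolvable ↥X :=
    Group.isSolvable_of_isSolvable_injective (Subgroup.inclusion_injective hXM)
  -- an `X`-invariant Sylow `p`-subgroup of `M_α` containing `A`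
  obtain ⟨P, hAP, hXP⟩ := Cfsg.Agent.S0025.result X (alphaCore M) hXK hcop (Or.inl hsolvX) p A hAK
    hAp (hXA.trans (Subgroup.centralizer_le_normalizer _))
  have hPS : IsSylowIn p ((P : Subgroup ↥(alphaCore M)).map (alphaCore M).subtype) M :=
    isSylowIn_of_alphaCore hG hU hF hM hpα (isSylowIn_map_subtype P)
  generalize (P : Subgroup ↥(alphaCore M)).map (alphaCore M).subtype = P' at hAP hXP hPS
  have hPU : InUniqueMaximal P' := inUniqueMaximal_of_sylow_rank hG hU hpα.2 hPS
  by_cases hcase : ∃ B : Subgroup G, IsElementaryAbelian p B ∧ A ≤ B ∧ p ^ 2 < Nat.card ↥B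
  · -- `A` is a uniqueness subgroup
    obtain ⟨B, hBe, hAB, hBc⟩ := hcase
    have hBC : B ≤ centralizer (A : Set G) :=
      (le_centralizer_self_of_isElementaryAbelian hBe).trans (Subgroup.centralizer_le hAB)
    have hAU : InUniqueMaximal A := by
      apply hU A (ne_top_of_isPGroup hG hAp)
      · apply not_rankLE_of_lt le_rfl hAe
        rw [pow_one]; exact hAc
      · exact Or.inr (not_rankLE_of_lt hBC hBe hBc)
    exact inUniqueMaximal_of_le hM inf_le_left (le_inf (hAK.trans hKM) hAX) hAU
  · -- `A` is a maximal elementary abelian subgroup: `X` centralizes `P'`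
    push Not at hcase
    have hAc2 : Nat.card ↥A = p ^ 2 := by
      obtain ⟨k, hk⟩ := hAp.exists_card_eq
      have h1 := hcase A hAe le_rfl
      rw [hk] at hAc h1 ⊢
      have h4 : 1 < k := by
        have : p ^ 1 < p ^ k := by rwa [pow_one]
        exact (Nat.pow_lt_pow_iff_right hpp.one_lt).mp this
      have h5 : k ≤ 2 := (Nat.pow_le_pow_iff_right hpp.one_lt).mp h1
      have : k = 2 := by omega
      rw [this]
    have hΩ : ∀ y ∈ P' ⊓ centralizer (A : Set G), y ^ p = 1 → y ∈ A := by
      intro y hy hyp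
      have hZe : IsElementaryAbelian p (zpowers y) := isElementaryAbelian_zpowers hyp
      have hZc : zpowers y ≤ centralizer (A : Set G) := by
        rw [Subgroup.zpowers_le]; exact hy.2
      have hBe : IsElementaryAbelian p (A ⊔ zpowers y) := isElementaryAbelian_sup hAe hZe hZc
      have h1 := hcase _ hBe le_sup_left
      have h2 : A = A ⊔ zpowers y :=
        Subgroup.eq_of_le_of_card_ge le_sup_left (by rw [hAc2]; exact h1)
      rw [h2]
      exact le_sup_right (a := A) (Subgroup.mem_zpowers y)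
    have hCp : IsPGroup p ↥(P' ⊓ centralizer (A : Set G)) := hPS.isPGroup.to_le inf_le_left
    have hC : P' ⊓ centralizer (A : Set G) ≤ centralizer (X : Set G) := by
      rw [Subgroup.le_centralizer_iff]
      intro a ha
      apply Cfsg.Agent.Helper10.mem_centralizer_of_omega _ hCp a
      · have h1 : orderOf a ∣ Nat.card ↥X := by
          have := orderOf_dvd_natCard (⟨a, ha⟩ : ↥X)
          rwa [Subgroup.orderOf_mk] at this
        exact Nat.Coprime.coprime_dvd_left h1 hcopp
      · have h1 : a ∈ normalizer (P' : Set G) := hXP ha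
        have h2 : a ∈ normalizer ((centralizer (A : Set G) : Subgroup G) : Set G) :=
          normalizer_le_normalizer_centralizer A
            ((Subgroup.centralizer_le_normalizer _) (hXA ha))
        rw [Subgroup.mem_normalizer_iff] at h1 h2 ⊢
        intro y
        rw [Subgroup.mem_inf, Subgroup.mem_inf, ← h1 y, ← h2 y]
      · intro y hy hyΩ
        rcases hyΩ with hyp | ⟨h2, -⟩
        · have hyA := hΩ y hy hyp
          exact (Subgroup.mem_centralizer_iff.mp (hXA ha) y hyA).symm
        · exact absurd h2 hp2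
    have hXcP : X ≤ centralizer (P' : Set G) :=
      Cfsg.Agent.S0028.result p A X P' hAp hcopp hPS.isPGroup hAX
        (hAP.trans Subgroup.le_normalizer) hXP hC
    exact inUniqueMaximal_of_le hM inf_le_left
      (le_inf hPS.le (Subgroup.le_centralizer_iff.mp hXcP)) hPU

end Cfsg.Agent.Helper23.BG10
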