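import Mathlib
import Cfsg.Agent.Lib.Helper1.M22LocDefs
import Cfsg.Agent.Lib.Helper6.M22BASIC1
import Cfsg.Agent.Lib.Helper9.M22IDEM

/-!
# S0429 (helper1's farm-out), PIECE VAL1 (helper23): `pp_self`, `pp_symm`, `pp_sq_le`, `pp_rows`.
-/

set_option autoImplicit false
set_option linter.unusedSectionVars false
set_option linter.unusedVariables false

namespace Cfsg.Agent.Helper1.M22

open Finset

variable {V : Type*} [Fintype V] [DecidableEq V] {G : SimpleGraph V} [DecidableRel G.Adj]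
  (hG : G.IsSRGWith 77 16 0 4) (o : V)
include hG



/-- PIECE VAL (`ii b b = 4`, no loops) -/
theorem pp_self {b : V} (hb : b ∈ nB G o) : pp G o b b = 1 / 12 := by
  have h4 : ii G o b b = 4 := by
    unfold ii
    rw [inter_self]
    exact card_blk hG o hb
  unfold pp
  rw [if_pos rfl, if_neg (G.irrefl), h4]
  norm_num

omit hG in
/-- PIECE VAL -/
theorem pp_symm (b c : V) : pp G o b c = pp G o c b := by
  unfold pp ii
  rw [inter_comm]
  by_cases h : b = c
  · subst h; rfl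
  · rw [if_neg h, if_neg (Ne.symm h)]
    by_cases h2 : G.Adj b c
    · rw [if_pos h2, if_pos h2.symm]
    · rw [if_neg h2, if_neg (fun h3 => h2 h3.symm)]

/-- `∑ c, (pp c b)^2 = pp b b = 1/12` -/
theorem val1_sum_sq {b : V} (hb : b ∈ nB G o) :
    ∑ c ∈ nB G o, pp G o c b ^ 2 = 1 / 12 := by
  rw [← pp_self hG o hb, ← pp_idem hG o hb hb]
  refine Finset.sum_congr rfl fun c _ => ?_
  rw [pp_symm o b c, pow_two]

/-- `pp b b' = ∑ c, pp c b * pp c b'` -/
theorem val1_sum_mul {b b' : V} (hb : b ∈ nB G o) (hb' : b' ∈ nB G o) :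
    ∑ c ∈ nB G o, pp G o c b * pp G o c b' = pp G o b b' := by
  rw [← pp_idem hG o hb hb']
  refine Finset.sum_congr rfl fun c _ => ?_
  rw [pp_symm o b c]

/-- PIECE VAL: Cauchy-Schwarz for `pp b b' = ∑ c, pp c b * pp c b'` (`pp_idem`, `pp_symm`, `pp_self`) -/
theorem pp_sq_le {b b' : V} (hb : b ∈ nB G o) (hb' : b' ∈ nB G o) : pp G o b b' ^ 2 ≤ 1 / 144 := by
  have h := Finset.sum_mul_sq_le_sq_mul_sq (nB G o) (fun c => pp G o c b) (fun c => pp G o c b')
  rw [val1_sum_mul hG o hb hb', val1_sum_sq hG o hb, val1_sum_sq hG o hb'] at h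
  linarith

/-- PIECE VAL: `∑ c, (pp b c - pp b' c)^2 = pp b b + pp b' b' - 2 pp b b' = 0` -/
theorem pp_rows {b b' : V} (hb : b ∈ nB G o) (hb' : b' ∈ nB G o) (h : pp G o b b' = 1 / 12) :
    ∀ c ∈ nB G o, pp G o b c = pp G o b' c := by
  have hsum : ∑ c ∈ nB G o, (pp G o c b - pp G o c b') ^ 2 = 0 := by
    have h1 : ∀ c ∈ nB G o, (pp G o c b - pp G o c b') ^ 2 =
        pp G o c b ^ 2 - 2 * (pp G o c b * pp G o c b') + pp G o c b' ^ 2 := by
      intro c _; ring
    rw [Finset.sum_congr rfl h1, Finset.sum_add_distrib, Finset.sum_sub_distrib,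
      ← Finset.mul_sum, val1_sum_mul hG o hb hb', val1_sum_sq hG o hb, val1_sum_sq hG o hb', h]
    norm_num
  have h0 := (Finset.sum_eq_zero_iff_of_nonneg (fun c _ => sq_nonneg _)).mp hsum
  intro c hc
  have h1 := h0 c hc
  have h2 : pp G o c b - pp G o c b' = 0 := by
    rwa [sq_eq_zero_iff] at h1
  rw [pp_symm o b c, pp_symm o b' c]
  linarith

end Cfsg.Agent.Helper1.M22
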