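import Mathlib
import Cfsg.Agent.Lib.Helper23.M22VAL1

/-!
# S0429 (helper1's farm-out), PIECE VAL2 (helper23): `ii_le_two`, `pp_values`.
-/

set_option autoImplicit false
set_option linter.unusedSectionVars false
set_option linter.unusedVariables false

namespace Cfsg.Agent.Helper1.M22

open Finset

variable {V : Type*} [Fintype V] [DecidableEq V] {G : SimpleGraph V} [DecidableRel G.Adj]
  (hG : G.IsSRGWith 77 16 0 4) (o : V)
include hG

/-- PIECE VAL: `ii ≥ 3` gives `pp ≤ -5/48` (non-adjacent, else `ii = 0`), against `pp_sq_le` -/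
theorem ii_le_two {b b' : V} (hb : b ∈ nB G o) (hb' : b' ∈ nB G o) (hne : b ≠ b') : ii G o b b' ≤ 2 := by
  by_contra hcon
  have hcon : 3 ≤ ii G o b b' := by omega
  have hna : ¬ G.Adj b b' := by
    intro hadj
    have := ii_eq_zero_of_adj hG o hadj
    omega
  have hpp : pp G o b b' = 1 / 12 - (ii G o b b' : ℚ) / 16 := by
    unfold pp
    rw [if_neg hne, if_neg hna]
    ring
  have h3 : (3 : ℚ) ≤ (ii G o b b' : ℚ) := by exact_mod_cast hcon
  have hle : pp G o b b' ≤ -5 / 48 := by rw [hpp]; linarith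
  have hsq := pp_sq_le hG o hb hb'
  nlinarith

/-- PIECE VAL -/
theorem pp_values {b b' : V} (hb : b ∈ nB G o) (hb' : b' ∈ nB G o) (hne : b ≠ b') :
    (¬ G.Adj b b' ∧ ii G o b b' = 0 ∧ pp G o b b' = 1 / 12) ∨
    (¬ G.Adj b b' ∧ ii G o b b' = 1 ∧ pp G o b b' = 1 / 48) ∨
    ((G.Adj b b' ∨ ii G o b b' = 2) ∧ pp G o b b' = -1 / 24) := by
  by_cases hadj : G.Adj b b'
  · right; right
    refine ⟨Or.inl hadj, ?_⟩
    have h0 := ii_eq_zero_of_adj hG o hadj
    unfold pp
    rw [if_neg hne, if_pos hadj]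
    unfold ii at h0
    unfold ii
    rw [h0]
    norm_num
  · have hle := ii_le_two hG o hb hb' hne
    have hpp : pp G o b b' = 1 / 12 - (ii G o b b' : ℚ) / 16 := by
      unfold pp
      rw [if_neg hne, if_neg hadj]
      ring
    have hcases : ii G o b b' = 0 ∨ ii G o b b' = 1 ∨ ii G o b b' = 2 := by omega
    rcases hcases with h0 | h1 | h2
    · left
      refine ⟨hadj, h0, ?_⟩
      rw [hpp, h0]; norm_num
    · right; left
      refine ⟨hadj, h1, ?_⟩
      rw [hpp, h1]; norm_num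
    · right; right
      refine ⟨Or.inr h2, ?_⟩
      rw [hpp, h2]; norm_num

end Cfsg.Agent.Helper1.M22
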