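import Mathlib
import Cfsg.Agent.Lib.Helper17.GLkDefs

/-!
S2478 farm-out, PIECE GLK-MON: the number of monic polynomials of degree `r` with nonzero constant coefficient
over a finite field.
-/

set_option autoImplicit false

open Polynomial

namespace Cfsg.Agent.Helper17.GLk

universe u

section pieces
variable {F : Type u} [Field F]

/-- monic polynomials of degree `r` correspond to their lower coefficient vectors -/
noncomputable def GLkMON_equiv (r : ℕ) : {p : F[X] // p.Monic ∧ p.natDegree = r} ≃ (Fin r → F) :=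
  (monicEquivDegreeLT r).trans (degreeLTEquiv F r).toEquiv

theorem GLkMON_equiv_apply (r : ℕ) (p : {p : F[X] // p.Monic ∧ p.natDegree = r}) (i : Fin r) :
    GLkMON_equiv r p i = (p : F[X]).coeff i := by
  show ((p : F[X]).eraseLead).coeff i = (p : F[X]).coeff i
  apply Polynomial.eraseLead_coeff_of_ne
  rw [p.2.2]
  exact i.2.ne

/-- `Mon F (r+1)` corresponds to the vectors with nonzero `0`-th coordinate -/
noncomputable def GLkMON_equiv' (r : ℕ) : ↥(Mon F (r + 1)) ≃ {c : Fin (r + 1) → F // c 0 ≠ 0} :=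
  (Equiv.subtypeEquivRight (fun p : F[X] => by
      show p ∈ Mon F (r + 1) ↔ (p.Monic ∧ p.natDegree = r + 1) ∧ p.coeff 0 ≠ 0
      unfold Mon
      constructor
      · rintro ⟨h1, h2, h3⟩
        exact ⟨⟨h1, h2⟩, h3⟩
      · rintro ⟨⟨h1, h2⟩, h3⟩
        exact ⟨h1, h2, h3⟩)).trans
  ((Equiv.subtypeSubtypeEquivSubtypeInter (fun p : F[X] => p.Monic ∧ p.natDegree = r + 1)
      (fun p : F[X] => p.coeff 0 ≠ 0)).symm.trans
    (Equiv.subtypeEquiv (GLkMON_equiv (r + 1)) (fun a => by
      rw [GLkMON_equiv_apply]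
      exact Iff.rfl)))

/-- vectors with vanishing `0`-th coordinate -/
def GLkMON_zeroEquiv (r : ℕ) : {c : Fin (r + 1) → F // c 0 = 0} ≃ (Fin r → F) where
  toFun c := Fin.tail c.1
  invFun d := ⟨Fin.cons (α := fun _ => F) 0 d, rfl⟩
  left_inv c := by
    apply Subtype.ext
    show Fin.cons (α := fun _ => F) 0 (Fin.tail c.1) = c.1
    have := Fin.cons_self_tail c.1
    rw [c.2] at this
    exact this
  right_inv d := by
    show Fin.tail (Fin.cons (α := fun _ => F) 0 d) = d
    exact Fin.tail_cons _ _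

theorem GLkMON_card [Fintype F] (r : ℕ) :
    Nat.card {c : Fin (r + 1) → F // c 0 ≠ 0} = Fintype.card F ^ (r + 1) - Fintype.card F ^ r := by
  classical
  rw [Nat.card_eq_fintype_card, Fintype.card_subtype_compl, Fintype.card_congr (GLkMON_zeroEquiv r)]
  simp

/-- PIECE GLK-MON.  `monicEquivDegreeLT` + `degreeLTEquiv` : monic degree-`r` polys ≃ `Fin r → F`;
for `r ≥ 1` the constant coefficient is the `0`-th coordinate. -/
theorem Mon_finite_ncard [Fintype F] (r : ℕ) :
    (Mon F r).Finite ∧ (Mon F r).ncard = Nw (Fintype.card F) r := by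
  cases r with
  | zero =>
    have h : Mon F 0 = {1} := by
      ext p
      unfold Mon
      constructor
      · rintro ⟨h1, h2, _⟩
        exact (Polynomial.Monic.natDegree_eq_zero h1).1 h2
      · intro hp
        have hp' : p = 1 := hp
        subst hp'
        exact ⟨monic_one, natDegree_one, by simp⟩
    rw [h]
    exact ⟨Set.finite_singleton _, by simp [Nw]⟩
  | succ r =>
    have hfin : Finite ↥(Mon F (r + 1)) := Finite.of_equiv _ (GLkMON_equiv' r).symm
    refine ⟨Set.toFinite _, ?_⟩
    rw [← Nat.card_coe_set_eq, Nat.card_congr (GLkMON_equiv' r), GLkMON_card]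
    rfl

end pieces

end Cfsg.Agent.Helper17.GLk
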