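import Mathlib
import Cfsg.Prelude.Def_LocalStructure

/-!
# S2861 (`N_L(Y_M)/O_p(L)` has a unique nontrivial normal elementary abelian `p`-subgroup): definitions

The statement is transported into the group `T ≅ L/O_p(L)` (one of `SL₂(F)`, `Sz(F)`, `D_{2r}`), where it
becomes the property `Target p q T` below. See `plans/S2861_plan.md`.
-/

set_option autoImplicit false

namespace Cfsg.Agent.Helper23.S61

open Cfsg

/-- the target-side statement: if the maximal subgroup `B` of `T` normalizes its elementary abelian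
`p`-subgroup `Y` of order `q`, and the conjugates of `Y` generate `T`, then `Y` is the only nontrivial
elementary abelian `p`-subgroup of `B` normalized by `B` -/
def Target (p q : ℕ) (T : Type*) [Group T] : Prop :=
  ∀ B Y : Subgroup T, IsCoatom B → Y ≤ B → (∀ b ∈ B, ∀ y ∈ Y, b * y * b⁻¹ ∈ Y) →
    IsElementaryAbelian p Y → Nat.card Y = q → Subgroup.normalClosure (Y : Set T) = ⊤ →
    Y ≠ ⊥ ∧ ∀ V : Subgroup T, V ≤ B → (∀ b ∈ B, ∀ v ∈ V, b * v * b⁻¹ ∈ V) →
      IsElementaryAbelian p V → V ≠ ⊥ → V = Y

end Cfsg.Agent.Helper23.S61
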