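import Mathlib
import Cfsg.Prelude.Def_LocalStructure

/-!
# S2863 (non-`p`-elements of `L ∈ 𝔏_G(Y_M)` act fixed-point-freely on `O_p(L) / C_{Y_M}(L)`): definitions

`Ctx L Y A` collects what is used of `IsInFrakL` (`Y = Y_M`, `A = O_p(L)`), `Cc L Y = C_Y(L)`,
`FPF L Y A h` is the conclusion for the element `h`. On the side of `T ≅ L/O_p(L)`: `IsProd B Y x` says that a
conjugate of `x` is a product `t * s` of elements of two different conjugates of `Y` in general position.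
See `plans/S2863_plan.md`.
-/

set_option autoImplicit false

namespace Cfsg.Agent.Helper23.S63

open Cfsg
open scoped Pointwise

section ctx

variable {G : Type*} [Group G]

/-- `C_Y(L)` -/
def Cc (L Y : Subgroup G) : Subgroup G := Y ⊓ Subgroup.centralizer (L : Set G)

/-- `h` has no fixed points on `A / C_Y(L)` -/
def FPF (L Y A : Subgroup G) (h : G) : Prop :=
  ∀ a ∈ A, h * a * h⁻¹ * a⁻¹ ∈ Cc L Y → a ∈ Cc L Y

/-- what is used of `L ∈ 𝔏_G(Y)`, `A = O_p(L)` -/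
structure Ctx (L Y A : Subgroup G) : Prop where
  YL : Y ≤ L
  Ycomm : ∀ a ∈ Y, ∀ b ∈ Y, a * b = b * a
  AL : A ≤ L
  Anorm : ∀ g ∈ L, ∀ a ∈ A, g * a * g⁻¹ ∈ A
  AY : ∀ a ∈ A, ∀ y ∈ Y, a * y * a⁻¹ ∈ Y
  Agen : ∀ W : Subgroup G, Y ⊓ A ≤ W → (∀ g ∈ L, ∀ w ∈ W, g * w * g⁻¹ ∈ W) → A ≤ W
  max : ∀ X : Subgroup G, Y ≤ X → X ≤ L → X ≠ L → X ≤ Subgroup.normalizer (Y : Set G)
  Nlt : ¬ L ≤ Subgroup.normalizer (Y : Set G)
  ncl : ∀ W : Subgroup G, Y ≤ W → (∀ g ∈ L, ∀ w ∈ W, g * w * g⁻¹ ∈ W) → L ≤ W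
  CA : Y ⊓ Subgroup.centralizer (L : Set G) ≤ A

end ctx

section target

variable {T : Type*} [Group T]

/-- a conjugate of `x` is `t * s` with `t ∈ Y`, `s ∈ Y^g`, `t ∉ B^g`, `s ∉ B` -/
def IsProd (B Y : Subgroup T) (x : T) : Prop :=
  ∃ c g : T, ∃ t ∈ Y, ∃ s ∈ (MulAut.conj g • Y : Subgroup T),
    t ∉ (MulAut.conj g • B : Subgroup T) ∧ s ∉ B ∧ c * x * c⁻¹ = t * s

/-- `x` is such a product, or (`p` odd) the common square of `i`, `j`, `i * j`, all three such products -/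
def Good (p : ℕ) (B Y : Subgroup T) (x : T) : Prop :=
  IsProd B Y x ∨ (p ≠ 2 ∧ ∃ i j : T, IsProd B Y i ∧ IsProd B Y j ∧ IsProd B Y (i * j) ∧
    i * i = x ∧ j * j = x ∧ (i * j) * (i * j) = x)

end target

/-- the target-side statement -/
def Target2 (p q : ℕ) (T : Type*) [Group T] : Prop :=
  ∀ B Y : Subgroup T, IsCoatom B → Y ≤ B → (∀ b ∈ B, ∀ y ∈ Y, b * y * b⁻¹ ∈ Y) →
    IsElementaryAbelian p Y → Nat.card Y = q → Subgroup.normalClosure (Y : Set T) = ⊤ →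
    ∀ x : T, (¬ ∃ k : ℕ, orderOf x = p ^ k) → Good p B Y x

end Cfsg.Agent.Helper23.S63
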