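import Mathlib
import Cfsg.Agent.Lib.Helper27.TIALGHUA

/-!
# S1786 / TI-ALG piece TIALG-LALT (sub-lead helper5): `alg_left_alt`
The left alternative law from `hL`, via `alg_hua` in `AddMonoid.End D` with `K` the range of the left multiplications.
-/

set_option autoImplicit false

namespace Cfsg.Agent.Helper26.TI

universe uU uA uV u

/-- a left multiplication by a nonzero element has a two-sided inverse -/
theorem tialg_lalt_inv {D : Type*} [NonAssocRing D] [Finite D]
    (hnz : ∀ x y : D, x * y = 0 → x = 0 ∨ y = 0) (x : D) (hx : x ≠ 0) :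
    ∃ i : AddMonoid.End D, AddMonoid.End.mulLeft x * i = 1 ∧ i * AddMonoid.End.mulLeft x = 1 := by
  have hinj : Function.Injective (AddMonoid.End.mulLeft x : D →+ D) := by
    intro y y' h
    have h1 : x * y = x * y' := h
    have h2 : x * (y - y') = 0 := by rw [mul_sub, h1, sub_self]
    rcases hnz _ _ h2 with h3 | h3
    · exact absurd h3 hx
    · exact sub_eq_zero.1 h3
  have hbij : Function.Bijective (AddMonoid.End.mulLeft x : D →+ D) :=
    ⟨hinj, Finite.surjective_of_injective hinj⟩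
  let e : D ≃+ D := AddEquiv.ofBijective (AddMonoid.End.mulLeft x : D →+ D) hbij
  refine ⟨e.symm.toAddMonoidHom, ?_, ?_⟩
  · apply AddMonoidHom.ext
    intro v
    show (AddMonoid.End.mulLeft x : D →+ D) (e.symm v) = v
    exact e.apply_symm_apply v
  · apply AddMonoidHom.ext
    intro v
    show e.symm ((AddMonoid.End.mulLeft x : D →+ D) v) = v
    exact e.symm_apply_apply v

/-- a one-sided inverse of an endomorphism of a finite group is two-sided -/
theorem tialg_lalt_two_sided {D : Type*} [AddCommGroup D] [Finite D] (k s : AddMonoid.End D)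
    (h : k * s = 1) : s * k = 1 := by
  have hsurj : Function.Surjective k := by
    intro v
    refine ⟨s v, ?_⟩
    have := congrArg (fun f : AddMonoid.End D => f v) h
    exact this
  have hinj : Function.Injective k := Finite.injective_iff_surjective.2 hsurj
  apply AddMonoidHom.ext
  intro v
  apply hinj
  have := congrArg (fun f : AddMonoid.End D => f (k v)) h
  exact this

/-! ### TIALG-LALT (left alternative law from `hL`, via HUA in `AddMonoid.End D`) -/
theorem alg_left_alt {D : Type*} [NonAssocRing D] [Finite D]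
    (h2 : ∀ x : D, x + x = 0)
    (hnz : ∀ x y : D, x * y = 0 → x = 0 ∨ y = 0)
    (hL : ∀ x₁ x₂ : D, x₁ ≠ 0 → x₂ ≠ 0 →
      (∀ y₁ y₂ : D, x₁ * y₁ = x₂ * y₂ → y₁ + y₂ = 0) ∨
      (∃ x₃ : D, ∀ y₁ y₂ : D, x₁ * y₁ = x₂ * y₂ → x₃ * (y₁ + y₂) = x₁ * y₁)) :
    ∀ x y : D, x * (x * y) = x * x * y := by
  let Lm : D →+ AddMonoid.End D := AddMonoid.End.mulLeft
  have hLm : ∀ x v : D, Lm x v = x * v := fun x v => rfl
  have h2E : ∀ k : AddMonoid.End D, k + k = 0 := by
    intro k
    apply AddMonoidHom.ext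
    intro v
    show k v + k v = 0
    exact h2 _
  have h1 : (1 : AddMonoid.End D) ∈ Lm.range := by
    refine ⟨1, ?_⟩
    apply AddMonoidHom.ext
    intro v
    show (1 : D) * v = v
    exact one_mul v
  have hzero : ∀ x : D, Lm x = 0 → x = 0 := by
    intro x hx
    have := congrArg (fun f : AddMonoid.End D => f 1) hx
    have h3 : x * 1 = 0 := this
    rwa [mul_one] at h3
  have hinv : ∀ k ∈ Lm.range, k ≠ 0 → ∃ i : AddMonoid.End D, k * i = 1 ∧ i * k = 1 := by
    rintro k ⟨x, rfl⟩ hk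
    have hx : x ≠ 0 := by
      rintro rfl
      exact hk (map_zero Lm)
    exact tialg_lalt_inv hnz x hx
  have hadd : ∀ k₁ ∈ Lm.range, ∀ k₂ ∈ Lm.range, ∀ i₁ i₂ : AddMonoid.End D,
      k₁ * i₁ = 1 → i₁ * k₁ = 1 → k₂ * i₂ = 1 → i₂ * k₂ = 1 →
      i₁ + i₂ = 0 ∨ ∃ k₃ ∈ Lm.range, k₃ * (i₁ + i₂) = 1 ∧ (i₁ + i₂) * k₃ = 1 := by
    rintro k₁ ⟨x₁, rfl⟩ k₂ ⟨x₂, rfl⟩ i₁ i₂ h11 h12 h21 h22
    -- the degenerate cases: `1 = 0` in `End D`
    have hdeg : (1 : AddMonoid.End D) = 0 → i₁ + i₂ = 0 := by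
      intro h10
      calc i₁ + i₂ = (i₁ + i₂) * 1 := (mul_one _).symm
        _ = (i₁ + i₂) * 0 := by rw [h10]
        _ = 0 := mul_zero _
    by_cases hx₁ : x₁ = 0
    · left
      apply hdeg
      rw [← h11, hx₁, map_zero, zero_mul]
    by_cases hx₂ : x₂ = 0
    · left
      apply hdeg
      rw [← h21, hx₂, map_zero, zero_mul]
    have e1 : ∀ v : D, x₁ * i₁ v = v := by
      intro v
      have := congrArg (fun f : AddMonoid.End D => f v) h11
      exact this
    have e2 : ∀ v : D, x₂ * i₂ v = v := by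
      intro v
      have := congrArg (fun f : AddMonoid.End D => f v) h21
      exact this
    rcases hL x₁ x₂ hx₁ hx₂ with h | ⟨x₃, h⟩
    · left
      apply AddMonoidHom.ext
      intro v
      show i₁ v + i₂ v = 0
      exact h (i₁ v) (i₂ v) (by rw [e1, e2])
    · right
      have h3 : Lm x₃ * (i₁ + i₂) = 1 := by
        apply AddMonoidHom.ext
        intro v
        show x₃ * (i₁ v + i₂ v) = v
        rw [h (i₁ v) (i₂ v) (by rw [e1, e2]), e1]
      exact ⟨Lm x₃, ⟨x₃, rfl⟩, h3, tialg_lalt_two_sided _ _ h3⟩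
  obtain ⟨_, hhua⟩ := alg_hua h2E Lm.range h1 hinv hadd
  intro x y
  obtain ⟨z, hz⟩ := hhua (Lm x) ⟨x, rfl⟩ 1 h1
  have hz1 : ∀ v : D, z * v = x * (x * v) := by
    intro v
    have := congrArg (fun f : AddMonoid.End D => f v) hz
    exact this
  have hzx : z = x * x := by
    have := hz1 1
    rwa [mul_one, mul_one] at this
  rw [← hzx, hz1]

end Cfsg.Agent.Helper26.TI
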