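import Mathlib
import Cfsg.Agent.Lib.Helper23.BG10A
import Cfsg.Agent.Lib.Helper22.MaxClass
import Cfsg.Agent.S1448

/-!
# Bender–Glauberman section 10, part G (helper23): Corollary 10.7(b) ⇒ structure of Sylow
subgroups of rank at most 2 (the statement of S1412)

With the statement of S1411 (`P = [P, V]` for a complement `V` of a Sylow subgroup `P` in its
normalizer) as a hypothesis.
-/

set_option autoImplicit false

namespace Cfsg.Agent.Helper23.BG10

open Cfsg Subgroup
open scoped commutatorElement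
open Cfsg.Agent.Helper14.BGTrans Cfsg.Agent.Helper14.BGUniq

universe u

variable {G : Type u} [Group G]

/-- the statement of S1411 for the group `G` -/
def Cor107b (G : Type u) [Group G] : Prop :=
  ∀ (p : ℕ) [Fact p.Prime] (P : Sylow p G) (V : Subgroup G),
    IsComplIn (P : Subgroup G) V (normalizer ((P : Subgroup G) : Set G)) →
    (P : Subgroup G) = ⁅(P : Subgroup G), V⁆ ∧
      (P : Subgroup G) ≤ ⁅normalizer ((P : Subgroup G) : Set G),
        normalizer ((P : Subgroup G) : Set G)⁆

theorem map_subtype_center (R : Subgroup G) :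
    (Subgroup.center ↥R).map R.subtype = R ⊓ centralizer (R : Set G) := by
  ext x
  constructor
  · rintro ⟨z, hz, rfl⟩
    refine ⟨z.2, ?_⟩
    refine Subgroup.mem_centralizer_iff.mpr ?_
    intro y hy
    have := Subgroup.mem_center_iff.mp hz ⟨y, hy⟩
    exact congrArg Subtype.val this
  · rintro ⟨hxR, hxc⟩
    refine ⟨⟨x, hxR⟩, ?_, rfl⟩
    refine Subgroup.mem_center_iff.mpr ?_
    intro y
    apply Subtype.ext
    exact (Subgroup.mem_centralizer_iff.mp hxc) y y.2

/-- in a nonabelian group of order `p ^ 3` the derived subgroup is the centre -/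
theorem commutator_eq_center_of_card_cube {p : ℕ} [Fact p.Prime] {B : Type*} [Group B] [Finite B]
    (hB : Nat.card B = p ^ 3) (hna : ¬ IsMulCommutative B) :
    commutator B = Subgroup.center B := by
  have hZ := Cfsg.Agent.Helper22.card_center_of_card_cube p hB hna
  have hle : commutator B ≤ Subgroup.center B := by
    rw [commutator_def, Subgroup.commutator_le]
    intro u _ v _
    rw [commutatorElement_def]
    exact Cfsg.Agent.Helper22.comm_mem_center_of_card_cube p hB hna u v
  have hne : commutator B ≠ ⊥ := by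
    intro h
    apply hna
    rw [commutator_eq_bot_iff_center_eq_top] at h
    refine ⟨⟨fun a b => ?_⟩⟩
    have : b ∈ Subgroup.center B := by rw [h]; trivial
    exact Subgroup.mem_center_iff.mp this a
  have : Fact (Nat.card ↥(Subgroup.center B)).Prime := ⟨by rw [hZ]; exact Fact.out⟩
  rcases Subgroup.eq_bot_or_eq_top_of_prime_card ((commutator B).subgroupOf (Subgroup.center B))
    with h | h
  · exfalso
    apply hne
    rw [Subgroup.subgroupOf_eq_bot] at h
    rw [eq_bot_iff]
    intro x hx
    have := h.le_bot ⟨hx, hle hx⟩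
    exact this
  · rw [Subgroup.subgroupOf_eq_top] at h
    exact le_antisymm hle h

/-- for a nonabelian subgroup `R` of order `p ^ 3`: `[R, R] = Z(R)` -/
theorem commutator_eq_inf_centralizer {p : ℕ} [Fact p.Prime] [Finite G] {R : Subgroup G}
    (hR : Nat.card ↥R = p ^ 3) (hna : ¬ IsMulCommutative ↥R) :
    ⁅R, R⁆ = R ⊓ centralizer (R : Set G) := by
  rw [← Subgroup.map_subtype_commutator, ← map_subtype_center,
    commutator_eq_center_of_card_cube hR hna]

variable [Finite G]

/-- a Sylow subgroup has a complement in its normalizer (Schur–Zassenhaus) -/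
theorem exists_compl_normalizer {p : ℕ} [Fact p.Prime] (P : Sylow p G) :
    ∃ V : Subgroup G, IsComplIn (P : Subgroup G) V (normalizer ((P : Subgroup G) : Set G)) ∧
      (Nat.card ↥V).Coprime p := by
  have hpp : p.Prime := Fact.out
  have hPN : (P : Subgroup G) ≤ normalizer ((P : Subgroup G) : Set G) := Subgroup.le_normalizer
  have hnd : ¬ p ∣ ((P : Subgroup G).subgroupOf (normalizer ((P : Subgroup G) : Set G))).index := by
    intro h
    apply P.not_dvd_index
    have h1 := Subgroup.relIndex_mul_index hPN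
    exact (h.trans (Dvd.intro _ rfl)).trans (dvd_of_eq h1)
  have hcop : (Nat.card ↥((P : Subgroup G).subgroupOf
      (normalizer ((P : Subgroup G) : Set G)))).Coprime
      ((P : Subgroup G).subgroupOf (normalizer ((P : Subgroup G) : Set G))).index := by
    obtain ⟨k, hk⟩ := (P.isPGroup'.comap_subtype
      (K := normalizer ((P : Subgroup G) : Set G))).exists_card_eq
    have : Nat.card ↥((P : Subgroup G).subgroupOf (normalizer ((P : Subgroup G) : Set G))) =
        p ^ k := hk
    rw [this]
    apply Nat.Coprime.pow_left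
    exact (Nat.Prime.coprime_iff_not_dvd hpp).mpr hnd
  obtain ⟨K, hK⟩ := Subgroup.exists_right_complement'_of_coprime hcop
  refine ⟨K.map (normalizer ((P : Subgroup G) : Set G)).subtype,
    ⟨hPN, Subgroup.map_subtype_le _, ?_, ?_⟩, ?_⟩
  · rw [eq_bot_iff]
    rintro x ⟨hxP, k, hk, rfl⟩
    have h1 : k ∈ (P : Subgroup G).subgroupOf (normalizer ((P : Subgroup G) : Set G)) ⊓ K :=
      ⟨Subgroup.mem_subgroupOf.mpr hxP, hk⟩
    rw [hK.disjoint.eq_bot, Subgroup.mem_bot] at h1
    rw [Subgroup.mem_bot, h1]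
    rfl
  · intro m hm
    obtain ⟨x, hx, -⟩ := (Subgroup.isComplement_iff_existsUnique.mp hK) ⟨m, hm⟩
    refine ⟨((x.1 : ↥(normalizer ((P : Subgroup G) : Set G))) : G),
      Subgroup.mem_subgroupOf.mp x.1.2,
      ((x.2 : ↥(normalizer ((P : Subgroup G) : Set G))) : G), ⟨_, x.2.2, rfl⟩, ?_⟩
    have := congrArg Subtype.val hx
    exact this.symm
  · rw [Subgroup.card_map_of_injective (Subgroup.subtype_injective _)]
    have h1 := hK.symm.index_eq_card
    rw [← h1]
    exact ((Nat.Prime.coprime_iff_not_dvd hpp).mpr hnd).symm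

/-- the statement of S1412 from the statement of S1411 -/
theorem sylow_rank_two (hG : IsMinSimpleOddOrder G) (h107 : Cor107b G) (p : ℕ) [Fact p.Prime]
    (P : Sylow p G) (hr : PRankLE p 2 ↥(P : Subgroup G)) :
    IsMulCommutative ↥(P : Subgroup G) ∨ ∃ P₁ P₂ : Subgroup G, P₁ ⊔ P₂ = (P : Subgroup G) ∧
      (∀ a ∈ P₁, ∀ b ∈ P₂, a * b = b * a) ∧ ¬ IsMulCommutative ↥P₁ ∧ Nat.card ↥P₁ = p ^ 3 ∧
      Monoid.exponent ↥P₁ = p ∧ IsCyclic ↥P₂ ∧
      Subgroup.closure {x : G | x ∈ P₂ ∧ x ^ p = 1} = P₁ ⊓ Subgroup.centralizer (P₁ : Set G) := by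
  have hpp : p.Prime := Fact.out
  by_cases hP1 : (P : Subgroup G) = ⊥
  · left
    apply Subgroup.le_centralizer_iff_isMulCommutative.mp
    rw [hP1]
    exact bot_le
  obtain ⟨V, hV, hcop⟩ := exists_compl_normalizer P
  have hpG : p ∣ Nat.card G := by
    obtain ⟨k, hk⟩ := P.isPGroup'.exists_card_eq
    have hk0 : k ≠ 0 := by
      rintro rfl
      rw [pow_zero] at hk
      exact hP1 (Subgroup.card_eq_one.mp hk)
    have h1 : p ∣ Nat.card ↥(P : Subgroup G) := by rw [hk]; exact dvd_pow_self p hk0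
    exact h1.trans (Subgroup.card_subgroup_dvd_card _)
  have hp2 : p ≠ 2 := prime_ne_two_of_dvd hG hpG
  have hodd : Odd (Nat.card ↥V) := Odd.of_dvd_nat hG.1 (Subgroup.card_subgroup_dvd_card V)
  have h1 := (h107 p P V hV).1
  obtain ⟨-, hres⟩ := Cfsg.Agent.S1448.result p hp2 (P : Subgroup G) V P.isPGroup' hP1 hr
    hV.2.1 hcop hodd h1.symm
  rcases hres with hab | ⟨R₁, R₂, h2, h3, h4, h5, h6, h7, h8⟩
  · exact Or.inl hab
  · refine Or.inr ⟨R₁, R₂, h2, h3, h4, h5, h6, h7, ?_⟩
    rw [h8]
    exact commutator_eq_inf_centralizer h5 h4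

end Cfsg.Agent.Helper23.BG10
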