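import Mathlib
import Cfsg.Agent.S1394
import Cfsg.Agent.S1395
import Cfsg.Agent.S1396
import Cfsg.Agent.S1410
import Cfsg.Agent.S1411
import Cfsg.Agent.Lib.Helper8.Narrow
import Cfsg.Agent.Lib.Helper8.NarrowCrit
import Cfsg.Agent.Lib.Helper14.SubnormalClosure
import Cfsg.Agent.Lib.Helper14.BGTransA
import Cfsg.Agent.Lib.Helper14.BGTransB
import Cfsg.Agent.Lib.Helper17.BG11A
import Cfsg.Agent.Lib.Helper23.BG10G

/-!
# Bender–Glauberman section 11, helper23: the "signalizer" step of Theorem 11.7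

`signaliser_centralises`: if `A` is a maximal elementary abelian `p`-subgroup of order `p ^ 2` of a
minimal simple group of odd order, `q ≠ p` divides `|C_G(A)|`, and a maximal `A`-invariant
`q`-subgroup `Qs` contains an elementary abelian subgroup of order `q ^ 2` which is a maximal
elementary abelian subgroup of `G`, then `A` centralizes `Qs`.  (BG Proposition 10.10-type
argument: Thompson transitivity S1394/S1395, `S ≤ N_G(S)'` S1411, automorphisms of narrow
`q`-groups.)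
-/

set_option autoImplicit false

namespace Cfsg.Agent.Helper23.BG11

open Cfsg Subgroup
open Cfsg.Agent.Helper14.BGTrans

universe u

variable {G : Type u} [Group G]

/-- a maximal elementary abelian `p`-subgroup (of order `≥ p`) satisfies the transitivity
hypothesis -/
theorem transHyp_of_max [Finite G] (hG : IsMinSimpleOddOrder G) {p : ℕ} [Fact p.Prime]
    {A : Subgroup G} (hA : IsElementaryAbelian p A) (hpA : p ∣ Nat.card A)
    (hAmax : ∀ B : Subgroup G, IsElementaryAbelian p B → A ≤ B → B = A) :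
    TransitivityHypothesis A := by
  have hpG : p ∣ Nat.card G := hpA.trans (card_subgroup_dvd_card A)
  refine Cfsg.Agent.S1396.result hG p hpG A (Cfsg.Agent.Helper17.BG11.isPGroup_of_elemAb hA) hA.1
    (Or.inl ⟨?_, ?_⟩)
  · intro x hx
    refine ⟨fun h => ?_, fun h => hA.2 x h⟩
    have h1 := hAmax (A ⊔ zpowers x) (Cfsg.Agent.Helper17.BG11.elemAb_sup_zpowers hA hx h)
      le_sup_left
    rw [← h1]
    exact le_sup_right (a := A) (mem_zpowers x)
  · intro H hH
    exact Cfsg.Agent.S1410.result hG p H hH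

/-- conjugating an elementary abelian subgroup -/
theorem elemAb_map_conj {q : ℕ} {T : Subgroup G} (hT : IsElementaryAbelian q T) (k : G) :
    IsElementaryAbelian q (T.map (MulAut.conj k).toMonoidHom) := by
  refine ⟨⟨⟨?_⟩⟩, ?_⟩
  · rintro ⟨_, a, ha, rfl⟩ ⟨_, b, hb, rfl⟩
    apply Subtype.ext
    show (MulAut.conj k) a * (MulAut.conj k) b = (MulAut.conj k) b * (MulAut.conj k) a
    rw [← map_mul, ← map_mul]
    congr 1
    have := hT.1.is_comm.comm ⟨a, ha⟩ ⟨b, hb⟩
    exact congrArg Subtype.val this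
  · rintro _ ⟨a, ha, rfl⟩
    show ((MulAut.conj k) a) ^ q = 1
    rw [← map_pow, hT.2 a ha, map_one]

/-- a conjugate of a maximal elementary abelian subgroup is maximal -/
theorem max_map_conj {q : ℕ} {T : Subgroup G}
    (hTmax : ∀ B : Subgroup G, IsElementaryAbelian q B → T ≤ B → B = T) (k : G) :
    ∀ B : Subgroup G, IsElementaryAbelian q B → T.map (MulAut.conj k).toMonoidHom ≤ B →
      B = T.map (MulAut.conj k).toMonoidHom := by
  intro B hB hTB
  have h1 : T ≤ B.map (MulAut.conj k⁻¹).toMonoidHom := by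
    intro t ht
    refine ⟨k * t * k⁻¹, hTB ⟨t, ht, rfl⟩, ?_⟩
    show k⁻¹ * (k * t * k⁻¹) * k⁻¹⁻¹ = t
    group
  have h2 := hTmax _ (elemAb_map_conj hB k⁻¹) h1
  rw [← h2, Subgroup.map_map]
  ext x
  simp only [Subgroup.mem_map]
  constructor
  · intro hx
    refine ⟨x, hx, ?_⟩
    show k * (k⁻¹ * x * k⁻¹⁻¹) * k⁻¹ = x
    group
  · rintro ⟨y, hy, rfl⟩
    have : ((MulAut.conj k).toMonoidHom.comp (MulAut.conj k⁻¹).toMonoidHom) y = y := by
      show k * (k⁻¹ * y * k⁻¹⁻¹) * k⁻¹ = y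
      group
    rw [this]
    exact hy

/-- a `q`-subgroup containing a maximal elementary abelian subgroup of `G` of order `q ^ 2` is
narrow -/
theorem isNarrow_of_max_elemAb [Finite G] {q : ℕ} [Fact q.Prime] (hq2 : q ≠ 2) {Q T : Subgroup G}
    (hQ : IsPGroup q ↥Q) (hTQ : T ≤ Q) (hTe : IsElementaryAbelian q T) (hT2 : Nat.card T = q ^ 2)
    (hTmax : ∀ B : Subgroup G, IsElementaryAbelian q B → T ≤ B → B = T) : IsNarrow q ↥Q := by
  apply Cfsg.Agent.Helper8.Narrow.isNarrow_of_selfCentralizing hq2 hQ (T.subgroupOf Q)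
  · intro a ha b hb
    apply Subtype.ext
    have := hTe.1.is_comm.comm ⟨(a : G), mem_subgroupOf.mp ha⟩ ⟨(b : G), mem_subgroupOf.mp hb⟩
    have h2 : (a : G) * (b : G) = (b : G) * (a : G) := congrArg Subtype.val this
    exact h2
  · intro a ha
    apply Subtype.ext
    have := hTe.2 (a : G) (mem_subgroupOf.mp ha)
    simpa using this
  · rw [Nat.card_congr (Subgroup.subgroupOfEquivOfLe hTQ).toEquiv, hT2]
  · intro x hx hxq
    rw [mem_subgroupOf]
    have hxc : (x : G) ∈ centralizer (T : Set G) := by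
      rw [mem_centralizer_iff]
      intro t ht
      have h1 : (⟨t, hTQ ht⟩ : ↥Q) ∈ ((T.subgroupOf Q : Subgroup ↥Q) : Set ↥Q) := by
        show (⟨t, hTQ ht⟩ : ↥Q) ∈ T.subgroupOf Q
        rw [mem_subgroupOf]
        exact ht
      have h2 := (mem_centralizer_iff.mp hx) _ h1
      exact congrArg Subtype.val h2
    have hxq' : (x : G) ^ q = 1 := by
      have := congrArg Subtype.val hxq
      simpa using this
    have h3 := hTmax (T ⊔ zpowers (x : G))
      (Cfsg.Agent.Helper17.BG11.elemAb_sup_zpowers hTe hxc hxq') le_sup_left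
    rw [← h3]
    exact le_sup_right (a := T) (mem_zpowers (x : G))

/-- a `p`-subgroup of the derived subgroup of `N_G(Q)`, `Q` a narrow `q`-group (`q ≠ p` odd),
`N_G(Q)` solvable of odd order, centralizes `Q` -/
theorem le_centralizer_of_le_commutator_normalizer [Finite G] {p q : ℕ} [Fact p.Prime]
    [Fact q.Prime] (hqp : q ≠ p) (hq2 : q ≠ 2) {S Q : Subgroup G} (hS : IsPGroup p ↥S)
    (hQ : IsPGroup q ↥Q) (hnar : IsNarrow q ↥Q)
    (hsolv : Group.IsSolvable ↥(normalizer (Q : Set G)))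
    (hodd : Odd (Nat.card ↥(normalizer (Q : Set G))))
    (hSN : S ≤ ⁅normalizer (Q : Set G), normalizer (Q : Set G)⁆) :
    S ≤ centralizer (Q : Set G) := by
  have hpp : p.Prime := Fact.out
  have hqq : q.Prime := Fact.out
  set N : Subgroup G := normalizer (Q : Set G) with hN
  set φ₀ : ↥N →* MulAut ↥Q := Q.normalizerMonoidHom with hφ₀
  have hφapp : ∀ (a : ↥N) (x : ↥Q), ((φ₀ a x : ↥Q) : G) = (a : G) * (x : G) * (a : G)⁻¹ :=
    fun a x => rfl
  have hsolvΓ : Group.IsSolvable (↥N ⧸ φ₀.ker) := inferInstance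
  have hoddΓ : Odd (Nat.card (↥N ⧸ φ₀.ker)) :=
    Odd.of_dvd_nat hodd (Subgroup.card_quotient_dvd_card _)
  obtain ⟨hΓ, -, -⟩ := Cfsg.Agent.Helper8.Narrow.aut q hq2 hQ hnar hsolvΓ hoddΓ
    (QuotientGroup.kerLift φ₀) (QuotientGroup.kerLift_injective φ₀)
  intro s hs
  have hsN' : s ∈ ⁅N, N⁆ := hSN hs
  have hcomm_le : ⁅N, N⁆ ≤ N := by
    rw [← Subgroup.map_subtype_commutator]
    exact Subgroup.map_subtype_le _
  have hsN : s ∈ N := hcomm_le hsN'
  -- the element of `N`
  have hs' : (⟨s, hsN⟩ : ↥N) ∈ commutator ↥N := by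
    have h1 : s ∈ (commutator ↥N).map N.subtype := by
      rw [Subgroup.map_subtype_commutator]; exact hsN'
    obtain ⟨y, hy, hys⟩ := h1
    have : y = ⟨s, hsN⟩ := Subtype.ext hys
    rwa [this] at hy
  -- its image in the quotient lies in the commutator subgroup
  have hz : (QuotientGroup.mk' φ₀.ker ⟨s, hsN⟩) ∈ commutator (↥N ⧸ φ₀.ker) := by
    have h1 : (commutator ↥N).map (QuotientGroup.mk' φ₀.ker) ≤ commutator (↥N ⧸ φ₀.ker) := by
      rw [_root_.commutator_def, _root_.commutator_def, Subgroup.map_commutator]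
      exact Subgroup.commutator_mono le_top le_top
    exact h1 ⟨_, hs', rfl⟩
  -- so it has `q`-power order; it also has `p`-power order
  obtain ⟨k, hk⟩ := hΓ ⟨_, hz⟩
  have hk' : (QuotientGroup.mk' φ₀.ker ⟨s, hsN⟩) ^ (q ^ k) = 1 := by
    have := congrArg Subtype.val hk
    simpa using this
  obtain ⟨j, hj⟩ := hS ⟨s, hs⟩
  have hj' : s ^ (p ^ j) = 1 := by
    have := congrArg Subtype.val hj
    simpa using this
  have hj'' : (QuotientGroup.mk' φ₀.ker ⟨s, hsN⟩) ^ (p ^ j) = 1 := by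
    rw [← map_pow]
    have : (⟨s, hsN⟩ : ↥N) ^ (p ^ j) = 1 := Subtype.ext (by simpa using hj')
    rw [this, map_one]
  have hord1 := orderOf_dvd_of_pow_eq_one hk'
  have hord2 := orderOf_dvd_of_pow_eq_one hj''
  have hcop : (q ^ k).Coprime (p ^ j) :=
    Nat.Coprime.pow k j ((Nat.coprime_primes hqq hpp).mpr hqp)
  have hone : orderOf (QuotientGroup.mk' φ₀.ker ⟨s, hsN⟩) = 1 :=
    Nat.eq_one_of_dvd_coprimes hcop hord1 hord2
  have hker : (⟨s, hsN⟩ : ↥N) ∈ φ₀.ker := by
    have := orderOf_eq_one_iff.mp hone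
    exact (QuotientGroup.eq_one_iff _).mp this
  rw [MonoidHom.mem_ker] at hker
  rw [mem_centralizer_iff]
  intro x hx
  have h2 := DFunLike.congr_fun hker ⟨x, hx⟩
  have h3 : s * x * s⁻¹ = x := by
    have := congrArg Subtype.val h2
    rwa [hφapp] at this
  calc x * s = (s * x * s⁻¹) * s := by rw [h3]
    _ = s * x := by group

/-- conjugation by `k` maps the centralizer of `Q` onto the centralizer of the conjugate -/
theorem le_centralizer_map_conj {S Q : Subgroup G} (h : S ≤ centralizer (Q : Set G)) (k : G) :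
    S.map (MulAut.conj k).toMonoidHom ≤
      centralizer ((Q.map (MulAut.conj k).toMonoidHom : Subgroup G) : Set G) := by
  rintro _ ⟨s, hs, rfl⟩
  rw [mem_centralizer_iff]
  rintro _ ⟨x, hx, rfl⟩
  have h1 : x * s = s * x := (mem_centralizer_iff.mp (h hs)) x hx
  show k * x * k⁻¹ * (k * s * k⁻¹) = k * s * k⁻¹ * (k * x * k⁻¹)
  calc k * x * k⁻¹ * (k * s * k⁻¹) = k * (x * s) * k⁻¹ := by group
    _ = k * (s * x) * k⁻¹ := by rw [h1]
    _ = k * s * k⁻¹ * (k * x * k⁻¹) := by group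

/-- **Step 5 of Theorem 11.7** (the signalizer step) -/
theorem signaliser_centralises [Finite G] (hG : IsMinSimpleOddOrder G) {p q : ℕ} [Fact p.Prime]
    [Fact q.Prime] (hqp : q ≠ p) (A : Subgroup G) (hA : IsElementaryAbelian p A)
    (hcard : Nat.card A = p ^ 2)
    (hAmax : ∀ B : Subgroup G, IsElementaryAbelian p B → A ≤ B → B = A)
    (hqC : q ∣ Nat.card (centralizer (A : Set G))) (Qs : Subgroup G)
    (hQs : Qs ∈ maxInvSubgroups ⊤ A {q}) (T : Subgroup G) (hTQ : T ≤ Qs)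
    (hTe : IsElementaryAbelian q T) (hT2 : Nat.card T = q ^ 2)
    (hTmax : ∀ B : Subgroup G, IsElementaryAbelian q B → T ≤ B → B = T) :
    A ≤ centralizer (Qs : Set G) := by
  have hpp : p.Prime := Fact.out
  have hqq : q.Prime := Fact.out
  have hoddG : Odd (Nat.card G) := hG.1
  have hq2 : q ≠ 2 := by
    rintro rfl
    have h2 : 2 ∣ Nat.card G := hqC.trans (card_subgroup_dvd_card _)
    exact (Nat.not_even_iff_odd.mpr hoddG) (even_iff_two_dvd.mpr h2)
  have hpA : p ∣ Nat.card A := by rw [hcard]; exact dvd_pow_self p two_ne_zero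
  have hT := transHyp_of_max hG hA hpA hAmax
  have hAp : IsPGroup p ↥A := Cfsg.Agent.Helper17.BG11.isPGroup_of_elemAb hA
  have hAC : A ≤ centralizer (A : Set G) := by
    intro a ha
    rw [mem_centralizer_iff]
    intro b hb
    exact congrArg Subtype.val (hA.1.is_comm.comm ⟨b, hb⟩ ⟨a, ha⟩)
  -- the centre of `A` has rank 2
  have hZ : ¬ RankLE 1 ↥(A ⊓ centralizer (A : Set G)) := by
    rw [inf_eq_left.mpr hAC]
    intro h
    have h1 := h p hpp (⊤ : Subgroup ↥A)
      ⟨⟨fun a b => Subtype.ext (hA.1.is_comm.comm (a : ↥A) (b : ↥A))⟩⟩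
      (fun a _ => Subtype.ext (by simpa using hA.2 (a : G) a.2))
    rw [Subgroup.card_top, hcard, pow_one] at h1
    have : p ^ 1 < p ^ 2 := Nat.pow_lt_pow_right hpp.one_lt (by norm_num)
    rw [pow_one] at this
    omega
  have hqA : ¬ q ∣ Nat.card A := by
    rw [hcard]
    intro h
    exact hqp ((Nat.prime_dvd_prime_iff_eq hqq hpp).mp (hqq.dvd_of_dvd_pow h))
  have htr := Cfsg.Agent.S1394.result hG A hT hZ q hqq hqA hqC
  -- a Sylow `p`-subgroup `S` containing `A`
  obtain ⟨S, hAS⟩ := hAp.exists_le_sylow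
  have hSp : IsPGroup p ↥(S : Subgroup G) := S.isPGroup'
  have hStop : (S : Subgroup G) ≠ ⊤ := ne_top_of_isPGroup hG hSp
  have hPπ : ∀ r : ℕ, r.Prime → r ∣ Nat.card (S : Subgroup G) → r ∣ Nat.card A := by
    intro r hr hrS
    obtain ⟨n, hn⟩ := IsPGroup.iff_card.mp hSp
    rw [hn] at hrS
    have : r = p := (Nat.prime_dvd_prime_iff_eq hr hpp).mp (hr.dvd_of_dvd_pow hrS)
    rw [this]
    exact hpA
  have hsn : (A.subgroupOf (S : Subgroup G)).IsSubnormal := by
    have : Group.IsNilpotent ↥(S : Subgroup G) := hSp.isNilpotent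
    exact Cfsg.Agent.Helper14.isSubnormal_of_isNilpotent _
  obtain ⟨-, -, h3, h4⟩ :=
    Cfsg.Agent.S1395.result hG A hT q hqq hqA (S : Subgroup G) hStop hPπ hAS hsn htr
  -- a maximal `S`-invariant `q`-subgroup `Q`
  obtain ⟨Q, hQS, -⟩ := exists_maxInv_ge (q := q) (A := (S : Subgroup G)) (U := ⊥)
    (IsPGroup.of_bot) (by
      have : normalizer (((⊥ : Subgroup G) : Subgroup G) : Set G) = ⊤ :=
        Subgroup.normalizer_eq_top_iff.mpr inferInstance
      rw [this]; exact le_top)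
  have hQA : Q ∈ maxInvSubgroups ⊤ A {q} := h3 hQS
  obtain ⟨h4a, -⟩ := h4 Q hQS
  -- `S ≤ N_G(S)'`
  obtain ⟨V, hV, -⟩ := Cfsg.Agent.Helper23.BG10.exists_compl_normalizer S
  obtain ⟨-, hSN'⟩ := Cfsg.Agent.S1411.result hG p S V hV
  have hSNQ : (S : Subgroup G) ≤ ⁅normalizer (Q : Set G), normalizer (Q : Set G)⁆ :=
    (le_inf le_rfl hSN').trans h4a
  -- `Q` is a conjugate of `Qs` under `C_G(A)`
  obtain ⟨k, hk, hQk⟩ := htr Qs hQs Q hQA
  have hkC : k ∈ centralizer (A : Set G) := piCoreOf_le _ _ hk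
  obtain ⟨⟨hQq, -⟩, -⟩ := mem_maxInvSubgroups_top_iff.mp hQA
  have hTQ' : T.map (MulAut.conj k).toMonoidHom ≤ Q := by
    rw [hQk]; exact Subgroup.map_mono hTQ
  have hT2' : Nat.card ↥(T.map (MulAut.conj k).toMonoidHom) = q ^ 2 := by
    rw [← hT2]
    exact Nat.card_congr (T.equivMapOfInjective _ (MulAut.conj k).injective).symm.toEquiv
  have hnar : IsNarrow q ↥Q :=
    isNarrow_of_max_elemAb hq2 hQq hTQ' (elemAb_map_conj hTe k) hT2' (max_map_conj hTmax k)
  -- `N_G(Q)` is a proper subgroup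
  have hQ1 : Q ≠ ⊥ := by
    intro h
    rw [h] at hTQ'
    have : Nat.card ↥(T.map (MulAut.conj k).toMonoidHom) = 1 := by
      rw [le_bot_iff.mp hTQ']; exact Subgroup.card_bot
    rw [hT2'] at this
    have h1 : 1 < q ^ 2 := Nat.one_lt_pow two_ne_zero hqq.one_lt
    omega
  have hNtop : normalizer (Q : Set G) ≠ ⊤ := normalizer_ne_top_of_isPGroup hG hQq hQ1
  have hsolv : Group.IsSolvable ↥(normalizer (Q : Set G)) := isSolvable_of_ne_top hG hNtop
  have hodd : Odd (Nat.card ↥(normalizer (Q : Set G))) :=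
    Odd.of_dvd_nat hoddG (card_subgroup_dvd_card _)
  have hSCQ : (S : Subgroup G) ≤ centralizer (Q : Set G) :=
    le_centralizer_of_le_commutator_normalizer hqp hq2 hSp hQq hnar hsolv hodd hSNQ
  -- conjugate back
  intro a ha
  rw [mem_centralizer_iff]
  intro x hx
  have hka : k * a = a * k := ((mem_centralizer_iff.mp hkC) a ha).symm
  have hxQ : k * x * k⁻¹ ∈ Q := by rw [hQk]; exact ⟨x, hx, rfl⟩
  have h5 : k * x * k⁻¹ * a = a * (k * x * k⁻¹) :=
    (mem_centralizer_iff.mp (hSCQ (hAS ha))) _ hxQ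
  have hka' : k⁻¹ * a = a * k⁻¹ := by
    calc k⁻¹ * a = k⁻¹ * (a * k) * k⁻¹ := by group
      _ = k⁻¹ * (k * a) * k⁻¹ := by rw [hka]
      _ = a * k⁻¹ := by group
  calc x * a = k⁻¹ * (k * x * k⁻¹ * a) * k := by
        rw [mul_assoc (k * x) k⁻¹ a, hka']; group
    _ = k⁻¹ * (a * (k * x * k⁻¹)) * k := by rw [h5]
    _ = a * x := by
        rw [← mul_assoc k⁻¹ a, hka']; group

end Cfsg.Agent.Helper23.BG11
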