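import Mathlib

/-!
# Clifford-type lemma for a subnormal subgroup (farm-out piece P1 for helper10, S1982/S1983)

`quad_of_subnormal`: `N` abelian minimal normal in `G`, `H` subnormal, `B ≤ H`, `U ≤ N` an
`H`-invariant subgroup with `[[U,B],B] = 1` and `[[N,B],B] ≤ U`; then `[[N,B],B] = 1`.
-/

open scoped commutatorElement

namespace Cfsg.Agent.Helper23.QuadSubnormal

variable {G : Type*} [Group G]

/-- conjugate of a subgroup -/
def conjS (k : G) (E : Subgroup G) : Subgroup G := E.map (MulAut.conj k).toMonoidHom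

theorem mem_conjS {k : G} {E : Subgroup G} {y : G} : y ∈ conjS k E ↔ k⁻¹ * y * k ∈ E := by
  unfold conjS
  constructor
  · rintro ⟨x, hx, rfl⟩
    have : k⁻¹ * ((MulAut.conj k).toMonoidHom x) * k = x := by
      simp only [MulEquiv.coe_toMonoidHom, MulAut.conj_apply]; group
    rw [this]; exact hx
  · intro h
    refine ⟨k⁻¹ * y * k, h, ?_⟩
    simp [MulAut.conj_apply, mul_assoc]

theorem conjS_conjS (k' k : G) (E : Subgroup G) : conjS k' (conjS k E) = conjS (k' * k) E := by
  ext y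
  rw [mem_conjS, mem_conjS, mem_conjS]
  have : k⁻¹ * (k'⁻¹ * y * k') * k = (k' * k)⁻¹ * y * (k' * k) := by group
  rw [this]

theorem conjS_one (E : Subgroup G) : conjS 1 E = E := by
  ext y
  rw [mem_conjS]
  simp

theorem conjS_eq_bot {k : G} {E : Subgroup G} (h : conjS k E = ⊥) : E = ⊥ := by
  rw [Subgroup.eq_bot_iff_forall] at h ⊢
  intro x hx
  have h1 : k * x * k⁻¹ ∈ conjS k E := by
    rw [mem_conjS]
    have : k⁻¹ * (k * x * k⁻¹) * k = x := by group
    rw [this]; exact hx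
  have h2 := h _ h1
  have : x = k⁻¹ * (k * x * k⁻¹) * k := by group
  rw [this, h2]; group

/-- `E` is an `H`-atom inside `N`. -/
def HAtom (H N E : Subgroup G) : Prop :=
  E ≤ N ∧ E ≠ ⊥ ∧ H ≤ Subgroup.normalizer (E : Set G) ∧
    ∀ E' : Subgroup G, E' ≤ E → H ≤ Subgroup.normalizer (E' : Set G) → E' = ⊥ ∨ E' = E

theorem normalizer_conjS {H K E : Subgroup G} (hle : H ≤ K) (hn : (H.subgroupOf K).Normal)
    {k : G} (hk : k ∈ K) (hHE : H ≤ Subgroup.normalizer (E : Set G)) :
    H ≤ Subgroup.normalizer ((conjS k E : Subgroup G) : Set G) := by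
  intro h hh
  rw [Subgroup.mem_normalizer_iff]
  intro y
  rw [mem_conjS, mem_conjS]
  -- h' = k⁻¹ h k ∈ H
  have hh' : k⁻¹ * h * k ∈ H := by
    have h1 : (⟨h, hle hh⟩ : K) ∈ H.subgroupOf K := by
      rw [Subgroup.mem_subgroupOf]; exact hh
    have h2 := hn.conj_mem _ h1 (⟨k⁻¹, K.inv_mem hk⟩ : K)
    rw [Subgroup.mem_subgroupOf] at h2
    simpa using h2
  have h3 := (Subgroup.mem_normalizer_iff.mp (hHE hh')) (k⁻¹ * y * k)
  have : k⁻¹ * h * k * (k⁻¹ * y * k) * (k⁻¹ * h * k)⁻¹ = k⁻¹ * (h * y * h⁻¹) * k := by group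
  rw [this] at h3
  exact h3

theorem atom_conj {H K N E : Subgroup G} [N.Normal] (hle : H ≤ K)
    (hn : (H.subgroupOf K).Normal) (hA : HAtom H N E) {k : G} (hk : k ∈ K) :
    HAtom H N (conjS k E) := by
  obtain ⟨hEN, hE0, hHE, hEmin⟩ := hA
  refine ⟨?_, ?_, normalizer_conjS hle hn hk hHE, ?_⟩
  · intro y hy
    rw [mem_conjS] at hy
    have h1 := (inferInstance : N.Normal).conj_mem _ (hEN hy) k
    have : k * (k⁻¹ * y * k) * k⁻¹ = y := by group
    rw [this] at h1; exact h1
  · intro h; exact hE0 (conjS_eq_bot h)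
  · intro E' hE' hHE'
    have hk' : k⁻¹ ∈ K := K.inv_mem hk
    have h1 : conjS k⁻¹ E' ≤ E := by
      intro y hy
      rw [mem_conjS] at hy
      have h2 := hE' hy
      rw [mem_conjS] at h2
      have : k⁻¹ * (k⁻¹⁻¹ * y * k⁻¹) * k = y := by group
      rw [this] at h2; exact h2
    have h2 := hEmin _ h1 (normalizer_conjS hle hn hk' hHE')
    have h3 : conjS k (conjS k⁻¹ E') = E' := by
      rw [conjS_conjS]; simp [conjS_one]
    rcases h2 with h2 | h2
    · left; exact conjS_eq_bot h2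
    · right; rw [← h3, h2]

theorem cover [Finite G] (N : Subgroup G) [N.Normal]
    (hmin : ∀ K : Subgroup G, K.Normal → K ≤ N → K = ⊥ ∨ K = N)
    (H : Subgroup G) (hH : H.IsSubnormal) : N ≤ sSup {E | HAtom H N E} := by
  induction hH with
  | top =>
    by_cases hN : N = ⊥
    · rw [hN]; exact bot_le
    · refine le_sSup ⟨le_rfl, hN, ?_, ?_⟩
      · intro g _
        rw [Subgroup.mem_normalizer_iff]
        intro n
        constructor
        · intro hn; exact (inferInstance : N.Normal).conj_mem n hn g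
        · intro hn
          have := (inferInstance : N.Normal).conj_mem _ hn g⁻¹
          have h2 : g⁻¹ * (g * n * g⁻¹) * g⁻¹⁻¹ = n := by group
          rw [h2] at this; exact this
      · intro E' hE' hT
        have hnorm : E'.Normal :=
          ⟨fun n hn g => (Subgroup.mem_normalizer_iff.mp (hT (Subgroup.mem_top g)) n).mp hn⟩
        exact hmin E' hnorm hE'
  | step H K hle hK hn ih =>
    refine ih.trans (sSup_le ?_)
    rintro E ⟨hEN, hE0, hKE, hEmin⟩
    -- minimal nontrivial H-invariant subgroup of E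
    let S : Set (Subgroup G) :=
      {E1 | E1 ≤ E ∧ E1 ≠ ⊥ ∧ H ≤ Subgroup.normalizer (E1 : Set G)}
    have hSne : S.Nonempty := ⟨E, le_rfl, hE0, hle.trans hKE⟩
    obtain ⟨E1, hE1S, hmin1⟩ :=
      WellFounded.has_min (wellFounded_lt : WellFounded ((· < ·) : Subgroup G → Subgroup G → Prop))
        S hSne
    have hA1 : HAtom H N E1 := by
      refine ⟨hE1S.1.trans hEN, hE1S.2.1, hE1S.2.2, ?_⟩
      intro E' hE' hHE'
      by_cases h0 : E' = ⊥
      · left; exact h0
      · right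
        by_contra hne
        exact hmin1 E' ⟨hE'.trans hE1S.1, h0, hHE'⟩ (lt_of_le_of_ne hE' hne)
    -- join of the K-conjugates
    set F : Subgroup G := ⨆ k : K, conjS (k : G) E1 with hF
    have hconj_le : ∀ k : K, conjS (k : G) E1 ≤ E := by
      intro k y hy
      rw [mem_conjS] at hy
      have h1 := (Subgroup.mem_normalizer_iff.mp (hKE k.2) _).mp (hE1S.1 hy)
      have : (k : G) * ((k : G)⁻¹ * y * k) * (k : G)⁻¹ = y := by group
      rw [this] at h1; exact h1
    have hF_le : F ≤ E := iSup_le hconj_le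
    have hE1F : E1 ≤ F := by
      refine le_iSup_of_le (⟨1, K.one_mem⟩ : K) ?_
      show E1 ≤ conjS (1 : G) E1
      rw [conjS_one]
    have hF_ne : F ≠ ⊥ := by
      intro h
      apply hE1S.2.1
      rw [eq_bot_iff]; rw [h] at hE1F; exact hE1F
    have hmapF : ∀ k' : G, k' ∈ K → conjS k' F ≤ F := by
      intro k' hk'
      unfold conjS
      rw [hF, Subgroup.map_iSup]
      refine iSup_le ?_
      intro k
      have : (conjS (k : G) E1).map (MulAut.conj k').toMonoidHom = conjS (k' * k) E1 :=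
        conjS_conjS k' k E1
      rw [this]
      exact le_iSup (fun k : K => conjS (k : G) E1) (⟨k' * k, K.mul_mem hk' k.2⟩ : K)
    have hKF : K ≤ Subgroup.normalizer (F : Set G) := by
      intro k' hk'
      rw [Subgroup.mem_normalizer_iff]
      intro y
      constructor
      · intro hy
        apply hmapF k' hk'
        rw [mem_conjS]
        have : k'⁻¹ * (k' * y * k'⁻¹) * k' = y := by group
        rw [this]; exact hy
      · intro hy
        apply hmapF k'⁻¹ (K.inv_mem hk')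
        rw [mem_conjS]
        have : k'⁻¹⁻¹ * y * k'⁻¹ = k' * y * k'⁻¹ := by group
        rw [this]; exact hy
    have hFE : F = E := by
      rcases hEmin F hF_le hKF with h | h
      · exact absurd h hF_ne
      · exact h
    rw [← hFE]
    exact iSup_le fun k => le_sSup (atom_conj hle hn hA1 k.2)

/-- the subgroup of `N` of elements whose commutators with `B` centralize `B` -/
def quadSub (N : Subgroup G) [N.Normal] (hab : ∀ a ∈ N, ∀ b ∈ N, a * b = b * a)
    (B : Subgroup G) : Subgroup G where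
  carrier := {x | x ∈ N ∧ ∀ b ∈ B, ⁅x, b⁆ ∈ Subgroup.centralizer (B : Set G)}
  one_mem' := by
    refine ⟨N.one_mem, fun b _ => ?_⟩
    rw [commutatorElement_one_left]; exact Subgroup.one_mem _
  mul_mem' := by
    rintro x y ⟨hx, hxb⟩ ⟨hy, hyb⟩
    refine ⟨N.mul_mem hx hy, fun b hb => ?_⟩
    have hyN : ⁅y, b⁆ ∈ N := by
      rw [commutatorElement_def]
      have h1 : b * y⁻¹ * b⁻¹ ∈ N := (inferInstance : N.Normal).conj_mem _ (N.inv_mem hy) b
      have : y * b * y⁻¹ * b⁻¹ = y * (b * y⁻¹ * b⁻¹) := by group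
      rw [this]; exact N.mul_mem hy h1
    have key : ⁅x * y, b⁆ = ⁅y, b⁆ * ⁅x, b⁆ := by
      have h1 : ⁅x * y, b⁆ = x * ⁅y, b⁆ * x⁻¹ * ⁅x, b⁆ := by
        simp only [commutatorElement_def]; group
      rw [h1, hab x hx _ hyN]
      group
    rw [key]
    exact Subgroup.mul_mem _ (hyb b hb) (hxb b hb)
  inv_mem' := by
    rintro x ⟨hx, hxb⟩
    refine ⟨N.inv_mem hx, fun b hb => ?_⟩
    have hxN : ⁅x, b⁆ ∈ N := by
      rw [commutatorElement_def]
      have h1 : b * x⁻¹ * b⁻¹ ∈ N := (inferInstance : N.Normal).conj_mem _ (N.inv_mem hx) b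
      have : x * b * x⁻¹ * b⁻¹ = x * (b * x⁻¹ * b⁻¹) := by group
      rw [this]; exact N.mul_mem hx h1
    have key : ⁅x⁻¹, b⁆ = (⁅x, b⁆)⁻¹ := by
      have h1 : ⁅x⁻¹, b⁆ = x⁻¹ * (⁅x, b⁆)⁻¹ * x := by
        simp only [commutatorElement_def]; group
      rw [h1, hab x⁻¹ (N.inv_mem hx) _ (N.inv_mem hxN)]
      group
    rw [key]
    exact Subgroup.inv_mem _ (hxb b hb)

theorem comm_le_of_le_normalizer {E B : Subgroup G} (h : B ≤ Subgroup.normalizer (E : Set G)) :
    ⁅E, B⁆ ≤ E := by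
  rw [Subgroup.commutator_le]
  intro x hx b hb
  rw [commutatorElement_def]
  have h1 : b * x⁻¹ * b⁻¹ ∈ E := (Subgroup.mem_normalizer_iff.mp (h hb) _).mp (E.inv_mem hx)
  have : x * b * x⁻¹ * b⁻¹ = x * (b * x⁻¹ * b⁻¹) := by group
  rw [this]; exact E.mul_mem hx h1

theorem quad_of_subnormal {G : Type*} [Group G] [Finite G] (N : Subgroup G) [N.Normal]
    (hab : ∀ a ∈ N, ∀ b ∈ N, a * b = b * a)
    (hmin : ∀ K : Subgroup G, K.Normal → K ≤ N → K = ⊥ ∨ K = N)
    (H : Subgroup G) (hH : H.IsSubnormal) (B U : Subgroup G) (hBH : B ≤ H) (hUN : U ≤ N)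
    (hHU : H ≤ Subgroup.normalizer (U : Set G))
    (hU : ⁅⁅U, B⁆, B⁆ = ⊥) (hNU : ⁅⁅N, B⁆, B⁆ ≤ U) : ⁅⁅N, B⁆, B⁆ = ⊥ := by
  have _ := hUN
  have hcov := cover N hmin H hH
  -- every atom lies in quadSub
  have hatom : ∀ E ∈ {E | HAtom H N E}, E ≤ quadSub N hab B := by
    rintro E ⟨hEN, hE0, hHE, hEmin⟩
    have hEB : ⁅⁅E, B⁆, B⁆ = ⊥ := by
      have hinv : H ≤ Subgroup.normalizer ((E ⊓ U : Subgroup G) : Set G) := by
        intro h hh
        rw [Subgroup.mem_normalizer_iff]
        intro y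
        rw [Subgroup.mem_inf, Subgroup.mem_inf,
          Subgroup.mem_normalizer_iff.mp (hHE hh) y, Subgroup.mem_normalizer_iff.mp (hHU hh) y]
      rcases hEmin (E ⊓ U) inf_le_left hinv with h | h
      · -- E ⊓ U = ⊥
        have h1 : ⁅⁅E, B⁆, B⁆ ≤ E := by
          have hBE : B ≤ Subgroup.normalizer (E : Set G) := hBH.trans hHE
          exact (Subgroup.commutator_mono (comm_le_of_le_normalizer hBE) le_rfl).trans
            (comm_le_of_le_normalizer hBE)
        have h2 : ⁅⁅E, B⁆, B⁆ ≤ U :=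
          (Subgroup.commutator_mono (Subgroup.commutator_mono hEN le_rfl) le_rfl).trans hNU
        rw [eq_bot_iff, ← h]
        exact le_inf h1 h2
      · -- E ≤ U
        have hEU : E ≤ U := by rw [← h]; exact inf_le_right
        rw [eq_bot_iff, ← hU]
        exact Subgroup.commutator_mono (Subgroup.commutator_mono hEU le_rfl) le_rfl
    rw [Subgroup.commutator_eq_bot_iff_le_centralizer] at hEB
    intro x hx
    refine ⟨hEN hx, fun b hb => hEB (Subgroup.commutator_mem_commutator hx hb)⟩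
  have hN : N ≤ quadSub N hab B := hcov.trans (sSup_le hatom)
  rw [Subgroup.commutator_eq_bot_iff_le_centralizer, Subgroup.commutator_le]
  intro x hx b hb
  exact (hN hx).2 b hb

end Cfsg.Agent.Helper23.QuadSubnormal
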