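import Mathlib
import Cfsg.Agent.Lib.Helper10.MixDefs

/-!
S4017, PIECE RED : strong induction on the order and reduction to a simple minimal
counterexample (`Cfsg.Agent.Helper10.Mix.reduce`).
-/

set_option autoImplicit false

namespace Cfsg.Agent.Helper10.Mix

universe u

/-- the `hmix` hypothesis passes to a proper subgroup, viewed as a group -/
theorem red_hmix_subgroup {G : Type u} [Group G] [Finite G] {p q : ℕ}
    (hmix : ∀ H : Subgroup G, H ≠ ⊤ → ¬ IsPGroup q H → q ∣ Nat.card H → p ∣ Nat.card H)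
    (H : Subgroup G) (hH : H ≠ ⊤) :
    ∀ H' : Subgroup H, H' ≠ ⊤ → ¬ IsPGroup q H' → q ∣ Nat.card H' → p ∣ Nat.card H' := by
  intro H' _ h2 h3
  have e : H' ≃* H'.map H.subtype := H'.equivMapOfInjective H.subtype H.subtype_injective
  have hc : Nat.card (H'.map H.subtype) = Nat.card H' := (Nat.card_congr e.toEquiv).symm
  have key := hmix (H'.map H.subtype) ?_ ?_ ?_
  · rwa [hc] at key
  · intro h
    apply hH
    rw [eq_top_iff]
    calc ⊤ = H'.map H.subtype := h.symm
      _ ≤ H := Subgroup.map_subtype_le H'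
  · intro h
    exact h2 (h.of_equiv e.symm)
  · rwa [hc]

/-- a finite group which is not a 2-group has an odd prime divisor -/
theorem red_exists_odd_prime {K : Type u} [Group K] [Finite K] (h : ¬ IsPGroup 2 K) :
    ∃ l : ℕ, l.Prime ∧ l ∣ Nat.card K ∧ l ≠ 2 := by
  have : Fact (Nat.Prime 2) := ⟨Nat.prime_two⟩
  rcases Nat.eq_two_pow_or_exists_odd_prime_and_dvd (Nat.card K) with ⟨k, hk⟩ | ⟨l, hl, hlK, hodd⟩
  · exact absurd (IsPGroup.iff_card.2 ⟨k, hk⟩) h
  · refine ⟨l, hl, hlK, ?_⟩
    rintro rfl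
    exact absurd hodd (by decide)

theorem reduce_aux
    (hcase1 : ∀ (K : Type u) [Group K] [Finite K] (p q : ℕ), p.Prime → q.Prime → p ≠ q →
      p ∣ Nat.card K → q ∣ Nat.card K →
      (∀ H : Subgroup K, H ≠ ⊤ → ¬ IsPGroup q H → q ∣ Nat.card H → p ∣ Nat.card H) →
      q ^ (Nat.card K).factorization q - 1 < p →
      ∀ r : ℕ, r.Prime → r ∣ Nat.card K → r = p ∨ r = q)
    (hsimple : ∀ (K : Type u) [Group K] [Finite K] (p a r : ℕ), p.Prime → p ≠ 2 → 2 ≤ a →
      p + 1 = 2 ^ a → p ∣ Nat.card K → (Nat.card K).factorization 2 = a →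
      (∀ H : Subgroup K, H ≠ ⊤ → 2 ∣ Nat.card H →
        ∀ r : ℕ, r.Prime → r ∣ Nat.card H → r = 2 ∨ r = p) →
      r.Prime → r ∣ Nat.card K → r ≠ 2 → r ≠ p →
      (∀ N : Subgroup K, N.Normal → N ≠ ⊥ → IsPGroup p N → p ∣ Nat.card (K ⧸ N) →
        ∀ r' : ℕ, r'.Prime → r' ∣ Nat.card (K ⧸ N) → r' = 2 ∨ r' = p) →
      IsSimpleGroup K)
    (hcfg : ∀ (K : Type u) [Group K] [Finite K] (p a : ℕ), Cfg K p a → False) :
    ∀ (n : ℕ) (G : Type u) [Group G] [Finite G], Nat.card G = n →
    ∀ {p q : ℕ}, p.Prime → q.Prime → p ≠ q → p ≠ 2 → p ∣ Nat.card G → q ∣ Nat.card G →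
    (∀ H : Subgroup G, H ≠ ⊤ → ¬ IsPGroup q H → q ∣ Nat.card H → p ∣ Nat.card H) →
    (q ^ (Nat.card G).factorization q - 1 < p ∨
      (p = q ^ (Nat.card G).factorization q - 1 ∧ ∀ P : Sylow p G, IsMulCommutative P)) →
    ∀ r : ℕ, r.Prime → r ∣ Nat.card G → r = p ∨ r = q := by
  intro n
  induction n using Nat.strong_induction_on with
  | _ n IH =>
    intro G _ _ hn p q hp hq hpq hp2 hpG hqG hmix hlarge
    rcases hlarge with hl | ⟨hpe, hab⟩
    · exact hcase1 G p q hp hq hpq hpG hqG hmix hl
    · generalize ha_def : (Nat.card G).factorization q = a at hpe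
      have hp3 : 3 ≤ p := by
        have := hp.two_le
        omega
      have hqpos : 0 < q ^ a := pow_pos hq.pos a
      have hqa : q ^ a = p + 1 := by omega
      have hpodd : Odd p := hp.odd_of_ne_two hp2
      have h2qa : 2 ∣ q ^ a := by
        rw [hqa]
        obtain ⟨m, hm⟩ := hpodd
        exact ⟨m + 1, by omega⟩
      have hq2 : q = 2 :=
        ((Nat.prime_dvd_prime_iff_eq Nat.prime_two hq).1 (Nat.prime_two.dvd_of_dvd_pow h2qa)).symm
      subst hq2
      have ha2 : 2 ≤ a := by
        by_contra hlt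
        have : a = 0 ∨ a = 1 := by omega
        rcases this with rfl | rfl <;> omega
      have hpa : p + 1 = 2 ^ a := hqa.symm
      have : Fact p.Prime := ⟨hp⟩
      have : Fact (Nat.Prime 2) := ⟨Nat.prime_two⟩
      have hG0 : Nat.card G ≠ 0 := Nat.card_pos.ne'
      intro r hr hrG
      by_contra hne
      push Not at hne
      -- p-subgroups are abelian
      have abel : ∀ H : Subgroup G, IsPGroup p H → ∀ x ∈ H, ∀ y ∈ H, x * y = y * x := by
        intro H hH x hx y hy
        obtain ⟨P, hP⟩ := hH.exists_le_sylow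
        have h := (isMulCommutative_iff.1 (hab P)) ⟨x, hP hx⟩ ⟨y, hP hy⟩
        exact congrArg Subtype.val h
      -- proper even subgroups are {2,p}-groups
      have even : ∀ H : Subgroup G, H ≠ ⊤ → 2 ∣ Nat.card H →
          ∀ r : ℕ, r.Prime → r ∣ Nat.card H → r = 2 ∨ r = p := by
        intro H hH h2 r' hr' hr'H
        by_cases hH2 : IsPGroup 2 H
        · obtain ⟨k, hk⟩ := IsPGroup.iff_card.1 hH2
          left
          rw [hk] at hr'H
          exact (Nat.prime_dvd_prime_iff_eq hr' Nat.prime_two).1 (hr'.dvd_of_dvd_pow hr'H)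
        · have hpH := hmix H hH hH2 h2
          have hlt : Nat.card H < n := by
            rw [← hn]
            exact lt_of_le_of_ne H.card_le_card_group (fun h => hH ((Subgroup.card_eq_iff_eq_top H).1 h))
          have hH0 : Nat.card H ≠ 0 := Nat.card_pos.ne'
          have hb : (Nat.card H).factorization 2 ≤ a := by
            rw [← ha_def]
            exact (Nat.factorization_le_iff_dvd hH0 hG0).2 H.card_subgroup_dvd_card 2
          have hlargeH : 2 ^ (Nat.card H).factorization 2 - 1 < p ∨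
              (p = 2 ^ (Nat.card H).factorization 2 - 1 ∧ ∀ P : Sylow p H, IsMulCommutative P) := by
            rcases lt_or_eq_of_le hb with hb | hb
            · left
              have := Nat.pow_lt_pow_right (a := 2) (by norm_num) hb
              have := Nat.pow_pos (n := (Nat.card H).factorization 2) (a := 2) (by norm_num)
              omega
            · right
              refine ⟨by rw [hb]; exact hpe, fun P => ?_⟩
              refine isMulCommutative_iff.2 fun x y => ?_
              apply Subtype.ext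
              apply Subtype.ext
              exact abel ((P : Subgroup H).map H.subtype) (P.2.map H.subtype)
                x.1.1 ⟨x.1, x.2, rfl⟩ y.1.1 ⟨y.1, y.2, rfl⟩
          have := IH (Nat.card H) hlt H rfl hp Nat.prime_two hpq hp2 hpH h2
            (red_hmix_subgroup hmix H hH) hlargeH r' hr' hr'H
          exact this.symm
      -- quotients by normal p-subgroups
      have hquot : ∀ N : Subgroup G, N.Normal → N ≠ ⊥ → IsPGroup p N → p ∣ Nat.card (G ⧸ N) →
          ∀ r' : ℕ, r'.Prime → r' ∣ Nat.card (G ⧸ N) → r' = 2 ∨ r' = p := by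
        intro N hN hN1 hNp hpQ r' hr' hr'Q
        have hcard : Nat.card G = Nat.card (G ⧸ N) * Nat.card N :=
          Subgroup.card_eq_card_quotient_mul_card_subgroup N
        obtain ⟨k, hk⟩ := IsPGroup.iff_card.1 hNp
        have hN2 : 1 < Nat.card N := (Subgroup.one_lt_card_iff_ne_bot N).2 hN1
        have hQ0 : Nat.card (G ⧸ N) ≠ 0 := Nat.card_pos.ne'
        have hlt : Nat.card (G ⧸ N) < n := by
          rw [← hn, hcard]
          have : 0 < Nat.card (G ⧸ N) := Nat.card_pos
          nlinarith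
        have hcop : Nat.Coprime 2 (Nat.card N) := by
          rw [hk]
          exact Nat.Coprime.pow_right k ((Nat.coprime_primes Nat.prime_two hp).2 (Ne.symm hp2))
        have h2Q : 2 ∣ Nat.card (G ⧸ N) := by
          have : 2 ∣ Nat.card (G ⧸ N) * Nat.card N := hcard ▸ hqG
          exact hcop.dvd_of_dvd_mul_right this
        have hfac : (Nat.card (G ⧸ N)).factorization 2 = a := by
          rw [← ha_def, hcard, Nat.factorization_mul hQ0 (by omega)]
          simp only [Finsupp.coe_add, Pi.add_apply]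
          rw [hk, Nat.Prime.factorization_pow hp]
          simp [hp2]
        have hsurj := QuotientGroup.mk'_surjective N
        have hmixQ : ∀ H' : Subgroup (G ⧸ N), H' ≠ ⊤ → ¬ IsPGroup 2 H' → 2 ∣ Nat.card H' →
            p ∣ Nat.card H' := by
          intro H' hH' hH'2 h2H'
          have hmap : (H'.comap (QuotientGroup.mk' N)).map (QuotientGroup.mk' N) = H' :=
            Subgroup.map_comap_eq_self_of_surjective hsurj H'
          have hH''top : H'.comap (QuotientGroup.mk' N) ≠ ⊤ := by
            intro h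
            apply hH'
            rw [← hmap, h, ← MonoidHom.range_eq_map, MonoidHom.range_eq_top.2 hsurj]
          have hdvd : Nat.card H' ∣ Nat.card (H'.comap (QuotientGroup.mk' N)) := by
            conv_lhs => rw [← hmap]
            exact Subgroup.card_map_dvd _ _
          obtain ⟨l, hl, hlH', hl2⟩ := red_exists_odd_prime hH'2
          rcases even _ hH''top (dvd_trans h2H' hdvd) l hl (dvd_trans hlH' hdvd) with h | h
          · exact absurd h hl2
          · exact h ▸ hlH'
        have hlargeQ : 2 ^ (Nat.card (G ⧸ N)).factorization 2 - 1 < p ∨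
            (p = 2 ^ (Nat.card (G ⧸ N)).factorization 2 - 1 ∧
              ∀ P : Sylow p (G ⧸ N), IsMulCommutative P) := by
          right
          refine ⟨by rw [hfac]; exact hpe, fun P => ?_⟩
          refine isMulCommutative_iff.2 fun x y => ?_
          apply Subtype.ext
          obtain ⟨gx, hgx⟩ := hsurj x.1
          obtain ⟨gy, hgy⟩ := hsurj y.1
          have hC : IsPGroup p ((P : Subgroup (G ⧸ N)).comap (QuotientGroup.mk' N)) :=
            P.2.comap_of_ker_isPGroup (QuotientGroup.mk' N) (by rw [QuotientGroup.ker_mk']; exact hNp)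
          have hc := abel _ hC gx (by rw [Subgroup.mem_comap, hgx]; exact x.2) gy
            (by rw [Subgroup.mem_comap, hgy]; exact y.2)
          show x.1 * y.1 = y.1 * x.1
          rw [← hgx, ← hgy, ← map_mul, ← map_mul, hc]
        have := IH _ hlt (G ⧸ N) rfl hp Nat.prime_two hpq hp2 hpQ h2Q hmixQ hlargeQ r' hr' hr'Q
        exact this.symm
      have hs : IsSimpleGroup G :=
        hsimple G p a r hp hp2 ha2 hpa hpG ha_def even hr hrG hne.2 hne.1 hquot
      exact hcfg G p a ⟨hp, ha2, hpa, hs, ha_def, abel, even⟩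

/-! ### PIECE RED : induction + reduction to a simple minimal counterexample -/
theorem reduce
    (hcase1 : ∀ (K : Type u) [Group K] [Finite K] (p q : ℕ), p.Prime → q.Prime → p ≠ q →
      p ∣ Nat.card K → q ∣ Nat.card K →
      (∀ H : Subgroup K, H ≠ ⊤ → ¬ IsPGroup q H → q ∣ Nat.card H → p ∣ Nat.card H) →
      q ^ (Nat.card K).factorization q - 1 < p →
      ∀ r : ℕ, r.Prime → r ∣ Nat.card K → r = p ∨ r = q)
    (hsimple : ∀ (K : Type u) [Group K] [Finite K] (p a r : ℕ), p.Prime → p ≠ 2 → 2 ≤ a →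
      p + 1 = 2 ^ a → p ∣ Nat.card K → (Nat.card K).factorization 2 = a →
      (∀ H : Subgroup K, H ≠ ⊤ → 2 ∣ Nat.card H →
        ∀ r : ℕ, r.Prime → r ∣ Nat.card H → r = 2 ∨ r = p) →
      r.Prime → r ∣ Nat.card K → r ≠ 2 → r ≠ p →
      (∀ N : Subgroup K, N.Normal → N ≠ ⊥ → IsPGroup p N → p ∣ Nat.card (K ⧸ N) →
        ∀ r' : ℕ, r'.Prime → r' ∣ Nat.card (K ⧸ N) → r' = 2 ∨ r' = p) →
      IsSimpleGroup K)
    (hcfg : ∀ (K : Type u) [Group K] [Finite K] (p a : ℕ), Cfg K p a → False)
    {G : Type u} [Group G] [Finite G]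
    {p q : ℕ} (hp : p.Prime) (hq : q.Prime) (hpq : p ≠ q) (hp2 : p ≠ 2)
    (hpG : p ∣ Nat.card G) (hqG : q ∣ Nat.card G)
    (hmix : ∀ H : Subgroup G, H ≠ ⊤ → ¬ IsPGroup q H → q ∣ Nat.card H → p ∣ Nat.card H)
    (hlarge : q ^ (Nat.card G).factorization q - 1 < p ∨
      (p = q ^ (Nat.card G).factorization q - 1 ∧ ∀ P : Sylow p G, IsMulCommutative P)) :
    ∀ r : ℕ, r.Prime → r ∣ Nat.card G → r = p ∨ r = q :=
  reduce_aux hcase1 hsimple hcfg (Nat.card G) G rfl hp hq hpq hp2 hpG hqG hmix hlarge

end Cfsg.Agent.Helper10.Mix
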