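import Mathlib
import Cfsg.Agent.Lib.Helper10.PCDefs

/-!
# S2276 piece GOODCONJ : invariance of `Good` under even conjugation and symmetry
-/

set_option autoImplicit false
set_option linter.unusedSectionVars false

namespace Cfsg.Agent.Helper10.PC

open Equiv Equiv.Perm

universe u

section general
variable {Ω : Type u} [Fintype Ω] [DecidableEq Ω]

theorem goodconj_isPElt_conj_iff (p : ℕ) (k x : Perm Ω) : IsPElt p (k * x * k⁻¹) ↔ IsPElt p x := by
  unfold IsPElt
  constructor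
  · rintro ⟨n, hn⟩
    refine ⟨n, ?_⟩
    rw [conj_pow] at hn
    have : x ^ p ^ n = k⁻¹ * (k * x ^ p ^ n * k⁻¹) * k := by group
    rw [this, hn]
    group
  · rintro ⟨n, hn⟩
    refine ⟨n, ?_⟩
    rw [conj_pow, hn]
    group

theorem goodconj_solvable_conj_iff (k a b : Perm Ω) :
    Group.IsSolvable ↥(Subgroup.closure ({k * a * k⁻¹, k * b * k⁻¹} : Set (Perm Ω))) ↔
      Group.IsSolvable ↥(Subgroup.closure ({a, b} : Set (Perm Ω))) := by
  have hinj : Function.Injective (MulAut.conj k).toMonoidHom := (MulAut.conj k).injective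
  have e : Subgroup.closure ({k * a * k⁻¹, k * b * k⁻¹} : Set (Perm Ω)) =
      (Subgroup.closure ({a, b} : Set (Perm Ω))).map (MulAut.conj k).toMonoidHom := by
    rw [MonoidHom.map_closure, Set.image_pair]
    rfl
  rw [e]
  have E := Subgroup.equivMapOfInjective (Subgroup.closure ({a, b} : Set (Perm Ω)))
    (MulAut.conj k).toMonoidHom hinj
  constructor
  · intro h
    exact Group.isSolvable_of_surjective (f := E.symm.toMonoidHom) E.symm.surjective
  · intro h
    exact Group.isSolvable_of_surjective (f := E.toMonoidHom) E.surjective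

theorem good_conj_right (p : ℕ) (u w h : Perm Ω) (hh : Perm.sign h = 1)
    (H : Good p u (h * w * h⁻¹)) : Good p u w := by
  obtain ⟨g, hg, h1, h2⟩ := H
  have e : g * h * w * (g * h)⁻¹ = g * (h * w * h⁻¹) * g⁻¹ := by group
  refine ⟨g * h, by rw [map_mul, hg, hh, one_mul], ?_, ?_⟩
  · rw [e]; exact h1
  · rw [e]; exact h2

theorem good_conj_left (p : ℕ) (u w h : Perm Ω) (hh : Perm.sign h = 1)
    (H : Good p (h * u * h⁻¹) w) : Good p u w := by
  obtain ⟨g, hg, h1, h2⟩ := H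
  refine ⟨h⁻¹ * g, by rw [map_mul, map_inv, hg, hh, inv_one, one_mul], ?_, ?_⟩
  · intro hP
    apply h1
    have e : h * u * h⁻¹ * (g * w * g⁻¹) = h * (u * (h⁻¹ * g * w * (h⁻¹ * g)⁻¹)) * h⁻¹ := by group
    rw [e, goodconj_isPElt_conj_iff]
    exact hP
  · intro hS
    apply h2
    have e1 : h * u * h⁻¹ = h * u * h⁻¹ := rfl
    have e2 : g * w * g⁻¹ = h * (h⁻¹ * g * w * (h⁻¹ * g)⁻¹) * h⁻¹ := by group
    rw [e2, goodconj_solvable_conj_iff]
    exact hS

theorem good_symm (p : ℕ) (u w : Perm Ω) (H : Good p w u) : Good p u w := by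
  obtain ⟨g, hg, h1, h2⟩ := H
  refine ⟨g⁻¹, by rw [map_inv, hg, inv_one], ?_, ?_⟩
  · intro hP
    apply h1
    -- `w * (g u g⁻¹)` is conjugate to `u * (g⁻¹ w g)`
    have e : w * (g * u * g⁻¹) = (w * g) * (u * (g⁻¹ * w * g⁻¹⁻¹)) * (w * g)⁻¹ := by group
    rw [e, goodconj_isPElt_conj_iff]
    exact hP
  · intro hS
    apply h2
    have e2 : w = g * (g⁻¹ * w * g⁻¹⁻¹) * g⁻¹ := by group
    have e3 : ({w, g * u * g⁻¹} : Set (Perm Ω)) = {g * u * g⁻¹, g * (g⁻¹ * w * g⁻¹⁻¹) * g⁻¹} := by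
      rw [← e2, Set.pair_comm]
    rw [e3, goodconj_solvable_conj_iff]
    exact hS

end general

end Cfsg.Agent.Helper10.PC
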