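import Mathlib
import Cfsg.Agent.Lib.Helper10.PCDefs
import Cfsg.Agent.Lib.Helper10.PCBasic
import Cfsg.Agent.Lib.Helper16.PCEXT
import Cfsg.Agent.Lib.Helper20.PCFIRSTRET

/-!
# S2276 piece I2C, core : `u = rot n`, `n = p q`, `w` a single `p`-cycle (piece NSROT as hypotheses)
-/

set_option autoImplicit false
set_option linter.unusedSectionVars false
set_option linter.unusedVariables false

namespace Cfsg.Agent.Helper10.PC

open Equiv Equiv.Perm

theorem i2c_conj_apply {Ω : Type*} (g w : Perm Ω) (x : Ω) : (g * w * g⁻¹) (g x) = g (w x) := by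
  simp

theorem i2c_dmap_injective (p q n : ℕ) (hq : 0 < q) (hn : n = p * q) [NeZero p] :
    Function.Injective (dmap p q n) := by
  intro a b h
  unfold dmap at h
  rw [ZMod.natCast_eq_natCast_iff'] at h
  have ha : a.val * q < n := by
    rw [hn]; exact Nat.mul_lt_mul_of_pos_right (ZMod.val_lt a) hq
  have hb : b.val * q < n := by
    rw [hn]; exact Nat.mul_lt_mul_of_pos_right (ZMod.val_lt b) hq
  rw [Nat.mod_eq_of_lt ha, Nat.mod_eq_of_lt hb] at h
  exact ZMod.val_injective p (Nat.eq_of_mul_eq_mul_right hq h)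

/-- the points of the cycle of `c`, indexed by `ZMod p` -/
theorem i2c_src_injective {Ω : Type*} [Fintype Ω] [DecidableEq Ω] (p : ℕ) [NeZero p] (w : Perm Ω) (c : Ω)
    (hc : Function.minimalPeriod w c = p) :
    Function.Injective (fun k : ZMod p => (w ^ k.val) c) := by
  intro a b h
  have h1 := (pow_apply_eq_iff w c a.val b.val).1 h
  rw [hc] at h1
  have := Nat.ModEq.eq_of_lt_of_lt h1 (ZMod.val_lt a) (ZMod.val_lt b)
  exact ZMod.val_injective p this

theorem i2c_src_succ {Ω : Type*} [Fintype Ω] [DecidableEq Ω] (p : ℕ) [NeZero p] (w : Perm Ω) (c : Ω)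
    (hc : Function.minimalPeriod w c = p) (k : ZMod p) :
    w ((w ^ k.val) c) = (w ^ (k + 1).val) c := by
  have h1 : w ((w ^ k.val) c) = (w ^ (k.val + 1)) c := by
    rw [pow_succ', Perm.mul_apply]
  rw [h1, pow_apply_eq_iff, hc, ZMod.val_add]
  by_cases hp1 : p = 1
  · subst hp1
    exact Nat.modEq_one
  · have : Fact (1 < p) := ⟨lt_of_le_of_ne (Nat.pos_of_ne_zero (NeZero.ne p)) (Ne.symm hp1)⟩
    rw [ZMod.val_one]
    exact (Nat.mod_modEq _ _).symm

theorem i2c_src_nat {Ω : Type*} [Fintype Ω] [DecidableEq Ω] (p : ℕ) [NeZero p] (w : Perm Ω) (c : Ω)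
    (hc : Function.minimalPeriod w c = p) (k : ℕ) :
    (w ^ k) c = (w ^ ((k : ZMod p)).val) c := by
  rw [pow_apply_eq_iff, hc, ZMod.val_natCast]
  exact (Nat.mod_modEq _ _).symm

theorem i2c_val_two (p : ℕ) (hp5 : 5 ≤ p) : (2 : ZMod p).val = 2 := by
  have : (2 : ZMod p) = ((2 : ℕ) : ZMod p) := by norm_cast
  rw [this, ZMod.val_natCast]
  exact Nat.mod_eq_of_lt (by omega)

theorem i2c_core (p q n : ℕ) (hp : p.Prime) (hp5 : 5 ≤ p) (hq : 5 ≤ q) (hn : n = p * q) [NeZero n]
    (w : Perm (ZMod n)) (hw : IsPElt p w) (c : ZMod n)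
    (hc : Function.minimalPeriod w c = p) (hsupp : ∀ y, w y ≠ y → y ∈ orb w c)
    (hrot : ∀ (w' : Perm (ZMod n)) (m : ℕ) (s : Perm (ZMod p)),
      (∀ k : ZMod p, (w' ^ m) (dmap p q n (s k)) = dmap p q n (s (k + 1))) →
      s * rot p * s⁻¹ ∉ Subgroup.zpowers (rot p) →
      ¬ Group.IsSolvable ↥(Subgroup.closure ({rot n, w'} : Set (Perm (ZMod n)))))
    (hs01 : (Equiv.swap (0 : ZMod p) 1) * rot p * (Equiv.swap (0 : ZMod p) 1)⁻¹ ∉
      Subgroup.zpowers (rot p)) :
    Good p (rot n) w := by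
  have : NeZero p := ⟨hp.ne_zero⟩
  have : Fact (1 < p) := ⟨hp.one_lt⟩
  have hq0 : 0 < q := by omega
  set s : Perm (ZMod p) := Equiv.swap 0 1 with hs
  have hsrc := i2c_src_injective p w c hc
  have htgt : Function.Injective (fun k : ZMod p => dmap p q n (s k)) :=
    (i2c_dmap_injective p q n hq0 hn).comp s.injective
  have hfree : Fintype.card (ZMod p) + 2 ≤ Fintype.card (ZMod n) := by
    rw [ZMod.card, ZMod.card, hn]
    nlinarith
  obtain ⟨g, hg, hgs⟩ := exists_even_extend (fun k : ZMod p => (w ^ k.val) c)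
    (fun k : ZMod p => dmap p q n (s k)) hsrc htgt hfree
  have hgs' : ∀ k : ZMod p, g ((w ^ k.val) c) = dmap p q n (s k) := hgs
  have key : ∀ k : ZMod p, (g * w * g⁻¹) (dmap p q n (s k)) = dmap p q n (s (k + 1)) := by
    intro k
    rw [← hgs' k, i2c_conj_apply, i2c_src_succ p w c hc k, hgs' (k + 1)]
  have hd0 : dmap p q n 0 = 0 := by
    unfold dmap
    rw [ZMod.val_zero, Nat.zero_mul, Nat.cast_zero]
  have hd1 : dmap p q n 1 = ((q : ℕ) : ZMod n) := by
    unfold dmap
    rw [ZMod.val_one, Nat.one_mul]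
  have hd2 : dmap p q n 2 = ((2 * q : ℕ) : ZMod n) := by
    unfold dmap
    rw [i2c_val_two p hp5]
  have h01 : (0 : ZMod p) ≠ 1 := zero_ne_one
  have h20 : (2 : ZMod p) ≠ 0 := by
    intro h
    have := congrArg ZMod.val h
    rw [i2c_val_two p hp5, ZMod.val_zero] at this
    omega
  have h21 : (2 : ZMod p) ≠ 1 := by
    intro h
    have := congrArg ZMod.val h
    rw [i2c_val_two p hp5, ZMod.val_one] at this
    omega
  have hs0 : s 0 = 1 := Equiv.swap_apply_left 0 1
  have hs1 : s 1 = 0 := Equiv.swap_apply_right 0 1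
  have hs2 : s 2 = 2 := Equiv.swap_apply_of_ne_of_ne h20 h21
  refine ⟨g, hg, ?_, ?_⟩
  · apply not_isPElt_firstret p q n hp hp5 hn (g * w * g⁻¹)
    · intro x hx
      have hx' : x = g (g⁻¹ x) := by simp
      have hy : w (g⁻¹ x) ≠ g⁻¹ x := by
        intro h
        apply hx
        conv_lhs => rw [hx']
        rw [i2c_conj_apply, h, ← hx']
      obtain ⟨k, hk⟩ := hsupp _ hy
      rw [i2c_src_nat p w c hc k] at hk
      have : x = dmap p q n (s (k : ZMod p)) := by
        rw [hx', ← hk, hgs']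
      rw [this]
      exact ⟨(s (k : ZMod p)).val, rfl⟩
    · have := key 0
      rw [hs0, zero_add, hs1, hd1, hd0] at this
      exact this
    · have := key 1
      rw [hs1, one_add_one_eq_two, hs2, hd0, hd2] at this
      exact this
  · apply hrot (g * w * g⁻¹) 1 s
    · intro k
      rw [pow_one]
      exact key k
    · exact hs01

end Cfsg.Agent.Helper10.PC
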