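import Mathlib
import Cfsg.Agent.Lib.Helper10.PCDefs
import Cfsg.Agent.Lib.Helper23.PCI2CCore
import Cfsg.Agent.Lib.Helper19.PCCERTP

/-!
# S2276 piece I2B, core : `u = rot n`, `n = p q`, `w` with two cycles of length `p` (piece NSROT as hypotheses)
-/

set_option autoImplicit false
set_option linter.unusedSectionVars false
set_option linter.unusedVariables false

namespace Cfsg.Agent.Helper10.PC

open Equiv Equiv.Perm

/-- the targets `2, 3, 4, 1` of the first four points of the second cycle -/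
def i2b_tn : Fin 4 → ℕ := ![2, 3, 4, 1]

theorem i2b_tn_injective : Function.Injective i2b_tn := by decide

theorem i2b_tn_pos (j : Fin 4) : 1 ≤ i2b_tn j := by
  fin_cases j <;> simp [i2b_tn]

theorem i2b_tn_le (j : Fin 4) : i2b_tn j ≤ 4 := by
  fin_cases j <;> simp [i2b_tn]

theorem i2b_pow_period {Ω : Type*} [Fintype Ω] [DecidableEq Ω] (w : Perm Ω) (c : Ω) (j : ℕ) :
    (w ^ (j * Function.minimalPeriod w c)) c = c := by
  have := (pow_apply_eq_iff w c (j * Function.minimalPeriod w c) 0).2
    ((Nat.modEq_zero_iff_dvd).2 (Dvd.intro_left j rfl))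
  rwa [pow_zero, Perm.one_apply] at this

theorem i2b_core (p q n : ℕ) (hp : p.Prime) (hp5 : 5 ≤ p) (hq : 5 ≤ q) (hn : n = p * q) [NeZero n]
    (w : Perm (ZMod n)) (hw : IsPElt p w) (c c' : ZMod n)
    (hc : Function.minimalPeriod w c = p) (hc' : Function.minimalPeriod w c' = p)
    (hcc' : c' ∉ orb w c)
    (hrot : ∀ (w' : Perm (ZMod n)) (m : ℕ) (s : Perm (ZMod p)),
      (∀ k : ZMod p, (w' ^ m) (dmap p q n (s k)) = dmap p q n (s (k + 1))) →
      s * rot p * s⁻¹ ∉ Subgroup.zpowers (rot p) →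
      ¬ Group.IsSolvable ↥(Subgroup.closure ({rot n, w'} : Set (Perm (ZMod n)))))
    (h12 : (Equiv.swap (1 : ZMod p) 2) * rot p * (Equiv.swap (1 : ZMod p) 2)⁻¹ ∉
      Subgroup.zpowers (rot p)) : Good p (rot n) w := by
  have : NeZero p := ⟨hp.ne_zero⟩
  have : Fact (1 < p) := ⟨hp.one_lt⟩
  have hq0 : 0 < q := by omega
  have hn25 : 25 ≤ n := by rw [hn]; nlinarith
  set s : Perm (ZMod p) := Equiv.swap 1 2 with hs
  set src : ZMod p ⊕ Fin 4 → ZMod n :=
    Sum.elim (fun k : ZMod p => (w ^ k.val) c) (fun j : Fin 4 => (w ^ j.val) c') with hsrcdef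
  set tgt : ZMod p ⊕ Fin 4 → ZMod n :=
    Sum.elim (fun k : ZMod p => dmap p q n (s k)) (fun j : Fin 4 => ((i2b_tn j : ℕ) : ZMod n)) with htgtdef
  have hsrc : Function.Injective src := by
    rintro (a | a) (b | b) h
    · exact congrArg Sum.inl (i2c_src_injective p w c hc h)
    · exfalso
      apply hcc'
      have h' : (w ^ a.val) c = (w ^ b.val) c' := h
      refine ⟨a.val + b.val * (p - 1), ?_⟩
      rw [add_comm, pow_add, Perm.mul_apply, h', ← Perm.mul_apply, ← pow_add]
      have e : b.val * (p - 1) + b.val = b.val * Function.minimalPeriod w c' := by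
        rw [hc']
        have : 1 ≤ p := hp.one_lt.le
        calc b.val * (p - 1) + b.val = b.val * ((p - 1) + 1) := by ring
          _ = b.val * p := by rw [Nat.sub_add_cancel this]
      rw [e, i2b_pow_period]
    · exfalso
      apply hcc'
      have h' : (w ^ a.val) c' = (w ^ b.val) c := h
      refine ⟨b.val + a.val * (p - 1), ?_⟩
      rw [add_comm, pow_add, Perm.mul_apply, ← h', ← Perm.mul_apply, ← pow_add]
      have e : a.val * (p - 1) + a.val = a.val * Function.minimalPeriod w c' := by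
        rw [hc']
        have : 1 ≤ p := hp.one_lt.le
        calc a.val * (p - 1) + a.val = a.val * ((p - 1) + 1) := by ring
          _ = a.val * p := by rw [Nat.sub_add_cancel this]
      rw [e, i2b_pow_period]
    · have h' : (w ^ a.val) c' = (w ^ b.val) c' := h
      have h1 := (pow_apply_eq_iff w c' a.val b.val).1 h'
      rw [hc'] at h1
      have ha : a.val < p := lt_of_lt_of_le a.2 (by omega)
      have hb : b.val < p := lt_of_lt_of_le b.2 (by omega)
      exact congrArg Sum.inr (Fin.ext (Nat.ModEq.eq_of_lt_of_lt h1 ha hb))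
  have htgt : Function.Injective tgt := by
    rintro (a | a) (b | b) h
    · exact congrArg Sum.inl (s.injective (i2c_dmap_injective p q n hq0 hn h))
    · exfalso
      have h' : dmap p q n (s a) = ((i2b_tn b : ℕ) : ZMod n) := h
      unfold dmap at h'
      rw [ZMod.natCast_eq_natCast_iff'] at h'
      have h1 : (s a).val * q < n := by
        rw [hn]; exact Nat.mul_lt_mul_of_pos_right (ZMod.val_lt _) hq0
      have h2 : i2b_tn b < n := lt_of_le_of_lt (i2b_tn_le b) (by omega)
      rw [Nat.mod_eq_of_lt h1, Nat.mod_eq_of_lt h2] at h'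
      have h3 := i2b_tn_pos b
      have h4 := i2b_tn_le b
      rcases Nat.eq_zero_or_pos (s a).val with h0 | h0
      · rw [h0] at h'; omega
      · have : q ≤ (s a).val * q := Nat.le_mul_of_pos_left q h0
        omega
    · exfalso
      have h' : ((i2b_tn a : ℕ) : ZMod n) = dmap p q n (s b) := h
      unfold dmap at h'
      rw [ZMod.natCast_eq_natCast_iff'] at h'
      have h1 : (s b).val * q < n := by
        rw [hn]; exact Nat.mul_lt_mul_of_pos_right (ZMod.val_lt _) hq0
      have h2 : i2b_tn a < n := lt_of_le_of_lt (i2b_tn_le a) (by omega)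
      rw [Nat.mod_eq_of_lt h1, Nat.mod_eq_of_lt h2] at h'
      have h3 := i2b_tn_pos a
      have h4 := i2b_tn_le a
      rcases Nat.eq_zero_or_pos (s b).val with h0 | h0
      · rw [h0] at h'; omega
      · have : q ≤ (s b).val * q := Nat.le_mul_of_pos_left q h0
        omega
    · have h' : ((i2b_tn a : ℕ) : ZMod n) = ((i2b_tn b : ℕ) : ZMod n) := h
      rw [ZMod.natCast_eq_natCast_iff'] at h'
      have h1 : i2b_tn a < n := lt_of_le_of_lt (i2b_tn_le a) (by omega)
      have h2 : i2b_tn b < n := lt_of_le_of_lt (i2b_tn_le b) (by omega)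
      rw [Nat.mod_eq_of_lt h1, Nat.mod_eq_of_lt h2] at h'
      exact congrArg Sum.inr (i2b_tn_injective h')
  have hfree : Fintype.card (ZMod p ⊕ Fin 4) + 2 ≤ Fintype.card (ZMod n) := by
    rw [Fintype.card_sum, ZMod.card, ZMod.card, Fintype.card_fin, hn]
    nlinarith
  obtain ⟨g, hg, hgs⟩ := exists_even_extend src tgt hsrc htgt hfree
  have hgl : ∀ k : ZMod p, g ((w ^ k.val) c) = dmap p q n (s k) := fun k => hgs (Sum.inl k)
  have hgr : ∀ j : Fin 4, g ((w ^ j.val) c') = ((i2b_tn j : ℕ) : ZMod n) := fun j => hgs (Sum.inr j)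
  have key : ∀ k : ZMod p, (g * w * g⁻¹) (dmap p q n (s k)) = dmap p q n (s (k + 1)) := by
    intro k
    rw [← hgl k, i2c_conj_apply, i2c_src_succ p w c hc k, hgl (k + 1)]
  -- the second cycle: `w' 2 = 3`, `w' 4 = 1`
  have h23 : (g * w * g⁻¹) (2 : ZMod n) = 3 := by
    have e0 := hgr 0
    have e1 := hgr 1
    simp only [Fin.val_zero, Fin.val_one, pow_zero, pow_one, Perm.one_apply, i2b_tn, Matrix.cons_val_zero,
      Matrix.cons_val_one, Nat.cast_ofNat] at e0 e1
    rw [← e0, i2c_conj_apply]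
    exact e1
  have h41 : (g * w * g⁻¹) (4 : ZMod n) = 1 := by
    have e2 := hgr 2
    have e3 := hgr 3
    have v2 : ((2 : Fin 4) : ℕ) = 2 := rfl
    have v3 : ((3 : Fin 4) : ℕ) = 3 := rfl
    have t2 : i2b_tn 2 = 4 := rfl
    have t3 : i2b_tn 3 = 1 := rfl
    rw [v2, t2] at e2
    rw [v3, t3] at e3
    simp only [Nat.cast_ofNat, Nat.cast_one] at e2 e3
    rw [← e2, i2c_conj_apply, ← e3]
    rfl
  have hne : (2 : ZMod n) ≠ 4 := by
    intro h
    have h' : ((2 : ℕ) : ZMod n) = ((4 : ℕ) : ZMod n) := by exact_mod_cast h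
    rw [ZMod.natCast_eq_natCast_iff', Nat.mod_eq_of_lt (by omega), Nat.mod_eq_of_lt (by omega)] at h'
    omega
  refine ⟨g, hg, ?_, ?_⟩
  · apply not_isPElt_of_two_cycle p (hp.odd_of_ne_two (by omega)) (rot n * (g * w * g⁻¹)) 2 4 hne
    · rw [Perm.mul_apply, h23, rot_apply]
      norm_num
    · rw [Perm.mul_apply, h41, rot_apply]
      norm_num
  · apply hrot (g * w * g⁻¹) 1 s
    · intro k
      rw [pow_one]
      exact key k
    · exact h12

end Cfsg.Agent.Helper10.PC
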