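import Mathlib
import Cfsg.Agent.Lib.Helper10.PCDefs
import Cfsg.Agent.Lib.Helper23.PCI2BCore
import Cfsg.Agent.Lib.Helper19.PCNSROT

/-!
# S2276 piece I2B : `u = rot n`, `n = p q`, `w` with two cycles of length `p`
-/

set_option autoImplicit false
set_option linter.unusedSectionVars false
set_option linter.unusedVariables false

namespace Cfsg.Agent.Helper10.PC

open Equiv Equiv.Perm

theorem good_I2B (p q n : ℕ) (hp : p.Prime) (hp5 : 5 ≤ p) (hq : 5 ≤ q) (hn : n = p * q) [NeZero n]
    (w : Perm (ZMod n)) (hw : IsPElt p w) (c c' : ZMod n)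
    (hc : Function.minimalPeriod w c = p) (hc' : Function.minimalPeriod w c' = p)
    (hcc' : c' ∉ orb w c) : Good p (rot n) w :=
  i2b_core p q n hp hp5 hq hn w hw c c' hc hc' hcc'
    (fun w' m s hm hs => not_solvable_of_rot p q n hp hn w' m s hm hs) (rot12_not_mem p hp hp5)

end Cfsg.Agent.Helper10.PC
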