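import Mathlib
import Cfsg.Agent.Lib.Helper10.PCDefs
import Cfsg.Agent.Lib.Helper23.PCI2CCore
import Cfsg.Agent.Lib.Helper19.PCNSROT

/-!
# S2276 piece I2C : `u = rot n`, `n = p q`, `w` a single `p`-cycle
-/

set_option autoImplicit false
set_option linter.unusedSectionVars false
set_option linter.unusedVariables false

namespace Cfsg.Agent.Helper10.PC

open Equiv Equiv.Perm

theorem good_I2C (p q n : ℕ) (hp : p.Prime) (hp5 : 5 ≤ p) (hq : 5 ≤ q) (hn : n = p * q) [NeZero n]
    (w : Perm (ZMod n)) (hw : IsPElt p w) (c : ZMod n)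
    (hc : Function.minimalPeriod w c = p) (hsupp : ∀ y, w y ≠ y → y ∈ orb w c) :
    Good p (rot n) w :=
  i2c_core p q n hp hp5 hq hn w hw c hc hsupp
    (fun w' m s hm hs => not_solvable_of_rot p q n hp hn w' m s hm hs) (rot01_not_mem p hp hp5)

end Cfsg.Agent.Helper10.PC
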