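import Mathlib
import Cfsg.Agent.Lib.Helper17.Sym4Defs

/-!
# Piece Q1 of S6000 (helper23 for helper17): explicit elements of `SL₄(F)`

* `exists_x3`: an element of order dividing 3 with `tr x * tr x⁻¹ = 7`;
* `exists_x5`: an element of order dividing 5 with `tr x * tr x⁻¹ = 4 τ²`;
* `exists_transvection`: a transvection (order dividing `p`, fixed space of dimension `≥ 3`).
-/

set_option autoImplicit false

namespace Cfsg.Agent.Helper23.Sym4Q1

open Matrix Cfsg.Agent.Helper17.Sym4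

variable {F : Type*} [Field F]

/-- membership in `SL` through the determinant of the underlying matrix -/
theorem mem_specialLinear_iff (x : GL (Fin 4) F) :
    x ∈ Cfsg.Geo.specialLinear (Fin 4) F ↔ (x : Matrix (Fin 4) (Fin 4) F).det = 1 := by
  unfold Cfsg.Geo.specialLinear
  rw [MonoidHom.mem_ker]
  constructor
  · intro h
    have := congrArg Units.val h
    simpa using this
  · intro h
    apply Units.ext
    simpa using h

/-! ### order 3 -/

/-- `diag(ω, ω, ω, 1)` -/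
def M3 (ω : F) : Matrix (Fin 4) (Fin 4) F := !![ω, 0, 0, 0; 0, ω, 0, 0; 0, 0, ω, 0; 0, 0, 0, 1]

/-- `diag(ω², ω², ω², 1)` -/
def N3 (ω : F) : Matrix (Fin 4) (Fin 4) F :=
  !![ω ^ 2, 0, 0, 0; 0, ω ^ 2, 0, 0; 0, 0, ω ^ 2, 0; 0, 0, 0, 1]

theorem omega_cube (ω : F) (hω : ω ^ 2 + ω + 1 = 0) : ω ^ 3 = 1 := by
  linear_combination (ω - 1) * hω

theorem M3_mul_N3 (ω : F) (hω : ω ^ 2 + ω + 1 = 0) : M3 ω * N3 ω = 1 := by
  have h3 := omega_cube ω hω
  have h3' : ω * ω ^ 2 = 1 := by rw [← h3]; ring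
  ext a b; fin_cases a <;> fin_cases b <;>
    simp [M3, N3, Matrix.mul_apply, Fin.sum_univ_four, h3']

theorem N3_mul_M3 (ω : F) (hω : ω ^ 2 + ω + 1 = 0) : N3 ω * M3 ω = 1 := by
  have h3 := omega_cube ω hω
  have h3' : ω ^ 2 * ω = 1 := by rw [← h3]; ring
  ext a b; fin_cases a <;> fin_cases b <;>
    simp [M3, N3, Matrix.mul_apply, Fin.sum_univ_four, h3']

theorem M3_mul_M3 (ω : F) : M3 ω * M3 ω = N3 ω := by
  ext a b; fin_cases a <;> fin_cases b <;>
    simp [M3, N3, Matrix.mul_apply, Fin.sum_univ_four, sq]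

theorem det_M3 (ω : F) : (M3 ω).det = ω ^ 3 := by
  have : M3 ω = Matrix.diagonal ![ω, ω, ω, 1] := by
    ext a b; fin_cases a <;> fin_cases b <;> simp [M3]
  rw [this, Matrix.det_diagonal, Fin.prod_univ_four]
  simp
  ring

theorem exists_x3 (h3 : (3 : F) ≠ 0) (ω : F) (hω : ω ^ 2 + ω + 1 = 0) :
    ∃ x : GL (Fin 4) F, x ∈ Cfsg.Geo.specialLinear (Fin 4) F ∧ x ^ 3 = 1 ∧
      (∀ z : F, (x : Matrix (Fin 4) (Fin 4) F) ≠ z • (1 : Matrix (Fin 4) (Fin 4) F)) ∧
      (x : Matrix (Fin 4) (Fin 4) F).trace *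
        ((x⁻¹ : GL (Fin 4) F) : Matrix (Fin 4) (Fin 4) F).trace = 7 := by
  refine ⟨⟨M3 ω, N3 ω, M3_mul_N3 ω hω, N3_mul_M3 ω hω⟩, ?_, ?_, ?_, ?_⟩
  · rw [mem_specialLinear_iff]
    show (M3 ω).det = 1
    rw [det_M3, omega_cube ω hω]
  · apply Units.ext
    show M3 ω ^ 3 = 1
    rw [pow_succ, pow_two, M3_mul_M3, N3_mul_M3 ω hω]
  · intro z hz
    have hz : M3 ω = z • (1 : Matrix (Fin 4) (Fin 4) F) := hz
    have h0 := congrFun (congrFun hz 0) 0
    have h1 := congrFun (congrFun hz 3) 3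
    simp [M3] at h0 h1
    apply h3
    have : ω = 1 := by rw [h0, ← h1]
    rw [this] at hω
    linear_combination hω
  · show (M3 ω).trace * (N3 ω).trace = 7
    simp only [Matrix.trace, Fin.sum_univ_four, Matrix.diag, M3, N3]
    simp
    linear_combination (9 * ω - 6) * hω

/-! ### order 5 -/

/-- `diag(A, A)`, `A = [[0,-1],[1,τ]]` -/
def M5 (τ : F) : Matrix (Fin 4) (Fin 4) F := !![0, -1, 0, 0; 1, τ, 0, 0; 0, 0, 0, -1; 0, 0, 1, τ]

/-- the inverse `diag(A⁻¹, A⁻¹)`, `A⁻¹ = [[τ,1],[-1,0]]` -/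
def N5 (τ : F) : Matrix (Fin 4) (Fin 4) F := !![τ, 1, 0, 0; -1, 0, 0, 0; 0, 0, τ, 1; 0, 0, -1, 0]

/-- `A²` -/
def M5sq (τ : F) : Matrix (Fin 4) (Fin 4) F :=
  !![-1, -τ, 0, 0; τ, -τ, 0, 0; 0, 0, -1, -τ; 0, 0, τ, -τ]

theorem M5_mul_N5 (τ : F) : M5 τ * N5 τ = 1 := by
  ext a b; fin_cases a <;> fin_cases b <;>
    simp [M5, N5, Matrix.mul_apply, Fin.sum_univ_four]

theorem N5_mul_M5 (τ : F) : N5 τ * M5 τ = 1 := by
  ext a b; fin_cases a <;> fin_cases b <;>
    simp [M5, N5, Matrix.mul_apply, Fin.sum_univ_four]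

theorem M5_mul_M5 (τ : F) (hτ : τ ^ 2 + τ - 1 = 0) : M5 τ * M5 τ = M5sq τ := by
  have h1 : τ * τ = 1 - τ := by linear_combination hτ
  ext a b; fin_cases a <;> fin_cases b <;>
    simp [M5, M5sq, Matrix.mul_apply, Fin.sum_univ_four, h1] <;> ring

theorem M5sq_mul_M5sq (τ : F) (hτ : τ ^ 2 + τ - 1 = 0) : M5sq τ * M5sq τ = N5 τ := by
  have h1 : τ * τ = 1 - τ := by linear_combination hτ
  ext a b; fin_cases a <;> fin_cases b <;>
    simp [N5, M5sq, Matrix.mul_apply, Fin.sum_univ_four, h1] <;> ring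

theorem det_M5 (τ : F) : (M5 τ).det = 1 := by
  have h := congrArg Matrix.det (M5_mul_N5 τ)
  rw [Matrix.det_mul, Matrix.det_one] at h
  -- compute directly
  rw [Matrix.det_succ_row_zero]
  simp [M5, Fin.sum_univ_four, Matrix.det_fin_three, Fin.succAbove, Matrix.submatrix]

theorem exists_x5 (τ : F) (hτ : τ ^ 2 + τ - 1 = 0) :
    ∃ x : GL (Fin 4) F, x ∈ Cfsg.Geo.specialLinear (Fin 4) F ∧ x ^ 5 = 1 ∧
      (∀ z : F, (x : Matrix (Fin 4) (Fin 4) F) ≠ z • (1 : Matrix (Fin 4) (Fin 4) F)) ∧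
      (x : Matrix (Fin 4) (Fin 4) F).trace *
        ((x⁻¹ : GL (Fin 4) F) : Matrix (Fin 4) (Fin 4) F).trace = 4 * τ ^ 2 := by
  refine ⟨⟨M5 τ, N5 τ, M5_mul_N5 τ, N5_mul_M5 τ⟩, ?_, ?_, ?_, ?_⟩
  · rw [mem_specialLinear_iff]
    exact det_M5 τ
  · apply Units.ext
    show M5 τ ^ 5 = 1
    have : M5 τ ^ 5 = (M5 τ * M5 τ) * (M5 τ * M5 τ) * M5 τ := by
      simp only [pow_succ, pow_zero, one_mul, mul_assoc]
    rw [this, M5_mul_M5 τ hτ, M5sq_mul_M5sq τ hτ, N5_mul_M5]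
  · intro z hz
    have hz : M5 τ = z • (1 : Matrix (Fin 4) (Fin 4) F) := hz
    have h0 := congrFun (congrFun hz 1) 0
    simp [M5] at h0
  · show (M5 τ).trace * (N5 τ).trace = 4 * τ ^ 2
    simp only [Matrix.trace, Fin.sum_univ_four, Matrix.diag, M5, N5]
    simp
    ring

/-! ### the transvection -/

theorem transvection_pow (c : F) (n : ℕ) :
    (Matrix.transvection (0 : Fin 4) 1 c) ^ n = Matrix.transvection (0 : Fin 4) 1 (n * c) := by
  induction n with
  | zero => simp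
  | succ k ih =>
    rw [pow_succ, ih, Matrix.transvection_mul_transvection_same 0 1 (by decide)]
    congr 1
    push_cast
    ring

/-- the injection of `F³` onto the fixed space -/
def Pm : Matrix (Fin 4) (Fin 3) F := !![1, 0, 0; 0, 0, 0; 0, 1, 0; 0, 0, 1]

/-- a left inverse of `Pm` -/
def Qm : Matrix (Fin 3) (Fin 4) F := !![1, 0, 0, 0; 0, 0, 1, 0; 0, 0, 0, 1]

theorem Qm_mul_Pm : (Qm : Matrix (Fin 3) (Fin 4) F) * (Pm : Matrix (Fin 4) (Fin 3) F) = 1 := by
  ext a b; fin_cases a <;> fin_cases b <;>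
    simp [Pm, Qm, Matrix.mul_apply, Fin.sum_univ_four]

theorem transvection_mul_Pm :
    (Matrix.transvection (0 : Fin 4) 1 (1 : F)) * (Pm : Matrix (Fin 4) (Fin 3) F) = Pm := by
  rw [Matrix.transvection, Matrix.add_mul, Matrix.one_mul]
  have : Matrix.single (0 : Fin 4) (1 : Fin 4) (1 : F) * (Pm : Matrix (Fin 4) (Fin 3) F) = 0 := by
    ext a b; fin_cases a <;> fin_cases b <;>
      simp [Pm, Matrix.mul_apply, Fin.sum_univ_four, Matrix.single_apply]
  rw [this, add_zero]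

theorem exists_transvection {p : ℕ} [Fact p.Prime] [CharP F p] :
    ∃ x : GL (Fin 4) F, x ∈ Cfsg.Geo.specialLinear (Fin 4) F ∧ x ^ p = 1 ∧
      (∀ z : F, (x : Matrix (Fin 4) (Fin 4) F) ≠ z • (1 : Matrix (Fin 4) (Fin 4) F)) ∧
      3 ≤ Module.finrank F
        (Module.End.eigenspace (Matrix.toLin' (x : Matrix (Fin 4) (Fin 4) F)) 1) := by
  have h01 : (0 : Fin 4) ≠ 1 := by decide
  have hmul : ∀ c d : F, Matrix.transvection (0 : Fin 4) 1 c * Matrix.transvection (0 : Fin 4) 1 d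
      = Matrix.transvection (0 : Fin 4) 1 (c + d) :=
    fun c d => Matrix.transvection_mul_transvection_same 0 1 h01 c d
  refine ⟨⟨Matrix.transvection 0 1 1, Matrix.transvection 0 1 (-1), ?_, ?_⟩, ?_, ?_, ?_, ?_⟩
  · rw [hmul]; simp
  · rw [hmul]; simp
  · rw [mem_specialLinear_iff]
    exact Matrix.det_transvection_of_ne 0 1 h01 1
  · apply Units.ext
    show (Matrix.transvection (0 : Fin 4) 1 (1 : F)) ^ p = 1
    rw [transvection_pow, CharP.cast_eq_zero F p, zero_mul, Matrix.transvection_zero]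
  · intro z hz
    have hz : Matrix.transvection (0 : Fin 4) 1 (1 : F) = z • (1 : Matrix (Fin 4) (Fin 4) F) := hz
    have h0 := congrFun (congrFun hz 0) 1
    simp [Matrix.transvection, Matrix.single_apply] at h0
  · show 3 ≤ Module.finrank F
        (Module.End.eigenspace (Matrix.toLin' (Matrix.transvection (0 : Fin 4) 1 (1 : F))) 1)
    set T : Matrix (Fin 4) (Fin 4) F := Matrix.transvection (0 : Fin 4) 1 (1 : F) with hT
    have hmem : ∀ v : Fin 3 → F,
        Matrix.toLin' (Pm : Matrix (Fin 4) (Fin 3) F) v ∈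
          Module.End.eigenspace (Matrix.toLin' T) 1 := by
      intro v
      rw [Module.End.mem_eigenspace_iff, one_smul, ← LinearMap.comp_apply, ← Matrix.toLin'_mul,
        hT, transvection_mul_Pm]
    let g : (Fin 3 → F) →ₗ[F] Module.End.eigenspace (Matrix.toLin' T) 1 :=
      LinearMap.codRestrict _ (Matrix.toLin' (Pm : Matrix (Fin 4) (Fin 3) F)) hmem
    have hinj : Function.Injective g := by
      intro v w hvw
      have h1 : Matrix.toLin' (Pm : Matrix (Fin 4) (Fin 3) F) v =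
          Matrix.toLin' (Pm : Matrix (Fin 4) (Fin 3) F) w := congrArg Subtype.val hvw
      have h2 := congrArg (Matrix.toLin' (Qm : Matrix (Fin 3) (Fin 4) F)) h1
      rw [← LinearMap.comp_apply, ← LinearMap.comp_apply, ← Matrix.toLin'_mul, Qm_mul_Pm,
        Matrix.toLin'_one] at h2
      exact h2
    have := LinearMap.finrank_le_finrank_of_injective hinj
    rwa [Module.finrank_fin_fun] at this
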