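import Mathlib

/-!
# Feit–Higman (S1142), piece C (helper23): the integrality argument

`B` a `*`-closed subalgebra of `Mat_Ω(ℝ) × Mat_d(ℝ)` with an "orthogonal basis" `E i` for the trace
form of the first component, the second component an (absolutely) irreducible representation (Schur).
Then `∑ χ_i² / q_i` times a natural number equals `d² |Ω|`.
-/

set_option autoImplicit false
set_option linter.style.haveILetI false

namespace Cfsg.Agent.Helper11.FH

open Matrix

/-- the trace of an idempotent real matrix is a natural number -/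
theorem fhc_trace_idem {Ω : Type*} [Fintype Ω] [DecidableEq Ω] (p : Matrix Ω Ω ℝ) (hp : p * p = p) :
    ∃ r : ℕ, p.trace = (r : ℝ) := by
  have hidem : IsIdempotentElem (Matrix.toLin' p) := by
    show Matrix.toLin' p * Matrix.toLin' p = Matrix.toLin' p
    rw [Module.End.mul_eq_comp, ← Matrix.toLin'_mul, hp]
  have h1 := (LinearMap.IsIdempotentElem.isProj_range _ hidem).trace
  rw [Matrix.trace_toLin'_eq] at h1
  exact ⟨_, h1⟩

/-- a real matrix with `tr (A Aᵀ) = 0` is zero -/
theorem fhc_eq_zero_of_trace {m n : Type*} [Fintype m] [Fintype n] (A : Matrix m n ℝ)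
    (h : (A * Aᵀ).trace = 0) : A = 0 := by
  have h1 : (A * Aᴴ).trace = 0 := by
    rw [Matrix.conjTranspose_eq_transpose_of_trivial]; exact h
  exact Matrix.trace_mul_conjTranspose_self_eq_zero_iff.1 h1

/-- PIECE C -/
theorem exists_nat_mul {Ω : Type*} [Fintype Ω] [DecidableEq Ω] [Nonempty Ω] {d : ℕ} (hd : 0 < d)
    {ι : Type*} [Fintype ι] [DecidableEq ι]
    (B : Subalgebra ℝ (Matrix Ω Ω ℝ × Matrix (Fin d) (Fin d) ℝ))
    (E : ι → Matrix Ω Ω ℝ × Matrix (Fin d) (Fin d) ℝ) (q : ι → ℝ)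
    (hE : ∀ i, E i ∈ B) (hspan : ∀ b ∈ B, ∃ c : ι → ℝ, b = ∑ i, c i • E i)
    (hq : ∀ i, 0 < q i)
    (horth : ∀ i j, ((E i).1 * ((E j).1)ᵀ).trace = if i = j then (Fintype.card Ω : ℝ) * q i else 0)
    (htr : ∀ b ∈ B, ((b.1)ᵀ, (b.2)ᵀ) ∈ B)
    (hschur : ∀ M : Matrix (Fin d) (Fin d) ℝ, (∀ b ∈ B, M * b.2 = b.2 * M) → ∃ c : ℝ, M = c • 1) :
    ∃ r : ℕ, (r : ℝ) * ∑ i, ((E i).2.trace) ^ 2 / q i = (d : ℝ) ^ 2 * Fintype.card Ω := by
  classical
  set N0 : ℝ := (Fintype.card Ω : ℝ) with hN0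
  have hN0pos : 0 < N0 := by
    rw [hN0]; exact_mod_cast Fintype.card_pos
  have hdpos : (0 : ℝ) < d := by exact_mod_cast hd
  -- bilinear expansion of the trace form on combinations of the `E i`
  have hform : ∀ c c' : ι → ℝ,
      ((∑ j, c j • E j).1 * ((∑ i, c' i • E i).1)ᵀ).trace = N0 * ∑ j, c j * c' j * q j := by
    intro c c'
    rw [Prod.fst_sum, Prod.fst_sum, Matrix.transpose_sum, Finset.sum_mul, Matrix.trace_sum,
      Finset.mul_sum]
    apply Finset.sum_congr rfl
    intro j _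
    rw [Finset.mul_sum, Matrix.trace_sum]
    rw [Finset.sum_eq_single j]
    · rw [Prod.smul_fst, Prod.smul_fst, Matrix.transpose_smul, Matrix.smul_mul, Matrix.mul_smul,
        Matrix.trace_smul, Matrix.trace_smul, horth, if_pos rfl]
      simp only [smul_eq_mul]
      ring
    · intro i _ hij
      rw [Prod.smul_fst, Prod.smul_fst, Matrix.transpose_smul, Matrix.smul_mul, Matrix.mul_smul,
        Matrix.trace_smul, Matrix.trace_smul, horth, if_neg (Ne.symm hij)]
      simp
    · intro h; exact absurd (Finset.mem_univ j) h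
  have hsnd : ∀ c : ι → ℝ, ((∑ j, c j • E j).2).trace = ∑ j, c j * (E j).2.trace := by
    intro c
    rw [Prod.snd_sum, Matrix.trace_sum]
    apply Finset.sum_congr rfl
    intro j _
    rw [Prod.smul_snd, Matrix.trace_smul, smul_eq_mul]
  -- the central element
  set χ : ι → ℝ := fun i => (E i).2.trace with hχ
  set zc : ι → ℝ := fun i => χ i / q i with hzc
  set zt : Matrix Ω Ω ℝ × Matrix (Fin d) (Fin d) ℝ := ∑ i, zc i • E i with hzt
  have hztB : zt ∈ B := by
    rw [hzt]
    exact Subalgebra.sum_mem _ (fun i _ => Subalgebra.smul_mem _ (hE i) _)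
  set z : Matrix Ω Ω ℝ := zt.1 with hz
  set σ : ℝ := ∑ i, ((E i).2.trace) ^ 2 / q i with hσ
  have hqne : ∀ i, q i ≠ 0 := fun i => (hq i).ne'
  -- (C1)
  have C1 : ∀ b ∈ B, (b.1 * zᵀ).trace = N0 * b.2.trace := by
    intro b hb
    obtain ⟨c, rfl⟩ := hspan b hb
    rw [hz, hzt, hform, hsnd]
    congr 1
    apply Finset.sum_congr rfl
    intro j _
    rw [hzc]
    show c j * (χ j / q j) * q j = c j * (E j).2.trace
    rw [hχ]
    have hqj := hqne j
    field_simp
  -- (C2)
  have C2 : ∀ b ∈ B, b.1 = 0 → b = 0 := by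
    intro b hb hb1
    obtain ⟨c, rfl⟩ := hspan b hb
    have h1 := hform c c
    rw [hb1, Matrix.zero_mul, Matrix.trace_zero] at h1
    have h2 : ∑ j, c j * c j * q j = 0 := by
      rcases mul_eq_zero.1 h1.symm with h | h
      · exact absurd h hN0pos.ne'
      · exact h
    have h3 : ∀ j ∈ Finset.univ, c j * c j * q j = 0 := by
      apply (Finset.sum_eq_zero_iff_of_nonneg ?_).1 h2
      intro j _
      exact mul_nonneg (mul_self_nonneg _) (hq j).le
    apply Finset.sum_eq_zero
    intro j hj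
    have h4 := h3 j hj
    have h5 : c j = 0 := by
      rcases mul_eq_zero.1 h4 with h | h
      · exact mul_self_eq_zero.1 h
      · exact absurd h (hqne j)
    rw [h5, zero_smul]
  -- a helper: an element of `B` orthogonal to all of `B` (first components) is zero
  have C2' : ∀ b ∈ B, (∀ h ∈ B, (b.1 * (h.1)ᵀ).trace = 0) → b = 0 := by
    intro b hb hall
    apply C2 b hb
    exact fhc_eq_zero_of_trace _ (hall b hb)
  -- transposes
  have htrB : ∀ b ∈ B, ((b.1)ᵀ, (b.2)ᵀ) ∈ B := htr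
  -- (C3)
  have C3 : ∀ g ∈ B, zt * g = g * zt := by
    intro g hg
    have hd'B : zt * g - g * zt ∈ B :=
      Subalgebra.sub_mem _ (Subalgebra.mul_mem _ hztB hg) (Subalgebra.mul_mem _ hg hztB)
    have h0 : zt * g - g * zt = 0 := by
      apply C2' _ hd'B
      intro h hh
      have hgt := htrB g hg
      -- first term
      have e1 : (z * g.1 * (h.1)ᵀ).trace = N0 * (h.2 * (g.2)ᵀ).trace := by
        have := C1 (h * ((g.1)ᵀ, (g.2)ᵀ)) (Subalgebra.mul_mem _ hh hgt)
        rw [Prod.fst_mul, Prod.snd_mul] at this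
        rw [← this, ← Matrix.trace_transpose (z * g.1 * (h.1)ᵀ)]
        rw [Matrix.transpose_mul, Matrix.transpose_mul, Matrix.transpose_transpose, Matrix.mul_assoc]
      have e2 : (g.1 * z * (h.1)ᵀ).trace = N0 * ((g.2)ᵀ * h.2).trace := by
        have := C1 (((g.1)ᵀ, (g.2)ᵀ) * h) (Subalgebra.mul_mem _ hgt hh)
        rw [Prod.fst_mul, Prod.snd_mul] at this
        rw [← this]
        -- tr(g z hᵀ) = tr(z hᵀ g) = tr((z hᵀ g)ᵀ) = tr(gᵀ h zᵀ)
        rw [Matrix.mul_assoc, Matrix.trace_mul_comm, ← Matrix.trace_transpose (z * (h.1)ᵀ * g.1)]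
        rw [Matrix.transpose_mul, Matrix.transpose_mul, Matrix.transpose_transpose, Matrix.mul_assoc]
      have e3 : (zt * g - g * zt).1 = z * g.1 - g.1 * z := by
        rw [Prod.fst_sub, Prod.fst_mul, Prod.fst_mul]
      rw [e3, Matrix.sub_mul, Matrix.trace_sub, e1, e2, Matrix.trace_mul_comm (h.2) ((g.2)ᵀ),
        sub_self]
    exact sub_eq_zero.1 h0
  -- (C4)
  obtain ⟨c, hc⟩ : ∃ c : ℝ, zt.2 = c • (1 : Matrix (Fin d) (Fin d) ℝ) := by
    apply hschur
    intro b hb
    have := congrArg Prod.snd (C3 b hb)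
    rwa [Prod.snd_mul, Prod.snd_mul] at this
  -- (C5)
  have C5 : σ = c * d := by
    have h1 : (zt.2).trace = σ := by
      rw [hzt, hsnd, hσ]
      apply Finset.sum_congr rfl
      intro j _
      rw [hzc]
      show χ j / q j * (E j).2.trace = (E j).2.trace ^ 2 / q j
      rw [hχ]
      ring
    rw [← h1, hc, Matrix.trace_smul, Matrix.trace_one, Fintype.card_fin, smul_eq_mul]
  -- the transpose of `zt`
  have hztT : ((z)ᵀ, (zt.2)ᵀ) ∈ B := htrB zt hztB
  -- tr (h.1 zᵀ) in the other order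
  have hsym : ∀ h ∈ B, (z * (h.1)ᵀ).trace = N0 * h.2.trace := by
    intro h hh
    rw [← C1 h hh, ← Matrix.trace_transpose (z * (h.1)ᵀ), Matrix.transpose_mul,
      Matrix.transpose_transpose]
  -- (C6)
  have C6 : z * z = c • z := by
    have hb'B : zt * zt - c • zt ∈ B :=
      Subalgebra.sub_mem _ (Subalgebra.mul_mem _ hztB hztB) (Subalgebra.smul_mem _ hztB _)
    have h0 : zt * zt - c • zt = 0 := by
      apply C2' _ hb'B
      intro h hh
      have e1 : (z * z * (h.1)ᵀ).trace = N0 * (c * h.2.trace) := by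
        have := C1 (h * ((z)ᵀ, (zt.2)ᵀ)) (Subalgebra.mul_mem _ hh hztT)
        rw [Prod.fst_mul, Prod.snd_mul] at this
        have e : (z * z * (h.1)ᵀ).trace = (h.1 * zᵀ * zᵀ).trace := by
          rw [← Matrix.trace_transpose (z * z * (h.1)ᵀ), Matrix.transpose_mul, Matrix.transpose_mul,
            Matrix.transpose_transpose, Matrix.mul_assoc]
        rw [e, this, hc, Matrix.transpose_smul, Matrix.transpose_one, Matrix.mul_smul, Matrix.mul_one,
          Matrix.trace_smul, smul_eq_mul]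
      have e3 : (zt * zt - c • zt).1 = z * z - c • z := by
        rw [Prod.fst_sub, Prod.fst_mul, Prod.smul_fst]
      rw [e3, Matrix.sub_mul, Matrix.trace_sub, e1, Matrix.smul_mul, Matrix.trace_smul, hsym h hh,
        smul_eq_mul]
      ring
    have := congrArg Prod.fst (sub_eq_zero.1 h0)
    rwa [Prod.fst_mul, Prod.smul_fst] at this
  -- (C7)
  have C7 : z.trace = N0 * d := by
    have h1 := C1 1 (Subalgebra.one_mem _)
    rw [Prod.fst_one, Prod.snd_one, Matrix.one_mul, Matrix.trace_transpose, Matrix.trace_one,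
      Fintype.card_fin] at h1
    exact h1
  -- tr (z zᵀ)
  have hzz : (z * zᵀ).trace = N0 * (c * d) := by
    have h1 := C1 zt hztB
    rw [hc, Matrix.trace_smul, Matrix.trace_one, Fintype.card_fin, smul_eq_mul] at h1
    exact h1
  -- (C8)
  have C8 : c ≠ 0 := by
    intro h0
    rw [h0, zero_mul, mul_zero] at hzz
    have hz0 : z = 0 := fhc_eq_zero_of_trace _ hzz
    rw [hz0, Matrix.trace_zero] at C7
    have : N0 * d ≠ 0 := (mul_pos hN0pos hdpos).ne'
    exact this C7.symm
  -- (C9)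
  have hidem : (c⁻¹ • z) * (c⁻¹ • z) = c⁻¹ • z := by
    rw [Matrix.smul_mul, Matrix.mul_smul, C6, smul_smul, smul_smul]
    congr 1
    field_simp
  obtain ⟨r, hr⟩ := fhc_trace_idem _ hidem
  refine ⟨r, ?_⟩
  rw [Matrix.trace_smul, smul_eq_mul, C7] at hr
  show (r : ℝ) * σ = (d : ℝ) ^ 2 * N0
  rw [C5, ← hr]
  field_simp
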