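import Mathlib
import Cfsg.Agent.Lib.Helper11.FHDefs
import Cfsg.Agent.Lib.Helper2.WordLen

/-!
# Feit–Higman (S1142), piece DIH (helper23): a finite group generated by two distinct involutions
is dihedral of order `2n`, `n` the order of the product, and the `2n` alternating words of length
`≤ n` are reduced and pairwise distinct (apart from the two coincidences `1 = 1` and the braid relation).
-/

set_option autoImplicit false
set_option linter.style.haveILetI false
set_option linter.unusedSectionVars false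

namespace Cfsg.Agent.Helper11.FH

open Cfsg.Agent.Helper2.WordLen

section core

variable {W : Type*} [Group W] {a b : W}

theorem dih_ba_eq (ha : a * a = 1) (hb : b * b = 1) : b * a = (a * b)⁻¹ := by
  symm
  apply inv_eq_of_mul_eq_one_right
  calc a * b * (b * a) = a * (b * b) * a := by group
    _ = 1 := by rw [hb, mul_one, ha]

theorem dih_ba_even (ha : a * a = 1) (hb : b * b = 1) (k : ℕ) :
    alt b a (2 * k) = ((a * b) ^ k)⁻¹ := by
  rw [alt_two_mul, dih_ba_eq ha hb, inv_pow]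

theorem dih_ba_odd (ha : a * a = 1) (hb : b * b = 1) (k : ℕ) :
    alt b a (2 * k + 1) = ((a * b) ^ (k + 1))⁻¹ * a := by
  rw [alt_two_mul_add_one]
  have h1 : (b * a) ^ k * b = (b * a) ^ (k + 1) * a := by
    rw [pow_succ, mul_assoc, mul_assoc, ha, mul_one]
  rw [h1, dih_ba_eq ha hb, inv_pow]

theorem dih_not_mem (ha : a * a = 1) (hb : b * b = 1) (ha1 : a ≠ 1) (hb1 : b ≠ 1) :
    a ∉ Subgroup.zpowers (a * b) := by
  intro hmem
  obtain ⟨z, hz⟩ := Subgroup.mem_zpowers_iff.1 hmem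
  obtain ⟨r, hr⟩ : ∃ r : W, r = a * b := ⟨_, rfl⟩
  rw [← hr] at hz
  have hcomm : a * r = r * a := by
    rw [← hz, ← zpow_add_one, ← zpow_one_add]
    rw [add_comm]
  have h1 : a * r = r⁻¹ * a := by
    rw [hr, ← dih_ba_eq ha hb]
    calc a * (a * b) = (a * a) * b := by group
      _ = b := by rw [ha, one_mul]
      _ = b * (a * a) := by rw [ha, mul_one]
      _ = b * a * a := by group
  have h2 : r = r⁻¹ := by
    have : r * a = r⁻¹ * a := by rw [← hcomm, h1]
    exact mul_right_cancel this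
  have h3 : r * r = 1 := by
    nth_rewrite 2 [h2]
    exact mul_inv_cancel r
  rcases Int.even_or_odd' z with ⟨m, hm | hm⟩
  · apply ha1
    rw [← hz, hm, zpow_mul, zpow_two, h3, one_zpow]
  · apply hb1
    have : a = r := by
      rw [← hz, hm, zpow_add, zpow_mul, zpow_two, h3, one_zpow, one_mul, zpow_one]
    have h4 : a * 1 = a * b := by rw [mul_one, ← hr]; exact this
    exact (mul_left_cancel h4).symm

theorem dih_order_two_le [Finite W] (hb : b * b = 1) (hab : a ≠ b) : 2 ≤ orderOf (a * b) := by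
  have h0 : 0 < orderOf (a * b) := orderOf_pos _
  by_contra hlt
  have h1 : orderOf (a * b) = 1 := by omega
  rw [orderOf_eq_one_iff] at h1
  apply hab
  have : a = b⁻¹ := eq_inv_of_mul_eq_one_left h1
  rw [this]
  exact inv_eq_of_mul_eq_one_left hb

theorem dih_braid (ha : a * a = 1) (hb : b * b = 1) :
    alt a b (orderOf (a * b)) = alt b a (orderOf (a * b)) := by
  rcases Nat.even_or_odd' (orderOf (a * b)) with ⟨x, hx | hx⟩
  · rw [hx, alt_two_mul, dih_ba_even ha hb]
    apply eq_inv_of_mul_eq_one_left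
    rw [← pow_add, ← two_mul, ← hx]
    exact pow_orderOf_eq_one _
  · rw [hx, alt_two_mul_add_one, dih_ba_odd ha hb]
    congr 1
    apply eq_inv_of_mul_eq_one_left
    rw [← pow_add, show x + (x + 1) = 2 * x + 1 by ring, ← hx]
    exact pow_orderOf_eq_one _

theorem dih_pow_inj {r : W} {x y : ℕ} (hx : x < orderOf r) (hy : y < orderOf r)
    (h : r ^ x = r ^ y) : x = y :=
  Nat.ModEq.eq_of_lt_of_lt (pow_eq_pow_iff_modEq.1 h) hx hy

theorem dih_absurd {r c u v : W} (hnot : c ∉ Subgroup.zpowers r) (hu : u ∈ Subgroup.zpowers r)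
    (hv : v ∈ Subgroup.zpowers r) (h : u = v * c) : False := by
  apply hnot
  have : c = v⁻¹ * u := by rw [h, inv_mul_cancel_left]
  rw [this]
  exact Subgroup.mul_mem _ (Subgroup.inv_mem _ hv) hu

theorem dih_pow_mem (r : W) (x : ℕ) : r ^ x ∈ Subgroup.zpowers r :=
  Subgroup.pow_mem _ (Subgroup.mem_zpowers r) _

theorem dih_pow_inv_mem (r : W) (x : ℕ) : (r ^ x)⁻¹ ∈ Subgroup.zpowers r :=
  Subgroup.inv_mem _ (dih_pow_mem r x)

theorem dih_injAB (ha : a * a = 1) (hb : b * b = 1) (ha1 : a ≠ 1) (hb1 : b ≠ 1)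
    (hn2 : 2 ≤ orderOf (a * b)) (k l : ℕ) (hk : k ≤ orderOf (a * b))
    (hl : l ≤ orderOf (a * b)) (h : alt a b k = alt a b l) : k = l := by
  have hnot := dih_not_mem ha hb ha1 hb1
  rcases Nat.even_or_odd' k with ⟨x, rfl | rfl⟩ <;> rcases Nat.even_or_odd' l with ⟨y, rfl | rfl⟩
  · rw [alt_two_mul, alt_two_mul] at h
    have := dih_pow_inj (by omega) (by omega) h
    omega
  · exfalso
    rw [alt_two_mul, alt_two_mul_add_one] at h
    exact dih_absurd hnot (dih_pow_mem _ x) (dih_pow_mem _ y) h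
  · exfalso
    rw [alt_two_mul, alt_two_mul_add_one] at h
    exact dih_absurd hnot (dih_pow_mem _ y) (dih_pow_mem _ x) h.symm
  · rw [alt_two_mul_add_one, alt_two_mul_add_one] at h
    have h' := mul_right_cancel h
    have := dih_pow_inj (by omega) (by omega) h'
    omega

theorem dih_injBA (ha : a * a = 1) (hb : b * b = 1) (ha1 : a ≠ 1) (hb1 : b ≠ 1)
    (hn2 : 2 ≤ orderOf (a * b)) (k l : ℕ) (hk : k ≤ orderOf (a * b))
    (hl : l ≤ orderOf (a * b)) (h : alt b a k = alt b a l) : k = l := by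
  have hnot := dih_not_mem ha hb ha1 hb1
  rcases Nat.even_or_odd' k with ⟨x, rfl | rfl⟩ <;> rcases Nat.even_or_odd' l with ⟨y, rfl | rfl⟩
  · rw [dih_ba_even ha hb, dih_ba_even ha hb] at h
    have := dih_pow_inj (by omega) (by omega) (inv_injective h)
    omega
  · exfalso
    rw [dih_ba_even ha hb, dih_ba_odd ha hb] at h
    exact dih_absurd hnot (dih_pow_inv_mem _ x) (dih_pow_inv_mem _ (y + 1)) h
  · exfalso
    rw [dih_ba_even ha hb, dih_ba_odd ha hb] at h
    exact dih_absurd hnot (dih_pow_inv_mem _ y) (dih_pow_inv_mem _ (x + 1)) h.symm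
  · rw [dih_ba_odd ha hb, dih_ba_odd ha hb] at h
    have h' := inv_injective (mul_right_cancel h)
    have := dih_pow_inj (by omega) (by omega) h'
    omega

theorem dih_cross (ha : a * a = 1) (hb : b * b = 1) (ha1 : a ≠ 1) (hb1 : b ≠ 1)
    (_hn2 : 2 ≤ orderOf (a * b)) (k l : ℕ) (hk : k ≤ orderOf (a * b))
    (hl : l ≤ orderOf (a * b)) (h : alt a b k = alt b a l) :
    (k = 0 ∧ l = 0) ∨ (k = orderOf (a * b) ∧ l = orderOf (a * b)) := by
  have hnot := dih_not_mem ha hb ha1 hb1
  rcases Nat.even_or_odd' k with ⟨x, rfl | rfl⟩ <;> rcases Nat.even_or_odd' l with ⟨y, rfl | rfl⟩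
  · rw [alt_two_mul, dih_ba_even ha hb] at h
    have h1 : (a * b) ^ (x + y) = 1 := by
      rw [pow_add, h, inv_mul_cancel]
    have h2 : orderOf (a * b) ∣ x + y := orderOf_dvd_of_pow_eq_one h1
    rcases Nat.eq_zero_or_pos (x + y) with h0 | h0
    · left; omega
    · right
      have := Nat.le_of_dvd h0 h2
      omega
  · exfalso
    rw [alt_two_mul, dih_ba_odd ha hb] at h
    exact dih_absurd hnot (dih_pow_mem _ x) (dih_pow_inv_mem _ (y + 1)) h
  · exfalso
    rw [alt_two_mul_add_one, dih_ba_even ha hb] at h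
    exact dih_absurd hnot (dih_pow_inv_mem _ y) (dih_pow_mem _ x) h.symm
  · rw [alt_two_mul_add_one, dih_ba_odd ha hb] at h
    have h' := mul_right_cancel h
    have h1 : (a * b) ^ (x + (y + 1)) = 1 := by
      rw [pow_add, h', inv_mul_cancel]
    have h2 : orderOf (a * b) ∣ x + (y + 1) := orderOf_dvd_of_pow_eq_one h1
    right
    have := Nat.le_of_dvd (by omega) h2
    omega

/-- multiplying an alternating product by a generator: the step of the word classification -/
theorem dih_step {x y : W} (hx : x * x = 1) (hy : y * y = 1) (n : ℕ) (hn : 1 ≤ n)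
    (hbr : alt x y n = alt y x n) (j : ℕ) (hj : j ≤ n) :
    (∃ j', j' ≤ j + 1 ∧ j' ≤ n ∧ (x * alt x y j = alt x y j' ∨ x * alt x y j = alt y x j')) ∧
    (∃ j', j' ≤ j + 1 ∧ j' ≤ n ∧ (y * alt x y j = alt x y j' ∨ y * alt x y j = alt y x j')) := by
  constructor
  · cases j with
    | zero => exact ⟨1, le_refl _, hn, Or.inl (by simp)⟩
    | succ j =>
      refine ⟨j, by omega, by omega, Or.inr ?_⟩
      rw [alt_succ, ← mul_assoc, hx, one_mul]
  · rcases Nat.lt_or_ge j n with hlt | hge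
    · exact ⟨j + 1, le_refl _, hlt, Or.inr (alt_succ y x j).symm⟩
    · have hjn : j = n := le_antisymm hj hge
      obtain ⟨m, hm⟩ : ∃ m, n = m + 1 := ⟨n - 1, by omega⟩
      refine ⟨m, by omega, by omega, Or.inl ?_⟩
      rw [hjn, hbr, hm, alt_succ, ← mul_assoc, hy, one_mul]

end core

section words

variable {W : Type*} [Group W] {I : Type*} (σ : I → W)

/-- the alternating word -/
def altw (i j : I) : ℕ → List I
  | 0 => []
  | k + 1 => i :: altw j i k

theorem altw_length (i j : I) (k : ℕ) : (altw i j k).length = k := by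
  induction k generalizing i j with
  | zero => rfl
  | succ k ih => simp [altw, ih]

theorem wp_altw (i j : I) (k : ℕ) : wp σ (altw i j k) = alt (σ i) (σ j) k := by
  induction k generalizing i j with
  | zero => simp [altw]
  | succ k ih => simp [altw, ih, alt_succ]

end words

/-- PIECE DIH -/
theorem dihedral_facts {W : Type*} [Group W] [Finite W] {I : Type*} (σ : I → W) (i₁ i₂ : I)
    (hI : ∀ i, i = i₁ ∨ i = i₂) (h12 : σ i₁ ≠ σ i₂) (hσ : ∀ i, σ i * σ i = 1)
    (h1 : ∀ i, σ i ≠ 1) (hsurj : ∀ w : W, ∃ l : List I, wp σ l = w) :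
    2 ≤ orderOf (σ i₁ * σ i₂) ∧ Nat.card W = 2 * orderOf (σ i₁ * σ i₂) ∧
    alt (σ i₁) (σ i₂) (orderOf (σ i₁ * σ i₂)) = alt (σ i₂) (σ i₁) (orderOf (σ i₁ * σ i₂)) ∧
    (∀ k ≤ orderOf (σ i₁ * σ i₂), len σ (alt (σ i₁) (σ i₂) k) = k) ∧
    (∀ k ≤ orderOf (σ i₁ * σ i₂), len σ (alt (σ i₂) (σ i₁) k) = k) ∧
    (∀ k l, k ≤ orderOf (σ i₁ * σ i₂) → l ≤ orderOf (σ i₁ * σ i₂) →
      alt (σ i₁) (σ i₂) k = alt (σ i₁) (σ i₂) l → k = l) ∧
    (∀ k l, k ≤ orderOf (σ i₁ * σ i₂) → l ≤ orderOf (σ i₁ * σ i₂) →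
      alt (σ i₂) (σ i₁) k = alt (σ i₂) (σ i₁) l → k = l) ∧
    (∀ k l, k ≤ orderOf (σ i₁ * σ i₂) → l ≤ orderOf (σ i₁ * σ i₂) →
      alt (σ i₁) (σ i₂) k = alt (σ i₂) (σ i₁) l →
        (k = 0 ∧ l = 0) ∨ (k = orderOf (σ i₁ * σ i₂) ∧ l = orderOf (σ i₁ * σ i₂))) := by
  have ha := hσ i₁
  have hb := hσ i₂
  have ha1 := h1 i₁
  have hb1 := h1 i₂
  have hn2 : 2 ≤ orderOf (σ i₁ * σ i₂) := dih_order_two_le hb h12
  have hbr := dih_braid ha hb
  have hinjA := dih_injAB ha hb ha1 hb1 hn2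
  have hinjB := dih_injBA ha hb ha1 hb1 hn2
  have hcross := dih_cross ha hb ha1 hb1 hn2
  obtain ⟨n, hn⟩ : ∃ n, n = orderOf (σ i₁ * σ i₂) := ⟨_, rfl⟩
  rw [← hn] at hn2 hbr hinjA hinjB hcross ⊢
  -- classification of all word products
  have hclass : ∀ l : List I, ∃ j, j ≤ l.length ∧ j ≤ n ∧
      (wp σ l = alt (σ i₁) (σ i₂) j ∨ wp σ l = alt (σ i₂) (σ i₁) j) := by
    intro l
    induction l with
    | nil => exact ⟨0, le_refl _, Nat.zero_le _, Or.inl (by simp)⟩
    | cons i l ih =>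
      obtain ⟨j, hjl, hjn, hj⟩ := ih
      rw [wp_cons, List.length_cons]
      rcases hj with hj | hj
      · obtain ⟨s1, s2⟩ := dih_step ha hb n (by omega) hbr j hjn
        rcases hI i with rfl | rfl
        · obtain ⟨j', h1', h2', h3'⟩ := s1
          exact ⟨j', by omega, h2', by rw [hj]; exact h3'⟩
        · obtain ⟨j', h1', h2', h3'⟩ := s2
          exact ⟨j', by omega, h2', by rw [hj]; exact h3'⟩
      · obtain ⟨s1, s2⟩ := dih_step hb ha n (by omega) hbr.symm j hjn
        rcases hI i with rfl | rfl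
        · obtain ⟨j', h1', h2', h3'⟩ := s2
          exact ⟨j', by omega, h2', by rw [hj]; exact h3'.symm⟩
        · obtain ⟨j', h1', h2', h3'⟩ := s1
          exact ⟨j', by omega, h2', by rw [hj]; exact h3'.symm⟩
  have hclassW : ∀ w : W, ∃ j, j ≤ len σ w ∧ j ≤ n ∧
      (w = alt (σ i₁) (σ i₂) j ∨ w = alt (σ i₂) (σ i₁) j) := by
    intro w
    obtain ⟨l, hl, hlen⟩ := exists_reduced σ hsurj w
    obtain ⟨j, h1', h2', h3'⟩ := hclass l
    rw [hl] at h3'
    exact ⟨j, by omega, h2', h3'⟩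
  refine ⟨hn2, ?_, hbr, ?_, ?_, hinjA, hinjB, hcross⟩
  · -- the order
    have hnot := dih_not_mem ha hb ha1 hb1
    have hidx : (Subgroup.zpowers (σ i₁ * σ i₂)).index = 2 := by
      rw [Subgroup.index_eq_two_iff]
      refine ⟨σ i₁, fun w => ?_⟩
      have hor : w * σ i₁ ∈ Subgroup.zpowers (σ i₁ * σ i₂) ∨ w ∈ Subgroup.zpowers (σ i₁ * σ i₂) := by
        obtain ⟨j, -, -, hj⟩ := hclassW w
        rcases Nat.even_or_odd' j with ⟨x, rfl | rfl⟩
        · right
          rcases hj with hj | hj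
          · rw [hj, alt_two_mul]; exact dih_pow_mem _ _
          · rw [hj, dih_ba_even ha hb]; exact dih_pow_inv_mem _ _
        · left
          rcases hj with hj | hj
          · rw [hj, alt_two_mul_add_one, mul_assoc, ha, mul_one]; exact dih_pow_mem _ _
          · rw [hj, dih_ba_odd ha hb, mul_assoc, ha, mul_one]; exact dih_pow_inv_mem _ _
      rcases hor with h | h
      · refine Or.inl ⟨h, fun h' => hnot ?_⟩
        have hmem := Subgroup.mul_mem _ (Subgroup.inv_mem _ h') h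
        rwa [inv_mul_cancel_left] at hmem
      · refine Or.inr ⟨h, fun h' => hnot ?_⟩
        have hmem := Subgroup.mul_mem _ (Subgroup.inv_mem _ h) h'
        rwa [inv_mul_cancel_left] at hmem
    have := Subgroup.card_mul_index (Subgroup.zpowers (σ i₁ * σ i₂))
    rw [hidx, Nat.card_zpowers, ← hn] at this
    omega
  · intro k hk
    apply le_antisymm
    · have := len_le σ (altw i₁ i₂ k)
      rwa [wp_altw, altw_length] at this
    · obtain ⟨j, h1', h2', h3'⟩ := hclassW (alt (σ i₁) (σ i₂) k)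
      rcases h3' with h | h
      · have := hinjA k j hk h2' h
        omega
      · rcases hcross k j hk h2' h with ⟨h4, h5⟩ | ⟨h4, h5⟩ <;> omega
  · intro k hk
    apply le_antisymm
    · have := len_le σ (altw i₂ i₁ k)
      rwa [wp_altw, altw_length] at this
    · obtain ⟨j, h1', h2', h3'⟩ := hclassW (alt (σ i₂) (σ i₁) k)
      rcases h3' with h | h
      · rcases hcross j k h2' hk h.symm with ⟨h4, h5⟩ | ⟨h4, h5⟩ <;> omega
      · have := hinjB k j hk h2' h
        omega
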