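import Mathlib
import Cfsg.Prelude
import Cfsg.Agent.Lib.Helper13.IsomTransfer
import Cfsg.Agent.Lib.Helper24.CharLinear

/-!
# S2548 piece D1 (helper23): the case `m = 1`

`O⁺₂(F)` consists of diagonal and antidiagonal matrices; the diagonal ones form an abelian subgroup
of index at most two, so the commutator subgroup is abelian, `PΩ⁺₂(F)` is trivial and `χ = 1` works.
-/

set_option autoImplicit false
set_option linter.style.haveILetI false
open Cfsg

namespace Cfsg.Agent.Helper13.SdP

open Cfsg.Agent.Helper24 Matrix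

/-- a commutative group satisfies the Steinberg statement trivially (its central quotient is trivial) -/
theorem steinberg_of_comm {Ω : Type*} [Group Ω] (hc : ∀ a b : Ω, a * b = b * a) (p : ℕ) :
    ∃ ψ : Ω ⧸ Subgroup.center Ω → ℂ, Cfsg.IsIrrCharacter (Ω ⧸ Subgroup.center Ω) ψ ∧
      ∀ P : Sylow p (Ω ⧸ Subgroup.center Ω), ψ 1 = Nat.card P ∧
        ∀ x : Ω ⧸ Subgroup.center Ω, x ∈ P → x ≠ 1 → ψ x = 0 := by
  have htop : Subgroup.center Ω = ⊤ := by
    ext z
    simp only [Subgroup.mem_center_iff, Subgroup.mem_top, iff_true]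
    intro g
    exact hc g z
  have hsub : Subsingleton (Ω ⧸ Subgroup.center Ω) := by
    rw [htop]
    exact QuotientGroup.subsingleton_quotient_top
  refine ⟨fun _ => 1, isIrrCharacter_one, fun P => ⟨?_, ?_⟩⟩
  · have : Nat.card P = 1 := by
      have : Subsingleton P := ⟨fun a b => Subtype.ext (Subsingleton.elim _ _)⟩
      exact Nat.card_of_subsingleton (1 : P)
    rw [this]
    simp
  · intro x _ hx
    exact absurd (Subsingleton.elim x 1) hx

/-- the index type of the hyperbolic plane -/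
abbrev I2 : Type := Fin 1 ⊕ Fin 1

section
variable {F : Type*} [Field F]

theorem d1_mul_apply (M N : Matrix I2 I2 F) (i j : I2) :
    (M * N) i j = M i (.inl 0) * N (.inl 0) j + M i (.inr 0) * N (.inr 0) j := by
  rw [Matrix.mul_apply, Fintype.sum_sum_type]
  simp

/-- the diagonal matrices -/
def diagGL (F : Type*) [Field F] : Subgroup (GL I2 F) where
  carrier := {g | (g : Matrix I2 I2 F) (.inl 0) (.inr 0) = 0 ∧ (g : Matrix I2 I2 F) (.inr 0) (.inl 0) = 0}
  one_mem' := by simp
  mul_mem' := by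
    rintro g h ⟨g1, g2⟩ ⟨h1, h2⟩
    refine ⟨?_, ?_⟩
    · rw [Units.val_mul, d1_mul_apply, g1, h1]; simp
    · rw [Units.val_mul, d1_mul_apply, g2, h2]; simp
  inv_mem' := by
    rintro g ⟨g1, g2⟩
    have h := congrArg Units.val (mul_inv_cancel g)
    rw [Units.val_mul, Units.val_one] at h
    have h00 := congrFun (congrFun h (.inl 0)) (.inl 0)
    have h01 := congrFun (congrFun h (.inl 0)) (.inr 0)
    have h10 := congrFun (congrFun h (.inr 0)) (.inl 0)
    have h11 := congrFun (congrFun h (.inr 0)) (.inr 0)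
    rw [d1_mul_apply] at h00 h01 h10 h11
    rw [g1] at h00 h01
    rw [g2] at h10 h11
    simp only [zero_mul, add_zero, zero_add, Matrix.one_apply_eq] at h00 h11
    have ha : (g : Matrix I2 I2 F) (.inl 0) (.inl 0) ≠ 0 := by
      intro h0; rw [h0, zero_mul] at h00; exact zero_ne_one h00
    have hd : (g : Matrix I2 I2 F) (.inr 0) (.inr 0) ≠ 0 := by
      intro h0; rw [h0, zero_mul] at h11; exact zero_ne_one h11
    have e01 : (1 : Matrix I2 I2 F) (.inl 0) (.inr 0) = 0 := by simp
    have e10 : (1 : Matrix I2 I2 F) (.inr 0) (.inl 0) = 0 := by simp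
    rw [e01, zero_mul, add_zero] at h01
    rw [e10, zero_mul, zero_add] at h10
    exact ⟨(mul_eq_zero.mp h01).resolve_left ha, (mul_eq_zero.mp h10).resolve_left hd⟩

theorem mem_diagGL (g : GL I2 F) : g ∈ diagGL F ↔
    (g : Matrix I2 I2 F) (.inl 0) (.inr 0) = 0 ∧ (g : Matrix I2 I2 F) (.inr 0) (.inl 0) = 0 := Iff.rfl

theorem diag_comm {g h : GL I2 F} (hg : g ∈ diagGL F) (hh : h ∈ diagGL F) : g * h = h * g := by
  obtain ⟨g1, g2⟩ := hg
  obtain ⟨h1, h2⟩ := hh
  apply Units.ext
  rw [Units.val_mul, Units.val_mul]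
  ext i j
  rw [d1_mul_apply, d1_mul_apply]
  rcases i with i | i <;> rcases j with j | j <;> obtain rfl := Subsingleton.elim i 0 <;>
    obtain rfl := Subsingleton.elim j 0 <;> simp [g1, g2, h1, h2, mul_comm]

/-- an isometry of the hyperbolic plane that is not diagonal is antidiagonal -/
theorem anti_of_not_diag {g : GL I2 F} (hg : g ∈ Cfsg.isometryGroup F (Cfsg.quadFormPlus 1 F))
    (hd : g ∉ diagGL F) :
    (g : Matrix I2 I2 F) (.inl 0) (.inl 0) = 0 ∧ (g : Matrix I2 I2 F) (.inr 0) (.inr 0) = 0 := by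
  rw [mem_isometryGroup_iff] at hg
  have hQ : ∀ v : I2 → F, Cfsg.quadFormPlus 1 F v = v (.inl 0) * v (.inr 0) := by
    intro v
    simp [Cfsg.quadFormPlus]
  have hmv : ∀ (v : I2 → F) (i : I2), ((g : Matrix I2 I2 F) *ᵥ v) i =
      (g : Matrix I2 I2 F) i (.inl 0) * v (.inl 0) + (g : Matrix I2 I2 F) i (.inr 0) * v (.inr 0) := by
    intro v i
    rw [Matrix.mulVec, dotProduct, Fintype.sum_sum_type]
    simp
  set a := (g : Matrix I2 I2 F) (.inl 0) (.inl 0) with ha
  set b := (g : Matrix I2 I2 F) (.inl 0) (.inr 0) with hb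
  set c := (g : Matrix I2 I2 F) (.inr 0) (.inl 0) with hc
  set d := (g : Matrix I2 I2 F) (.inr 0) (.inr 0) with hd'
  have h1 := hg (Sum.elim (fun _ => 1) (fun _ => 0))
  have h2 := hg (Sum.elim (fun _ => 0) (fun _ => 1))
  have h3 := hg (Sum.elim (fun _ => 1) (fun _ => 1))
  rw [hQ, hQ, hmv, hmv] at h1 h2 h3
  simp only [Sum.elim_inl, Sum.elim_inr, mul_one, mul_zero, add_zero, zero_add, ← ha, ← hb, ← hc,
    ← hd'] at h1 h2 h3
  -- h1 : a * c = 0, h2 : b * d = 0, h3 : (a + b) * (c + d) = 1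
  have h4 : a * d + b * c = 1 := by
    have : (a + b) * (c + d) = a * c + a * d + b * c + b * d := by ring
    rw [this, h1, h2] at h3
    rw [← h3]; ring
  rw [mem_diagGL] at hd
  by_contra hcon
  apply hd
  rw [← hb, ← hc]
  rcases mul_eq_zero.mp h1 with ha0 | hc0
  · -- a = 0: then b c = 1, so b ≠ 0, d = 0: antidiagonal, contradiction with hcon
    exfalso
    apply hcon
    refine ⟨ha0, ?_⟩
    rw [ha0, zero_mul, zero_add] at h4
    have hb0 : b ≠ 0 := by
      intro h0; rw [h0, zero_mul] at h4; exact zero_ne_one h4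
    exact (mul_eq_zero.mp h2).resolve_left hb0
  · rcases mul_eq_zero.mp h2 with hb0 | hd0
    · exact ⟨hb0, hc0⟩
    · exfalso
      rw [hc0, hd0, mul_zero, mul_zero, add_zero] at h4
      exact zero_ne_one h4

/-- the commutator subgroup of `O⁺₂(F)` consists of diagonal matrices -/
theorem commutator_le_diag :
    commutator (Cfsg.isometryGroup F (Cfsg.quadFormPlus 1 F)) ≤
      (diagGL F).subgroupOf (Cfsg.isometryGroup F (Cfsg.quadFormPlus 1 F)) := by
  set O := Cfsg.isometryGroup F (Cfsg.quadFormPlus 1 F) with hO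
  set T := (diagGL F).subgroupOf O with hT
  by_cases hex : ∃ a : O, a ∉ T
  · obtain ⟨a, ha⟩ := hex
    have hidx : T.index = 2 := by
      rw [Subgroup.index_eq_two_iff]
      refine ⟨a, fun b => ?_⟩
      by_cases hb : b ∈ T
      · right
        refine ⟨hb, fun hba => ha ?_⟩
        have := T.mul_mem (T.inv_mem hb) hba
        rwa [inv_mul_cancel_left] at this
      · left
        refine ⟨?_, hb⟩
        rw [hT, Subgroup.mem_subgroupOf] at ha hb ⊢
        obtain ⟨a1, a2⟩ := anti_of_not_diag a.2 ha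
        obtain ⟨b1, b2⟩ := anti_of_not_diag b.2 hb
        rw [Subgroup.coe_mul, mem_diagGL, Units.val_mul, d1_mul_apply, d1_mul_apply, a1, a2, b1, b2]
        simp
    have hn : T.Normal := Subgroup.normal_of_index_eq_two hidx
    rw [← Subgroup.Normal.quotient_commutative_iff_commutator_le]
    have hc : Nat.card (O ⧸ T) = 2 := by
      rw [← Subgroup.index_eq_card, hidx]
    have : Fact (Nat.Prime 2) := ⟨Nat.prime_two⟩
    exact (isCyclic_of_prime_card hc).isMulCommutative
  · push Not at hex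
    intro x _
    exact hex x

end

/-- PIECE D1 of `plans/SdSkel.lean.txt`, exact signature -/
theorem plus_one {F : Type*} [Field F] [Fintype F] (p : ℕ) [Fact p.Prime] [CharP F p] :
    ∃ χ : Cfsg.POmega F (Cfsg.quadFormPlus 1 F) → ℂ,
      Cfsg.IsIrrCharacter (Cfsg.POmega F (Cfsg.quadFormPlus 1 F)) χ ∧
      ∀ P : Sylow p (Cfsg.POmega F (Cfsg.quadFormPlus 1 F)), χ 1 = Nat.card P ∧
        ∀ x : Cfsg.POmega F (Cfsg.quadFormPlus 1 F), x ∈ P → x ≠ 1 → χ x = 0 := by
  apply steinberg_of_comm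
  intro x y
  have hx := commutator_le_diag x.2
  have hy := commutator_le_diag y.2
  rw [Subgroup.mem_subgroupOf] at hx hy
  apply Subtype.ext
  apply Subtype.ext
  exact diag_comm hx hy

end Cfsg.Agent.Helper13.SdP
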