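import Mathlib
import Cfsg.Agent.Lib.Helper11.TGBase
import Cfsg.Agent.Lib.Helper11.TGDefsE6
import Cfsg.Agent.Lib.Lead.TwE6Grp
import Cfsg.Agent.Lib.Lead.TwTorus

/-!
# S2406 piece E6MEM (helper23): membership in `²E₆(q)`
-/

set_option autoImplicit false

namespace Cfsg.Agent.Helper11.TG

open Cfsg Cfsg.Lie Cfsg.Agent.Lead.Chev Cfsg.Agent.Lead.Tw Cfsg.Agent.Helper11.CG

section E6

variable {K : Type*} [Field K] [Fintype K] {q : ℕ} (hK : Fintype.card K = q ^ 2)
  (f : K ≃+* K) (hf : ∀ t, f t = t ^ q)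

include hK hf in
theorem e6_fixed (g : GL chevE6.Idx K) (hg : g ∈ twistedE6 K q) : (E6.tw f).σ g = g := by
  rw [E6.twisted_eq hK f hf] at hg
  exact (E6.orthData f).fixed g hg

include hK hf in
theorem e6_le_group : twistedE6 K q ≤ chevE6.group K := by
  rw [E6.twisted_eq hK f hf]
  exact (E6.orthData f).le_group

include hK hf in
theorem e6mem_pair_h (i j : ℕ) (hi : i < 6) (hj : j < 6) (hij : j ≠ i) (h1 : E6.πs i = j)
    (h2 : E6.πs j = i) (hS : [i, j] ∈ E6.S) (k : K) (hk : k ≠ 0) :
    hGLt chevE6 (E6.hF (K := K)).xadd (chevE6.simple i) k *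
      hGLt chevE6 (E6.hF (K := K)).xadd (chevE6.simple j) (f k) ∈ twistedE6 K q := by
  rw [E6.twisted_eq hK f hf]
  have hrank : chevE6.rank = 6 := by decide
  have hmem := (E6.orthData f).prod_hGLt_mem
    (fun a ha => by rw [E6.c_simple f a (by omega), map_neg, map_one])
    (fun a ha => by rw [E6.c_neg_simple f a (by omega), map_one])
    [i, j] hS (fun a => if a = i then k else k ^ q)
    (E6.fixPos_pair hK f hf i j hi hj hij h1 h2 k)
    (fun a _ => by
      show (if a = i then k else k ^ q) ≠ 0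
      split_ifs
      · exact hk
      · exact pow_ne_zero _ hk)
  have e : ([i, j].map fun a => hGLt chevE6 (E6.hF (K := K)).xadd (chevE6.simple a)
      (if a = i then k else k ^ q)).prod =
      hGLt chevE6 (E6.hF (K := K)).xadd (chevE6.simple i) k *
        hGLt chevE6 (E6.hF (K := K)).xadd (chevE6.simple j) (f k) := by
    simp [hij, hf]
  rw [e] at hmem
  exact hmem

include hK hf in
theorem e6_h_mem (k : K) (hk : k ≠ 0) : hE6 f k ∈ twistedE6 K q := by
  unfold hE6
  exact mul_mem
    (e6mem_pair_h hK f hf 0 5 (by norm_num) (by norm_num) (by norm_num) rfl rfl (by decide) k hk)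
    (e6mem_pair_h hK f hf 2 4 (by norm_num) (by norm_num) (by norm_num) rfl rfl (by decide) k hk)

include hK hf in
theorem e6_n_mem : nWordGL chevE6 (E6.hF (K := K)).xadd wE6 ∈ twistedE6 K q := by
  rw [E6.twisted_eq hK f hf]
  have e : wE6 = [1] ++ ([3] ++ ([2, 4] ++ [0, 5])) := rfl
  rw [e, nWordGL_append, nWordGL_append, nWordGL_append]
  exact mul_mem ((E6.orthData f).s_mem [1] (by decide))
    (mul_mem ((E6.orthData f).s_mem [3] (by decide))
      (mul_mem ((E6.orthData f).s_mem [2, 4] (by decide)) ((E6.orthData f).s_mem [0, 5] (by decide))))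

include hK hf in
theorem e6_y_mem (t : K) :
    yC E6.hF (E6.tw f) 2 (xGL chevE6 (E6.hF (K := K)).xadd 56 t) ∈ twistedE6 K q := by
  rw [E6.twisted_eq hK f hf]
  have hmem := (E6.orthData f).xs_mem [0, 5] (by decide) (fun a => if a = 0 then t else t ^ q)
    (E6.fixPos_pair hK f hf 0 5 (by norm_num) (by norm_num) (by norm_num) rfl rfl t)
  have s0 : chevE6.simple 0 = 56 := by decide +kernel
  have s5 : chevE6.simple 5 = 36 := by decide +kernel
  have e : xs E6.hF [0, 5] (fun a => if a = 0 then t else t ^ q) =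
      yC E6.hF (E6.tw f) 2 (xGL chevE6 (E6.hF (K := K)).xadd 56 t) := by
    rw [yC_two, (E6.tw f).map_x 56 (by decide)]
    have e1 : (E6.tw f).ρ 56 = 36 := by
      have := (E6.tw f).ρ_simple 0 (by decide)
      rw [s0] at this
      rw [this]
      show chevE6.simple (E6.πs 0) = 36
      decide +kernel
    have e2 : (E6.tw f).c 56 t = t ^ q := by
      have := E6.c_simple f 0 (by norm_num) t
      rw [s0] at this
      rw [this, hf]
    rw [e1, e2]
    simp [xs, s0, s5]
  rw [e] at hmem
  exact hmem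

end E6

end Cfsg.Agent.Helper11.TG
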