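import Mathlib
import Cfsg.Agent.Lib.Helper11.TGBase
import Cfsg.Agent.Lib.Helper11.TGDefsE6
import Cfsg.Agent.Lib.Lead.TwE6Grp
import Cfsg.Agent.Lib.Helper23.TGE6MEM

/-!
# S2406 piece E6GEN (helper23): the generators of `²E₆(q)` are class elements
-/

set_option autoImplicit false

namespace Cfsg.Agent.Helper11.TG

open Cfsg Cfsg.Lie Cfsg.Agent.Lead.Chev Cfsg.Agent.Lead.Tw Cfsg.Agent.Helper11.CG

section E6

variable {K : Type*} [Field K] [Fintype K] {q : ℕ} (hK : Fintype.card K = q ^ 2)
  (f : K ≃+* K) (hf : ∀ t, f t = t ^ q)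

theorem e6gen_rank : chevE6.rank = 6 := by decide

theorem e6gen_yC_pos (i : ℕ) (hi : i < 6) (t : K) :
    yC E6.hF (E6.tw f) 2 (xGL chevE6 (E6.hF (K := K)).xadd (chevE6.simple i) t) =
      xGL chevE6 (E6.hF (K := K)).xadd (chevE6.simple i) t *
        xGL chevE6 (E6.hF (K := K)).xadd (chevE6.simple (E6.πs i)) (f t) := by
  have hi' : i < chevE6.rank := by rw [e6gen_rank]; exact hi
  rw [yC_two, (E6.tw f).map_x _ ((E6.hF (K := K)).simple_lt i hi'), (E6.tw f).ρ_simple i hi',
    E6.c_simple f i hi]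
  try rfl

theorem e6gen_yC_neg (i : ℕ) (hi : i < 6) (t : K) :
    yC E6.hF (E6.tw f) 2 (xGL chevE6 (E6.hF (K := K)).xadd (chevE6.neg (chevE6.simple i)) t) =
      xGL chevE6 (E6.hF (K := K)).xadd (chevE6.neg (chevE6.simple i)) t *
        xGL chevE6 (E6.hF (K := K)).xadd (chevE6.neg (chevE6.simple (E6.πs i))) (f t) := by
  have hi' : i < chevE6.rank := by rw [e6gen_rank]; exact hi
  rw [yC_two, (E6.tw f).map_x _ ((E6.hF (K := K)).neg_simple_lt i hi'),
    (E6.tw f).ρ_neg _ ((E6.hF (K := K)).simple_lt i hi'), (E6.tw f).ρ_simple i hi',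
    E6.c_neg_simple f i hi]
  try rfl

theorem e6gen_word_single (g : GL chevE6.Idx K) (r : ℕ) (t : K)
    (hg : (g : Matrix chevE6.Idx chevE6.Idx K) = chevE6.wordMat K [(r, t)]) :
    g = xGL chevE6 (E6.hF (K := K)).xadd r t := by
  apply Units.ext
  rw [hg, xGL_val, wordMat_cons, wordMat_nil, mul_one]

theorem e6gen_word_pair (g : GL chevE6.Idx K) (r s : ℕ) (t u : K)
    (hg : (g : Matrix chevE6.Idx chevE6.Idx K) = chevE6.wordMat K [(r, t), (s, u)]) :
    g = xGL chevE6 (E6.hF (K := K)).xadd r t * xGL chevE6 (E6.hF (K := K)).xadd s u := by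
  apply Units.ext
  rw [hg, Units.val_mul, xGL_val, xGL_val, wordMat_cons, wordMat_cons, wordMat_nil, mul_one]

include hK hf in
theorem e6_gens (H : Subgroup (GL chevE6.Idx K))
    (h56 : FullS E6.hF (E6.tw f) 2 H 56) (h42 : FullS E6.hF (E6.tw f) 2 H 42)
    (h35 : FullS E6.hF (E6.tw f) 2 H 35) (h34 : FullS E6.hF (E6.tw f) 2 H 34)
    (h46 : FullL E6.hF (E6.tw f) H 46) (h39 : FullL E6.hF (E6.tw f) H 39)
    (h25 : FullL E6.hF (E6.tw f) H 25) (h32 : FullL E6.hF (E6.tw f) H 32) :
    twistedE6 K q ≤ H := by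
  have hle : twistedE6 K q ≤ H := by
    unfold twistedE6 ChevalleyDatum.genSubgroup
    rw [Subgroup.closure_le]
    rintro g ⟨w, hw, hg⟩
    have hgm : g ∈ twistedE6 K q := Subgroup.subset_closure ⟨w, hw, hg⟩
    have hfix := e6_fixed hK f hf g hgm
    rcases hw with ⟨t, ht, r, hr, rfl⟩ | ⟨t, rs, hrs, rfl⟩
    · have hgx := e6gen_word_single g r t hg
      rw [hgx] at hfix ⊢
      simp only [List.mem_cons, List.not_mem_nil, or_false] at hr
      rcases hr with rfl | rfl | rfl | rfl
      · exact h46 t hfix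
      · exact h25 t hfix
      · exact h39 t hfix
      · exact h32 t hfix
    · have hgx := e6gen_word_pair g rs.1 rs.2 t (t ^ q) hg
      rw [hgx]
      simp only [List.mem_cons, List.not_mem_nil, or_false] at hrs
      have hcls := (E6.orthData (K := K) f).cls
      rcases hrs with rfl | rfl | rfl | rfl
      · -- (56, 36)
        have e := e6gen_yC_pos f 0 (by norm_num) t
        have s0 : chevE6.simple 0 = 56 := by decide +kernel
        have s5 : chevE6.simple (E6.πs 0) = 36 := by decide +kernel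
        rw [s0, s5, hf] at e
        show xGL chevE6 (E6.hF (K := K)).xadd 56 t * xGL chevE6 (E6.hF (K := K)).xadd 36 (t ^ q) ∈ H
        rw [← e]
        exact h56 t
      · -- (15, 35)
        have e := e6gen_yC_neg f 5 (by norm_num) (t ^ q)
        have s0 : chevE6.neg (chevE6.simple 5) = 35 := by decide +kernel
        have s5 : chevE6.neg (chevE6.simple (E6.πs 5)) = 15 := by decide +kernel
        rw [s0, s5, hf, E6.frob_sq hK f hf] at e
        show xGL chevE6 (E6.hF (K := K)).xadd 15 t * xGL chevE6 (E6.hF (K := K)).xadd 35 (t ^ q) ∈ H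
        have hc : Commute (xGL chevE6 (E6.hF (K := K)).xadd 15 t)
            (xGL chevE6 (E6.hF (K := K)).xadd 35 (t ^ q)) := by
          have ho := ((hcls [0, 5] (by decide)).orth 0 (by simp) 5 (by simp) (by norm_num)).2.2.2
          have a0 : chevE6.neg (chevE6.simple 0) = 15 := by decide +kernel
          rw [a0, s0] at ho
          exact Cfsg.Agent.Lead.Tw.xGL_commute E6.hF 15 35 (by decide) (by decide) ho _ _
        rw [hc.eq, ← e]
        exact h35 (t ^ q)
      · -- (42, 37)
        have e := e6gen_yC_pos f 2 (by norm_num) t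
        have s0 : chevE6.simple 2 = 42 := by decide +kernel
        have s5 : chevE6.simple (E6.πs 2) = 37 := by decide +kernel
        rw [s0, s5, hf] at e
        show xGL chevE6 (E6.hF (K := K)).xadd 42 t * xGL chevE6 (E6.hF (K := K)).xadd 37 (t ^ q) ∈ H
        rw [← e]
        exact h42 t
      · -- (29, 34)
        have e := e6gen_yC_neg f 4 (by norm_num) (t ^ q)
        have s0 : chevE6.neg (chevE6.simple 4) = 34 := by decide +kernel
        have s5 : chevE6.neg (chevE6.simple (E6.πs 4)) = 29 := by decide +kernel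
        rw [s0, s5, hf, E6.frob_sq hK f hf] at e
        show xGL chevE6 (E6.hF (K := K)).xadd 29 t * xGL chevE6 (E6.hF (K := K)).xadd 34 (t ^ q) ∈ H
        have hc : Commute (xGL chevE6 (E6.hF (K := K)).xadd 29 t)
            (xGL chevE6 (E6.hF (K := K)).xadd 34 (t ^ q)) := by
          have ho := ((hcls [2, 4] (by decide)).orth 2 (by simp) 4 (by simp) (by norm_num)).2.2.2
          have a0 : chevE6.neg (chevE6.simple 2) = 29 := by decide +kernel
          rw [a0, s0] at ho
          exact Cfsg.Agent.Lead.Tw.xGL_commute E6.hF 29 34 (by decide) (by decide) ho _ _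
        rw [hc.eq, ← e]
        exact h34 (t ^ q)
  exact hle

end E6

end Cfsg.Agent.Helper11.TG
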