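import Mathlib
import Cfsg.Agent.Lib.Helper12.MinIdxDefs
import Cfsg.Agent.Lib.Helper20.LSLGEOM

/-!
# S2140 (MINIDX farm-out of helper12), piece LINES (helper23): `lemmaI`, `lines_false`
-/

set_option autoImplicit false
set_option linter.unusedSectionVars false
set_option linter.unusedVariables false
set_option linter.unusedSimpArgs false

namespace Cfsg.Agent.Helper12.MinIdx

open Matrix Cfsg.Agent.Helper12 Cfsg.Agent.Helper12.LSL

variable {F : Type*} [Field F] {ι : Type*} [Fintype ι] [DecidableEq ι]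

/-- the vector `c e_k` as an element of `Phi F i`, `k ≠ i` -/
def linesE (i k : ι) (hk : k ≠ i) (c : F) : Phi F i :=
  ⟨Pi.single k c, by rw [mem_Phi_iff, Pi.single_eq_of_ne hk.symm]⟩

theorem linesE_val (i k : ι) (hk : k ≠ i) (c : F) : (linesE i k hk c).1 = Pi.single k c := rfl

theorem linesE_ne_zero (i k : ι) (hk : k ≠ i) : linesE (F := F) i k hk 1 ≠ 0 := by
  intro h
  have h1 := congrArg (fun x : Phi F i => x.1 k) h
  simp [linesE_val] at h1

/-- if `x = xPhi i φ` fixes `ω` and `e_j`, then it normalises `rowGrp F j ∩ G_ω` -/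
theorem lines_key {Ω : Type*} [MulAction (Matrix.SpecialLinearGroup ι F) Ω] (i j : ι) (ω : Ω)
    (φ : Phi F i) (hφj : φ.1 j = 0) (hx : xPhi i φ • ω = ω) (v : Phi F j)
    (hv : ∀ φ' : Phi F j, xPhi j φ' • ω = ω ↔ φ'.1 ⬝ᵥ v.1 = 0)
    (φ' : Phi F j) (hφ' : φ'.1 ⬝ᵥ v.1 = 0) : (φ.1 ⬝ᵥ v.1) * φ'.1 i = 0 := by
  have hg : (xPhi i φ)⁻¹ • (Pi.single j 1 : ι → F) = Pi.single j 1 := by
    rw [inv_smul_eq_iff, xPhi_smul, dotProduct_single, mul_one, hφj, zero_smul, add_zero]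
  obtain ⟨φ'', h1, h2⟩ := exists_conj_xPhi j (xPhi i φ)⁻¹ hg φ'
  rw [inv_inv] at h1
  have hx' : (xPhi i φ)⁻¹ • ω = ω := by rw [inv_smul_eq_iff, hx]
  have hfix : xPhi j φ'' • ω = ω := by
    rw [← h1, mul_smul, mul_smul, hx', (hv φ').2 hφ', hx]
  have h3 := (hv φ'').1 hfix
  rw [h2, ← xPhi_neg, xPhi_smul, dotProduct_add, dotProduct_smul, dotProduct_single, mul_one, hφ',
    zero_add] at h3
  have h4 : ((-φ : Phi F i).1 ⬝ᵥ v.1) = -(φ.1 ⬝ᵥ v.1) := by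
    rw [Submodule.coe_neg, neg_dotProduct]
  rw [h4, smul_eq_mul, neg_mul, neg_eq_zero] at h3
  exact h3

/-- if `xPhi i e_k` fixes `ω` (`k ≠ i, j`), the vector of `rowGrp F j ∩ G_ω` has `k`-coordinate `0` -/
theorem lines_zero {Ω : Type*} [MulAction (Matrix.SpecialLinearGroup ι F) Ω] (i j k : ι)
    (hij : i ≠ j) (hki : k ≠ i) (hkj : k ≠ j) (ω : Ω)
    (hx : xPhi i (linesE i k hki (1 : F)) • ω = ω) (v : Phi F j)
    (hv : ∀ φ' : Phi F j, xPhi j φ' • ω = ω ↔ φ'.1 ⬝ᵥ v.1 = 0) : v.1 k = 0 := by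
  set φ' : Phi F j := linesE j i hij (v.1 k) - linesE j k hkj (v.1 i) with hφ'def
  have hφ' : φ'.1 ⬝ᵥ v.1 = 0 := by
    rw [hφ'def, Submodule.coe_sub, sub_dotProduct, linesE_val, linesE_val, single_dotProduct,
      single_dotProduct]
    ring
  have h1 := lines_key i j ω (linesE i k hki (1 : F))
    (by rw [linesE_val]; exact Pi.single_eq_of_ne (Ne.symm hkj) _) hx v hv φ' hφ'
  rw [linesE_val, single_dotProduct, one_mul, hφ'def, Submodule.coe_sub, Pi.sub_apply, linesE_val,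
    linesE_val, Pi.single_eq_same, Pi.single_eq_of_ne (Ne.symm hki), sub_zero] at h1
  exact mul_self_eq_zero.1 h1

theorem lemmaI {Ω : Type*} [MulAction (Matrix.SpecialLinearGroup ι F) Ω]
    (h : ∀ (i : ι) (ω : Ω), ∃ v : Phi F i, v ≠ 0 ∧
      ∀ φ : Phi F i, xPhi i φ • ω = ω ↔ φ.1 ⬝ᵥ v.1 = 0)
    (i j : ι) (hij : i ≠ j) (ω : Ω)
    (hi : ∀ φ : Phi F i, xPhi i φ • ω = ω ↔ φ.1 j = 0) :
    ∀ φ : Phi F j, xPhi j φ • ω = ω ↔ φ.1 i = 0 := by
  obtain ⟨v, hv0, hv⟩ := h j ω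
  have hvk : ∀ k, k ≠ i → v.1 k = 0 := by
    intro k hki
    by_cases hkj : k = j
    · rw [hkj]; exact Phi_apply j v
    · have hx : xPhi i (linesE i k hki (1 : F)) • ω = ω :=
        (hi _).2 (by rw [linesE_val]; exact Pi.single_eq_of_ne (Ne.symm hkj) _)
      exact lines_zero i j k hij hki hkj ω hx v hv
  have hvi : v.1 i ≠ 0 := by
    intro h0
    apply hv0
    apply Subtype.ext
    funext k
    by_cases hk : k = i
    · rw [hk, h0]; rfl
    · rw [hvk k hk]; rfl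
  intro φ
  rw [hv φ]
  have hdot : φ.1 ⬝ᵥ v.1 = φ.1 i * v.1 i := by
    rw [dotProduct, Finset.sum_eq_single i]
    · intro k _ hk
      rw [hvk k hk, mul_zero]
    · intro hmem
      exact absurd (Finset.mem_univ i) hmem
  rw [hdot, mul_eq_zero]
  constructor
  · rintro (h1 | h1)
    · exact h1
    · exact absurd h1 hvi
  · intro h1
    exact Or.inl h1

/-- the vector of `rowGrp F i ∩ G_{l ω}` is `l • v` -/
theorem lines_transfer {Ω : Type*} [MulAction (Matrix.SpecialLinearGroup ι F) Ω] (i : ι)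
    (l : Lp F i) (ω : Ω) (v : Phi F i)
    (hv : ∀ φ : Phi F i, xPhi i φ • ω = ω ↔ φ.1 ⬝ᵥ v.1 = 0) :
    ∀ φ : Phi F i, xPhi i φ • (l.1 • ω) = l.1 • ω ↔ φ.1 ⬝ᵥ (l • v).1 = 0 := by
  intro φ
  obtain ⟨φ', h1, h2⟩ := Lp_conj_xPhi i l φ
  rw [← h2 v, ← hv φ', ← h1, mul_smul, mul_smul, inv_smul_eq_iff]

theorem lines_false {Ω : Type*} [MulAction (Matrix.SpecialLinearGroup ι F) Ω] [Nonempty Ω]
    (hι : 3 ≤ Fintype.card ι)
    (h : ∀ (i : ι) (ω : Ω), ∃ v : Phi F i, v ≠ 0 ∧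
      ∀ φ : Phi F i, xPhi i φ • ω = ω ↔ φ.1 ⬝ᵥ v.1 = 0) : False := by
  obtain ⟨i1, i2, i3, h12, h13, h23⟩ :=
    Fintype.two_lt_card_iff.1 (by omega : 2 < Fintype.card ι)
  obtain ⟨ω0⟩ := ‹Nonempty Ω›
  -- Step 1: normalise the vector of `(i1, ω)` to `e_{i2}`
  obtain ⟨v1, hv10, hv1⟩ := h i1 ω0
  obtain ⟨l1, hl1⟩ := Lp_transitive hι i1 ⟨v1, hv10⟩
    ⟨linesE i1 i2 h12.symm (1 : F), linesE_ne_zero i1 i2 h12.symm⟩
  have hl1' : l1 • v1 = linesE i1 i2 h12.symm (1 : F) := congrArg Subtype.val hl1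
  set ω : Ω := l1.1 • ω0 with hω
  have hi1 : ∀ φ : Phi F i1, xPhi i1 φ • ω = ω ↔ φ.1 i2 = 0 := by
    intro φ
    rw [lines_transfer i1 l1 ω0 v1 hv1 φ, hl1', linesE_val, dotProduct_single, mul_one]
  have hi2 := lemmaI h i1 i2 h12 ω hi1
  -- Step 3: the vector of `(i3, ω)` lies in the span of `e_{i1}, e_{i2}`
  obtain ⟨v3, hv30, hv3⟩ := h i3 ω
  have hv3k : ∀ k, k ≠ i1 → k ≠ i2 → v3.1 k = 0 := by
    intro k hk1 hk2
    by_cases hk3 : k = i3
    · rw [hk3]; exact Phi_apply i3 v3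
    · have hx : xPhi i1 (linesE i1 k hk1 (1 : F)) • ω = ω :=
        (hi1 _).2 (by rw [linesE_val]; exact Pi.single_eq_of_ne (Ne.symm hk2) _)
      exact lines_zero i1 i3 k h13 hk1 hk3 ω hx v3 hv3
  -- Step 2: `yPhi i3 v3` fixes `ω`
  have hy : yPhi i3 v3 • ω = ω := by
    have hprod : yPhi i3 v3 = xPhi i1 (linesE i1 i3 h13.symm (v3.1 i1)) *
        xPhi i2 (linesE i2 i3 h23.symm (v3.1 i2)) := by
      apply SL_ext_smul
      intro w
      rw [mul_smul, yPhi_smul, xPhi_smul, xPhi_smul, linesE_val, linesE_val, single_dotProduct,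
        single_dotProduct]
      funext k
      simp only [Pi.add_apply, Pi.smul_apply, smul_eq_mul, Pi.single_apply]
      by_cases hk1 : k = i1
      · subst hk1
        simp [h12, h13, h23.symm, Ne.symm h13]
        ring
      · by_cases hk2 : k = i2
        · subst hk2
          simp [h12.symm, h23, Ne.symm h23, hk1]
          ring
        · rw [hv3k k hk1 hk2]
          simp [hk1, hk2, h23.symm, Ne.symm h23]
    rw [hprod, mul_smul]
    have e2 : xPhi i2 (linesE i2 i3 h23.symm (v3.1 i2)) • ω = ω :=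
      (hi2 _).2 (by rw [linesE_val]; exact Pi.single_eq_of_ne h13 _)
    have e1 : xPhi i1 (linesE i1 i3 h13.symm (v3.1 i1)) • ω = ω :=
      (hi1 _).2 (by rw [linesE_val]; exact Pi.single_eq_of_ne h23 _)
    rw [e2, e1]
  -- Step 4
  obtain ⟨l3, hl3⟩ := Lp_transitive hι i3 ⟨v3, hv30⟩
    ⟨linesE i3 i1 h13 (1 : F), linesE_ne_zero i3 i1 h13⟩
  have hl3' : l3 • v3 = linesE i3 i1 h13 (1 : F) := congrArg Subtype.val hl3
  set ω' : Ω := l3.1 • ω with hω'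
  have hi3' : ∀ φ : Phi F i3, xPhi i3 φ • ω' = ω' ↔ φ.1 i1 = 0 := by
    intro φ
    rw [lines_transfer i3 l3 ω v3 hv3 φ, hl3', linesE_val, dotProduct_single, mul_one]
  have hi1' := lemmaI h i3 i1 h13.symm ω' hi3'
  have hy' : yPhi i3 (l3 • v3) • ω' = ω' := by
    rw [← Lp_conj_yPhi, hω', mul_smul, mul_smul, inv_smul_smul, hy]
  have hyx : yPhi i3 (l3 • v3) = xPhi i1 (linesE i1 i3 h13.symm (1 : F)) := by
    rw [hl3']
    apply SL_ext_smul
    intro w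
    rw [yPhi_smul, xPhi_smul, linesE_val, linesE_val, single_dotProduct, one_mul]
  rw [hyx] at hy'
  have h0 := (hi1' _).1 hy'
  rw [linesE_val, Pi.single_eq_same] at h0
  exact one_ne_zero h0

end Cfsg.Agent.Helper12.MinIdx
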