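import Mathlib
import Cfsg.Agent.Lib.Helper12.NatModA

/-!
Definitions for S3050 (Higman: a 2-group `Q ⊴ G` with `G/Q ≅ SL₂(2ⁿ)`, `n ≥ 2`, and an element of order 3 acting
fixed-point-freely is elementary abelian and a direct product of natural modules).  Farm-out pieces `SLH-*`.
-/

set_option autoImplicit false

namespace Cfsg.Agent.Helper23.Slh

open Cfsg.Agent.Helper12.NatMod

local notation "SL2" => Matrix.SpecialLinearGroup (Fin 2)

/-! ### Block data (the abstract 2×2 block computation over a ring `R` of characteristic 2) -/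

section Blocks

variable {F : Type*} [Field F] {R : Type*} [Ring R]

/-- the images of the root elements have the block form `[[α, β], [0, α]]` and `[[α, 0], [β, α]]` -/
structure BlockData (P : SL2 F →* Matrix (Fin 2) (Fin 2) R) (α β : F → R) : Prop where
  uu_eq : ∀ c, P (uu c) = !![α c, β c; 0, α c]
  ll_eq : ∀ c, P (ll c) = !![α c, 0; β c, α c]

/-- the basic relations between the blocks -/
structure BlockRel1 (α β : F → R) : Prop where
  α_zero : α 0 = 1
  β_zero : β 0 = 0
  α_one : α 1 = 1
  β_one : β 1 = 1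
  α_add : ∀ c d, α (c + d) = α c * α d
  β_add : ∀ c d, β (c + d) = α c * β d + β c * α d
  α_comm : ∀ c d, α c * α d = α d * α c
  αβ_comm : ∀ c, α c * β c = β c * α c

/-- the relations coming from the fixed-point-free elements of order 3 -/
structure BlockRel2 (α β : F → R) : Prop where
  β_inv : ∀ c : Fˣ, β (c : F) * β ((c⁻¹ : Fˣ) : F) = 1
  αβ_comm' : ∀ c : Fˣ, α ((c⁻¹ : Fˣ) : F) * β (c : F) = β (c : F) * α ((c⁻¹ : Fˣ) : F)

end Blocks

/-! ### `Γ`-groups -/

/-- a group `Γ` with a surjection onto `SL₂(F)` and an element mapping onto an element of order 3 -/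
structure Sys (Γ : Type*) [Group Γ] (F : Type*) [Field F] where
  π : Γ →* SL2 F
  surj : Function.Surjective π
  x : Γ
  hx3 : (π x) ^ 3 = 1
  hx1 : π x ≠ 1

variable {Γ : Type*} [Group Γ] {F : Type*} [Field F]

/-- a `Γ`-group: `Γ` acts on `Q`, the kernel of `π` acts by inner automorphisms and `x` acts fixed-point-freely -/
structure GGrp (S : Sys Γ F) (Q : Type*) [Group Q] where
  φ : Γ →* MulAut Q
  inner : ∀ g, S.π g = 1 → ∃ q : Q, ∀ y, φ g y = q * y * q⁻¹
  fpf : ∀ y, φ S.x y = y → y = 1

/-- normal form: `Q` is a direct product of natural modules -/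
def GGrp.NF {S : Sys Γ F} {Q : Type*} [Group Q] (A : GGrp S Q) : Prop :=
  ∃ (k : ℕ) (ψ : Q ≃* Multiplicative (Fin k → Fin 2 → F)), ∀ (g : Γ) (y : Q) (i : Fin k),
    Multiplicative.toAdd (ψ (A.φ g y)) i =
      ((S.π g : SL2 F) : Matrix (Fin 2) (Fin 2) F).mulVec (Multiplicative.toAdd (ψ y) i)

end Cfsg.Agent.Helper23.Slh
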