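import Mathlib
import Cfsg.Agent.Lib.Helper13.InvNDefsC
import Cfsg.Agent.Lib.Helper25.InvC2COMM

/-!
INVN PIECE ORTHO (helper23).  The statement `comm_of_evenComm` of `plans/INVN_SkelB.lean.txt` is already on main as
`Cfsg.Agent.Helper13.InvN.comm_of_evenComm` in `Cfsg/Agent/Lib/Helper25/InvC2COMM.lean` (piece C2-COMM, helper25),
with the explicit argument `hF` only.  To avoid a second declaration of the same name in the same namespace this file
declares the skeleton form (explicit arguments `hF hS hI`, as produced by the skeleton's `include hF hS hI`) under the
name `comm_of_evenComm_B` and otherwise only re-exports helper25's file.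
-/

set_option autoImplicit false
set_option linter.unusedSectionVars false
set_option linter.unusedVariables false

namespace Cfsg.Agent.Helper13.InvN

open Cfsg Cfsg.Lie Cfsg.Agent.Lead.Chev Cfsg.Agent.Helper6.ChevL

variable {F : Type*} [Field F] {D : ChevalleyDatum} (hF : ChevFacts D F) (hS : CorSize D) (hI : CorInj D)
include hF hS hI

section char2

variable [CharP F 2]

/-- PIECE ORTHO in the exact skeleton form (arguments `hF hS hI`): root subgroups whose commutator formula has only
even coefficients commute in characteristic 2. -/
theorem comm_of_evenComm_B (r s : ℕ) (hr : r < D.nroots) (hs : s < D.nroots) (h : evenComm D r s = true) (t u : F) :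
    xGL D hF.xadd s u * xGL D hF.xadd r t = xGL D hF.xadd r t * xGL D hF.xadd s u :=
  comm_of_evenComm hF r s hr hs h t u

end char2

end Cfsg.Agent.Helper13.InvN
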