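import Mathlib
import Cfsg.Prelude.Def_JComponents
import Cfsg.Agent.Lib.Helper13.JCFFDefs
import Cfsg.Agent.Lib.Helper13.JCF1
import Cfsg.Agent.Lib.Helper14.Basic
import Cfsg.Agent.Lib.Helper14.Ambient
import Cfsg.Agent.Lib.Helper19.JCDefs
import Cfsg.Agent.S0602

/-!
# KS12, piece F6, part A (helper23): the structure of `K_i = Kc F i = O²(O_i ⊓ JQ)`

`N = f6N F i = O_i ⊓ JQ`, `Q = O₂(X) ≤ N` of index 3 (given `J ⊓ C ≤ Q`, piece F4), `K_i ⊓ Q = O₂(K_i)` of index 3.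
-/

set_option autoImplicit false
set_option linter.unusedSectionVars false
set_option linter.unusedVariables false
set_option linter.style.haveILetI false

namespace Cfsg.Agent.Helper13.JCFF

open Cfsg

variable {X : Type*} [Group X] [Finite X]

/-- `N_i = O_i ⊓ JQ` -/
def f6N (F : FFData X (VX X)) (i : Fin F.r) : Subgroup X :=
  F.O i ⊓ (thompsonSubgroup 2 X ⊔ pCore 2 X)

theorem f6_pCore_normal : (pCore 2 X).Normal :=
  Subgroup.sSup_normal _ (fun _ hK => hK.1)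

theorem f6_J_normal : (thompsonSubgroup 2 X).Normal := by
  haveI : Fact (Nat.Prime 2) := ⟨Nat.prime_two⟩
  haveI : (thompsonSubgroup 2 X).Characteristic := (Cfsg.Agent.S0602.result (G := X) (p := 2)).1
  infer_instance

theorem f6_JQ_normal : (thompsonSubgroup 2 X ⊔ pCore 2 X).Normal := by
  haveI := f6_J_normal (X := X)
  haveI := f6_pCore_normal (X := X)
  infer_instance

theorem f6_C_normal (hQ : Subgroup.centralizer (pCore 2 X : Set X) ≤ pCore 2 X) :
    (Subgroup.centralizer (VX X : Set X)).Normal := by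
  haveI := VX_normal hQ
  infer_instance

theorem f6_Kc_le_N (F : FFData X (VX X)) (i : Fin F.r) : Kc F i ≤ f6N F i := by
  unfold Kc
  rw [Subgroup.closure_le]
  intro x hx
  exact Subgroup.mem_inf.2 ⟨hx.1, hx.2.1⟩

theorem f6_mem_Kc_of_odd (F : FFData X (VX X)) (i : Fin F.r) {y : X} (hy : y ∈ f6N F i)
    (ho : Odd (orderOf y)) : y ∈ Kc F i := by
  obtain ⟨h1, h2⟩ := Subgroup.mem_inf.1 hy
  exact Subgroup.subset_closure ⟨h1, h2, ho⟩

theorem f6_Q_le_N (hQ : Subgroup.centralizer (pCore 2 X : Set X) ≤ pCore 2 X)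
    (F : FFData X (VX X)) (i : Fin F.r) : pCore 2 X ≤ f6N F i :=
  le_inf ((pCore_le_centralizer_VX hQ).trans (F.C_le_O i)) le_sup_right

/-- `JQ ⊓ C ≤ Q` (modular law) -/
theorem f6_JQ_inf_C (hQ : Subgroup.centralizer (pCore 2 X : Set X) ≤ pCore 2 X)
    (hJC : thompsonSubgroup 2 X ⊓ Subgroup.centralizer (VX X : Set X) ≤ pCore 2 X) :
    (thompsonSubgroup 2 X ⊔ pCore 2 X) ⊓ Subgroup.centralizer (VX X : Set X) ≤ pCore 2 X := by
  haveI := f6_pCore_normal (X := X)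
  intro y hy
  obtain ⟨h1, h2⟩ := Subgroup.mem_inf.1 hy
  obtain ⟨j, hj, q, hq, rfl⟩ := Subgroup.mem_sup_of_normal_right.1 h1
  have hqC : q ∈ Subgroup.centralizer (VX X : Set X) := pCore_le_centralizer_VX hQ hq
  have hjC : j ∈ Subgroup.centralizer (VX X : Set X) := by
    have := Subgroup.mul_mem _ h2 (Subgroup.inv_mem _ hqC)
    simpa using this
  exact Subgroup.mul_mem _ (hJC (Subgroup.mem_inf.2 ⟨hj, hjC⟩)) hq

theorem f6_N_inf_C (hQ : Subgroup.centralizer (pCore 2 X : Set X) ≤ pCore 2 X)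
    (hJC : thompsonSubgroup 2 X ⊓ Subgroup.centralizer (VX X : Set X) ≤ pCore 2 X)
    (F : FFData X (VX X)) (i : Fin F.r) :
    f6N F i ⊓ Subgroup.centralizer (VX X : Set X) = pCore 2 X := by
  apply le_antisymm
  · intro y hy
    obtain ⟨h1, h2⟩ := Subgroup.mem_inf.1 hy
    exact f6_JQ_inf_C hQ hJC (Subgroup.mem_inf.2 ⟨(Subgroup.mem_inf.1 h1).2, h2⟩)
  · exact le_inf (f6_Q_le_N hQ F i) (pCore_le_centralizer_VX hQ)

/-- `N ≰ C` -/
theorem f6_N_not_le_C (hQ : Subgroup.centralizer (pCore 2 X : Set X) ≤ pCore 2 X)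
    (F : FFData X (VX X)) (i : Fin F.r) :
    ¬ f6N F i ≤ Subgroup.centralizer (VX X : Set X) := by
  haveI := f6_C_normal hQ
  intro hle
  have h3 := F.relIndex_O i
  have hne : ¬ F.O i ≤ Subgroup.centralizer (VX X : Set X) := by
    intro h
    rw [Subgroup.relIndex_eq_one.2 h] at h3
    omega
  apply hne
  intro y hy
  have hy' : y ∈ thompsonSubgroup 2 X ⊔ Subgroup.centralizer (VX X : Set X) :=
    F.D_le i (F.O_le_D i hy)
  obtain ⟨j, hj, c, hc, rfl⟩ := Subgroup.mem_sup_of_normal_right.1 hy'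
  have hjO : j ∈ F.O i := by
    have := Subgroup.mul_mem _ hy (Subgroup.inv_mem _ (F.C_le_O i hc))
    simpa using this
  have hjN : j ∈ f6N F i := Subgroup.mem_inf.2 ⟨hjO, Subgroup.mem_sup_left hj⟩
  exact Subgroup.mul_mem _ (hle hjN) hc

theorem f6_relIndex_N (hQ : Subgroup.centralizer (pCore 2 X : Set X) ≤ pCore 2 X)
    (hJC : thompsonSubgroup 2 X ⊓ Subgroup.centralizer (VX X : Set X) ≤ pCore 2 X)
    (F : FFData X (VX X)) (i : Fin F.r) : (pCore 2 X).relIndex (f6N F i) = 3 := by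
  haveI := f6_C_normal hQ
  set C := Subgroup.centralizer (VX X : Set X) with hC
  have h1 : (pCore 2 X).relIndex (f6N F i) = C.relIndex (f6N F i) := by
    rw [← f6_N_inf_C hQ hJC F i, Subgroup.inf_relIndex_left]
  have h2 : C.relIndex (f6N F i) = C.relIndex (f6N F i ⊔ C) :=
    (Subgroup.relIndex_sup_right (f6N F i) C).symm
  have hle : f6N F i ⊔ C ≤ F.O i := sup_le inf_le_left (F.C_le_O i)
  have h3 : C.relIndex (f6N F i ⊔ C) * (f6N F i ⊔ C).relIndex (F.O i) = 3 := by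
    have := Subgroup.relIndex_mul_relIndex C (f6N F i ⊔ C) (F.O i) le_sup_right hle
    rw [this]
    exact F.relIndex_O i
  have h4 : C.relIndex (f6N F i ⊔ C) ≠ 1 := by
    intro h
    rw [Subgroup.relIndex_eq_one] at h
    exact f6_N_not_le_C hQ F i (le_sup_left.trans h)
  have h5 : C.relIndex (f6N F i ⊔ C) ∣ 3 := Dvd.intro _ h3
  rw [h1, h2]
  rcases (Nat.dvd_prime Nat.prime_three).1 h5 with h | h
  · exact absurd h h4
  · exact h

/-- an element of order 3 of `N` -/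
theorem f6_exists_d (hQ : Subgroup.centralizer (pCore 2 X : Set X) ≤ pCore 2 X)
    (hJC : thompsonSubgroup 2 X ⊓ Subgroup.centralizer (VX X : Set X) ≤ pCore 2 X)
    (F : FFData X (VX X)) (i : Fin F.r) : ∃ d ∈ f6N F i, orderOf d = 3 := by
  haveI : Fact (Nat.Prime 3) := ⟨Nat.prime_three⟩
  have h3 : 3 ∣ Nat.card (f6N F i) := by
    rw [← f6_relIndex_N hQ hJC F i]
    exact Subgroup.relIndex_dvd_card _ _
  obtain ⟨d, hd⟩ := exists_prime_orderOf_dvd_card' 3 h3
  exact ⟨d, d.2, by rw [← hd, Subgroup.orderOf_coe]⟩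

/-- an element of order 3 is not in `Q` -/
theorem f6_not_mem_Q {d : X} (hd3 : orderOf d = 3) : d ∉ pCore 2 X := by
  intro hd
  obtain ⟨k, hk⟩ := (Cfsg.Agent.Helper14.pCore_isPGroup 2 X) ⟨d, hd⟩
  have h1 : d ^ 2 ^ k = 1 := by
    have := congrArg Subtype.val hk
    simpa using this
  have h2 : 3 ∣ 2 ^ k := by rw [← hd3]; exact orderOf_dvd_of_pow_eq_one h1
  have h3 : 3 ∣ 2 := Nat.Prime.dvd_of_dvd_pow Nat.prime_three h2
  omega

end Cfsg.Agent.Helper13.JCFF
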