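import Mathlib
import Cfsg.Agent.Lib.Helper23.JCF6A

/-!
# KS12, piece F6, part B (helper23): `K_i ⊓ Q = O₂(K_i)` has index 3; the trichotomy `N = Q ∪ Qd ∪ Qd⁻¹`;
`J ⊔ C` normalizes `N_i` and `K_i`.
-/

set_option autoImplicit false
set_option linter.unusedSectionVars false
set_option linter.unusedVariables false
set_option linter.style.haveILetI false

namespace Cfsg.Agent.Helper13.JCFF

open Cfsg

variable {X : Type*} [Group X] [Finite X]

/-- `J ⊔ C` normalizes `O_i` -/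
theorem f6_conj_O (F : FFData X (VX X)) (i : Fin F.r) {g : X}
    (hg : g ∈ thompsonSubgroup 2 X ⊔ Subgroup.centralizer (VX X : Set X)) {y : X}
    (hy : y ∈ F.O i) : g * y * g⁻¹ ∈ F.O i := by
  have h := (F.conj_J g hg i).2
  rw [← h]
  exact ⟨y, hy, rfl⟩

/-- `J ⊔ C` normalizes `D_i` -/
theorem f6_conj_D (F : FFData X (VX X)) (i : Fin F.r) {g : X}
    (hg : g ∈ thompsonSubgroup 2 X ⊔ Subgroup.centralizer (VX X : Set X)) {y : X}
    (hy : y ∈ F.D i) : g * y * g⁻¹ ∈ F.D i := by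
  have h := (F.conj_J g hg i).1
  rw [← h]
  exact ⟨y, hy, rfl⟩

theorem f6_conj_N (F : FFData X (VX X)) (i : Fin F.r) {g : X}
    (hg : g ∈ thompsonSubgroup 2 X ⊔ Subgroup.centralizer (VX X : Set X)) {y : X}
    (hy : y ∈ f6N F i) : g * y * g⁻¹ ∈ f6N F i := by
  obtain ⟨h1, h2⟩ := Subgroup.mem_inf.1 hy
  exact Subgroup.mem_inf.2 ⟨f6_conj_O F i hg h1, (f6_JQ_normal (X := X)).conj_mem _ h2 g⟩

theorem f6_orderOf_conj (g y : X) : orderOf (g * y * g⁻¹) = orderOf y := by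
  have : g * y * g⁻¹ = MulAut.conj g y := by simp
  rw [this, MulEquiv.orderOf_eq]

theorem f6_conj_Kc (F : FFData X (VX X)) (i : Fin F.r) {g : X}
    (hg : g ∈ thompsonSubgroup 2 X ⊔ Subgroup.centralizer (VX X : Set X)) {y : X}
    (hy : y ∈ Kc F i) : g * y * g⁻¹ ∈ Kc F i := by
  unfold Kc at hy
  induction hy using Subgroup.closure_induction with
  | mem z hz =>
    apply f6_mem_Kc_of_odd F i
    · exact f6_conj_N F i hg (Subgroup.mem_inf.2 ⟨hz.1, hz.2.1⟩)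
    · rw [f6_orderOf_conj]; exact hz.2.2
  | one => simp
  | mul a b _ _ iha ihb =>
    have : g * (a * b) * g⁻¹ = (g * a * g⁻¹) * (g * b * g⁻¹) := by group
    rw [this]
    exact Subgroup.mul_mem _ iha ihb
  | inv a _ iha =>
    have : g * a⁻¹ * g⁻¹ = (g * a * g⁻¹)⁻¹ := by group
    rw [this]
    exact Subgroup.inv_mem _ iha

/-- `N ≤ J ⊔ C` -/
theorem f6_N_le_JC (F : FFData X (VX X)) (i : Fin F.r) :
    f6N F i ≤ thompsonSubgroup 2 X ⊔ Subgroup.centralizer (VX X : Set X) :=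
  inf_le_left.trans ((F.O_le_D i).trans (F.D_le i))

/-- `J ⊔ Q ≤ J ⊔ C` -/
theorem f6_JQ_le_JC (hQ : Subgroup.centralizer (pCore 2 X : Set X) ≤ pCore 2 X) :
    thompsonSubgroup 2 X ⊔ pCore 2 X ≤
      thompsonSubgroup 2 X ⊔ Subgroup.centralizer (VX X : Set X) :=
  sup_le_sup_left (pCore_le_centralizer_VX hQ) _

/-- the trichotomy `N = Q ∪ Qd ∪ Qd⁻¹` -/
theorem f6_tri (hQ : Subgroup.centralizer (pCore 2 X : Set X) ≤ pCore 2 X)
    (hJC : thompsonSubgroup 2 X ⊓ Subgroup.centralizer (VX X : Set X) ≤ pCore 2 X)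
    (F : FFData X (VX X)) (i : Fin F.r) {d : X} (hd : d ∈ f6N F i) (hd3 : orderOf d = 3)
    {y : X} (hy : y ∈ f6N F i) :
    y ∈ pCore 2 X ∨ y * d⁻¹ ∈ pCore 2 X ∨ y * d ∈ pCore 2 X := by
  haveI := f6_pCore_normal (X := X)
  haveI : Fact (Nat.Prime 3) := ⟨Nat.prime_three⟩
  set N := f6N F i with hN
  set Q' : Subgroup ↥N := (pCore 2 X).subgroupOf N with hQ'
  have hcard : Nat.card (↥N ⧸ Q') = 3 := by
    have := f6_relIndex_N hQ hJC F i
    rw [← this]
    rfl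
  set db : ↥N ⧸ Q' := QuotientGroup.mk ⟨d, hd⟩ with hdb
  set yb : ↥N ⧸ Q' := QuotientGroup.mk ⟨y, hy⟩ with hyb
  have hdb1 : db ≠ 1 := by
    intro h
    rw [hdb, QuotientGroup.eq_one_iff, hQ', Subgroup.mem_subgroupOf] at h
    exact f6_not_mem_Q hd3 h
  have htop := zpowers_eq_top_of_prime_card hcard hdb1
  have hmem : yb ∈ Subgroup.zpowers db := by rw [htop]; trivial
  obtain ⟨k, hk⟩ := Subgroup.mem_zpowers_iff.1 hmem
  have hdb3 : db ^ (3 : ℤ) = 1 := by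
    have : db ^ (3 : ℕ) = 1 := by
      rw [hdb, ← QuotientGroup.mk_pow]
      have : (⟨d, hd⟩ : ↥N) ^ 3 = 1 := by
        apply Subtype.ext
        show d ^ 3 = 1
        rw [← hd3]; exact pow_orderOf_eq_one d
      rw [this]; rfl
    exact_mod_cast this
  have hk' : db ^ (k % 3) = yb := by
    rw [← hk]
    conv_rhs => rw [← Int.emod_add_mul_ediv k 3, zpow_add, zpow_mul, hdb3, one_zpow, mul_one]
  have hr : k % 3 = 0 ∨ k % 3 = 1 ∨ k % 3 = 2 := by omega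
  rcases hr with h | h | h
  · left
    rw [h, zpow_zero] at hk'
    have := hk'.symm
    rw [hyb, QuotientGroup.eq_one_iff, hQ', Subgroup.mem_subgroupOf] at this
    exact this
  · right; left
    rw [h, zpow_one] at hk'
    have h2 : yb * db⁻¹ = 1 := by rw [← hk']; group
    rw [hyb, hdb, ← QuotientGroup.mk_inv, ← QuotientGroup.mk_mul, QuotientGroup.eq_one_iff, hQ',
      Subgroup.mem_subgroupOf] at h2
    exact h2
  · right; right
    have h2 : yb * db = 1 := by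
      rw [← hk', h]
      have : db ^ (2 : ℤ) * db = db ^ (3 : ℤ) := by
        rw [show (3 : ℤ) = 2 + 1 by norm_num, zpow_add, zpow_one]
      rw [this, hdb3]
    rw [hyb, hdb, ← QuotientGroup.mk_mul, QuotientGroup.eq_one_iff, hQ',
      Subgroup.mem_subgroupOf] at h2
    exact h2

/-- `(K_i ⊓ Q)` has index 3 in `K_i` -/
theorem f6_relIndex_P (hQ : Subgroup.centralizer (pCore 2 X : Set X) ≤ pCore 2 X)
    (hJC : thompsonSubgroup 2 X ⊓ Subgroup.centralizer (VX X : Set X) ≤ pCore 2 X)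
    (F : FFData X (VX X)) (i : Fin F.r) : (Kc F i ⊓ pCore 2 X).relIndex (Kc F i) = 3 := by
  haveI := f6_pCore_normal (X := X)
  obtain ⟨d, hd, hd3⟩ := f6_exists_d hQ hJC F i
  have hdK : d ∈ Kc F i := f6_mem_Kc_of_odd F i hd (by rw [hd3]; decide)
  rw [Subgroup.inf_relIndex_left]
  rw [← Subgroup.relIndex_sup_right (Kc F i) (pCore 2 X)]
  have hle : Kc F i ⊔ pCore 2 X ≤ f6N F i := sup_le (f6_Kc_le_N F i) (f6_Q_le_N hQ F i)
  have h3 : (pCore 2 X).relIndex (Kc F i ⊔ pCore 2 X) * (Kc F i ⊔ pCore 2 X).relIndex (f6N F i) = 3 := by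
    rw [Subgroup.relIndex_mul_relIndex _ _ _ le_sup_right hle]
    exact f6_relIndex_N hQ hJC F i
  have h4 : (pCore 2 X).relIndex (Kc F i ⊔ pCore 2 X) ≠ 1 := by
    intro h
    rw [Subgroup.relIndex_eq_one] at h
    exact f6_not_mem_Q hd3 (h (Subgroup.mem_sup_left hdK))
  have h5 : (pCore 2 X).relIndex (Kc F i ⊔ pCore 2 X) ∣ 3 := Dvd.intro _ h3
  rcases (Nat.dvd_prime Nat.prime_three).1 h5 with h | h
  · exact absurd h h4
  · exact h

/-- `O₂(K_i) = K_i ⊓ Q` -/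
theorem f6_pCoreOf_Kc (hQ : Subgroup.centralizer (pCore 2 X : Set X) ≤ pCore 2 X)
    (hJC : thompsonSubgroup 2 X ⊓ Subgroup.centralizer (VX X : Set X) ≤ pCore 2 X)
    (F : FFData X (VX X)) (i : Fin F.r) : pCoreOf 2 (Kc F i) = Kc F i ⊓ pCore 2 X := by
  obtain ⟨d, hd, hd3⟩ := f6_exists_d hQ hJC F i
  have hdK : d ∈ Kc F i := f6_mem_Kc_of_odd F i hd (by rw [hd3]; decide)
  have hPle : Kc F i ⊓ pCore 2 X ≤ pCoreOf 2 (Kc F i) := by
    apply Cfsg.Agent.Helper14.le_pCoreOf inf_le_left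
    · apply Cfsg.Agent.Helper19.JC.le_normalizer_of_conj_mem
      intro k hk n hn
      obtain ⟨h1, h2⟩ := Subgroup.mem_inf.1 hn
      refine Subgroup.mem_inf.2 ⟨?_, (f6_pCore_normal (X := X)).conj_mem _ h2 k⟩
      exact Subgroup.mul_mem _ (Subgroup.mul_mem _ hk h1) (Subgroup.inv_mem _ hk)
    · exact (Cfsg.Agent.Helper14.pCore_isPGroup 2 X).to_le inf_le_right
  have hRle : pCoreOf 2 (Kc F i) ≤ Kc F i := Cfsg.Agent.Helper14.pCoreOf_le 2 _
  have h3 : (Kc F i ⊓ pCore 2 X).relIndex (pCoreOf 2 (Kc F i)) *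
      (pCoreOf 2 (Kc F i)).relIndex (Kc F i) = 3 := by
    rw [Subgroup.relIndex_mul_relIndex _ _ _ hPle hRle]
    exact f6_relIndex_P hQ hJC F i
  have h4 : (pCoreOf 2 (Kc F i)).relIndex (Kc F i) ≠ 1 := by
    intro h
    rw [Subgroup.relIndex_eq_one] at h
    obtain ⟨k, hk⟩ := (Cfsg.Agent.Helper14.pCoreOf_isPGroup 2 (Kc F i)) ⟨d, h hdK⟩
    have h1 : d ^ 2 ^ k = 1 := by
      have := congrArg Subtype.val hk
      simpa using this
    have h2 : 3 ∣ 2 ^ k := by rw [← hd3]; exact orderOf_dvd_of_pow_eq_one h1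
    have h3 : 3 ∣ 2 := Nat.Prime.dvd_of_dvd_pow Nat.prime_three h2
    omega
  have h5 : (pCoreOf 2 (Kc F i)).relIndex (Kc F i) ∣ 3 := Dvd.intro_left _ h3
  have h6 : (pCoreOf 2 (Kc F i)).relIndex (Kc F i) = 3 := by
    rcases (Nat.dvd_prime Nat.prime_three).1 h5 with h | h
    · exact absurd h h4
    · exact h
  rw [h6] at h3
  have h7 : (Kc F i ⊓ pCore 2 X).relIndex (pCoreOf 2 (Kc F i)) = 1 := by omega
  rw [Subgroup.relIndex_eq_one] at h7
  exact le_antisymm h7 hPle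

/-- clause (1c) -/
theorem f6_clause_idx (hQ : Subgroup.centralizer (pCore 2 X : Set X) ≤ pCore 2 X)
    (hJC : thompsonSubgroup 2 X ⊓ Subgroup.centralizer (VX X : Set X) ≤ pCore 2 X)
    (F : FFData X (VX X)) (i : Fin F.r) : (pCoreOf 2 (Kc F i)).relIndex (Kc F i) = 3 := by
  rw [f6_pCoreOf_Kc hQ hJC F i]
  exact f6_relIndex_P hQ hJC F i

/-- clause (1a) -/
theorem f6_clause_odd (F : FFData X (VX X)) (i : Fin F.r) :
    Subgroup.closure {g : X | g ∈ Kc F i ∧ Odd (orderOf g)} = Kc F i := by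
  apply le_antisymm
  · rw [Subgroup.closure_le]
    intro g hg
    exact hg.1
  · conv_lhs => unfold Kc
    apply Subgroup.closure_mono
    intro g hg
    exact ⟨Subgroup.subset_closure hg, hg.2.2⟩

end Cfsg.Agent.Helper13.JCFF
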