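import Mathlib

/-!
# KS12, piece F6, part C (helper23): an element of order 3 acting on a group of order 4 (pure Mathlib)
-/

set_option autoImplicit false
set_option linter.unusedSectionVars false
set_option linter.unusedVariables false
set_option linter.style.haveILetI false

namespace Cfsg.Agent.Helper13.JCFF

variable {X : Type*} [Group X]

/-- the orbit of a moved element under an element with `d ^ 3 = 1` consists of 3 distinct non-identity elements -/
theorem f6_orbit_distinct {d w : X} (hd3 : d ^ 3 = 1) (hmv : d * w * d⁻¹ ≠ w) :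
    w ≠ 1 ∧ d * w * d⁻¹ ≠ 1 ∧ d * (d * w * d⁻¹) * d⁻¹ ≠ 1 ∧ w ≠ d * w * d⁻¹ ∧
      d * w * d⁻¹ ≠ d * (d * w * d⁻¹) * d⁻¹ ∧ d * (d * w * d⁻¹) * d⁻¹ ≠ w := by
  have h3 : d * (d * (d * w * d⁻¹) * d⁻¹) * d⁻¹ = w := by
    have : d * (d * (d * w * d⁻¹) * d⁻¹) * d⁻¹ = d ^ 3 * w * (d ^ 3)⁻¹ := by
      rw [pow_succ, pow_two]; group
    rw [this, hd3]; simp
  have hw1 : w ≠ 1 := by
    rintro rfl
    apply hmv; simp
  have hinj : ∀ a b : X, d * a * d⁻¹ = d * b * d⁻¹ → a = b := by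
    intro a b h
    have := congrArg (fun z => d⁻¹ * z * d) h
    simpa [mul_assoc] using this
  refine ⟨hw1, ?_, ?_, fun h => hmv h.symm, ?_, ?_⟩
  · intro h
    apply hw1
    apply hinj
    rw [h]; simp
  · intro h
    apply hw1
    apply hinj
    apply hinj
    rw [h]; simp
  · intro h
    exact hmv (hinj _ _ h.symm)
  · intro h
    apply hmv
    have h4 := h3
    rw [h] at h4
    exact h4

/-- four distinct elements exhaust a subgroup of order 4 -/
theorem f6_four_cases [Finite X] (W : Subgroup X) (hW4 : Nat.card W = 4) {a b c : X} (ha : a ∈ W)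
    (hb : b ∈ W) (hc : c ∈ W) (ha1 : a ≠ 1) (hb1 : b ≠ 1) (hc1 : c ≠ 1) (hab : a ≠ b)
    (hbc : b ≠ c) (hca : c ≠ a) : ∀ w ∈ W, w = 1 ∨ w = a ∨ w = b ∨ w = c := by
  classical
  haveI : Fintype ↥W := Fintype.ofFinite _
  intro w hw
  let s : Finset ↥W := {1, ⟨a, ha⟩, ⟨b, hb⟩, ⟨c, hc⟩}
  have hs : s.card = 4 := by
    have e1 : (⟨b, hb⟩ : ↥W) ∉ ({⟨c, hc⟩} : Finset ↥W) := by
      simp only [Finset.mem_singleton, Subtype.mk.injEq]; exact hbc
    have e2 : (⟨a, ha⟩ : ↥W) ∉ ({⟨b, hb⟩, ⟨c, hc⟩} : Finset ↥W) := by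
      simp only [Finset.mem_insert, Finset.mem_singleton, Subtype.mk.injEq, not_or]
      exact ⟨hab, fun h => hca h.symm⟩
    have e3 : (1 : ↥W) ∉ ({⟨a, ha⟩, ⟨b, hb⟩, ⟨c, hc⟩} : Finset ↥W) := by
      simp only [Finset.mem_insert, Finset.mem_singleton, not_or]
      refine ⟨fun h => ha1 ?_, fun h => hb1 ?_, fun h => hc1 ?_⟩
      · exact (congrArg Subtype.val h).symm
      · exact (congrArg Subtype.val h).symm
      · exact (congrArg Subtype.val h).symm
    show Finset.card (insert (1 : ↥W) (insert (⟨a, ha⟩ : ↥W) (insert (⟨b, hb⟩ : ↥W)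
      ({(⟨c, hc⟩ : ↥W)} : Finset ↥W)))) = 4
    rw [Finset.card_insert_of_notMem e3, Finset.card_insert_of_notMem e2,
      Finset.card_insert_of_notMem e1, Finset.card_singleton]
  have hcard : Fintype.card ↥W = 4 := by rw [← Nat.card_eq_fintype_card]; exact hW4
  have huniv : s = Finset.univ := Finset.eq_univ_of_card s (by rw [hs, hcard])
  have hmem : (⟨w, hw⟩ : ↥W) ∈ s := by rw [huniv]; exact Finset.mem_univ _
  simp only [s, Finset.mem_insert, Finset.mem_singleton] at hmem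
  rcases hmem with h | h | h | h
  · left; exact congrArg Subtype.val h
  · right; left; exact congrArg Subtype.val h
  · right; right; left; exact congrArg Subtype.val h
  · right; right; right; exact congrArg Subtype.val h

/-- (W1) an element with `d ^ 3 = 1` normalizing but not centralizing a group of order 4 has no nontrivial fixed point -/
theorem f6_four_fix [Finite X] (W : Subgroup X) (hW4 : Nat.card W = 4) {d : X} (hd3 : d ^ 3 = 1)
    (hdW : ∀ w ∈ W, d * w * d⁻¹ ∈ W) (hmv : ∃ w ∈ W, d * w * d⁻¹ ≠ w) :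
    ∀ w ∈ W, d * w * d⁻¹ = w → w = 1 := by
  obtain ⟨w0, hw0, hmv0⟩ := hmv
  obtain ⟨h1, h2, h3, h4, h5, h6⟩ := f6_orbit_distinct hd3 hmv0
  have hw1 := hdW w0 hw0
  have hw2 := hdW _ hw1
  have hcases := f6_four_cases W hW4 hw0 hw1 hw2 h1 h2 h3 h4 h5 h6
  intro f hf hfix
  have hinj : ∀ a b : X, d * a * d⁻¹ = d * b * d⁻¹ → a = b := by
    intro a b h
    have := congrArg (fun z => d⁻¹ * z * d) h
    simpa [mul_assoc] using this
  rcases hcases f hf with h | h | h | h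
  · exact h
  · exfalso; rw [h] at hfix; exact hmv0 hfix
  · exfalso
    rw [h] at hfix
    exact hmv0 (hinj _ _ hfix)
  · exfalso
    rw [h] at hfix
    exact hmv0 (hinj _ _ (hinj _ _ hfix))

/-- (W2) a nontrivial `d`-invariant subgroup of `W` is `W` -/
theorem f6_four_inv_sub [Finite X] (W : Subgroup X) (hW4 : Nat.card W = 4) {d : X} (hd3 : d ^ 3 = 1)
    (hfix : ∀ w ∈ W, d * w * d⁻¹ = w → w = 1) (S : Subgroup X) (hSW : S ≤ W)
    (hSd : ∀ f ∈ S, d * f * d⁻¹ ∈ S) (hS1 : S ≠ ⊥) : S = W := by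
  classical
  obtain ⟨f, hf1⟩ := (Subgroup.ne_bot_iff_exists_ne_one).1 hS1
  have hf1' : (f : X) ≠ 1 := fun h => hf1 (Subtype.ext h)
  have hmv : d * (f : X) * d⁻¹ ≠ f := fun h => hf1' (hfix _ (hSW f.2) h)
  obtain ⟨h1, h2, h3, h4, h5, h6⟩ := f6_orbit_distinct hd3 hmv
  have hf2 := hSd _ f.2
  have hf3 := hSd _ hf2
  apply Subgroup.eq_of_le_of_card_ge hSW
  rw [hW4]
  haveI : Fintype ↥S := Fintype.ofFinite _
  let s : Finset ↥S := {1, ⟨f, f.2⟩, ⟨_, hf2⟩, ⟨_, hf3⟩}
  have hs : s.card = 4 := by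
    have e1 : (⟨_, hf2⟩ : ↥S) ∉ ({⟨_, hf3⟩} : Finset ↥S) := by
      simp only [Finset.mem_singleton, Subtype.mk.injEq]; exact h5
    have e2 : (⟨f, f.2⟩ : ↥S) ∉ ({⟨_, hf2⟩, ⟨_, hf3⟩} : Finset ↥S) := by
      simp only [Finset.mem_insert, Finset.mem_singleton, Subtype.mk.injEq, not_or]
      exact ⟨h4, fun h => h6 h.symm⟩
    have e3 : (1 : ↥S) ∉ ({⟨f, f.2⟩, ⟨_, hf2⟩, ⟨_, hf3⟩} : Finset ↥S) := by
      simp only [Finset.mem_insert, Finset.mem_singleton, not_or]
      refine ⟨fun h => h1 ?_, fun h => h2 ?_, fun h => h3 ?_⟩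
      · exact (congrArg Subtype.val h).symm
      · exact (congrArg Subtype.val h).symm
      · exact (congrArg Subtype.val h).symm
    show Finset.card (insert (1 : ↥S) (insert (⟨f, f.2⟩ : ↥S) (insert (⟨_, hf2⟩ : ↥S)
      ({(⟨_, hf3⟩ : ↥S)} : Finset ↥S)))) = 4
    rw [Finset.card_insert_of_notMem e3, Finset.card_insert_of_notMem e2,
      Finset.card_insert_of_notMem e1, Finset.card_singleton]
  rw [Nat.card_eq_fintype_card, ← hs]
  exact Finset.card_le_univ s

/-- (L1) an involution-like element commuting with `d` on `W` centralizes `W` -/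
theorem f6_cent_of_comm [Finite X] (W : Subgroup X) (hW4 : Nat.card W = 4)
    (hWc : ∀ u ∈ W, ∀ v ∈ W, u * v = v * u) (hW2 : ∀ w ∈ W, w * w = 1) {d g : X}
    (hd3 : d ^ 3 = 1) (hdW : ∀ w ∈ W, d * w * d⁻¹ ∈ W)
    (hfix : ∀ w ∈ W, d * w * d⁻¹ = w → w = 1)
    (hgW : ∀ w ∈ W, g * w * g⁻¹ ∈ W) (hg2 : g * g = 1)
    (hcomm : ∀ w ∈ W, g * (d * w * d⁻¹) * g⁻¹ = d * (g * w * g⁻¹) * d⁻¹) :
    ∀ w ∈ W, g * w * g⁻¹ = w := by
  set S : Subgroup X := W ⊓ Subgroup.centralizer ({g} : Set X) with hS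
  have hmemS : ∀ w, w ∈ S ↔ w ∈ W ∧ g * w * g⁻¹ = w := by
    intro w
    rw [hS, Subgroup.mem_inf, Subgroup.mem_centralizer_singleton_iff]
    constructor
    · rintro ⟨h1, h2⟩
      exact ⟨h1, by rw [← h2]; group⟩
    · rintro ⟨h1, h2⟩
      refine ⟨h1, ?_⟩
      calc w * g = (g * w * g⁻¹) * g := by rw [h2]
        _ = g * w := by group
  have hSd : ∀ f ∈ S, d * f * d⁻¹ ∈ S := by
    intro f hf
    obtain ⟨h1, h2⟩ := (hmemS f).1 hf
    exact (hmemS _).2 ⟨hdW f h1, by rw [hcomm f h1, h2]⟩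
  have hginv : g⁻¹ = g := by
    have : g⁻¹ = g⁻¹ * (g * g) := by rw [hg2, mul_one]
    rw [this]; group
  have hS1 : S ≠ ⊥ := by
    intro hbot
    have hall : ∀ w ∈ W, w = 1 := by
      intro w hw
      have hfixed : w * (g * w * g⁻¹) ∈ S := by
        refine (hmemS _).2 ⟨Subgroup.mul_mem _ hw (hgW w hw), ?_⟩
        have e : g * (w * (g * w * g⁻¹)) * g⁻¹ = (g * w * g⁻¹) * ((g * g) * w * (g * g)⁻¹) := by
          group
        rw [e, hg2]
        simp only [one_mul, inv_one, mul_one]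
        exact hWc _ (hgW w hw) _ hw
      rw [hbot, Subgroup.mem_bot] at hfixed
      have h2 : g * w * g⁻¹ = w := by
        have h3 : g * w * g⁻¹ = w⁻¹ := by
          rw [← mul_right_inj w, hfixed]; simp
        have h4 : w⁻¹ = w := by
          have : w⁻¹ = w⁻¹ * (w * w) := by rw [hW2 w hw, mul_one]
          rw [this]; group
        rw [h3, h4]
      have : w ∈ S := (hmemS w).2 ⟨hw, h2⟩
      rw [hbot, Subgroup.mem_bot] at this
      exact this
    have hWbot : W = ⊥ := by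
      rw [Subgroup.eq_bot_iff_forall]
      exact hall
    rw [hWbot, Subgroup.card_bot] at hW4
    omega
  have hSW := f6_four_inv_sub W hW4 hd3 hfix S inf_le_left hSd hS1
  intro w hw
  have : w ∈ S := by rw [hSW]; exact hw
  exact ((hmemS w).1 this).2

end Cfsg.Agent.Helper13.JCFF
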