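import Mathlib
import Cfsg.Agent.Lib.Helper23.JCF6B
import Cfsg.Agent.Lib.Helper23.JCF6C

/-!
# KS12, piece F6, part D (helper23): the four-group `W_i = ⁅V, D_i⁆` and the inversion `x d x⁻¹ ∈ d⁻¹ Q`
-/

set_option autoImplicit false
set_option linter.unusedSectionVars false
set_option linter.unusedVariables false
set_option linter.style.haveILetI false

namespace Cfsg.Agent.Helper13.JCFF

open Cfsg
open scoped commutatorElement

variable {X : Type*} [Group X] [Finite X]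

theorem f6_W_le_V (hQ : Subgroup.centralizer (pCore 2 X : Set X) ≤ pCore 2 X)
    (F : FFData X (VX X)) (i : Fin F.r) : ⁅VX X, F.D i⁆ ≤ VX X := by
  haveI := VX_normal hQ
  exact Subgroup.commutator_le_left _ _

theorem f6_V_comm (hQ : Subgroup.centralizer (pCore 2 X : Set X) ≤ pCore 2 X) :
    ∀ u ∈ VX X, ∀ v ∈ VX X, u * v = v * u := by
  intro u hu v hv
  have h := (VX_elem hQ).1
  have := mul_comm' (⟨u, hu⟩ : ↥(VX X)) ⟨v, hv⟩
  exact congrArg Subtype.val this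

theorem f6_V_sq (hQ : Subgroup.centralizer (pCore 2 X : Set X) ≤ pCore 2 X) :
    ∀ v ∈ VX X, v * v = 1 := by
  intro v hv
  have := (VX_elem hQ).2 v hv
  rwa [pow_two] at this

/-- `J ⊔ C` normalizes `W_i` -/
theorem f6_conj_W (hQ : Subgroup.centralizer (pCore 2 X : Set X) ≤ pCore 2 X)
    (F : FFData X (VX X)) (i : Fin F.r) {g : X}
    (hg : g ∈ thompsonSubgroup 2 X ⊔ Subgroup.centralizer (VX X : Set X)) {w : X}
    (hw : w ∈ ⁅VX X, F.D i⁆) : g * w * g⁻¹ ∈ ⁅VX X, F.D i⁆ := by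
  haveI := VX_normal hQ
  have h1 : (⁅VX X, F.D i⁆).map (MulAut.conj g).toMonoidHom ≤ ⁅VX X, F.D i⁆ := by
    rw [Subgroup.map_commutator]
    apply Subgroup.commutator_mono
    · rintro _ ⟨v, hv, rfl⟩
      exact (VX_normal hQ).conj_mem v hv g
    · rw [(F.conj_J g hg i).1]
  exact h1 ⟨w, hw, by simp⟩

/-- an element of `O_i` outside `C` moves some element of `W_i` -/
theorem f6_exists_moved (F : FFData X (VX X)) (i : Fin F.r) {d : X} (hdO : d ∈ F.O i)
    (hdC : d ∉ Subgroup.centralizer (VX X : Set X)) :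
    ∃ w ∈ ⁅VX X, F.D i⁆, d * w * d⁻¹ ≠ w := by
  by_contra hcon
  push Not at hcon
  apply hdC
  rw [← F.cent_W i]
  refine Subgroup.mem_inf.2 ⟨F.O_le_D i hdO, ?_⟩
  rw [Subgroup.mem_centralizer_iff]
  intro w hw
  have := hcon w hw
  calc w * d = (d * w * d⁻¹) * d := by rw [this]
    _ = d * w := by group

/-- an element of order 3 of `N` is not in `C` -/
theorem f6_d_not_mem_C (hQ : Subgroup.centralizer (pCore 2 X : Set X) ≤ pCore 2 X)
    (hJC : thompsonSubgroup 2 X ⊓ Subgroup.centralizer (VX X : Set X) ≤ pCore 2 X)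
    (F : FFData X (VX X)) (i : Fin F.r) {d : X} (hd : d ∈ f6N F i) (hd3 : orderOf d = 3) :
    d ∉ Subgroup.centralizer (VX X : Set X) := by
  intro h
  have : d ∈ f6N F i ⊓ Subgroup.centralizer (VX X : Set X) := Subgroup.mem_inf.2 ⟨hd, h⟩
  rw [f6_N_inf_C hQ hJC F i] at this
  exact f6_not_mem_Q hd3 this

/-- (W1) for `W_i` -/
theorem f6_W_fix (hQ : Subgroup.centralizer (pCore 2 X : Set X) ≤ pCore 2 X)
    (hJC : thompsonSubgroup 2 X ⊓ Subgroup.centralizer (VX X : Set X) ≤ pCore 2 X)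
    (F : FFData X (VX X)) (i : Fin F.r) {d : X} (hd : d ∈ f6N F i) (hd3 : orderOf d = 3) :
    ∀ w ∈ ⁅VX X, F.D i⁆, d * w * d⁻¹ = w → w = 1 := by
  have hd3' : d ^ 3 = 1 := by rw [← hd3]; exact pow_orderOf_eq_one d
  apply f6_four_fix _ (F.card_W i) hd3'
  · intro w hw
    exact f6_conj_W hQ F i (f6_N_le_JC F i hd) hw
  · exact f6_exists_moved F i (Subgroup.mem_inf.1 hd).1 (f6_d_not_mem_C hQ hJC F i hd hd3)

/-- the inversion: an involution `x ∈ D_i ∖ O_i` (in `J ⊔ C`) inverts `N / Q` -/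
theorem f6_inverts (hQ : Subgroup.centralizer (pCore 2 X : Set X) ≤ pCore 2 X)
    (hJC : thompsonSubgroup 2 X ⊓ Subgroup.centralizer (VX X : Set X) ≤ pCore 2 X)
    (F : FFData X (VX X)) (i : Fin F.r) {x : X} (hxD : x ∈ F.D i) (hxO : x ∉ F.O i)
    (hx2 : x * x = 1) {d : X} (hd : d ∈ f6N F i) (hd3 : orderOf d = 3) :
    x * d * x⁻¹ * d ∈ pCore 2 X := by
  have hxJC : x ∈ thompsonSubgroup 2 X ⊔ Subgroup.centralizer (VX X : Set X) := F.D_le i hxD
  have hd3' : d ^ 3 = 1 := by rw [← hd3]; exact pow_orderOf_eq_one d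
  have hdJC := f6_N_le_JC F i hd
  have hconj : x * d * x⁻¹ ∈ f6N F i := f6_conj_N F i hxJC hd
  rcases f6_tri hQ hJC F i hd hd3 hconj with h | h | h
  · exfalso
    have : orderOf (x * d * x⁻¹) = 3 := by rw [f6_orderOf_conj]; exact hd3
    exact f6_not_mem_Q this h
  · exfalso
    -- `x` commutes with `d` modulo `Q ≤ C`: then `x` centralizes `W_i`
    set q := x * d * x⁻¹ * d⁻¹ with hq
    have hqC : q ∈ Subgroup.centralizer (VX X : Set X) := pCore_le_centralizer_VX hQ h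
    have hxd : x * d * x⁻¹ = q * d := by rw [hq]; group
    have hcomm : ∀ w ∈ ⁅VX X, F.D i⁆, x * (d * w * d⁻¹) * x⁻¹ = d * (x * w * x⁻¹) * d⁻¹ := by
      intro w hw
      have h1 : x * (d * w * d⁻¹) * x⁻¹ = (x * d * x⁻¹) * (x * w * x⁻¹) * (x * d * x⁻¹)⁻¹ := by
        group
      rw [h1, hxd]
      have hmem : d * (x * w * x⁻¹) * d⁻¹ ∈ VX X :=
        f6_W_le_V hQ F i (f6_conj_W hQ F i hdJC (f6_conj_W hQ F i hxJC hw))
      have h2 := (Subgroup.mem_centralizer_iff.1 hqC) _ hmem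
      calc q * d * (x * w * x⁻¹) * (q * d)⁻¹ = q * (d * (x * w * x⁻¹) * d⁻¹) * q⁻¹ := by group
        _ = (d * (x * w * x⁻¹) * d⁻¹) * q * q⁻¹ := by rw [← h2]
        _ = d * (x * w * x⁻¹) * d⁻¹ := by group
    have hcent := f6_cent_of_comm (⁅VX X, F.D i⁆) (F.card_W i)
      (fun u hu v hv => f6_V_comm hQ u (f6_W_le_V hQ F i hu) v (f6_W_le_V hQ F i hv))
      (fun w hw => f6_V_sq hQ w (f6_W_le_V hQ F i hw)) hd3'
      (fun w hw => f6_conj_W hQ F i hdJC hw) (f6_W_fix hQ hJC F i hd hd3)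
      (fun w hw => f6_conj_W hQ F i hxJC hw) hx2 hcomm
    apply hxO
    apply F.C_le_O i
    rw [← F.cent_W i]
    refine Subgroup.mem_inf.2 ⟨hxD, ?_⟩
    rw [Subgroup.mem_centralizer_iff]
    intro w hw
    have := hcent w hw
    calc w * x = (x * w * x⁻¹) * x := by rw [this]
      _ = x * w := by group
  · exact h

end Cfsg.Agent.Helper13.JCFF
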