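import Mathlib
import Cfsg.Agent.Lib.Helper23.JCF6D
import Cfsg.Agent.Lib.Helper24.JCOTWO
import Cfsg.Agent.Lib.Helper26.JCF4B

/-!
# KS12, piece F6, part E (helper23): clause (1b) `⁅K_i, J(T)⁆ = K_i`
-/

set_option autoImplicit false
set_option linter.unusedSectionVars false
set_option linter.unusedVariables false
set_option linter.style.haveILetI false

namespace Cfsg.Agent.Helper13.JCFF

open Cfsg
open scoped commutatorElement

variable {X : Type*} [Group X] [Finite X]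

/-- `K_i` normalizes `K_i ⊓ Q` -/
theorem f6_Kc_le_normalizer_P (F : FFData X (VX X)) (i : Fin F.r) :
    Kc F i ≤ Subgroup.normalizer ((Kc F i ⊓ pCore 2 X : Subgroup X) : Set X) := by
  apply Cfsg.Agent.Helper19.JC.le_normalizer_of_conj_mem
  intro k hk n hn
  obtain ⟨h1, h2⟩ := Subgroup.mem_inf.1 hn
  refine Subgroup.mem_inf.2 ⟨?_, (f6_pCore_normal (X := X)).conj_mem _ h2 k⟩
  exact Subgroup.mul_mem _ (Subgroup.mul_mem _ hk h1) (Subgroup.inv_mem _ hk)

/-- a subgroup `M ≤ K_i` normalized by `K_i` and not inside `Q` is `K_i` -/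
theorem f6_eq_of_not_le_Q (hQ : Subgroup.centralizer (pCore 2 X : Set X) ≤ pCore 2 X)
    (hJC : thompsonSubgroup 2 X ⊓ Subgroup.centralizer (VX X : Set X) ≤ pCore 2 X)
    (F : FFData X (VX X)) (i : Fin F.r) (M : Subgroup X) (hMK : M ≤ Kc F i)
    (hnorm : Kc F i ≤ Subgroup.normalizer (M : Set X)) {m0 : X} (hm0 : m0 ∈ M)
    (hm0Q : m0 ∉ pCore 2 X) : M = Kc F i := by
  haveI : Fact (Nat.Prime 2) := ⟨Nat.prime_two⟩
  set K := Kc F i with hK
  set P : Subgroup X := K ⊓ pCore 2 X with hP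
  have hPK : P ≤ K := inf_le_left
  have hle : M ⊔ P ≤ K := sup_le hMK hPK
  -- `K = M ⊔ P`
  have h3 : P.relIndex (M ⊔ P) * (M ⊔ P).relIndex K = 3 := by
    rw [Subgroup.relIndex_mul_relIndex _ _ _ le_sup_right hle]
    exact f6_relIndex_P hQ hJC F i
  have h4 : P.relIndex (M ⊔ P) ≠ 1 := by
    intro h
    rw [Subgroup.relIndex_eq_one] at h
    exact hm0Q (Subgroup.mem_inf.1 (h (Subgroup.mem_sup_left hm0))).2
  have h5 : P.relIndex (M ⊔ P) ∣ 3 := Dvd.intro _ h3
  have h6 : P.relIndex (M ⊔ P) = 3 := by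
    rcases (Nat.dvd_prime Nat.prime_three).1 h5 with h | h
    · exact absurd h h4
    · exact h
  rw [h6] at h3
  have h7 : (M ⊔ P).relIndex K = 1 := by omega
  have hKle : K ≤ M ⊔ P := Subgroup.relIndex_eq_one.1 h7
  have hKeq : M ⊔ P = K := le_antisymm hle hKle
  -- the index of `M` in `K` divides `|P|`
  have hMP : M ≤ Subgroup.normalizer (P : Set X) := hMK.trans (f6_Kc_le_normalizer_P F i)
  have hc1 := f4b_card_sup M P hMP
  rw [hKeq] at hc1
  have hc2 := f4b_relIndex_mul_card hMK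
  have hMpos : 0 < Nat.card M := Nat.card_pos
  have hc3 : M.relIndex K * Nat.card (M ⊓ P : Subgroup X) = Nat.card P := by
    have : Nat.card M * (M.relIndex K * Nat.card (M ⊓ P : Subgroup X)) = Nat.card M * Nat.card P := by
      rw [← hc1, ← hc2]; ring
    exact Nat.eq_of_mul_eq_mul_left hMpos this
  have hP2 : IsPGroup 2 ↥P := (Cfsg.Agent.Helper14.pCore_isPGroup 2 X).to_le inf_le_right
  obtain ⟨e, he⟩ := IsPGroup.iff_card.1 hP2
  have hdvd : M.relIndex K ∣ 2 ^ e := by rw [← he]; exact Dvd.intro _ hc3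
  obtain ⟨f, -, hf⟩ := (Nat.dvd_prime_pow Nat.prime_two).1 hdvd
  -- odd order elements of `K` lie in `M`
  haveI hMn : (M.subgroupOf K).Normal := Subgroup.normal_subgroupOf_of_le_normalizer hnorm
  apply le_antisymm hMK
  rw [hK]
  unfold Kc
  rw [Subgroup.closure_le]
  intro y hy
  have hyK : y ∈ K := Subgroup.subset_closure hy
  have h8 := Subgroup.pow_index_mem (M.subgroupOf K) (⟨y, hyK⟩ : ↥K)
  have hidx : (M.subgroupOf K).index = 2 ^ f := hf
  rw [hidx, Subgroup.mem_subgroupOf] at h8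
  have h9 : y ^ 2 ^ f ∈ M := by simpa using h8
  have h10 : y ^ orderOf y ∈ M := by rw [pow_orderOf_eq_one]; exact M.one_mem
  have hcop : Nat.Coprime (orderOf y) (2 ^ f) := by
    apply Nat.Coprime.pow_right
    exact Nat.coprime_two_right.2 hy.2.2
  exact otwo_mem_of_pow_mem M y hcop h10 h9

/-- clause (1b) -/
theorem f6_clause_comm (hQ : Subgroup.centralizer (pCore 2 X : Set X) ≤ pCore 2 X)
    (hJC : thompsonSubgroup 2 X ⊓ Subgroup.centralizer (VX X : Set X) ≤ pCore 2 X)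
    (F : FFData X (VX X)) (i : Fin F.r) (JT : Subgroup X) (hJT : JT ≤ thompsonSubgroup 2 X)
    {x : X} (hxJ : x ∈ JT) (hxD : x ∈ F.D i) (hxO : x ∉ F.O i) (hx2 : x * x = 1) :
    ⁅Kc F i, JT⁆ = Kc F i := by
  have hJTn : ∀ a ∈ JT, ∀ k ∈ Kc F i, a * k * a⁻¹ ∈ Kc F i := by
    intro a ha k hk
    exact f6_conj_Kc F i (Subgroup.mem_sup_left (hJT ha)) hk
  have hle : ⁅Kc F i, JT⁆ ≤ Kc F i := by
    rw [Subgroup.commutator_le]
    intro k hk a ha
    have : ⁅k, a⁆ = k * (a * k⁻¹ * a⁻¹) := by rw [commutatorElement_def]; group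
    rw [this]
    exact Subgroup.mul_mem _ hk (hJTn a ha _ (Subgroup.inv_mem _ hk))
  obtain ⟨d, hd, hd3⟩ := f6_exists_d hQ hJC F i
  have hdK : d ∈ Kc F i := f6_mem_Kc_of_odd F i hd (by rw [hd3]; decide)
  have hd3' : d ^ 3 = 1 := by rw [← hd3]; exact pow_orderOf_eq_one d
  have hq1 := f6_inverts hQ hJC F i hxD hxO hx2 hd hd3
  have hm0 : ⁅d, x⁆ ∈ ⁅Kc F i, JT⁆ := Subgroup.commutator_mem_commutator hdK hxJ
  have hm0Q : ⁅d, x⁆ ∉ pCore 2 X := by
    intro h
    have h1 : d * d = ⁅d, x⁆ * (x * d * x⁻¹ * d) := by rw [commutatorElement_def]; group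
    have h2 : d * d ∈ pCore 2 X := by rw [h1]; exact Subgroup.mul_mem _ h hq1
    have h3 : d = (d * d) * (d * d) := by
      have : (d * d) * (d * d) = d ^ 3 * d := by rw [pow_succ, pow_two]; group
      rw [this, hd3', one_mul]
    apply f6_not_mem_Q hd3
    rw [h3]
    exact Subgroup.mul_mem _ h2 h2
  apply f6_eq_of_not_le_Q hQ hJC F i _ hle _ hm0 hm0Q
  -- `K` normalizes `⁅K, JT⁆`
  apply Cfsg.Agent.Helper19.JC.le_normalizer_of_conj_mem
  intro k hk n hn
  rw [Subgroup.commutator_comm] at hn ⊢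
  exact otwo_conj_mem_commutator hk hn

end Cfsg.Agent.Helper13.JCFF
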