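import Mathlib
import Cfsg.Agent.Lib.Helper13.JCF2
import Cfsg.Agent.Lib.Helper26.JCF4B
import Cfsg.Agent.Lib.Helper7.JC48A

/-!
# KS12, piece F6, part F (helper23): clause (2) (the Sylow clause)
-/

set_option autoImplicit false
set_option linter.unusedSectionVars false
set_option linter.unusedVariables false
set_option linter.style.haveILetI false

namespace Cfsg.Agent.Helper13.JCFF

open Cfsg Cfsg.Agent.Helper4.ZJ

variable {X : Type*} [Group X] [Finite X]

/-- a 2-subgroup `S` of `X` containing `J(T)`, `T` a Sylow 2-subgroup of `X`, has `J(S) = J(T)` -/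
theorem f6_J_eq_of_le {T S : Subgroup X} (hT : IsSylowTwoIn T ⊤) (hS : IsPGroup 2 ↥S)
    (hJS : thompsonSubgroupOf 2 T ≤ S) : thompsonSubgroupOf 2 S = thompsonSubgroupOf 2 T := by
  obtain ⟨g, hg⟩ := f2_exists_conj hT hS
  set T' : Subgroup X := T.map (MulAut.conj g).toMonoidHom with hT'
  have hmap : thompsonSubgroupOf 2 T' = (thompsonSubgroupOf 2 T).map (MulAut.conj g).toMonoidHom :=
    thompsonSubgroupOf_map (MulAut.conj g) T
  have hle : thompsonSubgroupOf 2 T ≤ thompsonSubgroupOf 2 T' := by
    apply thompsonSubgroupOf_le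
    intro A hA
    apply le_thompsonSubgroupOf
    exact f4b_famE_of_mem_max (f4b_mem_max_of_famE hT hA)
      (((le_thompsonSubgroupOf hA).trans hJS).trans hg)
  have hcard : Nat.card (thompsonSubgroupOf 2 T') ≤ Nat.card (thompsonSubgroupOf 2 T) := by
    rw [hmap, Subgroup.card_map_of_injective (MulAut.conj g).injective]
  have heq : thompsonSubgroupOf 2 T = thompsonSubgroupOf 2 T' :=
    Subgroup.eq_of_le_of_card_ge hle hcard
  rw [heq]
  apply Cfsg.Agent.Helper7.JC48.J_eq_of_between _ hg
  rw [← heq]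
  exact hJS

end Cfsg.Agent.Helper13.JCFF
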