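import Mathlib
import Cfsg.Agent.Lib.Helper23.JCF6E
import Cfsg.Agent.Lib.Helper7.JCF6Count

/-!
# KS12, piece F6, part G (helper23): clause (3): `wOf (K_i) = W_i = ⁅V, D_i⁆` is a four-group
(instantiation of helper7's `f6_count`)
-/

set_option autoImplicit false
set_option linter.unusedSectionVars false
set_option linter.unusedVariables false
set_option linter.style.haveILetI false

namespace Cfsg.Agent.Helper13.JCFF

open Cfsg Cfsg.Agent.Helper4.ZJ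
open scoped commutatorElement

variable {X : Type*} [Group X] [Finite X]

/-- the elements commuting with `d` modulo `Q` -/
def f6E (d : X) : Subgroup X where
  carrier := {g | g * d * g⁻¹ * d⁻¹ ∈ pCore 2 X}
  one_mem' := by
    show (1 : X) * d * 1⁻¹ * d⁻¹ ∈ pCore 2 X
    simp
  mul_mem' := by
    intro a b ha hb
    show (a * b) * d * (a * b)⁻¹ * d⁻¹ ∈ pCore 2 X
    have e : (a * b) * d * (a * b)⁻¹ * d⁻¹ = a * (b * d * b⁻¹ * d⁻¹) * a⁻¹ * (a * d * a⁻¹ * d⁻¹) := by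
      group
    rw [e]
    exact Subgroup.mul_mem _ ((f6_pCore_normal (X := X)).conj_mem _ hb a) ha
  inv_mem' := by
    intro a ha
    show a⁻¹ * d * a⁻¹⁻¹ * d⁻¹ ∈ pCore 2 X
    have e : a⁻¹ * d * a⁻¹⁻¹ * d⁻¹ = a⁻¹ * (a * d * a⁻¹ * d⁻¹)⁻¹ * a⁻¹⁻¹ := by group
    rw [e]
    exact (f6_pCore_normal (X := X)).conj_mem _ (Subgroup.inv_mem _ ha) a⁻¹

theorem f6_mem_E {d g : X} : g ∈ f6E d ↔ g * d * g⁻¹ * d⁻¹ ∈ pCore 2 X := Iff.rfl

/-- an offender `A ∈ 𝒜(T)` with an involution `x ∈ A ⊓ D_i`, `x ∉ O_i` -/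
theorem f6_exists_offender {T : Subgroup X} (h : KS X T) (F : FFData X (VX X)) (i : Fin F.r) :
    ∃ A ∈ famE 2 T, ∃ x ∈ A, x ∈ F.D i ∧ x ∉ F.O i := by
  obtain ⟨A, hA, hAT, hAi⟩ := f4b_exists_offender_le h F i
  obtain ⟨a, haAD, haC⟩ := SetLike.not_le_iff_exists.1 hAi
  have haA : a ∈ A := (Subgroup.mem_inf.1 haAD).1
  have haD : a ∈ F.D i := (Subgroup.mem_inf.1 haAD).2
  have ha2 : a ^ 2 = 1 := hA.1.2 a haA
  haveI hCn := f4b_C_normal h
  refine ⟨A, f4b_famE_of_mem_max hA hAT, a, haA, haD, ?_⟩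
  intro haO
  apply haC
  haveI : ((Subgroup.centralizer (VX X : Set X)).subgroupOf (F.O i)).Normal := inferInstance
  have h3 := Subgroup.pow_index_mem
    ((Subgroup.centralizer (VX X : Set X)).subgroupOf (F.O i)) (⟨a, haO⟩ : ↥(F.O i))
  have hidx : ((Subgroup.centralizer (VX X : Set X)).subgroupOf (F.O i)).index = 3 :=
    F.relIndex_O i
  rw [hidx, Subgroup.mem_subgroupOf] at h3
  have h4 : a ^ 3 ∈ Subgroup.centralizer (VX X : Set X) := by simpa using h3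
  have e : a ^ 3 = a := by rw [pow_succ, ha2, one_mul]
  rwa [e] at h4

/-- `u ↦ u * u^d` is onto `W_i` -/
theorem f6_W_surj (hQ : Subgroup.centralizer (pCore 2 X : Set X) ≤ pCore 2 X)
    (hJC : thompsonSubgroup 2 X ⊓ Subgroup.centralizer (VX X : Set X) ≤ pCore 2 X)
    (F : FFData X (VX X)) (i : Fin F.r) {d : X} (hd : d ∈ f6N F i) (hd3 : orderOf d = 3) :
    ∀ w ∈ ⁅VX X, F.D i⁆, ∃ u ∈ ⁅VX X, F.D i⁆, w = u * (d * u * d⁻¹) := by
  set W := ⁅VX X, F.D i⁆ with hW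
  have hdJC := f6_N_le_JC F i hd
  have hWc : ∀ u ∈ W, ∀ v ∈ W, u * v = v * u :=
    fun u hu v hv => f6_V_comm hQ u (f6_W_le_V hQ F i hu) v (f6_W_le_V hQ F i hv)
  have hW2 : ∀ w ∈ W, w * w = 1 := fun w hw => f6_V_sq hQ w (f6_W_le_V hQ F i hw)
  have hdW : ∀ w ∈ W, d * w * d⁻¹ ∈ W := fun w hw => f6_conj_W hQ F i hdJC hw
  let φ : ↥W → ↥W := fun u => ⟨(u : X) * (d * u * d⁻¹), W.mul_mem u.2 (hdW u u.2)⟩
  have hinj : Function.Injective φ := by
    intro a b hab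
    have h1 : (a : X) * (d * a * d⁻¹) = (b : X) * (d * b * d⁻¹) := congrArg Subtype.val hab
    -- `a * b` is fixed by `d`
    have hab' : (a : X) * b ∈ W := W.mul_mem a.2 b.2
    have h2 : d * ((a : X) * b) * d⁻¹ = (a : X) * b := by
      have e1 : d * ((a : X) * b) * d⁻¹ = (d * a * d⁻¹) * (d * b * d⁻¹) := by group
      have ea : d * (a : X) * d⁻¹ = (a : X) * ((b : X) * (d * b * d⁻¹)) := by
        rw [← h1, ← mul_assoc, hW2 a a.2, one_mul]
      rw [e1, ea]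
      have hc : (d * (b : X) * d⁻¹) * (d * b * d⁻¹) = 1 := hW2 _ (hdW b b.2)
      rw [mul_assoc, mul_assoc, hc, mul_one]
    have h3 := f6_W_fix hQ hJC F i hd hd3 _ hab' h2
    apply Subtype.ext
    have h4 : (a : X) = (b : X)⁻¹ := eq_inv_of_mul_eq_one_left h3
    have h5 : (b : X)⁻¹ = b := by
      have : (b : X)⁻¹ = (b : X)⁻¹ * ((b : X) * b) := by rw [hW2 b b.2, mul_one]
      rw [this]; group
    rw [h4, h5]
  have hsurj : Function.Surjective φ := Finite.injective_iff_surjective.1 hinj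
  intro w hw
  obtain ⟨u, hu⟩ := hsurj ⟨w, hw⟩
  exact ⟨u, u.2, (congrArg Subtype.val hu).symm⟩

end Cfsg.Agent.Helper13.JCFF
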