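import Mathlib
import Cfsg.Agent.Lib.Helper23.JCF6G

/-!
# KS12, piece F6, part H (helper23): clause (3): `wOf (K_i) = ⁅V, D_i⁆`
-/

set_option autoImplicit false
set_option linter.unusedSectionVars false
set_option linter.unusedVariables false
set_option linter.style.haveILetI false
set_option maxHeartbeats 1600000

namespace Cfsg.Agent.Helper13.JCFF

open Cfsg Cfsg.Agent.Helper4.ZJ Cfsg.Agent.Helper19.JC
open scoped commutatorElement

variable {X : Type*} [Group X] [Finite X]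

theorem f6_wOf_eq {T : Subgroup X} (h : KS X T)
    (hJC : thompsonSubgroup 2 X ⊓ Subgroup.centralizer (VX X : Set X) ≤ pCore 2 X)
    (F : FFData X (VX X)) (i : Fin F.r) : wOf (Kc F i) = ⁅VX X, F.D i⁆ := by
  have hQ := h.hQ
  obtain ⟨A, hA, x, hxA, hxD, hxO⟩ := f6_exists_offender h F i
  obtain ⟨hAT, hAe, hAmax⟩ := mem_famE.1 hA
  obtain ⟨d, hd, hd3⟩ := f6_exists_d hQ hJC F i
  have hQn := f6_pCore_normal (X := X)
  have hdK : d ∈ Kc F i := f6_mem_Kc_of_odd F i hd (by rw [hd3]; decide)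
  have hd3' : d ^ 3 = 1 := by rw [← hd3]; exact pow_orderOf_eq_one d
  have hdJC := f6_N_le_JC F i hd
  have hdinvJC := Subgroup.inv_mem _ hdJC
  have hx2 : x * x = 1 := by have := hAe.2 x hxA; rwa [pow_two] at this
  have hAJC : A ≤ thompsonSubgroup 2 X ⊔ Subgroup.centralizer (VX X : Set X) :=
    (le_thompsonSubgroupOf hA).trans (h.JT_le_J.trans le_sup_left)
  set P : Subgroup X := Kc F i ⊓ pCore 2 X with hP
  set U : Subgroup X := omegaCenterOf P with hU
  set W : Subgroup X := ⁅VX X, F.D i⁆ with hW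
  -- normalizers
  have hJCP : thompsonSubgroup 2 X ⊔ Subgroup.centralizer (VX X : Set X) ≤
      Subgroup.normalizer (P : Set X) := by
    apply le_normalizer_of_conj_mem
    intro g hg n hn
    obtain ⟨h1, h2⟩ := Subgroup.mem_inf.1 hn
    exact Subgroup.mem_inf.2 ⟨f6_conj_Kc F i hg h1, hQn.conj_mem _ h2 g⟩
  have hJCU : thompsonSubgroup 2 X ⊔ Subgroup.centralizer (VX X : Set X) ≤
      Subgroup.normalizer (U : Set X) := le_normalizer_omegaCenterOf hJCP
  have hconjU : ∀ g ∈ thompsonSubgroup 2 X ⊔ Subgroup.centralizer (VX X : Set X), ∀ u ∈ U,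
      g * u * g⁻¹ ∈ U := fun g hg u hu => conj_mem_of_le_normalizer hJCU hg hu
  have hAU : A ≤ Subgroup.normalizer (U : Set X) := hAJC.trans hJCU
  have hdU : d ∈ Subgroup.normalizer (U : Set X) := hJCU hdJC
  -- `U`
  have hUmem : ∀ u, u ∈ U ↔ u ∈ P ∧ (∀ y ∈ P, y * u = u * y) ∧ u ^ 2 = 1 :=
    fun u => mem_omegaCenterOf_iff P u
  have hU2 : ∀ u ∈ U, u * u = 1 := by
    intro u hu
    have := ((hUmem u).1 hu).2.2
    rwa [pow_two] at this
  have hUinv : ∀ u ∈ U, u⁻¹ = u := by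
    intro u hu
    have : u⁻¹ = u⁻¹ * (u * u) := by rw [hU2 u hu, mul_one]
    rw [this]; group
  have hUc : ∀ u ∈ U, ∀ v ∈ U, u * v = v * u := by
    intro u hu v hv
    exact ((hUmem v).1 hv).2.1 u ((hUmem u).1 hu).1
  have hUe : IsElementaryAbelian 2 U := by
    refine ⟨⟨⟨?_⟩⟩, fun u hu => ((hUmem u).1 hu).2.2⟩
    rintro ⟨a, ha⟩ ⟨b, hb⟩
    exact Subtype.ext (hUc a ha b hb)
  have hUT : U ≤ T :=
    (omegaCenterOf_le P).trans (inf_le_right.trans (f2_pCore_le h.syl))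
  have hPU : ∀ p ∈ P, ∀ u ∈ U, p * u * p⁻¹ = u := by
    intro p hp u hu
    have := ((hUmem u).1 hu).2.1 p hp
    rw [this]; group
  -- `A1`
  set A1 : Subgroup X := A ⊓ f6E d with hA1
  have hA1A : A1 ≤ A := inf_le_left
  have hq1 := f6_inverts hQ hJC F i hxD hxO hx2 hd hd3
  have hxE : x ∉ f6E d := by
    intro hx
    rw [f6_mem_E] at hx
    have h1 : d * d = (x * d * x⁻¹ * d⁻¹)⁻¹ * (x * d * x⁻¹ * d) := by group
    have h2 : d * d ∈ pCore 2 X := by
      rw [h1]; exact Subgroup.mul_mem _ (Subgroup.inv_mem _ hx) hq1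
    have h3 : d = (d * d) * (d * d) := by
      have : (d * d) * (d * d) = d ^ 3 * d := by rw [pow_succ, pow_two]; group
      rw [this, hd3', one_mul]
    apply f6_not_mem_Q hd3
    rw [h3]
    exact Subgroup.mul_mem _ h2 h2
  have hstep : ∀ b ∈ A, b ∉ f6E d → b * x ∈ f6E d := by
    intro b hb hbE
    rw [f6_mem_E] at hbE ⊢
    have hbJC := hAJC hb
    have hconj : b * d * b⁻¹ ∈ f6N F i := f6_conj_N F i hbJC hd
    have hq2 : b * d * b⁻¹ * d ∈ pCore 2 X := by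
      rcases f6_tri hQ hJC F i hd hd3 hconj with h' | h' | h'
      · exfalso
        have : orderOf (b * d * b⁻¹) = 3 := by rw [f6_orderOf_conj]; exact hd3
        exact f6_not_mem_Q this h'
      · exact absurd h' hbE
      · exact h'
    have e : (b * x) * d * (b * x)⁻¹ * d⁻¹ =
        (b * (x * d * x⁻¹ * d) * b⁻¹) * (d * (b * d * b⁻¹ * d)⁻¹ * d⁻¹) := by group
    rw [e]
    exact Subgroup.mul_mem _ (hQn.conj_mem _ hq1 b) (hQn.conj_mem _ (Subgroup.inv_mem _ hq2) d)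
  have hidx : A1.relIndex A = 2 := by
    rw [Subgroup.relIndex_eq_two_iff]
    refine ⟨x, hxA, fun b hb => ?_⟩
    by_cases hbE : b ∈ f6E d
    · right
      refine ⟨Subgroup.mem_inf.2 ⟨hb, hbE⟩, fun hbx => ?_⟩
      apply hxE
      have h1 : x = b⁻¹ * (b * x) := by group
      rw [h1]
      exact Subgroup.mul_mem _ (Subgroup.inv_mem _ hbE) (Subgroup.mem_inf.1 hbx).2
    · left
      exact ⟨Subgroup.mem_inf.2 ⟨A.mul_mem hb hxA, hstep b hb hbE⟩,
        fun hb1 => hbE (Subgroup.mem_inf.1 hb1).2⟩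
  -- the two commutation rules on `U`
  have hA1d : ∀ a ∈ A1, ∀ u ∈ U, a * (d * u * d⁻¹) * a⁻¹ = d * (a * u * a⁻¹) * d⁻¹ := by
    intro a ha u hu
    obtain ⟨haA, haE⟩ := Subgroup.mem_inf.1 ha
    have haJC := hAJC haA
    have hpP : a * d * a⁻¹ * d⁻¹ ∈ P :=
      Subgroup.mem_inf.2 ⟨Subgroup.mul_mem _ (f6_conj_Kc F i haJC hdK) (Subgroup.inv_mem _ hdK),
        haE⟩
    have hmem : d * (a * u * a⁻¹) * d⁻¹ ∈ U := hconjU d hdJC _ (hconjU a haJC u hu)
    have e : a * (d * u * d⁻¹) * a⁻¹ =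
        (a * d * a⁻¹ * d⁻¹) * (d * (a * u * a⁻¹) * d⁻¹) * (a * d * a⁻¹ * d⁻¹)⁻¹ := by group
    rw [e, hPU _ hpP _ hmem]
  have hxd : ∀ u ∈ U, x * (d * u * d⁻¹) * x⁻¹ = d⁻¹ * (x * u * x⁻¹) * d := by
    intro u hu
    have hxJC := hAJC hxA
    have hpP : x * d * x⁻¹ * d ∈ P :=
      Subgroup.mem_inf.2 ⟨Subgroup.mul_mem _ (f6_conj_Kc F i hxJC hdK) hdK, hq1⟩
    have hmem : d⁻¹ * (x * u * x⁻¹) * d ∈ U := by
      have := hconjU d⁻¹ hdinvJC _ (hconjU x hxJC u hu)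
      simpa using this
    have e : x * (d * u * d⁻¹) * x⁻¹ =
        (x * d * x⁻¹ * d) * (d⁻¹ * (x * u * x⁻¹) * d) * (x * d * x⁻¹ * d)⁻¹ := by group
    rw [e, hPU _ hpP _ hmem]
  -- `W`
  have hWV : W ≤ VX X := f6_W_le_V hQ F i
  have hW4 : Nat.card W = 4 := F.card_W i
  have hWsurj := f6_W_surj hQ hJC F i hd hd3
  have hVQ : VX X ≤ pCore 2 X := VX_le_pCore hQ
  have hQJC : pCore 2 X ≤ thompsonSubgroup 2 X ⊔ Subgroup.centralizer (VX X : Set X) :=
    (pCore_le_centralizer_VX hQ).trans le_sup_right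
  have hWU : W ≤ U := by
    intro w hw
    obtain ⟨u, hu, rfl⟩ := hWsurj w hw
    have huV := hWV hu
    have hwV : u * (d * u * d⁻¹) ∈ VX X := hWV hw
    rw [hUmem]
    refine ⟨Subgroup.mem_inf.2 ⟨?_, hVQ hwV⟩, ?_, ?_⟩
    · have huinv : u⁻¹ = u := by
        have : u⁻¹ = u⁻¹ * (u * u) := by rw [f6_V_sq hQ u huV, mul_one]
        rw [this]; group
      have e : u * (d * u * d⁻¹) = (u * d * u⁻¹) * d⁻¹ := by rw [huinv]; group
      rw [e]
      exact Subgroup.mul_mem _ (f6_conj_Kc F i (hQJC (hVQ huV)) hdK) (Subgroup.inv_mem _ hdK)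
    · intro y hy
      have hyC : y ∈ Subgroup.centralizer (VX X : Set X) :=
        pCore_le_centralizer_VX hQ (Subgroup.mem_inf.1 hy).2
      exact ((Subgroup.mem_centralizer_iff.1 hyC) _ hwV).symm
    · rw [pow_two]; exact f6_V_sq hQ _ hwV
  have hWd : ∀ w ∈ W, ∃ u ∈ U, w = u * (d * u * d⁻¹) := by
    intro w hw
    obtain ⟨u, hu, e⟩ := hWsurj w hw
    exact ⟨u, hWU hu, e⟩
  have hWA1 : ∀ a ∈ A1, ∀ w ∈ W, a * w = w * a := by
    intro a ha w hw
    obtain ⟨haA, haE⟩ := Subgroup.mem_inf.1 ha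
    have haJC := hAJC haA
    have ha2 : a * a = 1 := by have := hAe.2 a haA; rwa [pow_two] at this
    have hcent := f6_cent_of_comm W hW4
      (fun u hu v hv => f6_V_comm hQ u (hWV hu) v (hWV hv))
      (fun w hw => f6_V_sq hQ w (hWV hw)) hd3'
      (fun w hw => f6_conj_W hQ F i hdJC hw) (f6_W_fix hQ hJC F i hd hd3)
      (fun w hw => f6_conj_W hQ F i haJC hw) ha2
      (fun w hw => hA1d a ha w (hWU hw))
    have := hcent w hw
    calc a * w = (a * w * a⁻¹) * a := by group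
      _ = w * a := by rw [this]
  have hd3u : ∀ u ∈ U, d * d * d * u = u * (d * d * d) := by
    intro u hu
    have : d * d * d = 1 := by rw [← hd3']; rw [pow_succ, pow_two]
    rw [this, one_mul, mul_one]
  have hcount := Cfsg.Agent.Helper7.JCF6.f6_count hA hUT hUe hA1A hidx hxA hAU hdU hd3u hA1d hxd
    hWU hW4 hWd hWA1
  -- conclusion
  unfold wOf
  rw [f6_pCoreOf_Kc hQ hJC F i]
  apply le_antisymm
  · rw [Subgroup.commutator_le]
    intro u hu k hk
    have huinv := hUinv u hu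
    have e0 : ⁅u, k⁆ = u * (k * u * k⁻¹) := by
      rw [commutatorElement_def]
      conv_lhs => rw [show u * k * u⁻¹ * k⁻¹ = u * (k * u⁻¹ * k⁻¹) by group, huinv]
    rw [e0]
    have hkN : k ∈ f6N F i := f6_Kc_le_N F i hk
    rcases f6_tri hQ hJC F i hd hd3 hkN with h' | h' | h'
    · have hkP : k ∈ P := Subgroup.mem_inf.2 ⟨hk, h'⟩
      rw [hPU k hkP u hu, hU2 u hu]
      exact W.one_mem
    · have hpP : k * d⁻¹ ∈ P :=
        Subgroup.mem_inf.2 ⟨Subgroup.mul_mem _ hk (Subgroup.inv_mem _ hdK), h'⟩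
      have hmem : d * u * d⁻¹ ∈ U := hconjU d hdJC u hu
      have e : k * u * k⁻¹ = (k * d⁻¹) * (d * u * d⁻¹) * (k * d⁻¹)⁻¹ := by group
      rw [e, hPU _ hpP _ hmem]
      exact hcount u hu
    · have hpP : k * d ∈ P := Subgroup.mem_inf.2 ⟨Subgroup.mul_mem _ hk hdK, h'⟩
      have hmem : d⁻¹ * u * d ∈ U := by
        have := hconjU d⁻¹ hdinvJC u hu
        simpa using this
      have e : k * u * k⁻¹ = (k * d) * (d⁻¹ * u * d) * (k * d)⁻¹ := by group
      rw [e, hPU _ hpP _ hmem]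
      have h1 := hcount _ hmem
      have e2 : d * (d⁻¹ * u * d) * d⁻¹ = u := by group
      rw [e2] at h1
      rw [hUc u hu _ hmem]
      exact h1
  · intro w hw
    obtain ⟨u, hu, rfl⟩ := hWsurj w hw
    have huU := hWU hu
    have e : u * (d * u * d⁻¹) = ⁅u, d⁆ := by
      rw [commutatorElement_def]
      conv_rhs => rw [show u * d * u⁻¹ * d⁻¹ = u * (d * u⁻¹ * d⁻¹) by group, hUinv u huU]
    rw [e]
    exact Subgroup.commutator_mem_commutator huU hdK

end Cfsg.Agent.Helper13.JCFF
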