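import Mathlib
import Cfsg.Agent.Lib.Helper23.JCF6H
import Cfsg.Agent.Lib.Helper23.JCF6F
import Cfsg.Agent.Lib.Helper23.JCF6E

/-!
# KS12, piece F6 (helper23): core assembly.

`f6_Kc_isJComponent`: `K_i := O²(O_i ⊓ JQ)` is a `J(T)`-component, with F4 (`J ⊓ C ≤ Q`) as an explicit hypothesis.
-/

set_option autoImplicit false
set_option linter.unusedSectionVars false
set_option linter.unusedVariables false
set_option linter.style.haveILetI false
set_option maxHeartbeats 1600000

namespace Cfsg.Agent.Helper13.JCFF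

open Cfsg Cfsg.Agent.Helper4.ZJ Cfsg.Agent.Helper19.JC
open scoped commutatorElement

variable {X : Type*} [Group X] [Finite X]

theorem f6_Kc_isJComponent {T : Subgroup X} (h : KS X T)
    (hJC : thompsonSubgroup 2 X ⊓ Subgroup.centralizer (VX X : Set X) ≤ pCore 2 X)
    (F : FFData X (VX X)) (i : Fin F.r) : IsJComponent T (Kc F i) := by
  have hQ := h.hQ
  obtain ⟨A, hA, x, hxA, hxD, hxO⟩ := f6_exists_offender h F i
  have hx2 : x * x = 1 := by
    have := (mem_famE.1 hA).2.1.2 x hxA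
    rwa [pow_two] at this
  have hxJ : x ∈ thompsonSubgroupOf 2 T := le_thompsonSubgroupOf hA hxA
  refine ⟨f6_clause_odd F i, ?_, f6_clause_idx hQ hJC F i, ?_, ?_, ?_⟩
  · exact f6_clause_comm hQ hJC F i (thompsonSubgroupOf 2 T) h.JT_le_J hxJ hxD hxO hx2
  · intro S hS hJS
    exact f6_J_eq_of_le h.syl hS.2.1 hJS
  · rw [f6_wOf_eq h hJC F i]
    exact F.card_W i
  · intro w hw
    rw [f6_wOf_eq h hJC F i] at hw
    exact f6_V_sq hQ w (f6_W_le_V hQ F i hw)

end Cfsg.Agent.Helper13.JCFF
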