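import Mathlib
import Cfsg.Agent.Lib.Helper23.JCF6Core
import Cfsg.Agent.Lib.Helper24.JCF4

/-!
# KS12, piece F6 (helper23): `KS.Kc_isJComponent` with the exact `JCFF_Skel` signature
(= `f6_Kc_isJComponent` of `JCF6Core` + F4 `KS.J_inf_C_le` of helper24).
-/

set_option autoImplicit false
set_option linter.unusedSectionVars false

namespace Cfsg.Agent.Helper13.JCFF

open Cfsg

variable {X : Type*} [Group X] [Finite X]

theorem KS.Kc_isJComponent {T : Subgroup X} (h : KS X T) (F : FFData X (VX X)) (i : Fin F.r) :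
    IsJComponent T (Kc F i) :=
  f6_Kc_isJComponent h (h.J_inf_C_le F) F i

end Cfsg.Agent.Helper13.JCFF
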