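import Mathlib
import Cfsg.Agent.Lib.Helper13.OInvDefs
import Cfsg.Agent.Lib.Lead.TwCount
import Cfsg.Agent.Lib.Lead.ChevHConjN
import Cfsg.Agent.Lib.Lead.ChevNConj

/-!
# ODDINV piece OINV-COUNT, the core

The order of the centralizer of `s = T(c) ∈ H` (all character values `±1`) in a Chevalley group, as the sum over the
Bruhat cells of the fixed points of the twist "conjugation by `s`".  The core takes the twist, the orders of the fixed
points in `U` and in the `U_w⁻`, and the criterion for `n_w` to commute with `s` as hypotheses (pieces TW, FIXU, FIXN).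
-/

set_option autoImplicit false
set_option linter.unusedSectionVars false
set_option linter.unusedVariables false
set_option linter.unusedSimpArgs false

namespace Cfsg.Agent.Helper13.OInv

open Cfsg Cfsg.Lie Cfsg.Agent.Lead.Chev Cfsg.Agent.Lead.Tw

variable {F : Type*} [Field F] {D : ChevalleyDatum}

theorem oinvcount_mem_weylSetChi (chiB : ℕ → Bool) (f : Fin D.nroots → Fin D.nroots) :
    f ∈ weylSetChi D chiB ↔ f ∈ weylSet D Set.univ ∧ ChiFixF D chiB f := by
  classical
  unfold weylSetChi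
  rw [Finset.mem_filter]

/-- the relative length of the action of a word -/
theorem oinvcount_nNegChi_actF (η : ℕ → ℕ → ℤ) (hfa : ∀ i < D.rank, NXFacts D (η i) i) (chiB : ℕ → Bool)
    (w : List ℕ) (hw : ∀ i ∈ w, i < D.rank) : nNegChi D chiB (actF D w) = (negSetChi D chiB w).card := by
  unfold nNegChi negSetChi
  rw [← Finset.card_map Fin.valEmbedding]
  congr 1
  ext r
  rw [Finset.mem_map, Finset.mem_filter, mem_negSet]
  constructor
  · rintro ⟨a, ha, rfl⟩
    rw [Finset.mem_filter] at ha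
    have := ha.2
    rw [actF_val D η hfa w hw] at this
    exact ⟨⟨this.1, this.2.1⟩, this.2.2⟩
  · intro h
    refine ⟨⟨r, h.1.1.1⟩, ?_, rfl⟩
    rw [Finset.mem_filter]
    refine ⟨Finset.mem_univ _, ?_⟩
    rw [actF_val D η hfa w hw]
    exact ⟨h.1.1, h.1.2, h.2⟩

/-- the sign vector determines the character -/
theorem oinvcount_chi_eq_iff (c : ℕ → F) (chiB : ℕ → Bool)
    (hchi : ∀ r < D.nroots, chi D c r = if chiB r then -1 else 1) (h2 : (-1 : F) ≠ 1)
    (r r' : ℕ) (hr : r < D.nroots) (hr' : r' < D.nroots) : chi D c r = chi D c r' ↔ chiB r = chiB r' := by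
  rw [hchi r hr, hchi r' hr']
  cases h : chiB r <;> cases h' : chiB r' <;> simp [h2, Ne.symm h2]

/-- the core of piece OINV-COUNT: the order of the centralizer of `s`, given the twist and the fixed-point counts -/
theorem card_centralizer_diag_core [Fintype F] (hF : ChevFacts D F) (hS : CorSize D) (hC : CorComb D)
    (c : ℕ → F) (s : GL D.Idx F) (hs : s ∈ D.diagonalSubgroup F)
    (chiB : ℕ → Bool) (hchi : ∀ r < D.nroots, chi D c r = if chiB r then -1 else 1) (h2 : (-1 : F) ≠ 1)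
    (T : Twist D F hF.xadd) (hTσ : ∀ g, T.σ g = s * g * s⁻¹)
    (hU : Nat.card {u : GL D.Idx F // u ∈ D.posUnipotent F ∧ s * u = u * s} = Fintype.card F ^ nPosChi D chiB)
    (hN : ∀ w : List ℕ, (∀ i ∈ w, i < D.rank) →
      Nat.card {u : GL D.Idx F // u ∈ negPart D hF.xadd w ∧ s * u = u * s} =
        Fintype.card F ^ (negSetChi D chiB w).card)
    (hcomm : ∀ w : List ℕ, (∀ i ∈ w, i < D.rank) →
      (s * nWordGL D hF.xadd w = nWordGL D hF.xadd w * s ↔
        ∀ r < D.nroots, chi D c (reflWord D w r) = chi D c r)) :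
    Nat.card {g : GL D.Idx F // g ∈ D.group F ∧ s * g = g * s} =
      Nat.card ↥(D.diagonalSubgroup F) * Fintype.card F ^ nPosChi D chiB *
        ∑ f ∈ weylSetChi D chiB, Fintype.card F ^ nNegChi D chiB f := by
  classical
  have hfixiff : ∀ g : GL D.Idx F, T.σ g = g ↔ s * g = g * s := by
    intro g
    rw [hTσ, mul_inv_eq_iff_eq_mul]
  -- the canonical form of an element of the centralizer
  have hex : ∀ g : {g : GL D.Idx F // g ∈ D.group F ∧ s * g = g * s}, ∃ w : List ℕ, (∀ i ∈ w, i < D.rank) ∧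
      ∃ u₁ ∈ D.posUnipotent F, ∃ h ∈ D.diagonalSubgroup F, ∃ u ∈ negPart D hF.xadd w,
        s * u₁ = u₁ * s ∧ s * nWordGL D hF.xadd w = nWordGL D hF.xadd w * s ∧ s * u = u * s ∧
        (g : GL D.Idx F) = u₁ * h * nWordGL D hF.xadd w * u := by
    rintro ⟨g, hg, hgs⟩
    obtain ⟨u₁, hu₁, n, hn, u, hu, f1, f2, f3, e⟩ :=
      T.exists_fixed_canonical hF hS g hg ((hfixiff g).2 hgs)
    obtain ⟨h, hh, w, hw, rfl⟩ :=
      exists_word_of_mem_monomial D hF.xadd (etaOf D) hF.nsimple hF.simple_lt hF.orbit n hn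
    have hsh := hF.diagonal_commute s h hs hh
    have f2' := (hfixiff _).1 f2
    have hsn : s * nWordGL D hF.xadd w = nWordGL D hF.xadd w * s := by
      have : h * (s * nWordGL D hF.xadd w) = h * (nWordGL D hF.xadd w * s) := by
        rw [← mul_assoc, ← hsh, mul_assoc, f2', mul_assoc]
      exact mul_left_cancel this
    refine ⟨w, hw, u₁, hu₁, h, hh, u, ChevFacts'.negPartN_le_negPart hF hS h hh w hw hu,
      (hfixiff _).1 f1, hsn, (hfixiff _).1 f3, ?_⟩
    show g = u₁ * h * nWordGL D hF.xadd w * u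
    rw [e, mul_assoc u₁ h]
  choose wOf hwOf hcell using hex
  set φ : {g : GL D.Idx F // g ∈ D.group F ∧ s * g = g * s} → (Fin D.nroots → Fin D.nroots) :=
    fun g => actF D (wOf g) with hφ
  have hchifix : ∀ w : List ℕ, (∀ i ∈ w, i < D.rank) →
      (s * nWordGL D hF.xadd w = nWordGL D hF.xadd w * s ↔ ChiFixF D chiB (actF D w)) := by
    intro w hw
    rw [hcomm w hw]
    constructor
    · intro h r
      rw [actF_val D (etaOf D) hF.facts w hw]
      exact (oinvcount_chi_eq_iff c chiB hchi h2 _ _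
        (reflWord_lt D (etaOf D) hF.facts w hw r.val r.2) r.2).1 (h r.val r.2)
    · intro h r hr
      have := h ⟨r, hr⟩
      rw [actF_val D (etaOf D) hF.facts w hw] at this
      exact (oinvcount_chi_eq_iff c chiB hchi h2 _ _
        (reflWord_lt D (etaOf D) hF.facts w hw r hr) hr).2 this
  have hfib : ∀ f : Fin D.nroots → Fin D.nroots,
      Nat.card {g : {g : GL D.Idx F // g ∈ D.group F ∧ s * g = g * s} // φ g = f} =
      if f ∈ weylSetChi D chiB then Nat.card ↥(D.diagonalSubgroup F) * Fintype.card F ^ nPosChi D chiB *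
        Fintype.card F ^ nNegChi D chiB f else 0 := by
    intro f
    by_cases hf : f ∈ weylSetChi D chiB
    · rw [if_pos hf]
      obtain ⟨hf1, hf2⟩ := (oinvcount_mem_weylSetChi chiB f).1 hf
      obtain ⟨w₀, hw₀, rfl⟩ := (mem_weylSet D _ f).1 hf1
      have hw₀' : ∀ i ∈ w₀, i < D.rank := fun i hi => (hw₀ i hi).1
      have hsn₀ := (hchifix w₀ hw₀').2 hf2
      rw [oinvcount_nNegChi_actF (etaOf D) hF.facts chiB w₀ hw₀', ← hN w₀ hw₀', ← hU,
        ← Nat.card_prod, ← Nat.card_prod]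
      have hval : ∀ (h : ↥(D.diagonalSubgroup F))
          (u₁ : {u : GL D.Idx F // u ∈ D.posUnipotent F ∧ s * u = u * s})
          (u : {u : GL D.Idx F // u ∈ negPart D hF.xadd w₀ ∧ s * u = u * s}),
          (u₁ : GL D.Idx F) * h * nWordGL D hF.xadd w₀ * u ∈ D.group F ∧
            s * ((u₁ : GL D.Idx F) * h * nWordGL D hF.xadd w₀ * u) =
              (u₁ : GL D.Idx F) * h * nWordGL D hF.xadd w₀ * u * s := by
        intro h u₁ u
        refine ⟨mul_mem (mul_mem (mul_mem (hF.posUnipotent_le_group u₁.2.1) (hF.diagonal_le_group h.2))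
          (nWordGL_mem_group D hF.xadd w₀)) (hF.posUnipotent_le_group (hF.negPart_le_posUnipotent w₀ u.2.1)), ?_⟩
        have c1 : Commute s (u₁ : GL D.Idx F) := u₁.2.2
        have c2 : Commute s (h : GL D.Idx F) := hF.diagonal_commute s h hs h.2
        have c3 : Commute s (nWordGL D hF.xadd w₀) := hsn₀
        have c4 : Commute s (u : GL D.Idx F) := u.2.2
        exact (((c1.mul_right c2).mul_right c3).mul_right c4).eq
      have hφv : ∀ (h : ↥(D.diagonalSubgroup F))
          (u₁ : {u : GL D.Idx F // u ∈ D.posUnipotent F ∧ s * u = u * s})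
          (u : {u : GL D.Idx F // u ∈ negPart D hF.xadd w₀ ∧ s * u = u * s}),
          φ ⟨_, hval h u₁ u⟩ = actF D w₀ := by
        intro h u₁ u
        obtain ⟨u₁', hu₁', h', hh', u', hu', -, -, -, e⟩ := hcell ⟨_, hval h u₁ u⟩
        have e' : (u₁ : GL D.Idx F) * h * nWordGL D hF.xadd w₀ * u =
            u₁' * h' * nWordGL D hF.xadd (wOf ⟨_, hval h u₁ u⟩) * u' := e
        have := hF.cell_action w₀ _ hw₀' (hwOf _) (u₁ * h) (u₁' * h') u u'
          (mul_mem (posUnipotent_le_borel D u₁.2.1) (diagonal_le_borel D h.2))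
          (mul_mem (posUnipotent_le_borel D hu₁') (diagonal_le_borel D hh')) u.2.1 hu' e'
        exact ((actF_eq_iff D (etaOf D) hF.facts _ _ hw₀' (hwOf _)).2 this).symm
      let ψ : (↥(D.diagonalSubgroup F) × {u : GL D.Idx F // u ∈ D.posUnipotent F ∧ s * u = u * s}) ×
          {u : GL D.Idx F // u ∈ negPart D hF.xadd w₀ ∧ s * u = u * s} →
          {g : {g : GL D.Idx F // g ∈ D.group F ∧ s * g = g * s} // φ g = actF D w₀} :=
        fun p => ⟨⟨_, hval p.1.1 p.1.2 p.2⟩, hφv p.1.1 p.1.2 p.2⟩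
      have hinj : Function.Injective ψ := by
        rintro ⟨⟨h, u₁⟩, u⟩ ⟨⟨h', u₁'⟩, u'⟩ hh
        have h1 : (u₁ : GL D.Idx F) * h * nWordGL D hF.xadd w₀ * u =
            (u₁' : GL D.Idx F) * h' * nWordGL D hF.xadd w₀ * u' :=
          congrArg (fun x : {g : {g : GL D.Idx F // g ∈ D.group F ∧ s * g = g * s} // φ g = actF D w₀} =>
            ((x : {g : GL D.Idx F // g ∈ D.group F ∧ s * g = g * s}) : GL D.Idx F)) hh
        obtain ⟨h2', h3⟩ := hF.cell_unique w₀ hw₀' (u₁ * h) (u₁' * h') u u'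
          (mul_mem (posUnipotent_le_borel D u₁.2.1) (diagonal_le_borel D h.2))
          (mul_mem (posUnipotent_le_borel D u₁'.2.1) (diagonal_le_borel D h'.2)) u.2.1 u'.2.1 h1
        obtain ⟨h4, h5⟩ := Twist.fixed_borel hF u₁ h u₁.2.1 h.2 u₁' h' u₁'.2.1 h'.2 h2'
        exact Prod.ext (Prod.ext (Subtype.ext h5) (Subtype.ext h4)) (Subtype.ext h3)
      have hsurj : Function.Surjective ψ := by
        rintro ⟨g, hg⟩
        obtain ⟨u₁', hu₁', h', hh', u', hu', fu₁, fn, fu, e⟩ := hcell g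
        have hact : ∀ r < D.nroots, reflWord D w₀ r = reflWord D (wOf g) r :=
          (actF_eq_iff D (etaOf D) hF.facts _ _ hw₀' (hwOf g)).1 hg.symm
        have hh := hF.nWordGL_inv_mul_mem_diagonal w₀ (wOf g) hw₀' (hwOf g) hact
        have hh2 := nWordGL_conj_mem_diagonal D hF.xadd (etaOf D) hF.nsimple w₀ hw₀' _ hh
        have hu'' : u' ∈ negPart D hF.xadd w₀ := by
          rw [negPart_congr D hF.xadd w₀ (wOf g) hact]
          exact hu'
        refine ⟨((⟨h' * (nWordGL D hF.xadd w₀ * ((nWordGL D hF.xadd w₀)⁻¹ * nWordGL D hF.xadd (wOf g)) *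
          (nWordGL D hF.xadd w₀)⁻¹), mul_mem hh' hh2⟩, ⟨u₁', hu₁', fu₁⟩), ⟨u', hu'', fu⟩), ?_⟩
        apply Subtype.ext
        apply Subtype.ext
        show u₁' * (h' * (nWordGL D hF.xadd w₀ * ((nWordGL D hF.xadd w₀)⁻¹ * nWordGL D hF.xadd (wOf g)) *
          (nWordGL D hF.xadd w₀)⁻¹)) * nWordGL D hF.xadd w₀ * u' = (g : GL D.Idx F)
        rw [e]
        group
      exact (Nat.card_congr (Equiv.ofBijective ψ ⟨hinj, hsurj⟩)).symm
    · rw [if_neg hf]
      have : IsEmpty {g : {g : GL D.Idx F // g ∈ D.group F ∧ s * g = g * s} // φ g = f} := by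
        constructor
        rintro ⟨g, hg⟩
        obtain ⟨u₁', hu₁', h', hh', u', hu', fu₁, fn, fu, e⟩ := hcell g
        refine hf ((oinvcount_mem_weylSetChi chiB f).2 ⟨(mem_weylSet D _ f).2
          ⟨wOf g, fun i hi => ⟨hwOf g i hi, Set.mem_univ _⟩, hg⟩, ?_⟩)
        rw [← hg]
        exact (hchifix (wOf g) (hwOf g)).1 fn
      exact Nat.card_of_isEmpty
  rw [Nat.card_congr (Equiv.sigmaFiberEquiv φ).symm, Nat.card_sigma]
  simp_rw [hfib]
  rw [← Finset.sum_filter, Finset.mul_sum]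
  apply Finset.sum_congr
  · ext f
    simp
  · intro f _
    rfl

end Cfsg.Agent.Helper13.OInv
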