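import Mathlib
import Cfsg.Agent.Lib.Helper13.OInvDefs
import Cfsg.Agent.Lib.Helper23.OInvCOUNTCore
import Cfsg.Agent.Lib.Helper28.OInvTW
import Cfsg.Agent.Lib.Helper28.OInvFIXN
import Cfsg.Agent.Lib.Helper17.OInvFIXU

/-!
# ODDINV piece OINV-COUNT : the order of the centralizer of an involution of `H`

`card_centralizer_diag`, from the core `card_centralizer_diag_core` and the pieces TW (`twistDiag`), FIXU
(`card_fixed_posUnipotent`, `card_fixed_negPart`), FIXN (`nWordGL_comm_iff`).
-/

set_option autoImplicit false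
set_option linter.unusedSectionVars false
set_option linter.unusedVariables false

namespace Cfsg.Agent.Helper13.OInv

open Cfsg Cfsg.Lie Cfsg.Agent.Lead.Chev Cfsg.Agent.Lead.Tw

variable {F : Type*} [Field F] {D : ChevalleyDatum}

theorem card_centralizer_diag [Fintype F] (hF : ChevFacts D F) (hS : CorSize D) (hC : CorComb D) (hI : CorInj D)
    (hcn : ∀ i < D.rank, ∀ r < D.nroots, D.cartan i (D.neg r) = - D.cartan i r)
    (c : ℕ → F) (hc : ∀ i < D.rank, c i ≠ 0) (s : GL D.Idx F) (hs : s ∈ D.diagonalSubgroup F)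
    (hsc : (s : Matrix D.Idx D.Idx F) = Tmat D c)
    (chiB : ℕ → Bool) (hchi : ∀ r < D.nroots, chi D c r = if chiB r then -1 else 1) (h2 : (-1 : F) ≠ 1) :
    Nat.card {g : GL D.Idx F // g ∈ D.group F ∧ s * g = g * s} =
      Nat.card ↥(D.diagonalSubgroup F) * Fintype.card F ^ nPosChi D chiB *
        ∑ f ∈ weylSetChi D chiB, Fintype.card F ^ nNegChi D chiB f := by
  have hchi' : ∀ r < D.nroots, (chi D c r = 1 ↔ chiB r = false) := by
    intro r hr
    rw [hchi r hr]
    cases chiB r <;> simp [h2]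
  exact card_centralizer_diag_core hF hS hC c s hs chiB hchi h2 (twistDiag hF hcn c hc s hsc)
    (fun g => twistDiag_σ hF hcn c hc s hsc g)
    (card_fixed_posUnipotent hF hS hC c hc s hsc chiB hchi')
    (fun w hw => card_fixed_negPart hF hS hC c hc s hsc chiB hchi' w hw)
    (fun w hw => nWordGL_comm_iff hF c hc s hsc w hw)

end Cfsg.Agent.Helper13.OInv
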