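import Mathlib
import Cfsg.Agent.Lib.Helper13.OInvDefs3
import Cfsg.Agent.Lib.Helper1.OInvCHI
import Cfsg.Agent.Lib.Lead.ChevOrderAll

/-!
# ODDINV piece OINV-SGN : the sign elements `T(signC I)` of `H`
-/

set_option autoImplicit false
set_option linter.unusedSectionVars false
set_option linter.unusedVariables false

namespace Cfsg.Agent.Helper13.OInv

open Cfsg Cfsg.Lie Cfsg.Agent.Lead.Chev Cfsg.Agent.Lead.Tw

variable {F : Type*} [Field F] {D : ChevalleyDatum}

theorem sgnElt_val (I : List ℕ) : ((sgnElt D F I : GL D.Idx F) : Matrix D.Idx D.Idx F) = Tmat D (signC F I) := by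
  unfold sgnElt
  rw [torusHom_val]
  apply Tmat_congr
  intro i hi
  rw [extC_lt D _ i hi]
  unfold signC
  by_cases h : i ∈ I
  · simp [h]
  · simp [h]

theorem sgnElt_mem (hF : ChevFacts D F) (I : List ℕ) : sgnElt D F I ∈ D.diagonalSubgroup F := by
  rw [← torusHom_range D hF.xadd hF.hsimple hF.hall hF.simple_lt]
  exact ⟨_, rfl⟩

theorem sgnElt_mul_self (I : List ℕ) : sgnElt D F I * sgnElt D F I = 1 := by
  unfold sgnElt
  rw [← map_mul]
  have : ((fun i : Fin D.rank => if i.val ∈ I then (-1 : Fˣ) else 1) *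
      fun i : Fin D.rank => if i.val ∈ I then (-1 : Fˣ) else 1) = 1 := by
    funext i
    rw [Pi.mul_apply, Pi.one_apply]
    by_cases h : i.val ∈ I
    · simp [h]
    · simp [h]
  rw [this, map_one]

/-- `T(signC I) ≠ 1` when some root has sign `-1` -/
theorem sgnElt_ne_one (h2 : (-1 : F) ≠ 1) (I : List ℕ) (hI1 : I.Nodup) (hI2 : ∀ i ∈ I, i < D.rank)
    (r : ℕ) (hr : r < D.nroots) (hchi : chiOf (chiList D I) r = true) : sgnElt D F I ≠ 1 := by
  intro h
  have h1 : ((sgnElt D F I : GL D.Idx F) : Matrix D.Idx D.Idx F) = 1 := by rw [h]; rfl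
  rw [sgnElt_val] at h1
  have h3 := congrFun (congrFun h1 (Sum.inr ⟨r, hr⟩)) (Sum.inr ⟨r, hr⟩)
  unfold Tmat at h3
  rw [Matrix.diagonal_apply_eq, Matrix.one_apply_eq] at h3
  simp only [Sum.elim_inr] at h3
  rw [chi_signC I hI1 hI2 r hr, hchi] at h3
  exact h2 (by simpa using h3)

/-- `signC` only depends on the membership -/
theorem sgnElt_congr (I I' : List ℕ) (h : ∀ i < D.rank, i ∈ I ↔ i ∈ I') : sgnElt D F I = sgnElt D F I' := by
  unfold sgnElt
  congr 1
  funext i
  exact if_congr (h i.val i.2) rfl rfl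

end Cfsg.Agent.Helper13.OInv
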