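import Mathlib
import Cfsg.Prelude.Def_Classical
import Cfsg.Agent.Lib.Helper13.IsomTransfer

set_option autoImplicit false
set_option linter.style.haveILetI false
set_option linter.unusedSectionVars false

/-!
# Isometric forms have isomorphic isometry groups
-/

namespace Cfsg.Agent.Helper23.Orth

open Cfsg Matrix

universe u

variable {F : Type u} [Field F] {ι κ : Type} [Fintype ι] [DecidableEq ι] [Fintype κ]
  [DecidableEq κ]

/-- the hom between isometry groups induced by an isometry of forms -/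
theorem exists_hom_of_equiv (Q₁ : (ι → F) → F) (Q₂ : (κ → F) → F)
    (g : (ι → F) ≃ₗ[F] (κ → F)) (hg : ∀ v, Q₂ (g v) = Q₁ v) :
    ∃ φ : ↥(Cfsg.isometryGroup F Q₁) →* ↥(Cfsg.isometryGroup F Q₂),
      ∀ (A : ↥(Cfsg.isometryGroup F Q₁)) (w : κ → F),
        ((φ A : GL κ F) : Matrix κ κ F) *ᵥ w =
          g (((A : GL ι F) : Matrix ι ι F) *ᵥ (g.symm w)) := by
  have h := Cfsg.Agent.Helper13.exists_hom_isometry
    (G := ↥(Cfsg.isometryGroup F Q₁)) (V := ι → F)
    (fun A => Matrix.toLin' ((A : GL ι F) : Matrix ι ι F))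
    (by intro v; simp)
    (by
      intro A B v
      show Matrix.toLin' (((A : GL ι F) : Matrix ι ι F) * ((B : GL ι F) : Matrix ι ι F)) v = _
      rw [Matrix.toLin'_mul]
      rfl)
    g Q₂
    (by
      intro A v
      rw [hg, hg, Matrix.toLin'_apply]
      exact A.2 v v)
  obtain ⟨φ, hφ⟩ := h
  refine ⟨φ, ?_⟩
  intro A w
  rw [hφ A w, Matrix.toLin'_apply]

/-- isometric forms have isomorphic isometry groups -/
theorem nonempty_iso_of_equiv (Q₁ : (ι → F) → F) (Q₂ : (κ → F) → F)
    (g : (ι → F) ≃ₗ[F] (κ → F)) (hg : ∀ v, Q₂ (g v) = Q₁ v) :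
    Nonempty (↥(Cfsg.isometryGroup F Q₁) ≃* ↥(Cfsg.isometryGroup F Q₂)) := by
  obtain ⟨φ, hφ⟩ := exists_hom_of_equiv Q₁ Q₂ g hg
  obtain ⟨ψ, hψ⟩ := exists_hom_of_equiv Q₂ Q₁ g.symm (by
    intro v
    rw [← hg, LinearEquiv.apply_symm_apply])
  have h1 : ∀ A, ψ (φ A) = A := by
    intro A
    apply Subtype.ext
    apply Units.ext
    apply Matrix.toLin'.injective
    apply LinearMap.ext
    intro w
    rw [Matrix.toLin'_apply, Matrix.toLin'_apply, hψ, hφ]
    simp
  have h2 : ∀ B, φ (ψ B) = B := by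
    intro B
    apply Subtype.ext
    apply Units.ext
    apply Matrix.toLin'.injective
    apply LinearMap.ext
    intro w
    rw [Matrix.toLin'_apply, Matrix.toLin'_apply, hφ, hψ]
    simp
  exact ⟨{ toFun := φ, invFun := ψ, left_inv := h1, right_inv := h2, map_mul' := map_mul φ }⟩

/-- a group isomorphism maps the commutator subgroup onto the commutator subgroup -/
theorem nonempty_commutator_equiv {G H : Type*} [Group G] [Group H] (e : G ≃* H) :
    Nonempty (↥(commutator G) ≃* ↥(commutator H)) := by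
  have hmap : (commutator G).map e.toMonoidHom = commutator H := by
    rw [commutator_def, commutator_def, Subgroup.map_commutator]
    have : (⊤ : Subgroup G).map e.toMonoidHom = ⊤ := by
      rw [← MonoidHom.range_eq_map, MonoidHom.range_eq_top]
      exact e.surjective
    rw [this]
  have e1 := (commutator G).equivMapOfInjective e.toMonoidHom e.injective
  rw [hmap] at e1
  exact ⟨e1⟩

end Cfsg.Agent.Helper23.Orth
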