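import Mathlib
import Cfsg.Agent.Lib.Helper13.SpBN0

/-!
# S2545 piece GEN (helper23): `Sp_{2m}(F)` is generated by the upper triangular subgroup and the
monomial subgroup
-/

set_option autoImplicit false

namespace Cfsg.Agent.Helper23.SpBNGen

open Matrix Cfsg.Agent.Helper6.SpN Cfsg.Agent.Helper25.SpRoot Cfsg.Agent.Helper25.SpM2
  Cfsg.Agent.Helper13.SpBN

variable {m : ℕ} {F : Type*} [Field F]

/-- the permutation `a ↦ -a` of the signed indices -/
def ngPerm (m : ℕ) : Equiv.Perm (Fin m ⊕ Fin m) := Equiv.sumComm (Fin m) (Fin m)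

theorem ngPerm_apply (a : Fin m ⊕ Fin m) : ngPerm m a = ng a := rfl

theorem ngPerm_inv_apply (a : Fin m ⊕ Fin m) : (ngPerm m)⁻¹ a = ng a := by
  rw [Equiv.Perm.inv_eq_iff_eq, ngPerm_apply, ng_ng]

/-- `J` is monomial -/
theorem symJ_isMon : IsMon (SymplecticGroup.symJ (Fin m) F).1 (ngPerm m) := by
  intro a b hab
  show J (Fin m) F a b = 0
  rw [J_apply, if_neg]
  intro e
  apply hab
  rw [ngPerm_apply, e, ng_ng]

theorem symJ_mem_mon : SymplecticGroup.symJ (Fin m) F ∈ mon m F := ⟨ngPerm m, symJ_isMon⟩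

/-- lower triangular matrices -/
def IsLow (g : symplecticGroup (Fin m) F) : Prop := ∀ a b, key a < key b → g.1 a b = 0

/-- a lower triangular matrix is conjugated into `bor` by `J` -/
theorem mem_sup_of_isLow {g : symplecticGroup (Fin m) F} (h : IsLow g) :
    g ∈ bor m F ⊔ mon m F := by
  set n := SymplecticGroup.symJ (Fin m) F with hn
  have hnm : n ∈ mon m F := symJ_mem_mon
  have h1 : n * g * n⁻¹ ∈ bor m F := by
    intro a b hab
    rw [conj_apply symJ_isMon, ngPerm_inv_apply, ngPerm_inv_apply,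
      h (ng a) (ng b) ((key_ng_lt_iff a b).2 hab), mul_zero, zero_mul]
  have h2 : g = n⁻¹ * (n * g * n⁻¹) * n := by group
  rw [h2]
  exact mul_mem (mul_mem (inv_mem (Subgroup.mem_sup_right hnm)) (Subgroup.mem_sup_left h1))
    (Subgroup.mem_sup_right hnm)

theorem TmM_apply (a b : Fin m ⊕ Fin m) (t : F) (x y : Fin m ⊕ Fin m) :
    TmM a b t x y = (1 : Matrix (Fin m ⊕ Fin m) (Fin m ⊕ Fin m) F) x y +
      (if a = x ∧ b = y then t else 0) -
      (if ng b = x ∧ ng a = y then sg F a * sg F b * t else 0) := by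
  unfold TmM
  rw [Matrix.sub_apply, Matrix.add_apply, Matrix.single_apply, Matrix.single_apply]

theorem LmM_apply (a : Fin m ⊕ Fin m) (t : F) (x y : Fin m ⊕ Fin m) :
    LmM a t x y = (1 : Matrix (Fin m ⊕ Fin m) (Fin m ⊕ Fin m) F) x y +
      (if a = x ∧ ng a = y then t else 0) := by
  unfold LmM
  rw [Matrix.add_apply, Matrix.single_apply]

theorem Tm_mem {a b : Fin m ⊕ Fin m} (hab : a ≠ b) (hab' : a ≠ ng b) (t : F) :
    (Tm a b t : symplecticGroup (Fin m) F) ∈ bor m F ⊔ mon m F := by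
  have hk : key a ≠ key b := fun e => hab (key_injective e)
  rcases lt_or_gt_of_ne hk with hlt | hgt
  · -- upper triangular
    apply Subgroup.mem_sup_left
    intro x y hxy
    rw [Tm_coe' hab hab', TmM_apply]
    have hne : x ≠ y := fun e => by rw [e] at hxy; exact lt_irrefl _ hxy
    rw [Matrix.one_apply_ne hne, if_neg, if_neg]
    · ring
    · rintro ⟨rfl, rfl⟩
      have := (key_ng_lt_iff b a).2 hlt
      omega
    · rintro ⟨rfl, rfl⟩
      omega
  · -- lower triangular
    apply mem_sup_of_isLow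
    intro x y hxy
    rw [Tm_coe' hab hab', TmM_apply]
    have hne : x ≠ y := fun e => by rw [e] at hxy; exact lt_irrefl _ hxy
    rw [Matrix.one_apply_ne hne, if_neg, if_neg]
    · ring
    · rintro ⟨rfl, rfl⟩
      have := (key_ng_lt_iff b a).1 hxy
      omega
    · rintro ⟨rfl, rfl⟩
      omega

theorem Lm_mem (a : Fin m ⊕ Fin m) (t : F) :
    (Lm a t : symplecticGroup (Fin m) F) ∈ bor m F ⊔ mon m F := by
  have hk : key a ≠ key (ng a) := fun e => ne_ng a (key_injective e)
  rcases lt_or_gt_of_ne hk with hlt | hgt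
  · apply Subgroup.mem_sup_left
    intro x y hxy
    rw [Lm_coe', LmM_apply]
    have hne : x ≠ y := fun e => by rw [e] at hxy; exact lt_irrefl _ hxy
    rw [Matrix.one_apply_ne hne, if_neg]
    · ring
    · rintro ⟨rfl, rfl⟩
      omega
  · apply mem_sup_of_isLow
    intro x y hxy
    rw [Lm_coe', LmM_apply]
    have hne : x ≠ y := fun e => by rw [e] at hxy; exact lt_irrefl _ hxy
    rw [Matrix.one_apply_ne hne, if_neg]
    · ring
    · rintro ⟨rfl, rfl⟩
      omega

/-- PIECE GEN of S2545 -/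
theorem bor_sup_mon {m : ℕ} {F : Type*} [Field F] : bor m F ⊔ mon m F = ⊤ := by
  rw [eq_top_iff, ← closure_elemSet (I := Fin m) (K := F), Subgroup.closure_le]
  rintro g (⟨a, b, t, hab, hab', rfl⟩ | ⟨a, t, rfl⟩)
  · exact Tm_mem hab hab' t
  · exact Lm_mem a t

end Cfsg.Agent.Helper23.SpBNGen
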