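import Mathlib
import Cfsg.Prelude
import Cfsg.Agent.Lib.Helper24.CoprimeDegree
import Cfsg.Agent.Lib.Helper24.CharHom
import Cfsg.Agent.S0931
import Cfsg.Agent.Lib.Helper24.GlaubPGroup
import Cfsg.Agent.Lib.Helper2.SympCard

/-!
# S2545 piece FINAL (helper23): from an irreducible character of `Sp_{2m}(q)` of degree `q^(m²)`
trivial on the centre to the Steinberg character of `PSp_{2m}(q)`
-/

set_option autoImplicit false
open Cfsg

namespace Cfsg.Agent.Helper23.SpStFinal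

open Cfsg.Agent.Helper24 Matrix

/-- the order of `PSp_{2m}(q)` divides `q^(m²) * M` with `M` prime to `p` -/
theorem card_PSp_dvd {F : Type*} [Field F] [Fintype F] (p : ℕ) [Fact p.Prime] [CharP F p] (m : ℕ) :
    ∃ M : ℕ, p.Coprime M ∧ Nat.card (Cfsg.PSp m F) ∣ Fintype.card F ^ (m ^ 2) * M := by
  classical
  set q := Fintype.card F with hq
  have hq1 : 1 ≤ q := Fintype.card_pos
  have hpq : p ∣ q := by
    obtain ⟨k, _, hk⟩ := FiniteField.card F p
    rw [hq, hk]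
    exact dvd_pow_self p k.ne_zero
  refine ⟨∏ i ∈ Finset.range m, (q ^ (2 * (i + 1)) - 1), ?_, ?_⟩
  · apply Nat.Coprime.prod_right
    intro i _
    have h1 : p ∣ q ^ (2 * (i + 1)) := dvd_trans hpq (dvd_pow_self q (by omega))
    have h2 : 1 ≤ q ^ (2 * (i + 1)) := Nat.one_le_pow _ _ hq1
    rw [Nat.Prime.coprime_iff_not_dvd (Fact.out : p.Prime)]
    intro h3
    have h4 : p ∣ q ^ (2 * (i + 1)) - (q ^ (2 * (i + 1)) - 1) := Nat.dvd_sub h1 h3
    have h5 : q ^ (2 * (i + 1)) - (q ^ (2 * (i + 1)) - 1) = 1 := by omega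
    rw [h5] at h4
    exact (Fact.out : p.Prime).one_lt.ne' (Nat.dvd_one.1 h4)
  · rw [← Cfsg.Agent.Helper2.Symp.card_symplecticGroup (F := F) m]
    show Nat.card (Matrix.symplecticGroup (Fin m) F ⧸
      Subgroup.center (Matrix.symplecticGroup (Fin m) F)) ∣ _
    rw [← Subgroup.index_eq_card]
    exact Subgroup.index_dvd_card _

theorem s2545_of_char {F : Type*} [Field F] [Fintype F] (p : ℕ) [Fact p.Prime] [CharP F p]
    (m : ℕ) (hm : 1 ≤ m) (χ : Matrix.symplecticGroup (Fin m) F → ℂ)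
    (hχ : Cfsg.IsIrrCharacter (Matrix.symplecticGroup (Fin m) F) χ)
    (h1 : χ 1 = ((Fintype.card F ^ (m ^ 2) : ℕ) : ℂ))
    (hz : ∀ z ∈ Subgroup.center (Matrix.symplecticGroup (Fin m) F), χ z = χ 1) :
    ∃ ψ : Cfsg.PSp m F → ℂ, Cfsg.IsIrrCharacter (Cfsg.PSp m F) ψ ∧
      ∀ P : Sylow p (Cfsg.PSp m F), ψ 1 = Nat.card P ∧
        ∀ x : Cfsg.PSp m F, x ∈ P → x ≠ 1 → ψ x = 0 := by
  classical
  have _ := hm
  have hp : p.Prime := Fact.out
  obtain ⟨ψ, hψ, hχψ⟩ := exists_deflate (Subgroup.center (Matrix.symplecticGroup (Fin m) F)) hχ hz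
  refine ⟨ψ, hψ, ?_⟩
  intro P
  have hψ1 : ψ 1 = ((Fintype.card F ^ (m ^ 2) : ℕ) : ℂ) := by
    have h2 := congrFun hχψ 1
    rw [Function.comp_apply, h1] at h2
    rw [h2]
    rfl
  have hdeg : Cfsg.charDegree ψ = Fintype.card F ^ (m ^ 2) := charDegree_natCast _ hψ1
  obtain ⟨k, _, hk⟩ := FiniteField.card F p
  have hdvd1 : Fintype.card F ^ (m ^ 2) ∣ Nat.card (Cfsg.PSp m F) := by
    rw [← hdeg]
    exact charDegree_dvd_card hψ
  have hPcard := P.card_eq_multiplicity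
  have hP1 : Fintype.card F ^ (m ^ 2) ∣ Nat.card P := by
    rw [hPcard, hk, ← pow_mul]
    apply pow_dvd_pow
    rw [hk, ← pow_mul] at hdvd1
    exact (Nat.Prime.pow_dvd_iff_le_factorization hp (Nat.card_pos).ne').1 hdvd1
  obtain ⟨M, hM, hdvd2⟩ := card_PSp_dvd (F := F) p m
  have hP2 : Nat.card P ∣ Fintype.card F ^ (m ^ 2) := by
    have h3 : Nat.card P ∣ Fintype.card F ^ (m ^ 2) * M :=
      dvd_trans (Subgroup.card_subgroup_dvd_card _) hdvd2
    have h4 : (Nat.card P).Coprime M := by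
      rw [hPcard]
      exact Nat.Coprime.pow_left _ hM
    exact h4.dvd_of_dvd_mul_right h3
  have hPeq : Nat.card P = Fintype.card F ^ (m ^ 2) := Nat.dvd_antisymm hP2 hP1
  constructor
  · rw [hψ1, hPeq]
  · intro x hx hx1
    obtain ⟨Mod, hMod⟩ := Cfsg.Agent.Helper24.Glaub.exists_isPModular hp
    have hdef : ¬ p ∣ Nat.card (Cfsg.PSp m F) / Cfsg.charDegree ψ := by
      rw [hdeg, ← hPeq]
      have h5 : Nat.card (Cfsg.PSp m F) / Nat.card P =
          (P : Subgroup (Cfsg.PSp m F)).index := by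
        rw [← Subgroup.card_mul_index (P : Subgroup (Cfsg.PSp m F)),
          Nat.mul_div_cancel_left _ Nat.card_pos]
      rw [h5]
      exact P.not_dvd_index
    have hord : p ∣ orderOf x := by
      obtain ⟨j, hj⟩ := (IsPGroup.iff_orderOf.1 P.2) ⟨x, hx⟩
      rw [← Subgroup.orderOf_coe] at hj
      have hj' : orderOf x = p ^ j := hj
      rw [hj']
      cases j with
      | zero =>
        exfalso
        rw [pow_zero, orderOf_eq_one_iff] at hj'
        exact hx1 hj'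
      | succ j => exact dvd_pow_self p (Nat.succ_ne_zero j)
    exact Cfsg.Agent.S0931.eq_zero_of_defect_zero hMod ⟨ψ, hψ⟩ hdef hord

end Cfsg.Agent.Helper23.SpStFinal
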