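import Mathlib
import Cfsg.Prelude
import Cfsg.Agent.Lib.Helper24.CoprimeDegree
import Cfsg.Agent.Lib.Helper24.CharHom
import Cfsg.Agent.S0931
import Cfsg.Agent.Lib.Helper24.GlaubPGroup

/-!
# S2546 piece FINAL (helper23): abstract transfer of a Steinberg-like character
along an isomorphism and down to the central quotient
-/

set_option autoImplicit false
set_option linter.style.haveILetI false
open Cfsg

namespace Cfsg.Agent.Helper13.SuP

open Cfsg.Agent.Helper24

/-! PIECE FINAL -/
theorem steinberg_transfer {G : Type*} {H : Type*} [Group G] [Group H] [Finite G] (e : G ≃* H)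
    (p : ℕ) [Fact p.Prime] (U : Sylow p G) (χ : G → ℂ) (hχ : Cfsg.IsIrrCharacter G χ)
    (h1 : χ 1 = (Nat.card U : ℂ)) (hz : ∀ z ∈ Subgroup.center G, χ z = χ 1) :
    ∃ ψ : H ⧸ Subgroup.center H → ℂ, Cfsg.IsIrrCharacter (H ⧸ Subgroup.center H) ψ ∧
      ∀ P : Sylow p (H ⧸ Subgroup.center H), ψ 1 = Nat.card P ∧
        ∀ x : H ⧸ Subgroup.center H, x ∈ P → x ≠ 1 → ψ x = 0 := by
  classical
  have hp : p.Prime := Fact.out
  have : Finite H := Finite.of_equiv G e.toEquiv
  letI : Fintype (H ⧸ Subgroup.center H) := Fintype.ofFinite _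
  -- transport to `H`
  have hχ' : Cfsg.IsIrrCharacter H (χ ∘ e.symm.toMonoidHom) :=
    isIrrCharacter_comp_of_surjective e.symm.toMonoidHom e.symm.surjective hχ
  have hz' : ∀ z ∈ Subgroup.center H, (χ ∘ e.symm.toMonoidHom) z = (χ ∘ e.symm.toMonoidHom) 1 := by
    intro z hzc
    show χ (e.symm z) = χ (e.symm 1)
    rw [map_one]
    apply hz
    rw [Subgroup.mem_center_iff] at hzc ⊢
    intro g
    have := hzc (e g)
    apply e.injective
    rw [map_mul, map_mul, e.apply_symm_apply]
    exact this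
  obtain ⟨ψ, hψ, hχψ⟩ := exists_deflate (Subgroup.center H) hχ' hz'
  refine ⟨ψ, hψ, ?_⟩
  intro P
  have hψ1 : ψ 1 = ((Nat.card U : ℕ) : ℂ) := by
    have h2 := congrFun hχψ 1
    rw [Function.comp_apply, Function.comp_apply] at h2
    have h3 : χ (e.symm.toMonoidHom 1) = χ 1 := by rw [map_one]
    rw [h3, h1] at h2
    rw [h2]
    rfl
  have hdeg : Cfsg.charDegree ψ = Nat.card U := charDegree_natCast _ hψ1
  have hdvd1 : Nat.card U ∣ Nat.card (H ⧸ Subgroup.center H) := by
    rw [← hdeg]
    exact charDegree_dvd_card hψ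
  have hUcard := U.card_eq_multiplicity
  have hPcard := P.card_eq_multiplicity
  have hP1 : Nat.card U ∣ Nat.card P := by
    rw [hPcard, hUcard]
    apply pow_dvd_pow
    rw [hUcard] at hdvd1
    exact (Nat.Prime.pow_dvd_iff_le_factorization hp (Nat.card_pos).ne').1 hdvd1
  have hP2 : Nat.card P ∣ Nat.card U := by
    have h3 : Nat.card (H ⧸ Subgroup.center H) ∣ Nat.card G := by
      rw [Nat.card_congr e.toEquiv, ← Subgroup.index_eq_card]
      exact Subgroup.index_dvd_card _
    have h4 : Nat.card P ∣ Nat.card G :=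
      dvd_trans (Subgroup.card_subgroup_dvd_card _) h3
    rw [hPcard] at h4 ⊢
    rw [hUcard]
    apply pow_dvd_pow
    exact (Nat.Prime.pow_dvd_iff_le_factorization hp (Nat.card_pos).ne').1 h4
  have hPeq : Nat.card P = Nat.card U := Nat.dvd_antisymm hP2 hP1
  constructor
  · rw [hψ1, hPeq]
  · intro x hx hx1
    obtain ⟨Mod, hMod⟩ := Cfsg.Agent.Helper24.Glaub.exists_isPModular hp
    have hdef : ¬ p ∣ Nat.card (H ⧸ Subgroup.center H) / Cfsg.charDegree ψ := by
      rw [hdeg, ← hPeq]
      have h5 : Nat.card (H ⧸ Subgroup.center H) / Nat.card P =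
          (P : Subgroup (H ⧸ Subgroup.center H)).index := by
        rw [← Subgroup.card_mul_index (P : Subgroup (H ⧸ Subgroup.center H)),
          Nat.mul_div_cancel_left _ Nat.card_pos]
      rw [h5]
      exact P.not_dvd_index
    have hord : p ∣ orderOf x := by
      obtain ⟨j, hj⟩ := (IsPGroup.iff_orderOf.1 P.2) ⟨x, hx⟩
      rw [← Subgroup.orderOf_coe] at hj
      have hj' : orderOf x = p ^ j := hj
      rw [hj']
      cases j with
      | zero =>
        exfalso
        rw [pow_zero, orderOf_eq_one_iff] at hj'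
        exact hx1 hj'
      | succ j => exact dvd_pow_self p (Nat.succ_ne_zero j)
    exact Cfsg.Agent.S0931.eq_zero_of_defect_zero hMod ⟨ψ, hψ⟩ hdef hord

end Cfsg.Agent.Helper13.SuP
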