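import Mathlib
import Cfsg.Prelude
import Cfsg.Agent.S0308
import Cfsg.Agent.Lib.Helper13.SdAbs

/-!
# S2548 piece NOTMEM (helper23): an element normalising `B` that is not congruent to an element of `N`
modulo `B` does not lie in `B ⊔ N` (Bruhat decomposition).
-/

set_option autoImplicit false

namespace Cfsg.Agent.Helper13.SdP

theorem not_mem_sup_of_normalizes {G : Type*} [Group G] {B N : Subgroup G} {S : Set G}
    (h : BNLoc B N S) (r : G) (hr : ∀ b ∈ B, r * b * r⁻¹ ∈ B) (hN : ∀ n ∈ N, n * r⁻¹ ∉ B) :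
    r ∉ B ⊔ N := by
  intro hmem
  obtain ⟨n, hn, hg⟩ := Cfsg.Agent.S0308.all_mem h.pair ⟨r, hmem⟩
  rw [DoubleCoset.mem_doubleCoset] at hg
  obtain ⟨x, hx, y, hy, e⟩ := hg
  have e' : r = (x : G) * (n : G) * (y : G) := congrArg Subtype.val e
  have hx' : (x : G) ∈ B := hx
  have hy' : (y : G) ∈ B := hy
  have hn' : (n : G) ∈ N := hn
  apply hN (n : G) hn'
  have : (n : G) * r⁻¹ = (x : G)⁻¹ * (r * (y : G)⁻¹ * r⁻¹) := by
    rw [e']
    group
  rw [this]
  exact B.mul_mem (B.inv_mem hx') (hr _ (B.inv_mem hy'))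

end Cfsg.Agent.Helper13.SdP
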