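import Mathlib
import Cfsg.Prelude
import Cfsg.Agent.Lib.Helper23.SuStFinal
import Cfsg.Agent.Lib.Helper24.Cd2Basic
import Cfsg.Agent.Lib.Helper24.CharLinear

/-!
# S2548, degenerate case: the abstract part (helper23)

A finite group with an abelian subgroup `A` of exponent `3` and index at most `2` which is
inverted by the elements outside it (a generalized dihedral group) satisfies the "Steinberg
character" statement at the prime `2` for its central quotient.
-/

set_option autoImplicit false
set_option linter.style.haveILetI false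
open Cfsg

namespace Cfsg.Agent.Helper13.SdP

open Cfsg.Agent.Helper24

theorem dih_steinberg {Ω : Type*} [Group Ω] [Finite Ω] (A : Subgroup Ω)
    (hA : ∀ a ∈ A, ∀ b ∈ A, a * b = b * a) (h3 : ∀ a ∈ A, a ^ 3 = 1)
    (hinv : ∀ t, t ∉ A → ∀ a ∈ A, t * a * t⁻¹ = a⁻¹)
    (hidx : ∀ s t, s ∉ A → t ∉ A → s * t ∈ A) :
    ∃ ψ : Ω ⧸ Subgroup.center Ω → ℂ, Cfsg.IsIrrCharacter (Ω ⧸ Subgroup.center Ω) ψ ∧
      ∀ P : Sylow 2 (Ω ⧸ Subgroup.center Ω), ψ 1 = Nat.card P ∧
        ∀ x : Ω ⧸ Subgroup.center Ω, x ∈ P → x ≠ 1 → ψ x = 0 := by
  classical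
  by_cases hc : ∀ a b : Ω, a * b = b * a
  · have htop : Subgroup.center Ω = ⊤ := by
      ext z
      simp only [Subgroup.mem_center_iff, Subgroup.mem_top, iff_true]
      intro g
      exact hc g z
    have hsub : Subsingleton (Ω ⧸ Subgroup.center Ω) := by
      rw [htop]
      exact QuotientGroup.subsingleton_quotient_top
    refine ⟨fun _ => 1, isIrrCharacter_one, fun P => ⟨?_, ?_⟩⟩
    · have : Nat.card P = 1 := by
        have : Subsingleton P := ⟨fun a b => Subtype.ext (Subsingleton.elim _ _)⟩
        exact Nat.card_of_subsingleton (1 : P)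
      rw [this]
      simp
    · intro x _ hx
      exact absurd (Subsingleton.elim x 1) hx
  · push Not at hc
    obtain ⟨a0, b0, hab⟩ := hc
    have hne : ∃ t, t ∉ A := by
      by_contra h
      push Not at h
      exact hab (hA a0 (h a0) b0 (h b0))
    obtain ⟨t0, ht0⟩ := hne
    have hidx2 : A.index = 2 := by
      rw [Subgroup.index_eq_two_iff]
      refine ⟨t0, fun b => ?_⟩
      by_cases hb : b ∈ A
      · right
        refine ⟨hb, fun hbt => ht0 ?_⟩
        have := A.mul_mem (A.inv_mem hb) hbt
        rwa [inv_mul_cancel_left] at this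
      · left
        exact ⟨hidx b t0 hb ht0, hb⟩
    obtain ⟨χ, hχ, hdeg⟩ := Cd2.exists_nonlinear ⟨a0, b0, hab⟩
    have hle := Cd2.degree_le_index_of_abelian A hA hχ
    have hpos := charDegree_pos hχ
    have hd2 : charDegree χ = 2 := by omega
    have hA3 : IsPGroup 3 A := by
      intro g
      refine ⟨1, ?_⟩
      apply Subtype.ext
      rw [pow_one]
      simpa using h3 g g.2
    obtain ⟨n, hn⟩ := IsPGroup.iff_card.mp hA3
    have hcard : Nat.card Ω = 2 * 3 ^ n := by
      rw [← A.index_mul_card, hidx2, hn]
    let U : Sylow 2 Ω := default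
    have hU : Nat.card U = 2 := by
      rw [Sylow.card_eq_multiplicity, hcard]
      have h2 : (2 * 3 ^ n).factorization 2 = 1 := by
        rw [Nat.factorization_mul (by norm_num) (by positivity), Nat.factorization_pow]
        simp [Nat.factorization_eq_zero_of_not_dvd (show ¬ 2 ∣ 3 by norm_num),
          Nat.Prime.factorization_self Nat.prime_two]
      rw [h2, pow_one]
    have hsq : ∀ a ∈ A, a * a = 1 → a = 1 := by
      intro a ha h2
      have h := h3 a ha
      rw [pow_succ, pow_two, h2, one_mul] at h
      exact h
    have hz : ∀ z ∈ Subgroup.center Ω, χ z = χ 1 := by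
      intro z hz
      rw [Subgroup.mem_center_iff] at hz
      have hz1 : z = 1 := by
        by_cases hzA : z ∈ A
        · apply hsq z hzA
          have h1 := hinv t0 ht0 z hzA
          rw [hz t0, mul_inv_cancel_right] at h1
          calc z * z = z * z⁻¹ := by rw [← h1]
            _ = 1 := mul_inv_cancel z
        · exfalso
          have hA1 : ∀ a ∈ A, a = 1 := by
            intro a ha
            apply hsq a ha
            have h1 := hinv z hzA a ha
            rw [← hz a, mul_inv_cancel_right] at h1
            calc a * a = a * a⁻¹ := by rw [← h1]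
              _ = 1 := mul_inv_cancel a
          have ht2 : t0 * t0 = 1 := hA1 _ (hidx t0 t0 ht0 ht0)
          have hall : ∀ g : Ω, g = 1 ∨ g = t0 := by
            intro g
            by_cases hg : g ∈ A
            · left; exact hA1 g hg
            · right
              have h1 := hA1 _ (hidx g t0 hg ht0)
              calc g = g * (t0 * t0) := by rw [ht2, mul_one]
                _ = (g * t0) * t0 := by rw [mul_assoc]
                _ = t0 := by rw [h1, one_mul]
          apply hab
          rcases hall a0 with h | h <;> rcases hall b0 with h' | h' <;> rw [h, h'] <;> simp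
      rw [hz1]
    have h1 : χ 1 = (Nat.card U : ℂ) := by
      rw [irr_one_eq_charDegree hχ, hd2, hU]
    exact Cfsg.Agent.Helper13.SuP.steinberg_transfer (MulEquiv.refl Ω) 2 U χ hχ h1 hz

end Cfsg.Agent.Helper13.SdP
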