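import Mathlib
import Cfsg.Prelude
import Cfsg.Agent.S2566
import Cfsg.Agent.Lib.Helper13.IsomFieldMap
import Cfsg.Agent.Lib.Helper23.SdDihAbs

/-!
# S2548, degenerate case `(m, q) = (2, 2)` (helper23)

`Ω⁺₄(2) = [O⁺₄(2), O⁺₄(2)]` has order `18` (generalized dihedral group of `C₃ × C₃`); its central
quotient has an irreducible character of degree `2` vanishing on the involutions.

We use the explicit description of `O⁺₄(ZMod 2)` of `Cfsg.Agent.S2566` (`φL`, `φR`, `TO`), the sign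
of the permutation action on the six nonsingular vectors, the transport of the isometry group along
`F ≃+* ZMod 2` (helper13's `isomMapEquiv`) and the abstract lemma `dih_steinberg`.
-/

set_option autoImplicit false
set_option linter.style.haveILetI false
open Cfsg

namespace Cfsg.Agent.Helper13.SdP

open Cfsg.Agent.S2566 Matrix Equiv

/-- the nonsingular vectors -/
abbrev NS : Type := {v : V4 // Qf v = 1}

instance actNS : MulAction O4 NS where
  smul g v := ⟨(g : GL I4 (ZMod 2)) • v.1, by rw [Qf_smul]; exact v.2⟩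
  one_smul v := Subtype.ext (one_smul (GL I4 (ZMod 2)) v.1)
  mul_smul g h v := Subtype.ext (mul_smul (g : GL I4 (ZMod 2)) (h : GL I4 (ZMod 2)) v.1)

/-- the sign of the permutation of the six nonsingular vectors -/
def sgnS : O4 →* ℤˣ := Equiv.Perm.sign.comp (MulAction.toPermHom O4 NS)

set_option maxRecDepth 1000000 in
theorem sgnS_L : sgnS (φL (swap 0 1)) = -1 := by decide

set_option maxRecDepth 1000000 in
theorem sgnS_R : sgnS (φR (swap 0 1)) = -1 := by decide

theorem sgnS_φL (σ : Perm (Fin 3)) : sgnS (φL σ) = Equiv.Perm.sign σ := by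
  have h : sgnS.comp φL = Equiv.Perm.sign := by
    apply Equiv.Perm.eq_sign_of_surjective_hom
    intro u
    rcases Int.units_eq_one_or u with rfl | rfl
    · exact ⟨1, by simp⟩
    · exact ⟨swap 0 1, sgnS_L⟩
  exact DFunLike.congr_fun h σ

theorem sgnS_φR (σ : Perm (Fin 3)) : sgnS (φR σ) = Equiv.Perm.sign σ := by
  have h : sgnS.comp φR = Equiv.Perm.sign := by
    apply Equiv.Perm.eq_sign_of_surjective_hom
    intro u
    rcases Int.units_eq_one_or u with rfl | rfl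
    · exact ⟨1, by simp⟩
    · exact ⟨swap 0 1, sgnS_R⟩
  exact DFunLike.congr_fun h σ

theorem sd_commutator_le_of_index_two {G : Type*} [Group G] (T : Subgroup G) (hT : T.index = 2) :
    commutator G ≤ T := by
  have hn : T.Normal := Subgroup.normal_of_index_eq_two hT
  rw [← Subgroup.Normal.quotient_commutative_iff_commutator_le]
  have hc : Nat.card (G ⧸ T) = 2 := by
    rw [← Subgroup.index_eq_card, hT]
  have : Fact (Nat.Prime 2) := ⟨Nat.prime_two⟩
  exact (isCyclic_of_prime_card hc).isMulCommutative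

theorem sd_map_mem_commutator {G H : Type*} [Group G] [Group H] (f : G →* H) {x : G}
    (hx : x ∈ commutator G) : f x ∈ commutator H := by
  have h1 : (commutator G).map f ≤ commutator H := by
    rw [commutator_def, commutator_def, Subgroup.map_commutator]
    exact Subgroup.commutator_mono le_top le_top
  exact h1 (Subgroup.mem_map_of_mem f hx)

theorem comm_O4_le : commutator O4 ≤ φLR.range := by
  rw [φLR_range]
  exact sd_commutator_le_of_index_two _ index_sup.1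

/-- the elements of the commutator subgroup of `O⁺₄(2)` -/
theorem comm_O4_form (x : O4) (hx : x ∈ commutator O4) :
    ∃ σ τ : Perm (Fin 3), Equiv.Perm.sign σ = Equiv.Perm.sign τ ∧ x = φLR (σ, τ) := by
  obtain ⟨⟨σ, τ⟩, rfl⟩ := comm_O4_le hx
  refine ⟨σ, τ, ?_, rfl⟩
  have h1 : sgnS (φLR (σ, τ)) = 1 := Abelianization.commutator_subset_ker sgnS hx
  have h2 : φLR (σ, τ) = φL σ * φR τ := rfl
  rw [h2, map_mul, sgnS_φL, sgnS_φR] at h1
  rcases Int.units_eq_one_or (Equiv.Perm.sign σ) with h | h <;>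
    rcases Int.units_eq_one_or (Equiv.Perm.sign τ) with h' | h' <;> rw [h, h'] at h1 ⊢ <;>
    simp at h1

theorem s3_comm : ∀ σ σ' : Perm (Fin 3), Equiv.Perm.sign σ = 1 → Equiv.Perm.sign σ' = 1 →
    σ * σ' = σ' * σ := by decide

theorem s3_cube : ∀ σ : Perm (Fin 3), Equiv.Perm.sign σ = 1 → σ ^ 3 = 1 := by decide

theorem s3_inv : ∀ σ σ' : Perm (Fin 3), Equiv.Perm.sign σ = -1 → Equiv.Perm.sign σ' = 1 →
    σ * σ' * σ⁻¹ = σ'⁻¹ := by decide

section Main

variable {F : Type*} [Field F] [Fintype F]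

/-- **The degenerate case `(m, q) = (2, 2)` of S2548.** -/
theorem steinberg_plus_two_two (hF : Fintype.card F = 2) (p : ℕ) [Fact p.Prime] (hp : p = 2) :
    ∃ χ : Cfsg.POmega F (Cfsg.quadFormPlus 2 F) → ℂ,
      Cfsg.IsIrrCharacter (Cfsg.POmega F (Cfsg.quadFormPlus 2 F)) χ ∧
      ∀ P : Sylow p (Cfsg.POmega F (Cfsg.quadFormPlus 2 F)), χ 1 = Nat.card P ∧
        ∀ x : Cfsg.POmega F (Cfsg.quadFormPlus 2 F), x ∈ P → x ≠ 1 → χ x = 0 := by
  subst hp
  classical
  let e : F ≃+* ZMod 2 := (ZMod.ringEquivOfPrime F Nat.prime_two hF).symm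
  let E : Cfsg.isometryGroup F (Cfsg.quadFormPlus 2 F) ≃* O4 :=
    isomMapEquiv e _ _ (quadFormPlus_map e 2)
  have hform : ∀ x : Cfsg.Omega F (Cfsg.quadFormPlus 2 F), ∃ σ τ : Perm (Fin 3),
      Equiv.Perm.sign σ = Equiv.Perm.sign τ ∧ E x.1 = φLR (σ, τ) := fun x =>
    comm_O4_form (E x.1) (sd_map_mem_commutator E.toMonoidHom x.2)
  let A : Subgroup (Cfsg.Omega F (Cfsg.quadFormPlus 2 F)) :=
    { carrier := {x | ∃ σ τ : Perm (Fin 3), Equiv.Perm.sign σ = 1 ∧ Equiv.Perm.sign τ = 1 ∧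
        E x.1 = φLR (σ, τ)}
      one_mem' := ⟨1, 1, by simp, by simp, by
        rw [OneMemClass.coe_one, map_one]
        exact (map_one φLR).symm⟩
      mul_mem' := by
        rintro a b ⟨σ, τ, h1, h2, h3⟩ ⟨σ', τ', h1', h2', h3'⟩
        refine ⟨σ * σ', τ * τ', by simp [h1, h1'], by simp [h2, h2'], ?_⟩
        rw [Subgroup.coe_mul, map_mul, h3, h3', ← map_mul]
        rfl
      inv_mem' := by
        rintro a ⟨σ, τ, h1, h2, h3⟩
        refine ⟨σ⁻¹, τ⁻¹, by simp [h1], by simp [h2], ?_⟩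
        rw [Subgroup.coe_inv, map_inv, h3, ← map_inv]
        rfl }
  have hout : ∀ t : Cfsg.Omega F (Cfsg.quadFormPlus 2 F), t ∉ A → ∃ σ τ : Perm (Fin 3),
      Equiv.Perm.sign σ = -1 ∧ Equiv.Perm.sign τ = -1 ∧ E t.1 = φLR (σ, τ) := by
    intro t ht
    obtain ⟨σ, τ, hs, hE⟩ := hform t
    rcases Int.units_eq_one_or (Equiv.Perm.sign σ) with h | h
    · exact absurd (show t ∈ A from ⟨σ, τ, h, by rw [← hs, h], hE⟩) ht
    · exact ⟨σ, τ, h, by rw [← hs, h], hE⟩
  have hA : ∀ a ∈ A, ∀ b ∈ A, a * b = b * a := by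
    rintro a ⟨σ, τ, h1, h2, h3⟩ b ⟨σ', τ', h1', h2', h3'⟩
    apply Subtype.ext
    apply E.injective
    rw [Subgroup.coe_mul, Subgroup.coe_mul, map_mul, map_mul, h3, h3', ← map_mul, ← map_mul]
    congr 1
    exact Prod.ext (s3_comm σ σ' h1 h1') (s3_comm τ τ' h2 h2')
  have h3 : ∀ a ∈ A, a ^ 3 = 1 := by
    rintro a ⟨σ, τ, h1, h2, h3⟩
    apply Subtype.ext
    apply E.injective
    rw [Subgroup.coe_pow, map_pow, h3, ← map_pow, OneMemClass.coe_one, map_one]
    have : ((σ, τ) : Perm (Fin 3) × Perm (Fin 3)) ^ 3 = 1 :=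
      Prod.ext (s3_cube σ h1) (s3_cube τ h2)
    rw [this, map_one]
  have hinv : ∀ t, t ∉ A → ∀ a ∈ A, t * a * t⁻¹ = a⁻¹ := by
    rintro t ht a ⟨σ', τ', h1', h2', h3'⟩
    obtain ⟨σ, τ, h1, h2, h3⟩ := hout t ht
    apply Subtype.ext
    apply E.injective
    rw [Subgroup.coe_mul, Subgroup.coe_mul, Subgroup.coe_inv, Subgroup.coe_inv, map_mul, map_mul,
      map_inv, map_inv, h3, h3', ← map_inv, ← map_inv, ← map_mul, ← map_mul]
    congr 1
    exact Prod.ext (s3_inv σ σ' h1 h1') (s3_inv τ τ' h2 h2')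
  have hidx : ∀ s t, s ∉ A → t ∉ A → s * t ∈ A := by
    intro s t hs ht
    obtain ⟨σ, τ, h1, h2, h3⟩ := hout s hs
    obtain ⟨σ', τ', h1', h2', h3'⟩ := hout t ht
    refine ⟨σ * σ', τ * τ', by simp [h1, h1'], by simp [h2, h2'], ?_⟩
    rw [Subgroup.coe_mul, map_mul, h3, h3', ← map_mul]
    rfl
  have : Finite (Cfsg.Omega F (Cfsg.quadFormPlus 2 F)) := inferInstance
  exact dih_steinberg A hA h3 hinv hidx

/-- the same with the characteristic as in the statement of S2548 -/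
theorem steinberg_plus_two_two' (p : ℕ) [Fact p.Prime] [CharP F p] (hF : Fintype.card F = 2) :
    ∃ χ : Cfsg.POmega F (Cfsg.quadFormPlus 2 F) → ℂ,
      Cfsg.IsIrrCharacter (Cfsg.POmega F (Cfsg.quadFormPlus 2 F)) χ ∧
      ∀ P : Sylow p (Cfsg.POmega F (Cfsg.quadFormPlus 2 F)), χ 1 = Nat.card P ∧
        ∀ x : Cfsg.POmega F (Cfsg.quadFormPlus 2 F), x ∈ P → x ≠ 1 → χ x = 0 := by
  have hp : p = 2 := by
    have h0 : ((Fintype.card F : ℕ) : F) = 0 := Nat.cast_card_eq_zero F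
    rw [hF] at h0
    have hdvd : p ∣ 2 := (CharP.cast_eq_zero_iff F p 2).mp h0
    exact (Nat.prime_dvd_prime_iff_eq (Fact.out : p.Prime) Nat.prime_two).mp hdvd
  exact steinberg_plus_two_two hF p hp

/-- PIECE D22 of `plans/SdSkel.lean.txt`, exact signature -/
theorem plus_two_two (hF : Fintype.card F = 2) (p : ℕ) [Fact p.Prime] [CharP F p] :
    ∃ χ : Cfsg.POmega F (Cfsg.quadFormPlus 2 F) → ℂ,
      Cfsg.IsIrrCharacter (Cfsg.POmega F (Cfsg.quadFormPlus 2 F)) χ ∧
      ∀ P : Sylow p (Cfsg.POmega F (Cfsg.quadFormPlus 2 F)), χ 1 = Nat.card P ∧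
        ∀ x : Cfsg.POmega F (Cfsg.quadFormPlus 2 F), x ∈ P → x ≠ 1 → χ x = 0 :=
  steinberg_plus_two_two' p hF

end Main

end Cfsg.Agent.Helper13.SdP
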