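import Mathlib

/-!
# S3222: definitions for the `Z₂ × S₄` involution-centralizer problem

`W` is the model group `Z₂ × S₄`; `Loc t z v τ T` packages the local facts about the
centralizer `C = C_G(t) ≅ Z₂ × S₄` and the Sylow 2-subgroup `T ≤ C` (`T ≅ Z₂ × D₈`) that the
global argument uses.  In the model: `t0 = (1̄, 1)`, `z0 = (0, (0 2)(1 3))` (the generator of `T'`),
`v0 = (0, (0 1)(2 3))`, `τ0 = (0, (0 2))`, `T0 = C_W(z0)`.
-/

namespace Cfsg.Agent.Helper23.ZS4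

/-- The model group `Z₂ × S₄`. -/
abbrev W := Multiplicative (ZMod 2) × Equiv.Perm (Fin 4)

/-- Local data for `S3222`. -/
structure Loc {G : Type*} [Group G] (t z v τ : G) (T : Subgroup G) : Prop where
  card_C : Nat.card (Subgroup.centralizer ({t} : Set G)) = 48
  card_T : Nat.card T = 16
  T_le : T ≤ Subgroup.centralizer ({t} : Set G)
  ht : orderOf t = 2
  tT : t ∈ T
  hz : orderOf z = 2
  zT : z ∈ T
  cent_z : Subgroup.centralizer ({z} : Set G) = T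
  z_comm : z ∈ ⁅T, T⁆
  vT : v ∈ T
  v_ne : v ≠ z
  v_conj : ∃ c ∈ Subgroup.centralizer ({t} : Set G), v = c * z * c⁻¹
  zv_conj : ∃ c ∈ Subgroup.centralizer ({t} : Set G), z * v = c * z * c⁻¹
  comm_T : ∀ a ∈ T, ∀ b ∈ T, a * b * a⁻¹ * b⁻¹ = 1 ∨ a * b * a⁻¹ * b⁻¹ = z
  center_T : ∀ a ∈ T, (∀ b ∈ T, a * b = b * a) → a = 1 ∨ a = t ∨ a = z ∨ a = t * z
  hτ : orderOf τ = 2
  τT : τ ∈ T
  τv : τ * v * τ⁻¹ = z * v
  gen_T : Subgroup.closure ({t, v, τ} : Set G) = T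
  invol_T : ∀ d ∈ T, orderOf d = 2 →
    d = t ∨ d = z ∨ d = v ∨ d = z * v ∨ d = t * z ∨ d = t * v ∨ d = t * (z * v) ∨
      d = τ ∨ d = τ * z ∨ d = t * τ ∨ d = t * (τ * z)
  exD : ∃ D : Subgroup G, D ≤ T ∧ Nat.card D = 8 ∧ t ∉ D ∧ v ∈ D ∧ τ ∈ D ∧
    ∀ d ∈ D, orderOf d = 2 → d = z ∨ d = v ∨ d = z * v ∨ d = τ ∨ d = τ * z
  invol_C : Set.ncard {x : G | x ∈ Subgroup.centralizer ({t} : Set G) ∧ orderOf x = 2} = 19
  class_τ : Set.ncard {y : G | ∃ c ∈ Subgroup.centralizer ({t} : Set G), y = c * τ * c⁻¹} = 6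
  class_tτ :
    Set.ncard {y : G | ∃ c ∈ Subgroup.centralizer ({t} : Set G), y = c * (t * τ) * c⁻¹} = 6

/-- The central involution of the model. -/
def t0 : W := (Multiplicative.ofAdd 1, 1)
/-- The generator of `T0'`. -/
def z0 : W := (1, Equiv.swap 0 2 * Equiv.swap 1 3)
/-- A second involution of the four-group `O₂(S₄)`. -/
def v0 : W := (1, Equiv.swap 0 1 * Equiv.swap 2 3)
/-- A transposition in `T0`. -/
def τ0 : W := (1, Equiv.swap 0 2)
/-- The Sylow 2-subgroup of the model: the centralizer of `z0`. -/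
def T0 : Subgroup W := Subgroup.centralizer ({z0} : Set W)

/-- The stabilizer of the point `i` in `A₆`. -/
def stabA (i : Fin 6) : Subgroup (alternatingGroup (Fin 6)) where
  carrier := {g | (g : Equiv.Perm (Fin 6)) i = i}
  mul_mem' := by
    intro a b ha hb
    simp only [Set.mem_ofPred_eq] at ha hb ⊢
    rw [Subgroup.coe_mul, Equiv.Perm.mul_apply, hb, ha]
  one_mem' := by simp
  inv_mem' := by
    intro a ha
    simp only [Set.mem_ofPred_eq] at ha ⊢
    rw [Subgroup.coe_inv, Equiv.Perm.inv_eq_iff_eq]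
    exact ha.symm

theorem mem_stabA {i : Fin 6} {g : alternatingGroup (Fin 6)} :
    g ∈ stabA i ↔ (g : Equiv.Perm (Fin 6)) i = i := Iff.rfl

end Cfsg.Agent.Helper23.ZS4
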