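import Mathlib
import Cfsg.Agent.Lib.Helper7.BG13R
import Cfsg.Agent.Lib.Helper18.BG13Q2
import Cfsg.Agent.Lib.Helper1.Coprime
import Cfsg.Agent.Lib.Helper20.MinInv
import Cfsg.Agent.Lib.Helper20.BG12A
import Cfsg.Agent.Lib.Helper22.BG13F

/-!
# Bender-Glauberman 13.7 (S1428), descent step (A2) (helper23)

`exists_noncentralizing`: in the descent of helper18's proof of BG 13.7, given the Sylow
`p`-subgroup `S ≥ P` of `H_σ` centralizing `Q₀` and normalized by `R`, there is an element `v` of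
prime power order `r'^k` in `C_H(R)` not centralizing `P`, with `r' < p` and `r' ∉ σ(H)`.
-/

set_option autoImplicit false
set_option linter.style.haveILetI false
set_option linter.unusedSectionVars false
set_option linter.unusedVariables false

namespace Cfsg.Agent.Helper23.BG13A2

open Cfsg Subgroup
open scoped commutatorElement
open Cfsg.Agent.Helper14.BGTrans Cfsg.Agent.Helper14.BGUniq
open Cfsg.Agent.Helper10 (IsPiNum)
open Cfsg.Agent.Helper15 (IsSylowIn isSylowIn_of_sylow_le isSylowIn_map_subtype isSylowIn_top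
  map_conj_eq_of_mem_normalizer map_conj_map_conj card_map_conj map_conj_one
  map_conj_map_conj_inv map_conj_inv_map_conj isPGroup_map_conj map_conj_mono
  map_conj_eq_self_of_mem exists_isSylowIn_ge exists_isSylowIn isSylowIn_of_not_dvd_relIndex)
open Cfsg.Agent.Helper22.BG13
open Cfsg.Agent.Helper18.BG13P
open Cfsg.Agent.Helper18.BG13Q (Hyps)

universe u

variable {G : Type u} [Group G] [Finite G]

omit [Finite G] in
theorem le_normalizer_of_conj_mem {H K : Subgroup G}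
    (h : ∀ g ∈ H, ∀ x ∈ K, g * x * g⁻¹ ∈ K) : H ≤ normalizer (K : Set G) := by
  intro g hg
  rw [Subgroup.mem_normalizer_iff]
  intro x
  refine ⟨h g hg x, fun hx => ?_⟩
  have := h g⁻¹ (H.inv_mem hg) _ hx
  have e : g⁻¹ * (g * x * g⁻¹) * g⁻¹⁻¹ = x := by group
  rwa [e] at this

/-- the normal `p`-complement `K'` of `H'`, for `p ∉ β(H)` -/
theorem exists_pcompl_commutator (h1414 : Hyp1414 G) {H : Subgroup G} (hH : IsCoatom H) {p : ℕ}
    [Fact p.Prime] (hpH : p ∣ Nat.card ↥H) (hpβ : p ∉ beta H) :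
    ∃ K' : Subgroup G, K' ≤ ⁅H, H⁆ ∧ (Nat.card ↥K').Coprime p ∧
      (∀ x ∈ ⁅H, H⁆, (orderOf x).Coprime p → x ∈ K') ∧ H ≤ normalizer (K' : Set G) := by
  have hp : p.Prime := Fact.out
  obtain ⟨hnpc, -, -⟩ := (h1414 H hH).2.2.2.2 p hp hpH hpβ
  obtain ⟨N, hNn, hNc, hNall⟩ := exists_normal_of_hasNormalPComplement hnpc
  set K' := N.map (⁅H, H⁆ : Subgroup G).subtype with hK'
  have hK'le : K' ≤ ⁅H, H⁆ := Subgroup.map_subtype_le _
  have hK'c : Nat.card ↥K' = Nat.card ↥N :=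
    Subgroup.card_map_of_injective (Subgroup.subtype_injective _)
  have hall : ∀ x ∈ ⁅H, H⁆, (orderOf x).Coprime p → x ∈ K' := by
    intro x hx hxo
    exact ⟨⟨x, hx⟩, hNall ⟨x, hx⟩ (by rwa [Subgroup.orderOf_mk]), rfl⟩
  have hcop : (Nat.card ↥K').Coprime p := by rw [hK'c]; exact hNc
  refine ⟨K', hK'le, hcop, hall, ?_⟩
  apply le_normalizer_of_conj_mem
  intro g hg x hx
  apply hall
  · have hgn : g ∈ normalizer ((⁅H, H⁆ : Subgroup G) : Set G) :=
      le_normalizer_commutator_of_le Subgroup.le_normalizer Subgroup.le_normalizer hg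
    exact (Subgroup.mem_normalizer_iff.mp hgn x).mp (hK'le hx)
  · have : orderOf (g * x * g⁻¹) = orderOf x := (MulAut.conj g).orderOf_eq x
    rw [this]
    exact Nat.Coprime.coprime_dvd_left (orderOf_dvd_card_of_mem hx) hcop

/-- a complement of the Sylow subgroup `S` in its normalizer, containing a given `p'`-subgroup -/
theorem exists_compl_normalizer (hG : IsMinSimpleOddOrder G) {S Y : Subgroup G} {p : ℕ}
    [Fact p.Prime] (hS : IsSylowIn p S ⊤) (hNtop : normalizer (S : Set G) ≠ ⊤)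
    (hY : Y ≤ normalizer (S : Set G)) (hYc : (Nat.card ↥Y).Coprime p) :
    ∃ V : Subgroup G, IsComplIn V S (normalizer (S : Set G)) ∧ Y ≤ V := by
  have hp : p.Prime := Fact.out
  have hsolv : Group.IsSolvable ↥(normalizer (S : Set G)) := isSolvable_of_ne_top hG hNtop
  obtain ⟨k, hk⟩ := hS.isPGroup.exists_card_eq
  have hnd : ¬ p ∣ S.relIndex (normalizer (S : Set G)) :=
    (hS.of_le Subgroup.le_normalizer le_top).not_dvd_relIndex
  apply exists_isComplIn_ge hsolv Subgroup.le_normalizer ?_ hY ?_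
  · rw [hk]
    exact Nat.Coprime.pow_left k ((Nat.Prime.coprime_iff_not_dvd hp).mpr hnd)
  · rw [hk]
    exact Nat.Coprime.pow_right k hYc


/-- if `K ≰ C` then some element of prime power order of `K` lies outside `C` -/
theorem exists_primePow_not_mem {K C : Subgroup G} (h : ¬ K ≤ C) :
    ∃ v ∈ K, v ∉ C ∧ ∃ ℓ k : ℕ, ℓ.Prime ∧ orderOf v = ℓ ^ k := by
  obtain ⟨v₀, hv₀K, hv₀C⟩ := SetLike.not_le_iff_exists.mp h
  have key : ∀ n : ℕ, ∀ v : G, orderOf v = n → v ∈ K → v ∉ C →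
      ∃ w ∈ K, w ∉ C ∧ ∃ ℓ k : ℕ, ℓ.Prime ∧ orderOf w = ℓ ^ k := by
    intro n
    induction n using Nat.strong_induction_on with
    | _ n ih =>
      intro v hvn hvK hvC
      have hn0 : n ≠ 0 := by rw [← hvn]; exact (orderOf_pos v).ne'
      have hn1 : n ≠ 1 := by
        intro h1
        rw [h1, orderOf_eq_one_iff] at hvn
        exact hvC (hvn ▸ C.one_mem)
      obtain ⟨ℓ, hℓ, hℓn⟩ := Nat.exists_prime_and_dvd hn1
      obtain ⟨k, m, hm, hnkm⟩ := Nat.exists_eq_pow_mul_and_not_dvd hn0 ℓ hℓ.ne_one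
      have hk0 : k ≠ 0 := by
        intro hk
        rw [hk, pow_zero, one_mul] at hnkm
        exact hm (hnkm ▸ hℓn)
      have hm0 : m ≠ 0 := by
        intro h0; rw [h0, mul_zero] at hnkm; exact hn0 hnkm
      have hℓk0 : ℓ ^ k ≠ 0 := pow_ne_zero k hℓ.ne_zero
      have hcop : (ℓ ^ k).Coprime m :=
        Nat.Coprime.pow_left k ((Nat.Prime.coprime_iff_not_dvd hℓ).mpr hm)
      have ho1 : orderOf (v ^ m) = ℓ ^ k := by
        rw [orderOf_pow_of_dvd hm0 (by rw [hvn, hnkm]; exact dvd_mul_left _ _), hvn, hnkm]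
        exact Nat.mul_div_cancel _ (Nat.pos_of_ne_zero hm0)
      have ho2 : orderOf (v ^ (ℓ ^ k)) = m := by
        rw [orderOf_pow_of_dvd hℓk0 (by rw [hvn, hnkm]; exact dvd_mul_right _ _), hvn, hnkm]
        exact Nat.mul_div_cancel_left _ (Nat.pos_of_ne_zero hℓk0)
      by_cases h1 : v ^ m ∈ C
      · have h2 : v ^ (ℓ ^ k) ∉ C := by
          intro h2
          apply hvC
          have hb := Nat.gcd_eq_gcd_ab (ℓ ^ k) m
          rw [hcop.gcd_eq_one] at hb
          have : v = (v ^ (ℓ ^ k)) ^ (Nat.gcdA (ℓ ^ k) m) * (v ^ m) ^ (Nat.gcdB (ℓ ^ k) m) := by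
            rw [← zpow_natCast v (ℓ ^ k), ← zpow_natCast v m, ← zpow_mul, ← zpow_mul, ← zpow_add,
              ← hb]
            simp
          rw [this]
          exact C.mul_mem (C.zpow_mem h2 _) (C.zpow_mem h1 _)
        have hlt : m < n := by
          rw [hnkm]
          have : 1 < ℓ ^ k := Nat.one_lt_pow hk0 hℓ.one_lt
          nlinarith [Nat.pos_of_ne_zero hm0]
        exact ih m hlt (v ^ (ℓ ^ k)) ho2 (K.pow_mem hvK _) h2
      · exact ⟨v ^ m, K.pow_mem hvK _, h1, ℓ, k, hℓ, ho1⟩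
  exact key _ v₀ rfl hv₀K hv₀C


omit [Finite G] in
/-- swap the two factors of a complement when one of them is normalized by the other -/
theorem isComplIn_swap {V S N : Subgroup G} (h : IsComplIn V S N)
    (hVS : V ≤ normalizer (S : Set G)) : IsComplIn S V N := by
  obtain ⟨hVN, hSN, hinf, hfac⟩ := h
  refine ⟨hSN, hVN, by rw [inf_comm]; exact hinf, ?_⟩
  intro m hm
  obtain ⟨a, ha, b, hb, rfl⟩ := hfac m hm
  refine ⟨a * b * a⁻¹, (Subgroup.mem_normalizer_iff.mp (hVS ha) b).mp hb, a, ha, by group⟩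

omit [Finite G] in
/-- an element of `K` normalizing `S`, where `S` normalizes `K` and `S ∩ K = 1`, centralizes `S` -/
theorem mem_centralizer_of_inf_eq_bot {S K : Subgroup G} (hSK : S ⊓ K = ⊥) {x : G}
    (hxS : x ∈ normalizer (S : Set G)) (hSK' : S ≤ normalizer (K : Set G)) (hxK : x ∈ K) :
    x ∈ centralizer (S : Set G) := by
  rw [Subgroup.mem_centralizer_iff]
  intro s hs
  have hs' : s ∈ S := hs
  have h1 : s * (x * s⁻¹ * x⁻¹) ∈ S :=
    S.mul_mem hs' ((Subgroup.mem_normalizer_iff.mp hxS s⁻¹).mp (S.inv_mem hs'))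
  have h2 : (s * x * s⁻¹) * x⁻¹ ∈ K :=
    K.mul_mem ((Subgroup.mem_normalizer_iff.mp (hSK' hs') x).mp hxK) (K.inv_mem hxK)
  have e : s * (x * s⁻¹ * x⁻¹) = (s * x * s⁻¹) * x⁻¹ := by group
  have h3 : (s * x * s⁻¹) * x⁻¹ ∈ S ⊓ K := ⟨e ▸ h1, h2⟩
  rw [hSK, Subgroup.mem_bot] at h3
  calc s * x = ((s * x * s⁻¹) * x⁻¹) * (x * s) := by group
    _ = x * s := by rw [h3, one_mul]

theorem exists_noncentralizing (h : Hyps G) {M H P R Q₀ S : Subgroup G} {p r q : ℕ}
    [Fact p.Prime] [Fact q.Prime]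
    (hM : IsCoatom M) (hH : IsCoatom H)
    (hconj : ∀ g : G, H ≠ M.map (MulAut.conj g).toMonoidHom)
    (hpM : p ∈ tau1 M) (hPM : P ≤ M) (hpH : p ∈ sigma H) (hpβ : p ∉ beta H)
    (hP : Nat.card ↥P = p) (hR : Nat.card ↥R = r) (hrH : r ∈ tau1 H) (hRH : R ≤ H)
    (hRP : R ≤ centralizer (P : Set G)) (hqM : q ∈ sigma M) (hqτ : q ∉ tau2 H)
    (hQ₀ : IsPGroup q ↥Q₀) (hQ₀1 : Q₀ ≠ ⊥) (hQ₀M : Q₀ ≤ sigmaCore M) (hQ₀H' : Q₀ ≤ ⁅H, H⁆)
    (hRQ₀ : R ≤ normalizer (Q₀ : Set G)) (hS : IsSylowIn p S ⊤) (hPS : P ≤ S)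
    (hSσ : S ≤ sigmaCore H) (hSQ₀ : S ≤ centralizer (Q₀ : Set G))
    (hRS : R ≤ normalizer (S : Set G)) :
    ∃ (v : G) (r' k : ℕ), r'.Prime ∧ orderOf v = r' ^ k ∧ v ∈ H ∧
      v ∈ centralizer (R : Set G) ∧ v ∉ centralizer (P : Set G) ∧ r' < p ∧ r' ∉ sigma H := by
  have hG := h.hG
  have hp : p.Prime := Fact.out
  have hq : q.Prime := Fact.out
  have hr : r.Prime := hrH.1
  have hpσM : p ∉ sigma M := hpM.2.1
  have hqp : q ≠ p := fun e => hpσM (e ▸ hqM)
  have hrσH : r ∉ sigma H := hrH.2.1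
  have hrp : r ≠ p := fun e => hrσH (e ▸ hpH)
  have hSH : S ≤ H := hSσ.trans (sigmaCore_le H)
  have hSH' : IsSylowIn p S H := hS.of_le hSH le_top
  have hNSH : normalizer (S : Set G) ≤ H := normalizer_le_of_mem_sigma hpH hSH'
  have hHtop : H ≠ ⊤ := hH.1
  have hNtop : normalizer (S : Set G) ≠ ⊤ := fun e => hHtop (top_le_iff.mp (e ▸ hNSH))
  have hpG : p ∣ Nat.card G := hpH.2.1.trans (Subgroup.card_subgroup_dvd_card H)
  have hp2 : p ≠ 2 := prime_ne_two_of_dvd hG hpG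
  have hpp : p ^ 1 < p ^ 2 := by
    have := hp.one_lt
    nlinarith
  obtain ⟨kS, hkS⟩ := hS.isPGroup.exists_card_eq
  -- `Q₀ R` is a `p'`-subgroup of `N_G(S)`
  have hQ₀S : Q₀ ≤ centralizer (S : Set G) := Subgroup.le_centralizer_iff.mp hSQ₀
  have hQ₀N : Q₀ ≤ normalizer (S : Set G) :=
    hQ₀S.trans (Subgroup.centralizer_le_normalizer (S : Set G))
  have hYN : Q₀ ⊔ R ≤ normalizer (S : Set G) := sup_le hQ₀N hRS
  have hYc : (Nat.card ↥(Q₀ ⊔ R : Subgroup G)).Coprime p := by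
    have h1 : Nat.card ↥(Q₀ ⊔ R : Subgroup G) ∣ Nat.card ↥Q₀ * Nat.card ↥R :=
      Cfsg.Agent.Helper7.card_sup_dvd_mul_of_le_normalizer hRQ₀
    obtain ⟨j, hj⟩ := hQ₀.exists_card_eq
    refine Nat.Coprime.coprime_dvd_left h1 (Nat.Coprime.mul_left ?_ ?_)
    · rw [hj]; exact Nat.Coprime.pow_left j ((Nat.coprime_primes hq hp).mpr hqp)
    · rw [hR]; exact (Nat.coprime_primes hr hp).mpr hrp
  obtain ⟨V, hV, hYV⟩ := exists_compl_normalizer hG hS hNtop hYN hYc
  have hVN : V ≤ normalizer (S : Set G) := hV.1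
  have hVH : V ≤ H := hVN.trans hNSH
  have hQ₀V : Q₀ ≤ V := le_sup_left.trans hYV
  have hRV : R ≤ V := le_sup_right.trans hYV
  have hVc : (Nat.card ↥V).Coprime p := by
    have h1 := Cfsg.Agent.Helper20.BG12.relIndex_eq_card_of_isComplIn hV
    rw [← h1]
    exact ((Nat.Prime.coprime_iff_not_dvd hp).mpr
      (hS.of_le Subgroup.le_normalizer le_top).not_dvd_relIndex).symm
  have hVS : (Nat.card ↥V).Coprime (Nat.card ↥S) := by
    rw [hkS]; exact Nat.Coprime.pow_right kS hVc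
  -- `S = [S, V]` by S1411
  have hV' : IsComplIn S V (normalizer (S : Set G)) := isComplIn_swap hV hVN
  have hSV : S = ⁅S, V⁆ := (h.h1411 p hS.sylowOfTop V hV').1
  -- the normal `p`-complement `K'` of `H'`
  obtain ⟨K', hK'le, hK'c, hK'all, hHK'⟩ := exists_pcompl_commutator h.h1414 hH hpH.2.1 hpβ
  have hSK' : S ⊓ K' = ⊥ := by
    apply (Subgroup.disjoint_of_coprime_natCard ?_).eq_bot
    rw [hkS]; exact Nat.Coprime.pow_left kS hK'c.symm
  -- `p'`-elements of `H'` normalizing `S` centralize `S`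
  have hcent : ∀ x ∈ ⁅H, H⁆, x ∈ normalizer (S : Set G) → (orderOf x).Coprime p →
      x ∈ centralizer (S : Set G) := fun x hx hxn hxo =>
    mem_centralizer_of_inf_eq_bot hSK' hxn (hSH.trans hHK') (hK'all x hx hxo)
  have hV'S : ⁅V, V⁆ ≤ centralizer (S : Set G) := by
    intro x hx
    have hxV : x ∈ V := commutator_self_le V hx
    exact hcent x (Subgroup.commutator_mono hVH hVH hx) (hVN hxV)
      (Nat.Coprime.coprime_dvd_left (orderOf_dvd_card_of_mem hxV) hVc)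
  -- `V = C_V(R) V'`
  have hV'top : (⁅V, V⁆ : Subgroup G) ≠ ⊤ := fun e =>
    hHtop (top_le_iff.mp (e ▸ (commutator_self_le V).trans hVH))
  have hfac : ∀ v ∈ V, ∃ c ∈ V ⊓ centralizer (R : Set G), ∃ d ∈ ⁅V, V⁆, v = c * d := by
    intro v hv
    have hRn : R ≤ normalizer ((⁅V, V⁆ : Subgroup G) : Set G) :=
      hRV.trans (le_normalizer_commutator_of_le Subgroup.le_normalizer Subgroup.le_normalizer)
    have hcop : (Nat.card ↥R).Coprime (Nat.card ↥(⁅V, V⁆ : Subgroup G)) := by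
      rw [hR, Nat.Prime.coprime_iff_not_dvd hr]
      intro hd
      exact hrH.2.2.2.1 (hd.trans (Subgroup.card_dvd_of_le (Subgroup.commutator_mono hVH hVH)))
    obtain ⟨c, hc, hcd⟩ := Cfsg.Agent.Helper1.exists_centralizer_mem_coset ⁅V, V⁆ R hRn hcop
      (Or.inr (isSolvable_of_ne_top hG hV'top)) v (by
        intro a ha
        have := Subgroup.commutator_mem_commutator (V.inv_mem hv) (hRV ha)
        rwa [commutatorElement_def, inv_inv] at this)
    refine ⟨c, ⟨?_, hc⟩, (v⁻¹ * c)⁻¹, Subgroup.inv_mem _ hcd, by group⟩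
    have e : c = v * (v⁻¹ * c) := by group
    rw [e]; exact V.mul_mem hv (commutator_self_le V hcd)
  -- some element of `C_V(R)` moves `P`
  have hex : ¬ V ⊓ centralizer (R : Set G) ≤ centralizer (P : Set G) := by
    intro hle
    have hVP : V ≤ centralizer (P : Set G) := by
      intro v hv
      obtain ⟨c, hc, d, hd, rfl⟩ := hfac v hv
      exact Subgroup.mul_mem _ (hle hc) (Subgroup.centralizer_le hPS (hV'S hd))
    have hPCV : P ≤ S ⊓ centralizer (V : Set G) :=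
      le_inf hPS (Subgroup.le_centralizer_iff.mp hVP)
    have hSS : S ⊓ centralizer (V : Set G) ≤ ⁅S, S⁆ :=
      Cfsg.Agent.Helper20.MinInv.inf_centralizer_le_commutator S V hVN hVS hSV.symm
    have hPSS : P ≤ ⁅S, S⁆ := hPCV.trans hSS
    have hP1 : P ≠ ⊥ := by
      intro e
      rw [e, Subgroup.card_bot] at hP
      exact hp.one_lt.ne hP
    have hSnab : ¬ IsMulCommutative ↥S := by
      intro hab
      apply hP1
      rw [eq_bot_iff]
      refine hPSS.trans ?_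
      rw [Subgroup.commutator_le]
      intro a ha b hb
      rw [Subgroup.mem_bot, commutatorElement_eq_one_iff_mul_comm]
      have := hab.is_comm.comm (⟨a, ha⟩ : ↥S) ⟨b, hb⟩
      exact congrArg Subtype.val this
    have hSU : InUniqueMaximal S := h.h1422 p S hS.isPGroup hSnab
    -- `N_G(Q₀) ≤ H`
    have hNQ₀top := normalizer_ne_top_of_isPGroup hG hQ₀ hQ₀1
    obtain ⟨L, hL, hNL⟩ := exists_isCoatom_ge hNQ₀top
    have hSL : S ≤ L := (hSQ₀.trans (Subgroup.centralizer_le_normalizer (Q₀ : Set G))).trans hNL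
    have hLH : L = H := eq_of_inUniqueMaximal_le hSU hL hSL hH hSH
    have hNQ₀H : normalizer (Q₀ : Set G) ≤ H := hLH ▸ hNL
    have hQ₀M' : Q₀ ≤ M := hQ₀M.trans (sigmaCore_le M)
    have hQ₀H : Q₀ ≤ H := hQ₀H'.trans (commutator_self_le H)
    obtain ⟨T, hQ₀T, hT⟩ := exists_isSylowIn_ge hQ₀ (le_inf hQ₀M' hQ₀H)
    have hc := isSylowIn_of_normalizer_le h.h1404 h.h1413 hM hqM hQ₀1 hNQ₀H hT hQ₀T
    have hb := normalizer_le_of_normalizer_le hG h.h1404 h.h1416 hM hqM hQ₀1 hNQ₀H hT hQ₀T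
    have hne : H ≠ M := fun e => hconj 1 (by rw [map_conj_one]; exact e)
    have hqG : q ∣ Nat.card G :=
      (dvd_card_of_mem_sigma hqM).trans (Subgroup.card_subgroup_dvd_card M)
    have hq2 : q ≠ 2 := prime_ne_two_of_dvd hG hqG
    have hqq : q ^ 1 < q ^ 2 := by
      have := hq.one_lt
      nlinarith
    -- `q ∈ σ(H)`
    have hqH : q ∈ sigma H := by
      by_contra hqH
      have hqHd : q ∣ Nat.card ↥H :=
        (dvd_card_of_isPGroup_ne_bot hQ₀ hQ₀1).trans (Subgroup.card_dvd_of_le hQ₀H)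
      by_cases hcyc : IsCyclic ↥T
      · apply hqH
        refine ⟨hq, hqHd, hc.toSylow, ?_⟩
        rw [hc.map_toSylow]
        exact (normalizer_le_normalizer_of_le_cyclic hcyc hQ₀T).trans hNQ₀H
      · obtain ⟨B, hBT, -, hBe, hBc⟩ := exists_normal_elemAb_sq hq2 hT.isPGroup hcyc
        have hr1 : ¬ PRankLE q 1 ↥H :=
          not_pRankLE_of_le (hBT.trans hc.le) hBe (by rw [hBc]; exact hqq)
        by_cases hr2 : PRankLE q 2 ↥H
        · exact hqτ ⟨hq, hqH, hr2, hr1⟩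
        · exact hqH (Cfsg.Agent.Helper23.BG10.alpha_subset_sigma hG h.h1403 hH ⟨hq, hr2⟩)
    obtain ⟨hfacH, -⟩ := factor_case_d hG h.h1403 h.h1350 h.h1414 hM hH hne
      (hT.le.trans inf_le_left) hc hb hconj hqH
    have hsolvH : Group.IsSolvable ↥H := isSolvable_of_ne_top hG hHtop
    have hSβ : (Nat.card ↥S).Coprime (Nat.card ↥(piCoreOf (beta H) H)) := by
      rw [hkS]
      apply Nat.Coprime.pow_left
      rw [Nat.Prime.coprime_iff_not_dvd hp]
      intro hd
      exact hpβ (card_piCoreOf (beta H) H p hp hd)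
    obtain ⟨l, hlH, hSl⟩ := exists_conj_le_of_hall hsolvH (piCoreOf_le _ _)
      (le_normalizer_piCoreOf _ _) (inf_le_right : M ⊓ H ≤ H) hSH
      (coprime_of_isPiHallOf (h.h1414 H hH).1) hfacH hSβ
    have hSnc : ¬ IsCyclic ↥S := by
      intro hcyc
      apply hSnab
      have := hcyc
      exact ⟨⟨fun a b => IsCyclic.commGroup.mul_comm a b⟩⟩
    obtain ⟨B, hBS, -, hBe, hBc⟩ := exists_normal_elemAb_sq hp2 hS.isPGroup hSnc
    have hBl : B.map (MulAut.conj l).toMonoidHom ≤ M :=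
      (map_conj_mono hBS l).trans (hSl.trans inf_le_left)
    exact not_pRankLE_of_le hBl (isElementaryAbelian_map_conj hBe l)
      (by rw [card_map_conj, hBc]; exact hpp) hpM.2.2.2.2
  obtain ⟨v, hvK, hvC, r', k, hr', hvo⟩ := exists_primePow_not_mem hex
  have hvV : v ∈ V := hvK.1
  have hvR : v ∈ centralizer (R : Set G) := hvK.2
  have hvH : v ∈ H := hVH hvV
  have hv1 : v ≠ 1 := fun e => hvC (e ▸ Subgroup.one_mem _)
  have hk0 : k ≠ 0 := by
    intro e
    rw [e, pow_zero, orderOf_eq_one_iff] at hvo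
    exact hv1 hvo
  have hr'o : r' ∣ orderOf v := by rw [hvo]; exact dvd_pow_self r' hk0
  have hr'V : r' ∣ Nat.card ↥V := hr'o.trans (orderOf_dvd_card_of_mem hvV)
  have hr'p : r' ≠ p := by
    intro e
    exact (Nat.Prime.coprime_iff_not_dvd hp).mp hVc.symm (e ▸ hr'V)
  have hvop : (orderOf v).Coprime p := by
    rw [hvo]; exact Nat.Coprime.pow_left k ((Nat.coprime_primes hr' hp).mpr hr'p)
  have hvS : v ∉ centralizer (S : Set G) := fun hv => hvC (Subgroup.centralizer_le hPS hv)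
  -- `v ∉ H'`-part: `v ∉ K'`
  have hvH' : v ∉ ⁅H, H⁆ := fun hv => hvS (hcent v hv (hVN hvV) hvop)
  refine ⟨v, r', k, hr', hvo, hvH, hvR, hvC, ?_, ?_⟩
  · -- `r' < p`
    have hNp : (pPrimeCore p ↥H).Normal := Cfsg.Agent.Helper22.pPrimeCore_normal p
    set Np := pPrimeCore p ↥H with hNpdef
    set K := Np.map H.subtype with hKdef
    have hKc : (Nat.card ↥K).Coprime p := by
      rw [hKdef, Subgroup.card_map_of_injective H.subtype_injective]
      exact Cfsg.Agent.Helper22.card_pPrimeCore_coprime p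
    have hSK : S ⊓ K = ⊥ := by
      apply (Subgroup.disjoint_of_coprime_natCard ?_).eq_bot
      rw [hkS]; exact Nat.Coprime.pow_left kS hKc.symm
    have hHK : H ≤ normalizer (K : Set G) := le_normalizer_map_subtype H Np
    have hvNp : (⟨v, hvH⟩ : ↥H) ∉ Np := by
      intro hv
      apply hvS
      exact mem_centralizer_of_inf_eq_bot hSK (hVN hvV) (hSH.trans hHK) ⟨⟨v, hvH⟩, hv, rfl⟩
    have hne1 : ((⟨v, hvH⟩ : ↥H) : ↥H ⧸ Np) ≠ 1 := by
      intro e
      exact hvNp ((QuotientGroup.eq_one_iff _).mp e)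
    have hod : orderOf ((⟨v, hvH⟩ : ↥H) : ↥H ⧸ Np) ∣ r' ^ k := by
      rw [← hvo, ← Subgroup.orderOf_mk v hvH]
      exact orderOf_map_dvd (QuotientGroup.mk' Np) _
    obtain ⟨j, -, hj⟩ := (Nat.dvd_prime_pow hr').mp hod
    have hj0 : j ≠ 0 := by
      intro e
      rw [e, pow_zero, orderOf_eq_one_iff] at hj
      exact hne1 hj
    have hr'idx : r' ∣ Np.index := by
      rw [Subgroup.index_eq_card]
      refine dvd_trans ?_ (orderOf_dvd_natCard ((⟨v, hvH⟩ : ↥H) : ↥H ⧸ Np))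
      rw [hj]; exact dvd_pow_self r' hj0
    have hle : r' ≤ p := ((h.h1414 H hH).2.2.2.2 p hp hpH.2.1 hpβ).2.2 r' hr' hr'idx
    exact lt_of_le_of_ne hle hr'p
  · -- `r' ∉ σ(H)`
    intro hr'σ
    apply hvH'
    have hzH : zpowers v ≤ H := by rw [Subgroup.zpowers_le]; exact hvH
    have hzπ : IsPiNum (sigma H) (Nat.card ↥(zpowers v)) := by
      rw [Nat.card_zpowers, hvo]
      intro s hs hsd
      have := (Nat.prime_dvd_prime_iff_eq hs hr').mp (hs.dvd_of_dvd_pow hsd)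
      rw [this]; exact hr'σ
    have := le_sigmaCore_of_isPiNum h.h1350 hH hzH hzπ
    exact sigmaCore_le_commutator hG h.h1404 h.h1350 hH (this (Subgroup.mem_zpowers v))

end Cfsg.Agent.Helper23.BG13A2
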