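import Mathlib
import Cfsg.Agent.Lib.Helper7.HupDefs

/-!
# Huppert (S3360), piece INJ (helper23): for `H` transitive on nonzero vectors and `A ⊴ H` abelian,
every nonzero element of the enveloping algebra `KA A` is injective.
(Adapted from helper4's `Zas.KA_inj`, which only uses the transitivity part of regularity.)
-/

set_option autoImplicit false
set_option linter.style.haveILetI false

namespace Cfsg.Agent.Helper7.Hup

open Cfsg.Agent.Helper4.Zas

open Module

variable {p : ℕ} [Fact p.Prime] {V : Type*} [AddCommGroup V] [Module (ZMod p) V]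
variable {H : Subgroup (V ≃ₗ[ZMod p] V)}

/-- through every nonzero vector there is a minimal invariant subspace -/
theorem exists_min_through_of_trans [Finite V] [Nontrivial V] (htr : Trans H) (A : Subgroup H) [hAn : A.Normal]
    {v : V} (hv : v ≠ 0) :
    ∃ S : Submodule (ZMod p) V, v ∈ S ∧ Inv A S ∧
      ∀ U : Submodule (ZMod p) V, U ≤ S → Inv A U → U = ⊥ ∨ U = S := by
  obtain ⟨W, hW0, hWinv, hWmin⟩ := exists_min_inv A
  obtain ⟨w, hwW, hw0⟩ := (Submodule.ne_bot_iff W).1 hW0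
  obtain ⟨h, hh⟩ := htr w v hw0 hv
  refine ⟨W.map (toEnd H h), ⟨w, hwW, hh⟩, inv_map hWinv h, ?_⟩
  intro U hUS hUinv
  have hU' : U.map (toEnd H h⁻¹) ≤ W := by
    rintro _ ⟨u, hu, rfl⟩
    obtain ⟨w', hw', rfl⟩ := hUS hu
    rw [toEnd_apply, toEnd_apply, coe_inv_apply_apply]
    exact hw'
  rcases hWmin _ hU' (inv_map hUinv h⁻¹) with h1 | h1
  · left
    rw [eq_bot_iff]
    intro u hu
    have h2 : toEnd H h⁻¹ u ∈ U.map (toEnd H h⁻¹) := ⟨u, hu, rfl⟩
    rw [h1, Submodule.mem_bot, toEnd_apply] at h2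
    rw [Submodule.mem_bot]
    exact ((h⁻¹ : H) : V ≃ₗ[ZMod p] V).map_eq_zero_iff.mp h2
  · right
    apply le_antisymm hUS
    rintro _ ⟨w', hw', rfl⟩
    rw [← h1] at hw'
    obtain ⟨u, hu, rfl⟩ := hw'
    rw [toEnd_apply, toEnd_apply, coe_apply_inv_apply]
    exact hu

/-- **Homogeneity**: a nonzero element of `KA A` is injective. -/
theorem KA_inj_of_trans [Finite V] [Nontrivial V] (htr : Trans H) (A : Subgroup H) [hAn : A.Normal]
    (hAc : ∀ a ∈ A, ∀ b ∈ A, a * b = b * a) :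
    ∀ x ∈ KA A, x ≠ 0 → ∀ v : V, x v = 0 → v = 0 := by
  intro x hx hx0 v hxv
  by_contra hv
  apply hx0
  -- the kernel is invariant
  have hker : Inv A (LinearMap.ker x) := by
    intro a ha u hu
    rw [LinearMap.mem_ker] at hu ⊢
    have h1 := KA_comm hAc x hx _ (toEnd_mem_KA ha)
    have h2 := congrArg (fun f : Module.End (ZMod p) V => f u) h1
    simp only [Module.End.mul_apply, toEnd_apply] at h2
    rw [h2, hu, map_zero]
  have hinf : ∀ {U₁ U₂ : Submodule (ZMod p) V}, Inv A U₁ → Inv A U₂ → Inv A (U₁ ⊓ U₂) :=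
    fun h1 h2 a ha u hu => ⟨h1 a ha u hu.1, h2 a ha u hu.2⟩
  obtain ⟨S₁, hvS₁, hS₁inv, hS₁min⟩ := exists_min_through_of_trans htr A hv
  have hkill : ∀ u ∈ S₁, x u = 0 := by
    rcases hS₁min (LinearMap.ker x ⊓ S₁) inf_le_right (hinf hker hS₁inv) with h1 | h1
    · exfalso
      have : v ∈ LinearMap.ker x ⊓ S₁ := ⟨LinearMap.mem_ker.2 hxv, hvS₁⟩
      rw [h1, Submodule.mem_bot] at this
      exact hv this
    · intro u hu
      rw [← h1] at hu
      exact LinearMap.mem_ker.1 hu.1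
  ext u
  rw [LinearMap.zero_apply]
  by_cases huS₁ : u ∈ S₁
  · exact hkill u huS₁
  have hu0 : u ≠ 0 := by
    rintro rfl
    exact huS₁ S₁.zero_mem
  obtain ⟨S₂, huS₂, hS₂inv, hS₂min⟩ := exists_min_through_of_trans htr A hu0
  have h12 : S₁ ⊓ S₂ = ⊥ := by
    rcases hS₂min (S₁ ⊓ S₂) inf_le_right (hinf hS₁inv hS₂inv) with h1 | h1
    · exact h1
    · exfalso
      apply huS₁
      have : u ∈ S₁ ⊓ S₂ := by rw [h1]; exact huS₂
      exact this.1
  have hvu0 : v + u ≠ 0 := by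
    intro h
    apply huS₁
    have : u = -v := by rw [eq_neg_iff_add_eq_zero, add_comm]; exact h
    rw [this]
    exact S₁.neg_mem hvS₁
  obtain ⟨S₃, hvuS₃, hS₃inv, hS₃min⟩ := exists_min_through_of_trans htr A hvu0
  by_contra hxu
  have hxu₃ : x u ∈ S₃ := by
    have h1 := KA_inv hS₃inv x hx _ hvuS₃
    rwa [map_add, hxv, zero_add] at h1
  have hxu₂ : x u ∈ S₂ := KA_inv hS₂inv x hx _ huS₂
  have h32 : S₃ ⊓ S₂ ≠ ⊥ := by
    intro h
    have : x u ∈ S₃ ⊓ S₂ := ⟨hxu₃, hxu₂⟩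
    rw [h, Submodule.mem_bot] at this
    exact hxu this
  have e3 : S₃ ⊓ S₂ = S₃ := by
    rcases hS₃min _ inf_le_left (hinf hS₃inv hS₂inv) with h1 | h1
    · exact absurd h1 h32
    · exact h1
  have e2 : S₃ ⊓ S₂ = S₂ := by
    rcases hS₂min _ inf_le_right (hinf hS₃inv hS₂inv) with h1 | h1
    · exact absurd h1 h32
    · exact h1
  have hvS₂ : v ∈ S₂ := by
    have h1 : v + u ∈ S₂ := by rw [← e2, e3]; exact hvuS₃
    have h2 := S₂.sub_mem h1 huS₂
    rwa [add_sub_cancel_right] at h2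
  have : v ∈ S₁ ⊓ S₂ := ⟨hvS₁, hvS₂⟩
  rw [h12, Submodule.mem_bot] at this
  exact hv this


end Cfsg.Agent.Helper7.Hup
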