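import Mathlib
import Cfsg.Agent.Lib.Helper7.HupDefs
import Cfsg.Agent.Lib.Helper10.TBG

/-!
# Huppert (S3360), piece MULT (helper23): a Sylow `s`-subgroup all of whose elements of order `s`
act fixed-point-freely on `B/A` has order dividing `|B : A| - 1`.
-/

set_option autoImplicit false
set_option linter.style.haveILetI false

namespace Cfsg.Agent.Helper7.Hup

variable {G : Type*} [Group G] [Finite G]

/-- the conjugation action of a subgroup on `G ⧸ A` -/
noncomputable def mtConj (A : Subgroup G) [A.Normal] (P : Subgroup G) : P →* MulAut (G ⧸ A) :=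
  (MulAut.conj).comp ((QuotientGroup.mk' A).comp P.subtype)

omit [Finite G] in
theorem mtConj_apply (A : Subgroup G) [A.Normal] (P : Subgroup G) (c : P) (g : G) :
    mtConj A P c (QuotientGroup.mk g) = QuotientGroup.mk ((c : G) * g * (c : G)⁻¹) := by
  rfl

/-- PIECE MULT -/
theorem Cfg.sylow_card_dvd {A B : Subgroup G} (h : Cfg A B) {s : ℕ} [Fact s.Prime]
    (hfpf : ∀ y : G, orderOf y = s → ∀ b ∈ B, y * b * y⁻¹ * b⁻¹ ∈ A → b ∈ A)
    (P : Sylow s G) : Nat.card P ∣ A.relIndex B - 1 := by
  classical
  haveI := h.nA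
  haveI := h.nB
  have hs : s.Prime := Fact.out
  letI : Fintype (P : Subgroup G) := Fintype.ofFinite _
  letI : Fintype (G ⧸ A) := Fintype.ofFinite _
  letI act : MulAction (P : Subgroup G) (G ⧸ A) := MulAction.compHom _ (mtConj A (P : Subgroup G))
  have hsmul : ∀ (c : (P : Subgroup G)) (g : G),
      c • (QuotientGroup.mk g : G ⧸ A) = QuotientGroup.mk ((c : G) * g * (c : G)⁻¹) := by
    intro c g
    rfl
  -- the image of `B` in `G ⧸ A`
  set Bbar : Subgroup (G ⧸ A) := B.map (QuotientGroup.mk' A) with hBbar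
  have hcardBbar : Nat.card Bbar = A.relIndex B := by
    have h1 : ((QuotientGroup.mk' A).comp B.subtype).ker = A.subgroupOf B := by
      ext b
      rw [MonoidHom.mem_ker, Subgroup.mem_subgroupOf]
      simp only [MonoidHom.coe_comp, Function.comp_apply, Subgroup.coe_subtype,
        QuotientGroup.mk'_apply, QuotientGroup.eq_one_iff]
    have h2 : ((QuotientGroup.mk' A).comp B.subtype).range = Bbar := by
      rw [hBbar, MonoidHom.range_comp, Subgroup.range_subtype]
    have h3 := Subgroup.index_ker ((QuotientGroup.mk' A).comp B.subtype)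
    rw [h1, h2] at h3
    rw [← h3]
    rfl
  -- the nontrivial elements of `Bbar`
  set T : Finset (G ⧸ A) := Finset.univ.filter (fun x => x ∈ Bbar ∧ x ≠ 1) with hT
  have hTcard : T.card = A.relIndex B - 1 := by
    have h1 : (Finset.univ.filter (fun x : G ⧸ A => x ∈ Bbar)).card = A.relIndex B := by
      rw [← hcardBbar, Nat.card_eq_fintype_card, Fintype.card_subtype]
    have h2 : T = (Finset.univ.filter (fun x : G ⧸ A => x ∈ Bbar)).erase 1 := by
      ext x
      simp only [hT, Finset.mem_filter, Finset.mem_univ, true_and, Finset.mem_erase]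
      tauto
    rw [h2, Finset.card_erase_of_mem, h1]
    simp only [Finset.mem_filter, Finset.mem_univ, true_and]
    exact Bbar.one_mem
  rw [← hTcard, Nat.card_eq_fintype_card]
  apply Cfsg.Agent.Helper10.TBG.card_dvd_of_free_action T
  · -- invariance
    intro c a ha
    simp only [hT, Finset.mem_filter, Finset.mem_univ, true_and] at ha ⊢
    obtain ⟨⟨b, hb, rfl⟩, hne⟩ := ha
    rw [QuotientGroup.mk'_apply, hsmul]
    refine ⟨⟨(c : G) * b * (c : G)⁻¹, h.nB.conj_mem b hb c, rfl⟩, ?_⟩
    intro h1
    apply hne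
    rw [QuotientGroup.mk'_apply]
    rw [QuotientGroup.eq_one_iff] at h1 ⊢
    have := h.nA.conj_mem _ h1 (c : G)⁻¹
    simpa [mul_assoc] using this
  · -- freeness
    intro a ha c hca
    simp only [hT, Finset.mem_filter, Finset.mem_univ, true_and] at ha
    obtain ⟨⟨b, hb, rfl⟩, hne⟩ := ha
    rw [QuotientGroup.mk'_apply] at hca hne
    by_contra hc1
    -- a power of `c` of order `s`
    have hcP : IsPGroup s (P : Subgroup G) := P.isPGroup'
    obtain ⟨k, hk⟩ := hcP c
    have hord : orderOf c ∣ s ^ k := orderOf_dvd_of_pow_eq_one hk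
    obtain ⟨j, hjk, hj⟩ := (Nat.dvd_prime_pow hs).1 hord
    have hj0 : j ≠ 0 := by
      rintro rfl
      rw [pow_zero, orderOf_eq_one_iff] at hj
      exact hc1 hj
    obtain ⟨i, rfl⟩ := Nat.exists_eq_succ_of_ne_zero hj0
    set y : (P : Subgroup G) := c ^ (s ^ i) with hy
    have hyord : orderOf y = s := by
      rw [hy, orderOf_pow, hj, Nat.gcd_eq_right (pow_dvd_pow s (Nat.le_succ i)), pow_succ,
        Nat.mul_div_cancel_left _ (pos_of_ne_zero (pow_ne_zero i hs.ne_zero))]
    have hyG : orderOf (y : G) = s := by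
      rw [Subgroup.orderOf_coe, hyord]
    have hya : y • (QuotientGroup.mk b : G ⧸ A) = QuotientGroup.mk b := by
      rw [hy]
      have : ∀ n : ℕ, (c ^ n) • (QuotientGroup.mk b : G ⧸ A) = QuotientGroup.mk b := by
        intro n
        induction n with
        | zero => rw [pow_zero, one_smul]
        | succ n ih => rw [pow_succ, mul_smul, hca, ih]
      exact this _
    rw [hsmul] at hya
    have h2 : (y : G) * b * (y : G)⁻¹ * b⁻¹ ∈ A := by
      rw [← QuotientGroup.eq_one_iff, QuotientGroup.mk_mul, hya, ← QuotientGroup.mk_mul,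
        mul_inv_cancel]
      rfl
    apply hne
    rw [QuotientGroup.eq_one_iff]
    exact hfpf (y : G) hyG b hb h2

end Cfsg.Agent.Helper7.Hup
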