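import Mathlib
import Cfsg.Agent.Lib.Helper20.A3Defs
import Cfsg.Agent.S0012

/-!
# S3117 (helper20's farm-out), PIECE U2 (helper23): `UU C` has exponent `2`.
-/

set_option autoImplicit false
set_option linter.unusedSectionVars false
set_option linter.unusedVariables false

namespace Cfsg.Agent.Helper20.A3

section Glue

variable {C : Type*} [Group C] [Finite C]

/-- `UU C` lies in the image of the Frattini subgroup. -/
theorem u2_le_map (hC : IsPGroup 2 C) :
    UU C ≤ (frattini C).map (QuotientGroup.mk' (sqF C)) := by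
  have : Fact (Nat.Prime 2) := ⟨Nat.prime_two⟩
  unfold UU
  rw [Subgroup.closure_le]
  rintro _ ⟨w, rfl⟩
  refine ⟨(Quotient.out w) ^ 2, ?_, rfl⟩
  exact (Cfsg.Agent.S0012.result 2 hC).2 (Quotient.out w)

/-- **A3-U2.** `UU C` has exponent `2`. -/
theorem UU_exp_two (hC : IsPGroup 2 C) (hΦ : frattini C ≤ Subgroup.center C) :
    ∀ u : ↥(UU C), u * u = 1 := by
  intro u
  obtain ⟨f, hf, hfu⟩ := u2_le_map hC u.2
  apply Subtype.ext
  rw [Subgroup.coe_mul, Subgroup.coe_one, ← hfu]
  show (QuotientGroup.mk' (sqF C)) f * (QuotientGroup.mk' (sqF C)) f = 1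
  rw [← map_mul, QuotientGroup.mk'_apply, QuotientGroup.eq_one_iff]
  unfold sqF
  apply Subgroup.subset_closure
  exact ⟨f, hf, (pow_two f).symm⟩

end Glue

end Cfsg.Agent.Helper20.A3
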