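import Mathlib
import Cfsg.Prelude.Def_JComponents
import Cfsg.Agent.Lib.Helper13.JCASM1
import Cfsg.Agent.Lib.Helper23.JCF6B

/-!
# KS12b / S2950 (farm-out of helper27), PIECE ABS (helper23): abstract setting `KS X T`
-/

set_option autoImplicit false
set_option linter.unusedVariables false
set_option linter.unusedSectionVars false
set_option linter.style.haveILetI false

namespace Cfsg.Agent.Helper27.KU

open Cfsg Cfsg.Agent.Helper13.JCFF
open scoped commutatorElement

universe u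

section abstract

variable {X : Type u} [Group X] [Finite X]

/-- `J ⊔ C` normalizes `Kc F i` -/
theorem abs_JC_le_normalizer {T : Subgroup X} (h : KS X T) (F : FFData X (VX X)) (i : Fin F.r) :
    thompsonSubgroup 2 X ⊔ Subgroup.centralizer (VX X : Set X) ≤
      Subgroup.normalizer ((Kc F i : Subgroup X) : Set X) := by
  intro g hg
  rw [Subgroup.mem_normalizer_iff]
  intro y
  constructor
  · intro hy
    exact f6_conj_Kc F i hg hy
  · intro hy
    have := f6_conj_Kc F i (Subgroup.inv_mem _ hg) hy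
    simpa [mul_assoc] using this

/-- `Kc F j ≤ J ⊔ C` -/
theorem abs_Kc_le_JC {T : Subgroup X} (h : KS X T) (F : FFData X (VX X)) (j : Fin F.r) :
    Kc F j ≤ thompsonSubgroup 2 X ⊔ Subgroup.centralizer (VX X : Set X) := by
  unfold Kc
  rw [Subgroup.closure_le]
  intro x hx
  exact sup_le_sup_left (pCore_le_centralizer_VX h.hQ) _ hx.2.1

/-- PIECE ABS (1). -/
theorem ks_comp_le_normalizer {T : Subgroup X} (h : KS X T) {K K' : Subgroup X}
    (hK : IsJComponent T K) (hK' : IsJComponent T K') :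
    K' ≤ Subgroup.normalizer (K : Set X) := by
  obtain ⟨F⟩ := h.exists_ffdata
  obtain ⟨i, rfl, -⟩ := h.asm_comp_eq_Kc F hK
  obtain ⟨j, rfl, -⟩ := h.asm_comp_eq_Kc F hK'
  exact (abs_Kc_le_JC h F j).trans (abs_JC_le_normalizer h F i)

/-- PIECE ABS (2). -/
theorem ks_J_le_normalizer {T : Subgroup X} (h : KS X T) {K : Subgroup X}
    (hK : IsJComponent T K) :
    thompsonSubgroup 2 X ≤ Subgroup.normalizer (K : Set X) := by
  obtain ⟨F⟩ := h.exists_ffdata
  obtain ⟨i, rfl, -⟩ := h.asm_comp_eq_Kc F hK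
  exact le_sup_left.trans (abs_JC_le_normalizer h F i)

/-- PIECE ABS (3). -/
theorem ks_pCore_inf_J_ne_bot {T : Subgroup X} (h : KS X T) :
    pCore 2 X ⊓ thompsonSubgroup 2 X ≠ ⊥ := by
  obtain ⟨F⟩ := h.exists_ffdata
  intro hbot
  have hV : VX X ≤ pCore 2 X ⊓ thompsonSubgroup 2 X :=
    le_inf (VX_le_pCore h.hQ) ((h.VX_le_JT F).trans h.JT_le_J)
  rw [hbot, le_bot_iff] at hV
  haveI := VX_normal h.hQ
  have hW : ⁅VX X, F.D ⟨0, F.pos⟩⁆ ≤ VX X := Subgroup.commutator_le_left _ _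
  have hW' : ⁅VX X, F.D ⟨0, F.pos⟩⁆ = ⊥ := le_bot_iff.1 (hW.trans (le_of_eq hV))
  have hc := F.card_W ⟨0, F.pos⟩
  rw [hW'] at hc
  simp at hc

end abstract

end Cfsg.Agent.Helper27.KU
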