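import Mathlib
import Cfsg.Agent.Lib.Helper15.S52Defs

/-!
# S3452, piece S52-AFFEX: an element of the affine extension whose norm sum does not vanish has
twice the order of its linear part.
-/

set_option autoImplicit false
set_option linter.unusedVariables false

namespace Cfsg.Agent.Helper15.S52

open Cfsg.Agent.Helper2

/-- the power formula in the affine extension -/
theorem s52_affex_pow {G W : Type*} [Group G] [AddCommGroup W] [DistribMulAction G W]
    (g : G) (w : W) (n : ℕ) :
    (⟨w, g⟩ : AffExt.Aff G W) ^ n = ⟨∑ k ∈ Finset.range n, g ^ k • w, g ^ n⟩ := by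
  induction n with
  | zero =>
    apply AffExt.Aff.ext
    · simp [AffExt.one_w]
    · simp [AffExt.one_g]
  | succ n ih =>
    rw [pow_succ, ih]
    apply AffExt.Aff.ext
    · rw [AffExt.mul_w, Finset.sum_range_succ]
    · rw [AffExt.mul_g, pow_succ]

/-- PIECE S52-AFFEX -/
theorem aff_orderOf_mk {G W : Type*} [Group G] [Finite G] [AddCommGroup W] [DistribMulAction G W]
    (hW : ∀ w : W, w + w = 0) (g : G) (w : W)
    (hw : ∑ k ∈ Finset.range (orderOf g), g ^ k • w ≠ 0) :
    orderOf (⟨w, g⟩ : AffExt.Aff G W) = 2 * orderOf g := by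
  set a : AffExt.Aff G W := ⟨w, g⟩ with ha
  have hpos : 0 < orderOf g := orderOf_pos g
  have h1 : orderOf g ∣ orderOf a := AffExt.orderOf_g_dvd a
  have h2 : orderOf a ∣ orderOf g * 2 := AffExt.orderOf_dvd_two_mul hW a
  have hne : a ^ orderOf g ≠ 1 := by
    intro h
    rw [ha, s52_affex_pow] at h
    exact hw (congrArg AffExt.Aff.w h)
  obtain ⟨k, hk⟩ := h1
  have hk2 : k ∣ 2 := by
    rw [hk] at h2
    exact Nat.dvd_of_mul_dvd_mul_left hpos h2
  rcases (Nat.dvd_prime Nat.prime_two).1 hk2 with rfl | rfl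
  · exfalso
    apply hne
    rw [mul_one] at hk
    rw [← hk]
    exact pow_orderOf_eq_one a
  · rw [hk, mul_comm]

end Cfsg.Agent.Helper15.S52
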