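import Mathlib
import Cfsg.Prelude.Def_Classical
import Cfsg.Agent.Lib.Helper15.S74Defs

/-!
# S2474, piece S74-NXA (helper23): the core of `nxA`, with the statements of the pieces
`S74-NXA1` (`nxA_disjoint`) and `S74-NXA2` (`nxA_common`) as hypotheses (specialised to the data at hand).
-/

set_option autoImplicit false

open Cfsg.Agent.Helper15.S62

namespace Cfsg.Agent.Helper15.S74

universe u

variable {F : Type u} [Field F]

theorem s74_nxa_natCast_ne_zero (p : ℕ) [Fact p.Prime] [CharP F p] (r : ℕ) (hr : r.Prime)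
    (hrp : r ≠ p) : (r : F) ≠ 0 := by
  intro h
  rw [CharP.cast_eq_zero_iff F p] at h
  have hp : p.Prime := Fact.out
  rcases (Nat.dvd_prime hr).1 h with h1 | h1
  · exact hp.one_lt.ne' h1
  · exact hrp h1.symm

theorem s74_nxa_isom_pow {V : Type u} [AddCommGroup V] [Module F V]
    (B : LinearMap.BilinForm F V) (g : Module.End F V) (hg : Isom B g) (j : ℕ) :
    Isom B (g ^ j) := by
  induction j with
  | zero => intro x y; simp
  | succ j ih =>
    intro x y
    rw [pow_succ, Module.End.mul_apply, Module.End.mul_apply, ih, hg]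

/-- the core of `nxA`: the two cases as hypotheses -/
theorem s74_nxa_core [Fintype F] {V : Type u} [AddCommGroup V] [Module F V]
    (p : ℕ) [Fact p.Prime] [CharP F p] (B : LinearMap.BilinForm F V)
    (g : Module.End F V) (hg : Isom B g) (r s : ℕ) (hr : r.Prime) (hs : s.Prime)
    (hrp : r ≠ p) (hsp : s ≠ p) (hord : orderOf g = r * s) (n : ℕ)
    (hdisj : ∀ x y : Module.End F V, Isom B x → Isom B y → (r : F) ≠ 0 → (s : F) ≠ 0 →
      x ^ r = 1 → y ^ s = 1 → x ≠ 1 → y ≠ 1 → Wpart x r ⊓ Wpart y s = ⊥ →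
      ∃ a b : ℕ, 1 ≤ a ∧ 1 ≤ b ∧ a + b ≤ n ∧ r ∣ Fintype.card F ^ (2 * a) - 1 ∧
        s ∣ Fintype.card F ^ (2 * b) - 1)
    (hcomm : (r : F) ≠ 0 → (s : F) ≠ 0 → g ^ (r * s) = 1 →
      Wpart (g ^ s) r ⊓ Wpart (g ^ r) s ≠ ⊥ →
      ∃ d : ℕ, 1 ≤ d ∧ d ≤ n ∧
        (r * s ∣ Fintype.card F ^ d - 1 ∨ r * s ∣ Fintype.card F ^ d + 1)) :
    PhiA (Fintype.card F) n r s := by
  have hrF : (r : F) ≠ 0 := s74_nxa_natCast_ne_zero p r hr hrp
  have hsF : (s : F) ≠ 0 := s74_nxa_natCast_ne_zero p s hs hsp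
  have hgrs : g ^ (r * s) = 1 := by rw [← hord]; exact pow_orderOf_eq_one g
  have hxr : (g ^ s) ^ r = 1 := by rw [← pow_mul, mul_comm]; exact hgrs
  have hys : (g ^ r) ^ s = 1 := by rw [← pow_mul]; exact hgrs
  have hx1 : g ^ s ≠ 1 := by
    intro h
    have h1 : r * s ∣ s := by rw [← hord]; exact orderOf_dvd_of_pow_eq_one h
    have h2 : r * s ≤ s := Nat.le_of_dvd hs.pos h1
    have h3 : 2 * s ≤ r * s := Nat.mul_le_mul_right s hr.two_le
    have h4 := hs.pos
    omega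
  have hy1 : g ^ r ≠ 1 := by
    intro h
    have h1 : r * s ∣ r := by rw [← hord]; exact orderOf_dvd_of_pow_eq_one h
    have h2 : r * s ≤ r := Nat.le_of_dvd hr.pos h1
    have h3 : r * 2 ≤ r * s := Nat.mul_le_mul_left r hs.two_le
    have h4 := hr.pos
    omega
  by_cases hW : Wpart (g ^ s) r ⊓ Wpart (g ^ r) s = ⊥
  · exact Or.inl (hdisj (g ^ s) (g ^ r) (s74_nxa_isom_pow B g hg s) (s74_nxa_isom_pow B g hg r)
      hrF hsF hxr hys hx1 hy1 hW)
  · exact Or.inr (hcomm hrF hsF hgrs hW)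

end Cfsg.Agent.Helper15.S74
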