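import Mathlib
import Cfsg.Prelude.Def_Classical
import Cfsg.Agent.Lib.Helper15.S74Defs
import Cfsg.Agent.Lib.Helper23.S74NXACore
import Cfsg.Agent.Lib.Helper7.S74NXA1Core
import Cfsg.Agent.Lib.Helper12.S74WSMALL
import Cfsg.Agent.Lib.Helper22.S74NXA2

/-!
# S2474, piece S74-NXA (helper23): `nxA` from the disjoint-support case (S74-NXA1: helper7's core
`s74_nxa1_core` fed with `wpart_small`, S74-WSMALL, helper12) and the common-support case `nxA_common`
(S74-NXA2, helper22).
-/

set_option autoImplicit false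

open Cfsg.Agent.Helper15.S62

namespace Cfsg.Agent.Helper15.S74

universe u

variable {F : Type u} [Field F]

/-- S74-NXA (uses NXA1, NXA2): odd primes `r ≠ s`, both different from the characteristic. -/
theorem nxA [Fintype F] {V : Type u} [AddCommGroup V] [Module F V] [FiniteDimensional F V]
    (p : ℕ) [Fact p.Prime] [CharP F p] (B : LinearMap.BilinForm F V) (hnd : LND B)
    (g : Module.End F V) (hg : Isom B g) (r s : ℕ) (hr : r.Prime) (hs : s.Prime) (hrs : r ≠ s)
    (hrp : r ≠ p) (hsp : s ≠ p) (hr2 : r ≠ 2) (hs2 : s ≠ 2) (hord : orderOf g = r * s) (n : ℕ)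
    (hdim : Module.finrank F V ≤ 2 * n + 1) : PhiA (Fintype.card F) n r s :=
  s74_nxa_core p B g hg r s hr hs hrp hsp hord n
    (fun x y hx hy hrF hsF hxr hys hx1 hy1 hW =>
      s74_nxa1_core B hnd
        (fun y' hy' t ht ht2 htF hyt hy1' => wpart_small B hnd y' hy' t ht ht2 htF hyt hy1')
        x y hx hy r s hr hs hr2 hs2 hrF hsF hxr hys hx1 hy1 hW n hdim)
    (fun hrF hsF hgrs hW =>
      nxA_common B hnd g hg r s hr hs hrs hr2 hs2 hrF hsF hgrs hW n hdim)

end Cfsg.Agent.Helper15.S74
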