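import Mathlib

/-!
# Number theory pieces P3+P4 for S6000 (farm-out for helper17)
-/

namespace Cfsg.Agent.Helper23.Sym4P34

open Polynomial

theorem irreducible_cyclotomic_five {F : Type*} [Field F] [Fintype F] {p : ℕ} [Fact p.Prime]
    (hF : Fintype.card F = p) (h : orderOf (p : ZMod 5) = 4) :
    Irreducible (Polynomial.cyclotomic 5 F) := by
  have hp5 : p ≠ 5 := by
    intro h5
    rw [h5] at h
    have h0 : ((5 : ℕ) : ZMod 5) = 0 := ZMod.natCast_self 5
    rw [h0] at h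
    have : orderOf (0 : ZMod 5) = 0 := by
      rw [orderOf_eq_zero_iff]
      intro hfin
      obtain ⟨n, hn, hn1⟩ := hfin.exists_pow_eq_one
      rw [zero_pow hn.ne'] at hn1
      exact absurd hn1 (by decide)
    omega
  have hcop : p.Coprime 5 :=
    (Nat.coprime_primes (Fact.out : p.Prime) (by norm_num)).mpr hp5
  have hK : Fintype.card F = p ^ 1 := by rw [pow_one]; exact hF
  apply Polynomial.irreducible_of_dvd_cyclotomic_of_natDegree hK hcop (dvd_refl _)
  rw [natDegree_cyclotomic]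
  have h1 : orderOf (ZMod.unitOfCoprime (p ^ 1) (hcop.pow_left 1)) =
      orderOf ((ZMod.unitOfCoprime (p ^ 1) (hcop.pow_left 1) : (ZMod 5)ˣ) : ZMod 5) :=
    (orderOf_units).symm
  rw [h1, ZMod.coe_unitOfCoprime]
  simp only [pow_one]
  rw [h]
  decide

theorem irreducible_cyclotomic_three {F : Type*} [Field F] [Fintype F] {p : ℕ} [Fact p.Prime]
    (hF : Fintype.card F = p) (h : p % 3 = 2) :
    Irreducible (Polynomial.cyclotomic 3 F) := by
  have hp3 : p ≠ 3 := by intro h3; rw [h3] at h; omega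
  have hcop : p.Coprime 3 :=
    (Nat.coprime_primes (Fact.out : p.Prime) (by norm_num)).mpr hp3
  have hK : Fintype.card F = p ^ 1 := by rw [pow_one]; exact hF
  apply Polynomial.irreducible_of_dvd_cyclotomic_of_natDegree hK hcop (dvd_refl _)
  rw [natDegree_cyclotomic]
  have h1 : orderOf (ZMod.unitOfCoprime (p ^ 1) (hcop.pow_left 1)) =
      orderOf ((ZMod.unitOfCoprime (p ^ 1) (hcop.pow_left 1) : (ZMod 3)ˣ) : ZMod 3) :=
    (orderOf_units).symm
  rw [h1, ZMod.coe_unitOfCoprime]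
  simp only [pow_one]
  have h2 : ((p : ℕ) : ZMod 3) = 2 := by
    have : ((p : ℕ) : ZMod 3) = ((p % 3 : ℕ) : ZMod 3) := by
      rw [ZMod.natCast_mod]
    rw [this, h]; rfl
  rw [h2]
  have h3 : orderOf (2 : ZMod 3) = 2 := by
    apply orderOf_eq_prime
    · decide
    · decide
  rw [h3]
  decide

theorem zmod5_aux : ∀ x : ZMod 5, x ≠ 0 → ¬ (¬ x ^ 2 ^ 1 = 1 ∧ x ^ 2 ^ (1 + 1) = 1) →
    x = 1 ∨ x = 4 := by decide

theorem zmod5_sq1 : (1 : ZMod 5) = 1 * 1 := by decide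

theorem zmod5_sq4 : (4 : ZMod 5) = 2 * 2 := by decide

theorem exists_golden {F : Type*} [Field F] [Fintype F] {p : ℕ} [Fact p.Prime] [CharP F p]
    (hF : Fintype.card F = p) (hp2 : p ≠ 2) (hp5 : p ≠ 5)
    (h : orderOf (p : ZMod 5) ≠ 4) : ∃ τ : F, τ ^ 2 + τ - 1 = 0 := by
  have _ := hF
  have : Fact (Nat.Prime 5) := ⟨by norm_num⟩
  have hpp : p.Prime := Fact.out
  -- p is ±1 mod 5
  have hx0 : ((p : ℕ) : ZMod 5) ≠ 0 := by
    intro h0
    rw [ZMod.natCast_eq_zero_iff] at h0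
    have := (Nat.prime_dvd_prime_iff_eq (by norm_num : Nat.Prime 5) hpp).mp h0
    exact hp5 this.symm
  have hkey := zmod5_aux
  have hx : ((p : ℕ) : ZMod 5) = 1 ∨ ((p : ℕ) : ZMod 5) = 4 := by
    apply hkey _ hx0
    rintro ⟨h1, h2⟩
    have : Fact (Nat.Prime 2) := ⟨Nat.prime_two⟩
    exact h (orderOf_eq_prime_pow h1 h2)
  have hsq5 : IsSquare ((p : ℕ) : ZMod 5) := by
    rcases hx with hx | hx
    · rw [hx]; exact ⟨1, zmod5_sq1⟩
    · rw [hx]; exact ⟨2, zmod5_sq4⟩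
  have hsq : IsSquare ((5 : ℕ) : ZMod p) :=
    (ZMod.exists_sq_eq_prime_iff_of_mod_four_eq_one (p := 5) (q := p) (by norm_num) hp2).mp hsq5
  obtain ⟨s, hs⟩ := hsq
  set s' : F := ZMod.castHom (dvd_refl p) F s with hs'
  have hs2 : s' * s' = 5 := by
    rw [hs', ← map_mul, ← hs, map_natCast]
    norm_num
  have h2 : (2 : F) ≠ 0 := by
    intro h0
    have h1 : ((2 : ℕ) : F) = 0 := by exact_mod_cast h0
    rw [CharP.cast_eq_zero_iff F p 2] at h1
    exact hp2 ((Nat.prime_dvd_prime_iff_eq hpp Nat.prime_two).mp h1)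
  refine ⟨(-1 + s') / 2, ?_⟩
  field_simp
  ring_nf
  have : s' ^ 2 = 5 := by rw [pow_two]; exact hs2
  rw [this]; ring

end Cfsg.Agent.Helper23.Sym4P34
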