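import Mathlib
import Cfsg.Agent.Lib.Helper22.W2PDefs

/-!
# S0720 piece KSUM (helper23): the isotypic kernels of a multiplicity-free permutation character
add up to the identity.
-/

set_option autoImplicit false
set_option linter.unusedSectionVars false
set_option linter.unusedVariables false

namespace Cfsg.Agent.Helper22.W2P

open Cfsg Cfsg.Agent.Helper22.PermCent Cfsg.Agent.Helper24

open scoped ComplexConjugate

universe u v

namespace KSUM

/-- an idempotent endomorphism of a finite-dimensional complex space with trace zero is zero -/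
theorem idem_eq_zero_of_trace {V : Type v} [AddCommGroup V] [Module ℂ V] [FiniteDimensional ℂ V]
    (T : Module.End ℂ V) (hT : T * T = T) (htr : LinearMap.trace ℂ V T = 0) : T = 0 := by
  have hid : IsIdempotentElem T := hT
  have hproj : LinearMap.IsProj (LinearMap.range T) T :=
    LinearMap.IsIdempotentElem.isProj_range T hid
  have h1 := hproj.trace
  rw [htr] at h1
  have h2 : Module.finrank ℂ (LinearMap.range T) = 0 := by exact_mod_cast h1.symm
  have h3 : LinearMap.range T = ⊥ := Submodule.finrank_eq_zero.mp h2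
  exact LinearMap.range_eq_bot.mp h3

variable {G : Type u} [Group G] [Fintype G] {Ω : Type v} [Fintype Ω] [DecidableEq Ω]
  [MulAction G Ω]

theorem theta_eq_character : theta G Ω = (Cfsg.permRep ℂ G Ω).character := by
  funext g
  rw [permRep_character]
  rfl

end KSUM

variable {G : Type u} [Group G] [Fintype G] {Ω : Type v} [Fintype Ω] [DecidableEq Ω]
  [MulAction G Ω]

/-- PIECE KSUM. -/
theorem K_sum (X : Finset (G → ℂ)) (hX : ∀ χ ∈ X, IsIrrCharacter G χ)
    (hθ : theta G Ω = fun g => ∑ χ ∈ X, χ g) (x y : Ω) :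
    ∑ χ ∈ X, K χ x y = if x = y then 1 else 0 := by
  classical
  set ρ := Cfsg.permRep ℂ G Ω with hρ
  set E : Module.End ℂ (Ω → ℂ) := ∑ χ ∈ X, idem χ ρ with hE
  -- `E` is idempotent
  have hEE : E * E = E := by
    rw [hE, Finset.sum_mul_sum]
    refine Finset.sum_congr rfl fun χ hχ => ?_
    rw [Finset.sum_eq_single χ]
    · rw [idem_mul_idem (hX χ hχ) (hX χ hχ), if_pos rfl]
    · intro ψ hψ hne
      rw [idem_mul_idem (hX χ hχ) (hX ψ hψ), if_neg (Ne.symm hne)]
    · intro h; exact absurd hχ h
  -- its trace is `|Ω|`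
  have hchar : ρ.character = fun g => ∑ χ ∈ X, χ g := by
    rw [← hθ, KSUM.theta_eq_character]
  have hinner : ∀ χ ∈ X, classInner χ ρ.character = 1 := by
    intro χ hχ
    have h1 : ρ.character = ∑ ψ ∈ X, ψ := by
      rw [hchar]; funext g; rw [Finset.sum_apply]
    rw [h1, classInner_sum_right, Finset.sum_eq_single χ]
    · rw [irr_orthogonality (hX χ hχ) (hX χ hχ), if_pos rfl]
    · intro ψ hψ hne
      rw [irr_orthogonality (hX χ hχ) (hX ψ hψ), if_neg (Ne.symm hne)]
    · intro h; exact absurd hχ h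
  have htrE : LinearMap.trace ℂ (Ω → ℂ) E = LinearMap.trace ℂ (Ω → ℂ) (1 : Module.End ℂ (Ω → ℂ)) := by
    rw [hE, map_sum]
    have h1 : ∀ χ ∈ X, LinearMap.trace ℂ (Ω → ℂ) (idem χ ρ) = χ 1 := by
      intro χ hχ
      rw [trace_idem, hinner χ hχ, mul_one]
    rw [Finset.sum_congr rfl h1]
    have h2 : ρ.character 1 = ∑ χ ∈ X, χ 1 := by rw [hchar]
    rw [← h2, Representation.character, map_one]
  -- hence `1 - E = 0`
  have hF : (1 - E) * (1 - E) = 1 - E := by
    rw [mul_sub, sub_mul, sub_mul, hEE, one_mul, mul_one, one_mul, sub_self, sub_zero]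
  have htrF : LinearMap.trace ℂ (Ω → ℂ) (1 - E) = 0 := by
    rw [map_sub, htrE, sub_self]
  have h0 := KSUM.idem_eq_zero_of_trace (1 - E) hF htrF
  have hE1 : E = 1 := (sub_eq_zero.mp h0).symm
  have h3 : ∑ χ ∈ X, K χ x y = ent E x y := by
    rw [hE, ent_sum]
    rfl
  rw [h3, hE1, ent, Module.End.one_apply, Pi.single_apply]
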