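import Mathlib
import Cfsg.Agent.Lib.Helper22.W2PDefs
import Cfsg.Agent.Lib.Helper23.W2PKSUM

/-!
# S0720 piece KTRACE (helper23): the trace of a group element on an isotypic component of
multiplicity one.
-/

set_option autoImplicit false
set_option linter.unusedSectionVars false
set_option linter.unusedVariables false

namespace Cfsg.Agent.Helper22.W2P

open Cfsg Cfsg.Agent.Helper22.PermCent Cfsg.Agent.Helper24

open scoped ComplexConjugate

universe u v

variable {G : Type u} [Group G] [Fintype G] {Ω : Type v} [Fintype Ω] [DecidableEq Ω]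
  [MulAction G Ω]

namespace KTRACE

/-- `∑_h χ(h) φ(h⁻¹ g) = ⟨φ,χ⟩ |G| χ(g)/χ(1)` for a character `φ` and an irreducible `χ`. -/
theorem sum_mul_char {χ φ : G → ℂ} (hχ : IsIrrCharacter G χ) (hφ : IsCharacter G φ) (g : G) :
    ∑ h : G, χ h * φ (h⁻¹ * g) = classInner φ χ * ((Nat.card G : ℂ) * χ g / χ 1) := by
  classical
  let _ : Fintype (IrrCharacter G) := irrFintype
  obtain ⟨-, hdec⟩ := isCharacter_decomp hφ
  have h1 : ∀ w : G, φ w = ∑ ψ : IrrCharacter G, classInner φ (ψ : G → ℂ) * (ψ : G → ℂ) w := by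
    intro w
    conv_lhs => rw [hdec]
    rw [Finset.sum_apply]
    rfl
  have h2 : ∑ h : G, χ h * φ (h⁻¹ * g) =
      ∑ ψ : IrrCharacter G, classInner φ (ψ : G → ℂ) * ∑ h : G, χ h * (ψ : G → ℂ) (h⁻¹ * g) := by
    simp only [Finset.mul_sum]
    rw [Finset.sum_comm]
    refine Finset.sum_congr rfl fun h _ => ?_
    rw [h1 (h⁻¹ * g), Finset.mul_sum]
    refine Finset.sum_congr rfl fun ψ _ => ?_
    ring
  rw [h2, Finset.sum_eq_single (⟨χ, hχ⟩ : IrrCharacter G)]
  · rw [generalized_orthogonality hχ hχ g, if_pos rfl]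
  · intro ψ _ hne
    rw [generalized_orthogonality ψ.2 hχ g, if_neg, mul_zero]
    intro h
    exact hne (Subtype.ext h.symm)
  · intro h
    exact absurd (Finset.mem_univ _) h

end KTRACE

/-- PIECE KTRACE. -/
theorem K_trace {χ : G → ℂ} (hχ : IsIrrCharacter G χ) (h1 : classInner (theta G Ω) χ = 1)
    (g : G) : ∑ x : Ω, K χ x (g • x) = χ g := by
  classical
  set ρ := Cfsg.permRep ℂ G Ω with hρ
  have hθ : theta G Ω = ρ.character := KSUM.theta_eq_character
  have hθc : IsCharacter G (theta G Ω) := by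
    rw [hθ]
    exact isCharacter_of_rep ρ
  have hc := card_ne_zero (G := G)
  have h0 := irr_one_ne_zero hχ
  -- entries of `E ρ(g)`
  have hent : ∀ x : Ω, K χ x (g • x) = ent (idem χ ρ * ρ g) x x := by
    intro x
    rw [ent_mul, Finset.sum_eq_single (g • x)]
    · rw [ent_rho, if_pos rfl, mul_one]
      rfl
    · intro z _ hz
      rw [ent_rho, if_neg hz, mul_zero]
    · intro h; exact absurd (Finset.mem_univ _) h
  rw [Finset.sum_congr rfl fun x _ => hent x, ← trace_eq_sum_ent]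
  -- the trace of `E ρ(g)`
  have htr : LinearMap.trace ℂ (Ω → ℂ) (idem χ ρ * ρ g) =
      ∑ h : G, (χ 1 / (Nat.card G : ℂ) * χ h) * ρ.character (h⁻¹ * g) := by
    rw [idem, fnOp, Finset.sum_mul, map_sum]
    refine Finset.sum_congr rfl fun h _ => ?_
    rw [smul_mul_assoc, map_smul, smul_eq_mul, Representation.character,
      show ρ (h⁻¹ * g) = ρ h⁻¹ * ρ g from map_mul ρ _ _]
  rw [htr, ← hθ]
  have h2 : ∑ h : G, (χ 1 / (Nat.card G : ℂ) * χ h) * theta G Ω (h⁻¹ * g) =
      χ 1 / (Nat.card G : ℂ) * ∑ h : G, χ h * theta G Ω (h⁻¹ * g) := by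
    rw [Finset.mul_sum]
    refine Finset.sum_congr rfl fun h _ => ?_
    ring
  rw [h2, KTRACE.sum_mul_char hχ hθc g, h1]
  field_simp
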