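import Mathlib
import Cfsg.Agent.Lib.Helper26.MHDefs
import Cfsg.Agent.Lib.Helper25.MHINV1

/-!
# S4221 piece VGRP (helper23): the four-group `V = {1, a, a*c, c}` ((I7) of the notes)
-/

set_option autoImplicit false
set_option linter.unusedSectionVars false

namespace Cfsg.Agent.Helper26.MH

open MulAction Cfsg.Agent.Helper22.SharpFour

namespace VGRP

variable {G : Type*} [Group G] {α : Type*} [MulAction G α]

/-- an odd power of an element swapping `p` and `q` still maps `p` to `q` -/
theorem odd_pow_swap {u : G} {p q : α} (hp : u • p = q) (hq : u • q = p) (k : ℕ) :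
    u ^ (2 * k + 1) • p = q := by
  induction k with
  | zero => simpa using hp
  | succ k ih =>
    have e : u ^ (2 * (k + 1) + 1) = u ^ (2 * k + 1) * (u * u) := by
      rw [show 2 * (k + 1) + 1 = (2 * k + 1) + 2 by ring, pow_add, pow_two]
    rw [e, mul_smul, mul_smul, hp, hq, ih]

theorem pow_fix {u : G} {p : α} (hp : u • p = p) (k : ℕ) : u ^ k • p = p := by
  induction k with
  | zero => simp
  | succ k ih => rw [pow_succ, mul_smul, hp, ih]

end VGRP

variable {G : Type*} [Group G] [Finite G] {α : Type*} [Fintype α] [DecidableEq α] [MulAction G α]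

theorem exists_vdata (h : Hall G α) {p q r s : α} (hd : D4 p q r s) : ∃ a c : G, VData p q r s a c := by
  obtain ⟨a, ha, hA⟩ := exists_tyA h hd
  have hd' : D4 r s p q := ⟨hd.cd, hd.ac.symm, hd.bc.symm, hd.ad.symm, hd.bd.symm, hd.ab⟩
  obtain ⟨b, hb, hB⟩ := exists_tyA h hd'
  obtain ⟨ap, aq, ar, as⟩ := hA
  obtain ⟨br, bs, bp, bq⟩ := hB
  set u : G := a * b with hu
  have up : u • p = q := by rw [hu, mul_smul, bp, ap]
  have uq : u • q = p := by rw [hu, mul_smul, bq, aq]
  have ur : u • r = s := by rw [hu, mul_smul, br, as]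
  have us : u • s = r := by rw [hu, mul_smul, bs, ar]
  -- `u * u` lies in the odd-order group `St4`
  have huu : u * u ∈ St4 G p q r s := by
    rw [mem_St4]
    refine ⟨?_, ?_, ?_, ?_⟩
    · rw [mul_smul, up, uq]
    · rw [mul_smul, uq, up]
    · rw [mul_smul, ur, us]
    · rw [mul_smul, us, ur]
  have hodd : Odd (orderOf (u * u)) := by
    have h1 : orderOf (⟨u * u, huu⟩ : St4 G p q r s) ∣ Nat.card (St4 G p q r s) := orderOf_dvd_natCard _
    have h2 : orderOf (⟨u * u, huu⟩ : St4 G p q r s) = orderOf (u * u) := by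
      rw [← Subgroup.orderOf_coe]
    rw [h2] at h1
    exact Odd.of_dvd_nat (h.odd p q r s hd) h1
  obtain ⟨k, hk⟩ := hodd
  set c : G := u ^ (2 * k + 1) with hc
  have hcc : c * c = 1 := by
    rw [hc, ← pow_add, ← two_mul, pow_mul, pow_two, ← hk, pow_orderOf_eq_one]
  have cp : c • p = q := VGRP.odd_pow_swap up uq k
  have cq : c • q = p := VGRP.odd_pow_swap uq up k
  have cr : c • r = s := VGRP.odd_pow_swap ur us k
  have cs : c • s = r := VGRP.odd_pow_swap us ur k
  have hc1 : c ≠ 1 := by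
    intro h1
    rw [h1, one_smul] at cp
    exact hd.ab cp
  -- `a` inverts `u`
  have hau : a * u * a⁻¹ = u⁻¹ := by
    have ha' : a⁻¹ = a := inv_eq_of_mul_eq_one_right ha.1
    have hb' : b⁻¹ = b := inv_eq_of_mul_eq_one_right hb.1
    rw [hu, mul_inv_rev, ha', hb', ← mul_assoc, ha.1, one_mul]
  have hac : a * c * a⁻¹ = c⁻¹ := by
    rw [hc, ← inv_pow, ← hau, conj_pow]
  have hcinv : c⁻¹ = c := inv_eq_of_mul_eq_one_right hcc
  have hcomm : a * c = c * a := by
    rw [hcinv] at hac
    calc a * c = a * c * a⁻¹ * a := by group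
      _ = c * a := by rw [hac]
  exact ⟨a, c, ⟨hd, ha, ⟨hcc, hc1⟩, hcomm, ⟨ap, aq, ar, as⟩, ⟨cp, cq, cr, cs⟩⟩⟩

/-- `b = a*c = (p)(q)(r s)`, an involution, and the data with the roles of the two pairs exchanged -/
theorem VData.swap {p q r s : α} {a c : G} (hV : VData p q r s a c) : VData r s p q (a * c) c := by
  obtain ⟨hd, ha, hc, hcomm, ⟨ap, aq, ar, as⟩, ⟨cp, cq, cr, cs⟩⟩ := hV
  have hd' : D4 r s p q := ⟨hd.cd, hd.ac.symm, hd.bc.symm, hd.ad.symm, hd.bd.symm, hd.ab⟩
  have br : (a * c) • r = s := by rw [mul_smul, cr, as]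
  have bs : (a * c) • s = r := by rw [mul_smul, cs, ar]
  have bp : (a * c) • p = p := by rw [mul_smul, cp, aq]
  have bq : (a * c) • q = q := by rw [mul_smul, cq, ap]
  refine ⟨hd', ⟨?_, ?_⟩, hc, ?_, ⟨br, bs, bp, bq⟩, ⟨cr, cs, cp, cq⟩⟩
  · calc a * c * (a * c) = a * (c * a) * c := by group
      _ = a * (a * c) * c := by rw [hcomm]
      _ = (a * a) * (c * c) := by group
      _ = 1 := by rw [ha.1, hc.1, one_mul]
  · intro h1
    rw [h1, one_smul] at br
    exact hd.cd br
  · calc a * c * c = a * (c * c) := by group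
      _ = a := by rw [hc.1, mul_one]
      _ = (c * c) * a := by rw [hc.1, one_mul]
      _ = c * (c * a) := by group
      _ = c * (a * c) := by rw [hcomm]

end Cfsg.Agent.Helper26.MH
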