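import Mathlib
import Cfsg.Agent.S0190

/-!
# Moments of the fixed-point count of a multiply transitive group (helper23's shared library)
-/

set_option autoImplicit false
set_option linter.unusedSectionVars false
set_option linter.style.haveILetI false

namespace Cfsg.Agent.Helper23.PermMom

open Cfsg

universe u v

section Twisted

variable {G : Type u} [Group G] [Fintype G] {Y : Type v} [MulAction G Y] [Fintype Y]
  [DecidableEq Y]

/-- **twisted Burnside** for a transitive action and an arbitrary map `τ`. -/
theorem twisted_burnside [MulAction.IsPretransitive G Y] [Nonempty Y] (τ : Y → Y) :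
    ∑ g : G, Fintype.card {y : Y // g • y = τ y} = Fintype.card G := by
  classical
  have h1 : ∀ g : G, Fintype.card {y : Y // g • y = τ y} =
      ∑ y : Y, if g • y = τ y then 1 else 0 := by
    intro g
    rw [Fintype.card_subtype, Finset.card_filter]
  simp_rw [h1]
  rw [Finset.sum_comm]
  have h2 : ∀ y : Y, (∑ g : G, if g • y = τ y then 1 else 0) =
      Nat.card (MulAction.stabilizer G y) := by
    intro y
    obtain ⟨y₀, hy₀⟩ := MulAction.exists_smul_eq G y (τ y)
    rw [← Finset.card_filter, ← Fintype.card_subtype, ← hy₀,
      ← Nat.card_eq_fintype_card]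
    exact (Nat.card_congr (Cfsg.Agent.S0190.fiberEquiv Y y y₀)).symm
  simp_rw [h2]
  have h3 : ∀ y : Y, Nat.card (MulAction.stabilizer G y) * Fintype.card Y = Fintype.card G := by
    intro y
    rw [← Nat.card_eq_fintype_card (α := Y), ← MulAction.index_stabilizer_of_transitive G y,
      Subgroup.card_mul_index, Nat.card_eq_fintype_card]
  have h4 : (∑ y : Y, Nat.card (MulAction.stabilizer G y)) * Fintype.card Y =
      Fintype.card G * Fintype.card Y := by
    rw [Finset.sum_mul]
    simp_rw [h3]
    rw [Finset.sum_const, Finset.card_univ, smul_eq_mul, mul_comm]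
  exact Nat.eq_of_mul_eq_mul_right Fintype.card_pos h4

end Twisted

section Emb

variable {X : Type v}

/-- an embedding of `Fin 2` from two distinct points -/
def emb2 (a b : X) (h : a ≠ b) : Fin 2 ↪ X := ⟨![a, b], by
  intro i j hij
  fin_cases i <;> fin_cases j <;> simp_all⟩

/-- an embedding of `Fin 3` from three distinct points -/
def emb3 (a b c : X) (h1 : a ≠ b) (h2 : a ≠ c) (h3 : b ≠ c) : Fin 3 ↪ X := ⟨![a, b, c], by
  intro i j hij
  fin_cases i <;> fin_cases j <;> simp_all⟩

/-- an embedding of `Fin 4` from four distinct points -/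
def emb4 (a b c d : X) (h1 : a ≠ b) (h2 : a ≠ c) (h3 : a ≠ d) (h4 : b ≠ c) (h5 : b ≠ d)
    (h6 : c ≠ d) : Fin 4 ↪ X := ⟨![a, b, c, d], by
  intro i j hij
  fin_cases i <;> fin_cases j <;> simp_all⟩

end Emb

section Counts

variable {X : Type v} [Fintype X] [DecidableEq X] (p : Equiv.Perm X)

/-- the number of fixed points -/
def fixN : ℕ := Fintype.card {x : X // p x = x}

/-- the number of points in `2`-cycles -/
def twoN : ℕ := Fintype.card {a : X // p a ≠ a ∧ p (p a) = a}

theorem count_id (m : ℕ) :
    Fintype.card {e : Fin m ↪ X // ∀ i, p (e i) = e i} = (fixN p).descFactorial m := by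
  have h := Fintype.card_embedding_eq (α := Fin m) (β := {x : X // p x = x})
  rw [Fintype.card_fin] at h
  rw [fixN, ← h]
  apply Fintype.card_congr
  exact
    { toFun := fun e => ⟨fun i => ⟨e.1 i, e.2 i⟩, fun i j hij =>
        e.1.injective (congrArg Subtype.val hij)⟩
      invFun := fun e' => ⟨⟨fun i => (e' i).1, fun i j hij => e'.injective (Subtype.ext hij)⟩,
        fun i => (e' i).2⟩
      left_inv := fun e => by
        apply Subtype.ext
        ext i
        rfl
      right_inv := fun e' => by
        ext i
        rfl }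

theorem ne_of_two {a : X} (ha : p a ≠ a ∧ p (p a) = a) {x : X} (hx : p x = x) :
    x ≠ a ∧ x ≠ p a := by
  constructor
  · rintro rfl
    exact ha.1 hx
  · rintro rfl
    apply ha.1
    have := hx
    rw [ha.2] at this
    exact this.symm

theorem count_swap2 :
    Fintype.card {e : Fin 2 ↪ X // p (e 0) = e 1 ∧ p (e 1) = e 0} = twoN p := by
  rw [twoN]
  apply Fintype.card_congr
  exact
    { toFun := fun e => ⟨e.1 0, by
        refine ⟨?_, ?_⟩
        · rw [e.2.1]
          intro h
          have := e.1.injective h
          exact absurd this (by decide)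
        · rw [e.2.1, e.2.2]⟩
      invFun := fun a => ⟨emb2 a.1 (p a.1) (Ne.symm a.2.1), ⟨rfl, a.2.2⟩⟩
      left_inv := fun e => by
        apply Subtype.ext
        ext i
        fin_cases i
        · rfl
        · exact e.2.1
      right_inv := fun a => Subtype.ext rfl }

theorem count_swap3 :
    Fintype.card {e : Fin 3 ↪ X // p (e 0) = e 0 ∧ p (e 1) = e 2 ∧ p (e 2) = e 1} =
      fixN p * twoN p := by
  rw [fixN, twoN, ← Fintype.card_prod]
  apply Fintype.card_congr
  exact
    { toFun := fun e => (⟨e.1 0, e.2.1⟩, ⟨e.1 1, by
        refine ⟨?_, ?_⟩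
        · rw [e.2.2.1]
          intro h
          have := e.1.injective h
          exact absurd this (by decide)
        · rw [e.2.2.1, e.2.2.2]⟩)
      invFun := fun q => ⟨emb3 q.1.1 q.2.1 (p q.2.1) (ne_of_two p q.2.2 q.1.2).1
        (ne_of_two p q.2.2 q.1.2).2 (Ne.symm q.2.2.1), ⟨q.1.2, rfl, q.2.2.2⟩⟩
      left_inv := fun e => by
        apply Subtype.ext
        ext i
        fin_cases i
        · rfl
        · rfl
        · exact e.2.2.1
      right_inv := fun q => Prod.ext (Subtype.ext rfl) (Subtype.ext rfl) }

theorem count_swap4a :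
    Fintype.card {e : Fin 4 ↪ X // p (e 0) = e 0 ∧ p (e 1) = e 1 ∧ p (e 2) = e 3 ∧
      p (e 3) = e 2} = (fixN p).descFactorial 2 * twoN p := by
  rw [← count_id p 2, twoN, ← Fintype.card_prod]
  apply Fintype.card_congr
  exact
    { toFun := fun e => (⟨emb2 (e.1 0) (e.1 1) (by
          intro h
          have := e.1.injective h
          exact absurd this (by decide)), by
          intro i
          fin_cases i
          · exact e.2.1
          · exact e.2.2.1⟩, ⟨e.1 2, by
        refine ⟨?_, ?_⟩
        · rw [e.2.2.2.1]
          intro h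
          have := e.1.injective h
          exact absurd this (by decide)
        · rw [e.2.2.2.1, e.2.2.2.2]⟩)
      invFun := fun q => ⟨emb4 (q.1.1 0) (q.1.1 1) q.2.1 (p q.2.1)
        (by
          intro h
          have := q.1.1.injective h
          exact absurd this (by decide))
        (ne_of_two p q.2.2 (q.1.2 0)).1 (ne_of_two p q.2.2 (q.1.2 0)).2
        (ne_of_two p q.2.2 (q.1.2 1)).1 (ne_of_two p q.2.2 (q.1.2 1)).2
        (Ne.symm q.2.2.1), ⟨q.1.2 0, q.1.2 1, rfl, q.2.2.2⟩⟩
      left_inv := fun e => by
        apply Subtype.ext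
        ext i
        fin_cases i
        · rfl
        · rfl
        · rfl
        · exact e.2.2.2.1
      right_inv := fun q => by
        apply Prod.ext
        · apply Subtype.ext
          ext i
          fin_cases i <;> rfl
        · exact Subtype.ext rfl }

/-- `p` acts on the points in `2`-cycles -/
def twoMap (a : {a : X // p a ≠ a ∧ p (p a) = a}) : {a : X // p a ≠ a ∧ p (p a) = a} :=
  ⟨p a.1, by
    refine ⟨?_, ?_⟩
    · rw [a.2.2]
      exact Ne.symm a.2.1
    · rw [a.2.2]⟩

theorem twoMap_ne (a : {a : X // p a ≠ a ∧ p (p a) = a}) : twoMap p a ≠ a := by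
  intro h
  exact a.2.1 (congrArg Subtype.val h)

theorem card_avoid (a : {a : X // p a ≠ a ∧ p (p a) = a}) :
    Fintype.card {c : {a : X // p a ≠ a ∧ p (p a) = a} // ¬ (c = a ∨ c = twoMap p a)} =
      twoN p - 2 := by
  rw [Fintype.card_subtype_compl, twoN]
  congr 1
  rw [Fintype.card_subtype]
  have : (Finset.univ.filter fun c : {a : X // p a ≠ a ∧ p (p a) = a} =>
      c = a ∨ c = twoMap p a) = {a, twoMap p a} := by
    ext c
    simp
  rw [this, Finset.card_pair (Ne.symm (twoMap_ne p a))]

theorem count_swap4b :
    Fintype.card {e : Fin 4 ↪ X // p (e 0) = e 1 ∧ p (e 1) = e 0 ∧ p (e 2) = e 3 ∧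
      p (e 3) = e 2} = twoN p * (twoN p - 2) := by
  have h1 : Fintype.card (Σ a : {a : X // p a ≠ a ∧ p (p a) = a},
      {c : {a : X // p a ≠ a ∧ p (p a) = a} // ¬ (c = a ∨ c = twoMap p a)}) =
      twoN p * (twoN p - 2) := by
    rw [Fintype.card_sigma]
    simp_rw [card_avoid]
    rw [Finset.sum_const, Finset.card_univ, smul_eq_mul]
    rfl
  rw [← h1]
  apply Fintype.card_congr
  exact
    { toFun := fun e => ⟨⟨e.1 0, by
          refine ⟨?_, ?_⟩
          · rw [e.2.1]
            intro h
            have := e.1.injective h
            exact absurd this (by decide)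
          · rw [e.2.1, e.2.2.1]⟩, ⟨⟨e.1 2, by
          refine ⟨?_, ?_⟩
          · rw [e.2.2.2.1]
            intro h
            have := e.1.injective h
            exact absurd this (by decide)
          · rw [e.2.2.2.1, e.2.2.2.2]⟩, by
          rintro (h | h)
          · have h' : e.1 2 = e.1 0 := congrArg Subtype.val h
            have := e.1.injective h'
            exact absurd this (by decide)
          · have h' : e.1 2 = p (e.1 0) := congrArg Subtype.val h
            rw [e.2.1] at h'
            have := e.1.injective h'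
            exact absurd this (by decide)⟩⟩
      invFun := fun q => ⟨emb4 q.1.1 (p q.1.1) q.2.1.1 (p q.2.1.1)
        (Ne.symm q.1.2.1)
        (fun h => q.2.2 (Or.inl (Subtype.ext h.symm)))
        (by
          intro h
          apply q.2.2
          right
          apply Subtype.ext
          show q.2.1.1 = p q.1.1
          rw [h, q.2.1.2.2])
        (fun h => q.2.2 (Or.inr (Subtype.ext h.symm)))
        (by
          intro h
          exact q.2.2 (Or.inl (Subtype.ext (p.injective h).symm)))
        (Ne.symm q.2.1.2.1), ⟨rfl, q.1.2.2, rfl, q.2.1.2.2⟩⟩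
      left_inv := fun e => by
        apply Subtype.ext
        ext i
        fin_cases i
        · rfl
        · exact e.2.1
        · rfl
        · exact e.2.2.2.1
      right_inv := fun q => by
        rcases q with ⟨a, c, hc⟩
        rfl }

end Counts

section TwoToOne

theorem card_eq_two_mul {A B : Type*} [Fintype A] [Fintype B] [DecidableEq A] [DecidableEq B]
    (φ : A → B) (ι : A → A) (hsurj : Function.Surjective φ) (hι : ∀ e, ι e ≠ e)
    (hfib : ∀ e e', φ e' = φ e ↔ (e' = e ∨ e' = ι e)) :
    Fintype.card A = 2 * Fintype.card B := by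
  rw [← Finset.card_univ, Finset.card_eq_sum_card_fiberwise (f := φ) (s := Finset.univ)
    (t := Finset.univ) (fun _ _ => Finset.mem_coe.mpr (Finset.mem_univ _))]
  have h : ∀ b ∈ (Finset.univ : Finset B),
      (Finset.univ.filter fun a : A => φ a = b).card = 2 := by
    intro b _
    obtain ⟨e, rfl⟩ := hsurj b
    have : (Finset.univ.filter fun a : A => φ a = φ e) = {e, ι e} := by
      ext a
      simp [hfib]
    rw [this, Finset.card_pair (Ne.symm (hι e))]
  rw [Finset.sum_congr rfl h, Finset.sum_const, Finset.card_univ, smul_eq_mul, mul_comm]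

theorem finset_pair_eq_iff {X : Type*} [DecidableEq X] {x y z w : X} :
    ({x, y} : Finset X) = {z, w} ↔ x = z ∧ y = w ∨ x = w ∧ y = z := by
  rw [← Finset.coe_inj]
  simp only [Finset.coe_insert, Finset.coe_singleton]
  exact Set.pair_eq_pair_iff

end TwoToOne

section TwoSets

variable {X : Type v} [Fintype X] [DecidableEq X] (p : Equiv.Perm X)

theorem count_pairs :
    Fintype.card {s : Finset X // s.card = 2 ∧ s.image p = s} * 2 =
      (fixN p).descFactorial 2 + twoN p := by
  classical
  have hA : Fintype.card {e : Fin 2 ↪ X // (p (e 0) = e 0 ∧ p (e 1) = e 1) ∨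
      (p (e 0) = e 1 ∧ p (e 1) = e 0)} = (fixN p).descFactorial 2 + twoN p := by
    rw [Fintype.card_subtype_or_disjoint, ← count_id p 2, ← count_swap2 p]
    · congr 1
      apply Fintype.card_congr
      apply Equiv.subtypeEquivRight
      intro e
      rw [Fin.forall_fin_two]
    · rw [Pi.disjoint_iff]
      intro e
      rw [Prop.disjoint_iff]
      rintro ⟨h1, h2⟩
      have h3 := h2.1
      rw [h1.1] at h3
      have := e.injective h3
      exact absurd this (by decide)
  rw [← hA, mul_comm]
  symm
  apply card_eq_two_mul
    (φ := fun e : {e : Fin 2 ↪ X // (p (e 0) = e 0 ∧ p (e 1) = e 1) ∨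
      (p (e 0) = e 1 ∧ p (e 1) = e 0)} =>
      (⟨{e.1 0, e.1 1}, by
        have hne : e.1 0 ≠ e.1 1 := by
          intro h
          have := e.1.injective h
          exact absurd this (by decide)
        refine ⟨Finset.card_pair hne, ?_⟩
        rw [Finset.image_insert, Finset.image_singleton]
        rcases e.2 with h | h
        · rw [h.1, h.2]
        · rw [h.1, h.2, Finset.pair_comm]⟩ :
        {s : Finset X // s.card = 2 ∧ s.image p = s}))
    (ι := fun e => ⟨emb2 (e.1 1) (e.1 0) (by
        intro h
        have := e.1.injective h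
        exact absurd this (by decide)), by
      rcases e.2 with h | h
      · left
        exact ⟨h.2, h.1⟩
      · right
        exact ⟨h.2, h.1⟩⟩)
  · rintro ⟨s, hs2, hsp⟩
    obtain ⟨a, b, hab, rfl⟩ := Finset.card_eq_two.mp hs2
    have ha : p a ∈ ({a, b} : Finset X) := by
      rw [← hsp]
      exact Finset.mem_image_of_mem _ (Finset.mem_insert_self _ _)
    have hb : p b ∈ ({a, b} : Finset X) := by
      rw [← hsp]
      exact Finset.mem_image_of_mem _ (Finset.mem_insert_of_mem (Finset.mem_singleton_self _))
    have hpab : p a ≠ p b := fun h => hab (p.injective h)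
    simp only [Finset.mem_insert, Finset.mem_singleton] at ha hb
    have hcond : (p a = a ∧ p b = b) ∨ (p a = b ∧ p b = a) := by
      rcases ha with ha | ha
      · rcases hb with hb | hb
        · exact absurd (ha.trans hb.symm) hpab
        · exact Or.inl ⟨ha, hb⟩
      · rcases hb with hb | hb
        · exact Or.inr ⟨ha, hb⟩
        · exact absurd (ha.trans hb.symm) hpab
    exact ⟨⟨emb2 a b hab, hcond⟩, rfl⟩
  · intro e h
    have h' := congrArg (fun e' : {e : Fin 2 ↪ X // (p (e 0) = e 0 ∧ p (e 1) = e 1) ∨
      (p (e 0) = e 1 ∧ p (e 1) = e 0)} => e'.1 0) h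
    have h2 : e.1 1 = e.1 0 := h'
    have := e.1.injective h2
    exact absurd this (by decide)
  · intro e e'
    constructor
    · intro h
      have h1 : ({e'.1 0, e'.1 1} : Finset X) = {e.1 0, e.1 1} := congrArg Subtype.val h
      rw [finset_pair_eq_iff] at h1
      rcases h1 with h1 | h1
      · left
        apply Subtype.ext
        ext i
        fin_cases i
        · exact h1.1
        · exact h1.2
      · right
        apply Subtype.ext
        ext i
        fin_cases i
        · exact h1.1
        · exact h1.2
    · rintro (rfl | rfl)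
      · rfl
      · apply Subtype.ext
        exact Finset.pair_comm _ _

end TwoSets

section Moments

open MulAction

variable {G : Type u} [Group G] [Fintype G] {X : Type v} [MulAction G X] [Fintype X]
  [DecidableEq X]

theorem twisted_burnside' {Y : Type*} [MulAction G Y] [Finite Y] [MulAction.IsPretransitive G Y]
    [Nonempty Y] (τ : Y → Y) :
    ∑ g : G, Nat.card {y : Y // g • y = τ y} = Fintype.card G := by
  classical
  haveI : Fintype Y := Fintype.ofFinite Y
  rw [← twisted_burnside (G := G) τ]
  apply Finset.sum_congr rfl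
  intro g _
  exact Nat.card_eq_fintype_card

variable (X) in
/-- the permutation of `X` induced by `g` -/
abbrev pm (g : G) : Equiv.Perm X := MulAction.toPerm g

theorem sum_desc (m : ℕ) (hm : IsMultiplyPretransitive G X m) (hX : m ≤ Fintype.card X) :
    ∑ g : G, (fixN (pm X g)).descFactorial m = Fintype.card G := by
  haveI : MulAction.IsPretransitive G (Fin m ↪ X) := hm
  haveI : Nonempty (Fin m ↪ X) := Function.Embedding.nonempty_of_card_le (by simpa using hX)
  rw [← twisted_burnside' (G := G) (Y := Fin m ↪ X) id]
  apply Finset.sum_congr rfl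
  intro g _
  rw [← count_id, ← Nat.card_eq_fintype_card]
  apply Nat.card_congr
  apply Equiv.subtypeEquivRight
  intro e
  rw [id, Function.Embedding.ext_iff]
  rfl

theorem sum_two (hm : IsMultiplyPretransitive G X 2) (hX : 2 ≤ Fintype.card X) :
    ∑ g : G, twoN (pm X g) = Fintype.card G := by
  haveI : MulAction.IsPretransitive G (Fin 2 ↪ X) := hm
  haveI : Nonempty (Fin 2 ↪ X) := Function.Embedding.nonempty_of_card_le (by simpa using hX)
  rw [← twisted_burnside' (G := G) (Y := Fin 2 ↪ X)
    (fun e => emb2 (e 1) (e 0) (fun h => absurd (e.injective h) (by decide)))]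
  apply Finset.sum_congr rfl
  intro g _
  rw [← count_swap2, ← Nat.card_eq_fintype_card]
  apply Nat.card_congr
  apply Equiv.subtypeEquivRight
  intro e
  rw [Function.Embedding.ext_iff, Fin.forall_fin_two]
  rfl

theorem sum_fix_two (hm : IsMultiplyPretransitive G X 3) (hX : 3 ≤ Fintype.card X) :
    ∑ g : G, fixN (pm X g) * twoN (pm X g) = Fintype.card G := by
  haveI : MulAction.IsPretransitive G (Fin 3 ↪ X) := hm
  haveI : Nonempty (Fin 3 ↪ X) := Function.Embedding.nonempty_of_card_le (by simpa using hX)
  rw [← twisted_burnside' (G := G) (Y := Fin 3 ↪ X)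
    (fun e => emb3 (e 0) (e 2) (e 1) (fun h => absurd (e.injective h) (by decide))
      (fun h => absurd (e.injective h) (by decide)) (fun h => absurd (e.injective h) (by decide)))]
  apply Finset.sum_congr rfl
  intro g _
  rw [← count_swap3, ← Nat.card_eq_fintype_card]
  apply Nat.card_congr
  apply Equiv.subtypeEquivRight
  intro e
  rw [Function.Embedding.ext_iff, Fin.forall_fin_succ, Fin.forall_fin_two]
  rfl

theorem sum_fix2_two (hm : IsMultiplyPretransitive G X 4) (hX : 4 ≤ Fintype.card X) :
    ∑ g : G, (fixN (pm X g)).descFactorial 2 * twoN (pm X g) = Fintype.card G := by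
  haveI : MulAction.IsPretransitive G (Fin 4 ↪ X) := hm
  haveI : Nonempty (Fin 4 ↪ X) := Function.Embedding.nonempty_of_card_le (by simpa using hX)
  rw [← twisted_burnside' (G := G) (Y := Fin 4 ↪ X)
    (fun e => emb4 (e 0) (e 1) (e 3) (e 2) (fun h => absurd (e.injective h) (by decide))
      (fun h => absurd (e.injective h) (by decide)) (fun h => absurd (e.injective h) (by decide))
      (fun h => absurd (e.injective h) (by decide)) (fun h => absurd (e.injective h) (by decide))
      (fun h => absurd (e.injective h) (by decide)))]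
  apply Finset.sum_congr rfl
  intro g _
  rw [← count_swap4a, ← Nat.card_eq_fintype_card]
  apply Nat.card_congr
  apply Equiv.subtypeEquivRight
  intro e
  rw [Function.Embedding.ext_iff, Fin.forall_fin_succ, Fin.forall_fin_succ, Fin.forall_fin_two]
  rfl

theorem sum_two_two (hm : IsMultiplyPretransitive G X 4) (hX : 4 ≤ Fintype.card X) :
    ∑ g : G, twoN (pm X g) * (twoN (pm X g) - 2) = Fintype.card G := by
  haveI : MulAction.IsPretransitive G (Fin 4 ↪ X) := hm
  haveI : Nonempty (Fin 4 ↪ X) := Function.Embedding.nonempty_of_card_le (by simpa using hX)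
  rw [← twisted_burnside' (G := G) (Y := Fin 4 ↪ X)
    (fun e => emb4 (e 1) (e 0) (e 3) (e 2) (fun h => absurd (e.injective h) (by decide))
      (fun h => absurd (e.injective h) (by decide)) (fun h => absurd (e.injective h) (by decide))
      (fun h => absurd (e.injective h) (by decide)) (fun h => absurd (e.injective h) (by decide))
      (fun h => absurd (e.injective h) (by decide)))]
  apply Finset.sum_congr rfl
  intro g _
  rw [← count_swap4b, ← Nat.card_eq_fintype_card]
  apply Nat.card_congr
  apply Equiv.subtypeEquivRight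
  intro e
  rw [Function.Embedding.ext_iff, Fin.forall_fin_succ, Fin.forall_fin_succ, Fin.forall_fin_two]
  rfl

end Moments

end Cfsg.Agent.Helper23.PermMom
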