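import Mathlib
import Cfsg.Agent.Lib.Helper23.PermMoments
import Cfsg.Agent.Lib.Helper18.PermCharOrbits
import Cfsg.Agent.Lib.Helper18.GenChar
import Cfsg.Agent.Lib.Helper8.CharExtra
import Cfsg.Agent.Lib.Helper24.CharComplete

/-!
# Three irreducible characters of a `4`-transitive group (helper23's shared library)

`π₁ - 1`, `π₂ - π₁` and `π₁₁ - π₂ - π₁ + 1`.
-/

set_option autoImplicit false
set_option linter.unusedSectionVars false
set_option linter.style.haveILetI false

namespace Cfsg.Agent.Helper23.PermMom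

open Cfsg Cfsg.Agent.Helper24 Cfsg.Agent.Helper18 MulAction
open scoped ComplexConjugate

universe u v

section Casts

theorem cast_desc2 (a : ℕ) : ((a.descFactorial 2 : ℕ) : ℂ) = a * (a - 1) :=
  Nat.cast_descFactorial_two ℂ a

theorem cast_desc3 (a : ℕ) : ((a.descFactorial 3 : ℕ) : ℂ) = a * (a - 1) * (a - 2) := by
  rw [Nat.descFactorial_succ, Nat.cast_mul, cast_desc2]
  by_cases h : 2 ≤ a
  · rw [Nat.cast_sub h]
    push_cast
    ring
  · have : a = 0 ∨ a = 1 := by omega
    rcases this with rfl | rfl <;> simp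

theorem cast_desc4 (a : ℕ) :
    ((a.descFactorial 4 : ℕ) : ℂ) = a * (a - 1) * (a - 2) * (a - 3) := by
  rw [Nat.descFactorial_succ, Nat.cast_mul, cast_desc3]
  by_cases h : 3 ≤ a
  · rw [Nat.cast_sub h]
    push_cast
    ring
  · have : a = 0 ∨ a = 1 ∨ a = 2 := by omega
    rcases this with rfl | rfl | rfl <;> norm_num

end Casts

section TwoNe

variable {X : Type v} [Fintype X] [DecidableEq X] (p : Equiv.Perm X)

theorem twoN_ne_one : twoN p ≠ 1 := by
  intro h
  rw [twoN, Fintype.card_eq_one_iff] at h
  obtain ⟨a, ha⟩ := h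
  exact twoMap_ne p a (ha (twoMap p a))

theorem cast_two_two : ((twoN p * (twoN p - 2) : ℕ) : ℂ) = (twoN p : ℂ) * ((twoN p : ℂ) - 2) := by
  by_cases h : 2 ≤ twoN p
  · rw [Nat.cast_mul, Nat.cast_sub h]
    push_cast
    ring
  · have h1 := twoN_ne_one p
    have : twoN p = 0 := by omega
    rw [this]
    simp

end TwoNe

section CSums

variable {G : Type u} [Group G] [Fintype G] (X : Type v) [MulAction G X] [Fintype X]
  [DecidableEq X]

/-- the number of fixed points of `g`, as a complex number -/
noncomputable def fC (g : G) : ℂ := (fixN (pm X g) : ℂ)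

/-- the number of points in `2`-cycles of `g`, as a complex number -/
noncomputable def tC (g : G) : ℂ := (twoN (pm X g) : ℂ)

variable {X}

theorem conj_fC (g : G) : conj (fC X g) = fC X g := Complex.conj_natCast _

theorem conj_tC (g : G) : conj (tC X g) = tC X g := Complex.conj_natCast _

variable (h4 : IsMultiplyPretransitive G X 4) (hX : 4 ≤ Fintype.card X)
include h4 hX

theorem trans_le {m : ℕ} (hm : m ≤ 4) : IsMultiplyPretransitive G X m := by
  haveI := h4
  exact isMultiplyPretransitive_of_le hm (by rw [Nat.card_eq_fintype_card]; exact hX)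

theorem csum_f1 : ∑ g : G, fC X g = (Fintype.card G : ℂ) := by
  have h := sum_desc (G := G) (X := X) 1 (trans_le h4 hX (by norm_num)) (by omega)
  have h' := congrArg (fun n : ℕ => (n : ℂ)) h
  simp only [Nat.cast_sum, Nat.descFactorial_one] at h'
  exact h'

theorem csum_f2 : ∑ g : G, fC X g * (fC X g - 1) = (Fintype.card G : ℂ) := by
  have h := sum_desc (G := G) (X := X) 2 (trans_le h4 hX (by norm_num)) (by omega)
  have h' := congrArg (fun n : ℕ => (n : ℂ)) h
  simp only [Nat.cast_sum, cast_desc2] at h'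
  exact h'

theorem csum_f3 : ∑ g : G, fC X g * (fC X g - 1) * (fC X g - 2) = (Fintype.card G : ℂ) := by
  have h := sum_desc (G := G) (X := X) 3 (trans_le h4 hX (by norm_num)) (by omega)
  have h' := congrArg (fun n : ℕ => (n : ℂ)) h
  simp only [Nat.cast_sum, cast_desc3] at h'
  exact h'

theorem csum_f4 : ∑ g : G, fC X g * (fC X g - 1) * (fC X g - 2) * (fC X g - 3) =
    (Fintype.card G : ℂ) := by
  have h := sum_desc (G := G) (X := X) 4 h4 hX
  have h' := congrArg (fun n : ℕ => (n : ℂ)) h
  simp only [Nat.cast_sum, cast_desc4] at h'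
  exact h'

theorem csum_t : ∑ g : G, tC X g = (Fintype.card G : ℂ) := by
  have h := sum_two (G := G) (X := X) (trans_le h4 hX (by norm_num)) (by omega)
  have h' := congrArg (fun n : ℕ => (n : ℂ)) h
  simp only [Nat.cast_sum] at h'
  exact h'

theorem csum_ft : ∑ g : G, fC X g * tC X g = (Fintype.card G : ℂ) := by
  have h := sum_fix_two (G := G) (X := X) (trans_le h4 hX (by norm_num)) (by omega)
  have h' := congrArg (fun n : ℕ => (n : ℂ)) h
  simp only [Nat.cast_sum, Nat.cast_mul] at h'
  exact h'

theorem csum_f2t : ∑ g : G, fC X g * (fC X g - 1) * tC X g = (Fintype.card G : ℂ) := by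
  have h := sum_fix2_two (G := G) (X := X) h4 hX
  have h' := congrArg (fun n : ℕ => (n : ℂ)) h
  simp only [Nat.cast_sum, Nat.cast_mul, cast_desc2] at h'
  exact h'

theorem csum_tt : ∑ g : G, tC X g * (tC X g - 2) = (Fintype.card G : ℂ) := by
  have h := sum_two_two (G := G) (X := X) h4 hX
  have h' := congrArg (fun n : ℕ => (n : ℂ)) h
  simp only [Nat.cast_sum, cast_two_two] at h'
  exact h'

/-- the three class functions -/
theorem norm_A : ∑ g : G, (fC X g - 1) * (fC X g - 1) = (Fintype.card G : ℂ) := by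
  have e : ∀ g : G, (fC X g - 1) * (fC X g - 1) = fC X g * (fC X g - 1) - fC X g + 1 := by
    intro g
    ring
  simp_rw [e]
  rw [Finset.sum_add_distrib, Finset.sum_sub_distrib, csum_f1 h4 hX, csum_f2 h4 hX]
  simp

theorem norm_B : ∑ g : G, (fC X g * (fC X g - 1) + tC X g - 2 * fC X g) *
    (fC X g * (fC X g - 1) + tC X g - 2 * fC X g) = 4 * (Fintype.card G : ℂ) := by
  have e : ∀ g : G, (fC X g * (fC X g - 1) + tC X g - 2 * fC X g) *
      (fC X g * (fC X g - 1) + tC X g - 2 * fC X g) =
      fC X g * (fC X g - 1) * (fC X g - 2) * (fC X g - 3) - 2 * (fC X g * (fC X g - 1))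
        + 4 * fC X g + 2 * (fC X g * (fC X g - 1) * tC X g) - 4 * (fC X g * tC X g)
        + tC X g * (tC X g - 2) + 2 * tC X g := by
    intro g
    ring
  simp_rw [e]
  simp only [Finset.sum_add_distrib, Finset.sum_sub_distrib, ← Finset.mul_sum]
  rw [csum_f1 h4 hX, csum_f2 h4 hX, csum_f4 h4 hX, csum_t h4 hX, csum_ft h4 hX,
    csum_f2t h4 hX, csum_tt h4 hX]
  ring

theorem norm_C : ∑ g : G, (fC X g * (fC X g - 1) - tC X g - 2 * fC X g + 2) *
    (fC X g * (fC X g - 1) - tC X g - 2 * fC X g + 2) = 4 * (Fintype.card G : ℂ) := by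
  have e : ∀ g : G, (fC X g * (fC X g - 1) - tC X g - 2 * fC X g + 2) *
      (fC X g * (fC X g - 1) - tC X g - 2 * fC X g + 2) =
      fC X g * (fC X g - 1) * (fC X g - 2) * (fC X g - 3) + 2 * (fC X g * (fC X g - 1))
        - 4 * fC X g + 4 - 2 * (fC X g * (fC X g - 1) * tC X g) + 4 * (fC X g * tC X g)
        - 2 * tC X g + tC X g * (tC X g - 2) := by
    intro g
    ring
  simp_rw [e]
  simp only [Finset.sum_add_distrib, Finset.sum_sub_distrib, ← Finset.mul_sum]
  rw [csum_f1 h4 hX, csum_f2 h4 hX, csum_f4 h4 hX, csum_t h4 hX, csum_ft h4 hX,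
    csum_f2t h4 hX, csum_tt h4 hX]
  simp only [Finset.sum_const, Finset.card_univ, nsmul_eq_mul]
  ring

end CSums

section Chars

variable {G : Type u} [Group G] [Fintype G]

theorem isIrr_of_genChar_norm_one_pos {θ : G → ℂ} (hθ : IsGeneralizedCharacter G θ)
    (h : classInner θ θ = 1) (hpos : 0 < (θ 1).re) : IsIrrCharacter G θ := by
  rcases Cfsg.Agent.Helper8.genChar_norm_one hθ h with h1 | h1
  · exact h1
  · exfalso
    have h2 := irr_one_eq_charDegree h1
    have h3 : (θ 1).re = -(charDegree (-θ) : ℝ) := by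
      have : θ 1 = -((charDegree (-θ) : ℕ) : ℂ) := by
        rw [← h2]
        simp
      rw [this]
      simp
    rw [h3] at hpos
    have : (0 : ℝ) ≤ (charDegree (-θ) : ℝ) := Nat.cast_nonneg _
    linarith

theorem isCharacter_permChar_of_transitive {Y : Type*} [MulAction G Y] [Finite Y]
    [MulAction.IsPretransitive G Y] [Nonempty Y] : IsCharacter G (permChar G Y) := by
  obtain ⟨y⟩ := ‹Nonempty Y›
  have h := Cfsg.Agent.S0190.result (G := G) Y y
  have h' : permChar G Y = indFun (MulAction.stabilizer G y) (fun _ => 1) := h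
  rw [h']
  exact isCharacter_indFun _ isCharacter_one

variable (G) (X : Type v) [MulAction G X] [Fintype X] [DecidableEq X]

/-- `π₁ - 1` -/
noncomputable def chA : G → ℂ := fun g => fC X g - 1

/-- `π₂ - π₁` -/
noncomputable def chB : G → ℂ := fun g => (fC X g * (fC X g - 1) + tC X g) / 2 - fC X g

/-- `π₁₁ - π₂ - π₁ + 1` -/
noncomputable def chC : G → ℂ :=
  fun g => fC X g * (fC X g - 1) - (fC X g * (fC X g - 1) + tC X g) / 2 - fC X g + 1

variable {G X}

theorem permChar_X (g : G) : permChar G X g = fC X g := by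
  rw [permChar_apply, fC, fixN, Nat.card_eq_fintype_card]
  congr 1

theorem permChar_E2 (g : G) : permChar G (Fin 2 ↪ X) g = fC X g * (fC X g - 1) := by
  rw [permChar_apply, fC, ← cast_desc2, ← count_id (pm X g) 2, ← Nat.card_eq_fintype_card]
  congr 1
  apply Nat.card_congr
  apply Equiv.subtypeEquivRight
  intro e
  rw [MulAction.mem_fixedBy, Function.Embedding.ext_iff]
  rfl

theorem permChar_P2 (g : G) :
    permChar G (Set.powersetCard X 2) g = (fC X g * (fC X g - 1) + tC X g) / 2 := by
  have h := count_pairs (pm X g)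
  have h' := congrArg (fun n : ℕ => (n : ℂ)) h
  simp only [Nat.cast_mul, Nat.cast_add, cast_desc2, Nat.cast_ofNat] at h'
  rw [eq_div_iff (two_ne_zero), permChar_apply, fC, tC, ← h', ← Nat.card_eq_fintype_card]
  congr 2
  apply Nat.card_congr
  exact
    { toFun := fun s => ⟨(s.1 : Finset X), ⟨s.1.2, by
        have h1 := s.2
        rw [MulAction.mem_fixedBy] at h1
        have h2 := congrArg (fun t : Set.powersetCard X 2 => (t : Finset X)) h1
        simp only [Set.powersetCard.coe_smul] at h2
        exact h2⟩⟩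
      invFun := fun s => ⟨⟨s.1, s.2.1⟩, by
        rw [MulAction.mem_fixedBy]
        apply Subtype.ext
        rw [Set.powersetCard.coe_smul]
        exact s.2.2⟩
      left_inv := fun s => rfl
      right_inv := fun s => rfl }

end Chars

section Irr

variable {G : Type u} [Group G] [Fintype G] {X : Type v} [MulAction G X] [Fintype X]
  [DecidableEq X]

theorem fC_one : fC X (1 : G) = (Fintype.card X : ℂ) := by
  rw [fC, fixN]
  congr 1
  apply Fintype.card_congr
  exact
    { toFun := fun x => x.1
      invFun := fun x => ⟨x, by simp [pm]⟩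
      left_inv := fun x => rfl
      right_inv := fun x => rfl }

theorem tC_one : tC X (1 : G) = 0 := by
  rw [tC, twoN]
  have : IsEmpty {a : X // (pm X (1 : G)) a ≠ a ∧ (pm X (1 : G)) ((pm X (1 : G)) a) = a} := by
    constructor
    rintro ⟨a, h1, _⟩
    apply h1
    simp [pm]
  rw [Fintype.card_eq_zero]
  simp

omit [MulAction G X] [Fintype X] [DecidableEq X] in
theorem card_ne_zero' : (Nat.card G : ℂ) ≠ 0 := by
  have : Nat.card G ≠ 0 := Nat.card_pos.ne'
  exact_mod_cast this

variable (h4 : IsMultiplyPretransitive G X 4) (hX : 4 ≤ Fintype.card X)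
include h4 hX

theorem isChar_X : IsCharacter G (permChar G X) := by
  haveI : MulAction.IsPretransitive G X :=
    is_one_pretransitive_iff.mp (trans_le h4 hX (by norm_num))
  haveI : Nonempty X := Fintype.card_pos_iff.mp (by omega)
  exact isCharacter_permChar_of_transitive

theorem isChar_E2 : IsCharacter G (permChar G (Fin 2 ↪ X)) := by
  haveI : MulAction.IsPretransitive G (Fin 2 ↪ X) := trans_le h4 hX (by norm_num)
  haveI : Nonempty (Fin 2 ↪ X) :=
    Function.Embedding.nonempty_of_card_le (by rw [Fintype.card_fin]; omega)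
  exact isCharacter_permChar_of_transitive

theorem isChar_P2 : IsCharacter G (permChar G (Set.powersetCard X 2)) := by
  haveI : MulAction.IsPretransitive G (Set.powersetCard X 2) :=
    Set.powersetCard.isPretransitive_of_isMultiplyPretransitive G
      (trans_le h4 hX (by norm_num))
  haveI : Nonempty (Fin 2 ↪ X) :=
    Function.Embedding.nonempty_of_card_le (by rw [Fintype.card_fin]; omega)
  haveI : Nonempty (Set.powersetCard X 2) := by
    obtain ⟨e⟩ := ‹Nonempty (Fin 2 ↪ X)›
    exact ⟨Set.powersetCard.mulActionHom_of_embedding G X 2 e⟩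
  exact isCharacter_permChar_of_transitive

theorem isGenChar_chA : IsGeneralizedCharacter G (chA G X) := by
  have h : chA G X = permChar G X - fun _ => (1 : ℂ) := by
    funext g
    rw [Pi.sub_apply, permChar_X (X := X)]
    rfl
  rw [h]
  exact isGenChar_sub (isGenChar_of_isCharacter (isChar_X h4 hX)) isGenChar_one

theorem isGenChar_chB : IsGeneralizedCharacter G (chB G X) := by
  have h : chB G X = permChar G (Set.powersetCard X 2) - permChar G X := by
    funext g
    rw [Pi.sub_apply, permChar_P2, permChar_X (X := X)]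
    rfl
  rw [h]
  exact isGenChar_sub (isGenChar_of_isCharacter (isChar_P2 h4 hX))
    (isGenChar_of_isCharacter (isChar_X h4 hX))

theorem isGenChar_chC : IsGeneralizedCharacter G (chC G X) := by
  have h : chC G X = permChar G (Fin 2 ↪ X) - permChar G (Set.powersetCard X 2) - permChar G X
      + fun _ => (1 : ℂ) := by
    funext g
    rw [Pi.add_apply, Pi.sub_apply, Pi.sub_apply, permChar_P2, permChar_E2, permChar_X (X := X)]
    rfl
  rw [h]
  exact isGenChar_add (isGenChar_sub (isGenChar_sub (isGenChar_of_isCharacter (isChar_E2 h4 hX))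
    (isGenChar_of_isCharacter (isChar_P2 h4 hX))) (isGenChar_of_isCharacter (isChar_X h4 hX)))
    isGenChar_one

theorem isIrr_chA : IsIrrCharacter G (chA G X) := by
  apply isIrr_of_genChar_norm_one_pos (isGenChar_chA h4 hX)
  · unfold classInner
    have e : ∀ g : G, chA G X g * conj (chA G X g) = (fC X g - 1) * (fC X g - 1) := by
      intro g
      unfold chA
      rw [map_sub, conj_fC (X := X), map_one]
    simp_rw [e]
    rw [norm_A h4 hX, Nat.card_eq_fintype_card]
    exact inv_mul_cancel₀ (by
      have := card_ne_zero' (G := G)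
      rwa [Nat.card_eq_fintype_card] at this)
  · unfold chA
    rw [fC_one]
    have : ((Fintype.card X : ℂ) - 1).re = (Fintype.card X : ℝ) - 1 := by simp
    rw [this]
    have : (4 : ℝ) ≤ (Fintype.card X : ℝ) := by exact_mod_cast hX
    linarith

theorem isIrr_chB : IsIrrCharacter G (chB G X) := by
  apply isIrr_of_genChar_norm_one_pos (isGenChar_chB h4 hX)
  · unfold classInner
    have e : ∀ g : G, chB G X g * conj (chB G X g) =
        (1 / 4 : ℂ) * ((fC X g * (fC X g - 1) + tC X g - 2 * fC X g) *
        (fC X g * (fC X g - 1) + tC X g - 2 * fC X g)) := by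
      intro g
      unfold chB
      simp only [map_sub, map_add, map_mul, map_div₀, conj_fC (X := X), conj_tC (X := X), map_one,
        map_ofNat]
      ring
    simp_rw [e]
    rw [← Finset.mul_sum, norm_B h4 hX, Nat.card_eq_fintype_card]
    have := card_ne_zero' (G := G)
    rw [Nat.card_eq_fintype_card] at this
    field_simp
  · unfold chB
    rw [fC_one, tC_one]
    have : (((Fintype.card X : ℂ) * ((Fintype.card X : ℂ) - 1) + 0) / 2 - (Fintype.card X : ℂ)).re
        = ((Fintype.card X : ℝ) * ((Fintype.card X : ℝ) - 1)) / 2 - (Fintype.card X : ℝ) := by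
      have h2 : ((Fintype.card X : ℂ) * ((Fintype.card X : ℂ) - 1) + 0) / 2 - (Fintype.card X : ℂ)
          = (((Fintype.card X : ℝ) * ((Fintype.card X : ℝ) - 1) / 2 - (Fintype.card X : ℝ) : ℝ) : ℂ) := by
        push_cast
        ring
      rw [h2, Complex.ofReal_re]
    rw [this]
    have : (4 : ℝ) ≤ (Fintype.card X : ℝ) := by exact_mod_cast hX
    nlinarith

theorem isIrr_chC : IsIrrCharacter G (chC G X) := by
  apply isIrr_of_genChar_norm_one_pos (isGenChar_chC h4 hX)
  · unfold classInner
    have e : ∀ g : G, chC G X g * conj (chC G X g) =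
        (1 / 4 : ℂ) * ((fC X g * (fC X g - 1) - tC X g - 2 * fC X g + 2) *
        (fC X g * (fC X g - 1) - tC X g - 2 * fC X g + 2)) := by
      intro g
      unfold chC
      simp only [map_sub, map_add, map_mul, map_div₀, conj_fC (X := X), conj_tC (X := X), map_one,
        map_ofNat]
      ring
    simp_rw [e]
    rw [← Finset.mul_sum, norm_C h4 hX, Nat.card_eq_fintype_card]
    have := card_ne_zero' (G := G)
    rw [Nat.card_eq_fintype_card] at this
    field_simp
  · unfold chC
    rw [fC_one, tC_one]
    have : ((Fintype.card X : ℂ) * ((Fintype.card X : ℂ) - 1) -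
        ((Fintype.card X : ℂ) * ((Fintype.card X : ℂ) - 1) + 0) / 2 - (Fintype.card X : ℂ) + 1).re
        = ((Fintype.card X : ℝ) * ((Fintype.card X : ℝ) - 1)) / 2 - (Fintype.card X : ℝ) + 1 := by
      have h2 : (Fintype.card X : ℂ) * ((Fintype.card X : ℂ) - 1) -
        ((Fintype.card X : ℂ) * ((Fintype.card X : ℂ) - 1) + 0) / 2 - (Fintype.card X : ℂ) + 1
          = (((Fintype.card X : ℝ) * ((Fintype.card X : ℝ) - 1) / 2 - (Fintype.card X : ℝ) + 1 : ℝ) : ℂ) := by
        push_cast
        ring
      rw [h2, Complex.ofReal_re]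
    rw [this]
    have : (4 : ℝ) ≤ (Fintype.card X : ℝ) := by exact_mod_cast hX
    nlinarith

end Irr

end Cfsg.Agent.Helper23.PermMom
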