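import Mathlib
import Cfsg.Prelude
import Cfsg.Agent.Lib.Helper17.ExtraEigC

/-!
# S6002: the extraspecial group `2^{1+4}_-` in `Sp₄(p)` -- shared definitions (helper23)

`I4 = Fin 2 ⊕ Fin 2` is the index type of the statement; the normaliser analysis is done in
`GL (Fin 4) F` (so that helper17's `ExtraEig` library applies) through the reindexing
isomorphism `rho`.
-/

set_option autoImplicit false

namespace Cfsg.Agent.Helper23.Sp4

open Matrix

/-- the index type of the statement -/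
abbrev I4 : Type := Fin 2 ⊕ Fin 2

variable {F : Type*} [Field F]

/-- reindexing `GL (Fin 2 ⊕ Fin 2) F ≃* GL (Fin 4) F` -/
def rho : GL I4 F ≃* GL (Fin 4) F :=
  Cfsg.Geo.glReindex (finSumFinEquiv : Fin 2 ⊕ Fin 2 ≃ Fin 4)

theorem rho_val (g : GL I4 F) :
    ((rho g : GL (Fin 4) F) : Matrix (Fin 4) (Fin 4) F) =
      Matrix.reindex finSumFinEquiv finSumFinEquiv (g : Matrix I4 I4 F) := rfl

/-- The abstract data of an absolutely irreducible `2^{1+4}_-` inside `GL₄(F)`:
class two with centre `{1, -1}`, squares `±1`, order `32`, and minus type in the form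
"two commuting involutions are equal up to sign or one of them is central". -/
structure MData (R : Subgroup (GL (Fin 4) F)) : Prop where
  two_ne : (2 : F) ≠ 0
  centM : ∀ M : Matrix (Fin 4) (Fin 4) F,
    (∀ x ∈ R, M * (x : Matrix (Fin 4) (Fin 4) F) = (x : Matrix (Fin 4) (Fin 4) F) * M) →
    ∃ c : F, M = c • (1 : Matrix (Fin 4) (Fin 4) F)
  comm : ∀ x ∈ R, ∀ y ∈ R, x * y = y * x ∨ x * y = -(y * x)
  sq : ∀ x ∈ R, x * x = 1 ∨ x * x = -1
  card : Nat.card R = 32
  neg_mem : (-1 : GL (Fin 4) F) ∈ R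
  scalar : ∀ x ∈ R, x ∈ Cfsg.Geo.scalars (Fin 4) F → x = 1 ∨ x = -1
  minus : ∀ s ∈ R, ∀ t ∈ R, s * s = 1 → t * t = 1 → s * t = t * s →
    s = 1 ∨ s = -1 ∨ t = 1 ∨ t = -1 ∨ s = t ∨ s = -t

end Cfsg.Agent.Helper23.Sp4
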