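import Mathlib

/-! S3401 piece ODD (helper23), per `plans/TT2Skel.lean.txt` (helper17). -/

set_option autoImplicit false

namespace Cfsg.Agent.Helper17.TT2

theorem exists_odd_subgroup {Y : Type*} [Group Y] [Finite Y] (h : Nat.card Y % 4 = 2) :
    ∃ K : Subgroup Y, K.Normal ∧ K.index = 2 ∧ Odd (Nat.card K) ∧
      ∀ y : Y, y ∈ K ↔ Odd (orderOf y) := by
  have h2 : (Nat.card Y).minFac = 2 := by
    rw [Nat.minFac_eq_two_iff]; omega
  have hf : Fact (Nat.Prime 2) := ⟨Nat.prime_two⟩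
  let P : Sylow 2 Y := default
  have hPcard : Nat.card P = 2 := by
    obtain ⟨n, hn⟩ := P.2.exists_card_eq
    have hdvd : Nat.card P ∣ Nat.card Y := Subgroup.card_subgroup_dvd_card _
    have hnd : ¬ 2 ∣ (P : Subgroup Y).index := P.not_dvd_index
    have hmul : Nat.card P * (P : Subgroup Y).index = Nat.card Y :=
      Subgroup.card_mul_index _
    rw [hn] at hdvd hmul ⊢
    rcases n with _ | _ | n
    · exfalso; apply hnd
      rw [pow_zero, one_mul] at hmul
      rw [hmul]; omega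
    · simp
    · exfalso
      have : 4 ∣ Nat.card Y := by
        refine dvd_trans ?_ hdvd
        exact ⟨2 ^ n, by ring⟩
      omega
  have hcyc : IsCyclic P := isCyclic_of_prime_card hPcard
  have hcomp := IsCyclic.isComplement' h2 hcyc
  set K := (MonoidHom.transferSylow P (hcyc.normalizer_le_centralizer h2)).ker with hK
  have hcard : Nat.card K * Nat.card P = Nat.card Y := hcomp.card_mul_card
  have hidx : K.index = 2 := by rw [hcomp.symm.index_eq_card]; exact hPcard
  have hodd : Odd (Nat.card K) := by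
    rw [hPcard] at hcard
    rw [Nat.odd_iff]; omega
  refine ⟨K, MonoidHom.normal_ker _, hidx, hodd, ?_⟩
  intro y
  constructor
  · intro hy
    exact Odd.of_dvd_nat hodd (Subgroup.orderOf_dvd_natCard K hy)
  · intro hy
    obtain ⟨k, hk⟩ := hy
    have hsq : y ^ 2 ∈ K := by
      exact Subgroup.sq_mem_of_index_two hidx y
    have : y = (y ^ 2) ^ (k + 1) := by
      rw [← pow_mul, show 2 * (k + 1) = orderOf y + 1 by omega, pow_succ, pow_orderOf_eq_one,
        one_mul]
    rw [this]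
    exact K.pow_mem hsq _

theorem exists_index_two {G : Type*} [Group G] [Finite G] (R Q : Subgroup G) (hQR : Q ≤ R)
    (hnorm : R ≤ Subgroup.normalizer (Q : Set G)) (hidx : Q.relIndex R % 4 = 2) :
    ∃ D : Subgroup G, Q ≤ D ∧ D ≤ R ∧ D.relIndex R = 2 ∧ Odd (Q.relIndex D) ∧
      ∀ x : G, x ∈ D ↔ (x ∈ R ∧ ∃ m : ℕ, Odd m ∧ x ^ m ∈ Q) := by
  have hN : (Q.subgroupOf R).Normal :=
    (Subgroup.normal_subgroupOf_iff_le_normalizer hQR).2 hnorm
  have hcardY : Nat.card (↥R ⧸ Q.subgroupOf R) = Q.relIndex R := by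
    rw [Subgroup.relIndex, Subgroup.index_eq_card]
  obtain ⟨K, hKn, hKi, hKo, hKm⟩ :=
    exists_odd_subgroup (Y := ↥R ⧸ Q.subgroupOf R) (by rw [hcardY]; exact hidx)
  set D : Subgroup G := (K.comap (QuotientGroup.mk' (Q.subgroupOf R))).map R.subtype with hD
  have hmem : ∀ x : G, x ∈ D ↔ (x ∈ R ∧ ∃ m : ℕ, Odd m ∧ x ^ m ∈ Q) := by
    intro x
    constructor
    · rintro ⟨⟨x', hx'⟩, hxK, rfl⟩
      refine ⟨hx', ?_⟩
      rw [SetLike.mem_coe, Subgroup.mem_comap, hKm] at hxK
      refine ⟨_, hxK, ?_⟩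
      have h1 := pow_orderOf_eq_one (QuotientGroup.mk' (Q.subgroupOf R) ⟨x', hx'⟩)
      rw [← map_pow, QuotientGroup.mk'_apply, QuotientGroup.eq_one_iff,
        Subgroup.mem_subgroupOf] at h1
      simpa using h1
    · rintro ⟨hxR, m, hm, hxm⟩
      refine ⟨⟨x, hxR⟩, ?_, rfl⟩
      rw [SetLike.mem_coe, Subgroup.mem_comap, hKm]
      refine Odd.of_dvd_nat hm (orderOf_dvd_of_pow_eq_one ?_)
      rw [← map_pow, QuotientGroup.mk'_apply, QuotientGroup.eq_one_iff,
        Subgroup.mem_subgroupOf]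
      simpa using hxm
  have hDR : D ≤ R := fun x hx => ((hmem x).1 hx).1
  have hQD : Q ≤ D := fun x hx => (hmem x).2 ⟨hQR hx, 1, odd_one, by simpa using hx⟩
  have hrel : D.relIndex R = 2 := by
    rw [Subgroup.relIndex, hD, Subgroup.subgroupOf,
      Subgroup.comap_map_eq_self_of_injective R.subtype_injective,
      Subgroup.index_comap_of_surjective _ (QuotientGroup.mk'_surjective _)]
    exact hKi
  refine ⟨D, hQD, hDR, hrel, ?_, hmem⟩
  have := Subgroup.relIndex_mul_relIndex Q D R hQD hDR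
  rw [hrel] at this
  rw [Nat.odd_iff]; omega

end Cfsg.Agent.Helper17.TT2
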