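import Mathlib
import Cfsg.Agent.Lib.Helper23.TT2ODD

/-! S3401 piece REG (helper23), per `plans/TT2Skel.lean.txt` (helper17). -/

set_option autoImplicit false
set_option linter.unusedSectionVars false

namespace Cfsg.Agent.Helper17.TT2

section REG
variable {G : Type*} [Group G] [Finite G] {Ω : Type*} [MulAction G Ω] [Finite Ω]

theorem eq_one_of_centralizer_fix [FaithfulSMul G Ω] (N : Subgroup G)
    (hNt : ∀ a b : Ω, ∃ g ∈ N, g • a = b) {c : G} (hc : c ∈ Subgroup.centralizer (N : Set G))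
    {a : Ω} (hca : c • a = a) : c = 1 := by
  apply FaithfulSMul.eq_of_smul_eq_smul (α := Ω)
  intro b
  obtain ⟨n, hn, rfl⟩ := hNt a b
  rw [one_smul, ← mul_smul, ← (Subgroup.mem_centralizer_iff.1 hc n hn), mul_smul, hca]

theorem normal_transitive [FaithfulSMul G Ω]
    (h2 : ∀ a b c d : Ω, a ≠ b → c ≠ d → ∃ g : G, g • a = c ∧ g • b = d)
    (N : Subgroup G) [N.Normal] (hN : N ≠ ⊥) : ∀ a b : Ω, ∃ g ∈ N, g • a = b := by
  intro a b
  by_cases hab : a = b
  · exact ⟨1, N.one_mem, by rw [one_smul, hab]⟩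
  obtain ⟨n, hn, hn1⟩ : ∃ n ∈ N, n ≠ 1 := by
    by_contra hcon
    push Not at hcon
    exact hN ((Subgroup.eq_bot_iff_forall N).2 hcon)
  obtain ⟨x, hx⟩ : ∃ x : Ω, n • x ≠ x := by
    by_contra hcon
    push Not at hcon
    apply hn1
    apply FaithfulSMul.eq_of_smul_eq_smul (α := Ω)
    intro y
    rw [hcon y, one_smul]
  obtain ⟨g, hga, hgb⟩ := h2 x (n • x) a b (Ne.symm hx) hab
  refine ⟨g * n * g⁻¹, ‹N.Normal›.conj_mem n hn g, ?_⟩
  rw [← hga, mul_smul, inv_smul_smul, mul_smul, hgb]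

theorem not_regular [FaithfulSMul G Ω]
    (h2 : ∀ a b c d : Ω, a ≠ b → c ≠ d → ∃ g : G, g • a = c ∧ g • b = d)
    (hn : Nat.card Ω % 4 = 2) (hn2 : 2 < Nat.card Ω)
    (N : Subgroup G) [N.Normal] (hNt : ∀ a b : Ω, ∃ g ∈ N, g • a = b)
    (a : Ω) (hreg : N ⊓ MulAction.stabilizer G a = ⊥) : False := by
  -- `|N| = |Ω|`
  have hbij : Function.Bijective (fun n : N => (n : G) • a) := by
    constructor
    · intro n m hnm
      have hnm' : (n : G) • a = (m : G) • a := hnm
      have : (m : G)⁻¹ * n ∈ N ⊓ MulAction.stabilizer G a := by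
        refine ⟨N.mul_mem (N.inv_mem m.2) n.2, ?_⟩
        show (m : G)⁻¹ * n ∈ MulAction.stabilizer G a
        rw [MulAction.mem_stabilizer_iff, mul_smul, hnm', inv_smul_smul]
      rw [hreg, Subgroup.mem_bot, inv_mul_eq_one] at this
      exact Subtype.ext this.symm
    · intro b
      obtain ⟨g, hg, hgb⟩ := hNt a b
      exact ⟨⟨g, hg⟩, hgb⟩
  have hcardN : Nat.card N = Nat.card Ω := Nat.card_eq_of_bijective _ hbij
  obtain ⟨K', hK'n, hK'i, hK'o, hK'm⟩ := exists_odd_subgroup (Y := ↥N) (by rw [hcardN]; exact hn)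
  set K : Subgroup G := K'.map N.subtype with hK
  have hcardK : Nat.card K * 2 = Nat.card Ω := by
    rw [hK, Subgroup.card_map_of_injective N.subtype_injective, ← hK'i, Subgroup.card_mul_index,
      hcardN]
  have hKnormal : K.Normal := by
    constructor
    rintro x ⟨y, hy, rfl⟩ g
    have hmem : g * (N.subtype y) * g⁻¹ ∈ N := ‹N.Normal›.conj_mem _ y.2 g
    refine ⟨⟨_, hmem⟩, ?_, rfl⟩
    rw [SetLike.mem_coe, hK'm] at hy ⊢
    have h1 : orderOf (⟨g * (N.subtype y) * g⁻¹, hmem⟩ : N) = orderOf y := by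
      rw [← Subgroup.orderOf_coe, ← Subgroup.orderOf_coe y]
      refine (SemiconjBy.orderOf_eq g (x := (y : G)) ?_).symm
      simp [SemiconjBy]
    rw [h1]; exact hy
  have hKne : K ≠ ⊥ := by
    intro h
    rw [h, Subgroup.card_bot] at hcardK
    omega
  have hKt := normal_transitive h2 K hKne
  have hsurj : Function.Surjective (fun k : K => (k : G) • a) := by
    intro b
    obtain ⟨g, hg, hgb⟩ := hKt a b
    exact ⟨⟨g, hg⟩, hgb⟩
  have := Nat.card_le_card_of_surjective _ hsurj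
  omega

end REG

end Cfsg.Agent.Helper17.TT2
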