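import Mathlib
import Cfsg.Prelude.Def_Solvable
import Cfsg.Prelude.Def_CaseTheorems
import Cfsg.Agent.Lib.Helper23.ZS4Defs
import Cfsg.Agent.Lib.Helper23.InvolutionInvert

/-!
# S3222 pieces ODD, ODDL, ODDCORE: odd-order subgroups normalized by a four-group of involutions
with 2-group centralizers are trivial.
-/

set_option autoImplicit false

namespace Cfsg.Agent.Helper23.ZS4

variable {G : Type*} [Group G]

namespace ODD

/-- An element of an odd-order subgroup lying in a 2-group centralizer is trivial. -/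
theorem eq_one_of_comm [Finite G] (K : Subgroup G) (hodd : Odd (Nat.card K)) (c : G)
    (hC : IsPGroup 2 (Subgroup.centralizer ({c} : Set G))) (k : G) (hk : k ∈ K)
    (hck : c * k * c⁻¹ = k) : k = 1 := by
  have hmem : k ∈ Subgroup.centralizer ({c} : Set G) := by
    rw [Subgroup.mem_centralizer_singleton_iff]
    have h1 : c * k = k * c := by
      calc c * k = (c * k * c⁻¹) * c := by group
        _ = k * c := by rw [hck]
    exact h1.symm
  obtain ⟨n, hn⟩ := hC ⟨k, hmem⟩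
  have hn' : k ^ (2 ^ n) = 1 := by
    have := congrArg (Subtype.val) hn
    simpa using this
  have hd1 : orderOf k ∣ 2 ^ n := orderOf_dvd_of_pow_eq_one hn'
  have hd2 : orderOf k ∣ Nat.card K := by
    have h := orderOf_dvd_natCard (⟨k, hk⟩ : K)
    rwa [Subgroup.orderOf_mk] at h
  have hcop : Nat.Coprime (2 ^ n) (Nat.card K) :=
    Nat.Coprime.pow_left n (Nat.coprime_two_left.2 hodd)
  have h1 : orderOf k = 1 := Nat.eq_one_of_dvd_coprimes hcop hd1 hd2
  exact orderOf_eq_one_iff.1 h1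

/-- Conjugates of elements with 2-group centralizers have 2-group centralizers. -/
theorem pgroup_cent_conj (c x : G) (h : IsPGroup 2 (Subgroup.centralizer ({x} : Set G))) :
    IsPGroup 2 (Subgroup.centralizer ({c * x * c⁻¹} : Set G)) := by
  rintro ⟨g, hg⟩
  rw [Subgroup.mem_centralizer_singleton_iff] at hg
  have hmem : c⁻¹ * g * c ∈ Subgroup.centralizer ({x} : Set G) := by
    rw [Subgroup.mem_centralizer_singleton_iff]
    have e1 : c⁻¹ * g * c * x = c⁻¹ * (g * (c * x * c⁻¹)) * c := by group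
    have e2 : x * (c⁻¹ * g * c) = c⁻¹ * ((c * x * c⁻¹) * g) * c := by group
    rw [e1, e2, hg]
  obtain ⟨n, hn⟩ := h ⟨_, hmem⟩
  refine ⟨n, ?_⟩
  have hn' : (c⁻¹ * g * c) ^ (2 ^ n) = 1 := by
    have := congrArg (Subtype.val) hn
    simpa using this
  apply Subtype.ext
  rw [Subgroup.coe_pow, Subgroup.coe_one]
  have e3 : (c⁻¹ * g * c) ^ (2 ^ n) = c⁻¹ * g ^ (2 ^ n) * c := by
    have := conj_pow (a := c⁻¹) (i := 2 ^ n) (b := g)
    rw [inv_inv] at this
    exact this
  rw [e3] at hn'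
  calc g ^ (2 ^ n) = c * (c⁻¹ * g ^ (2 ^ n) * c) * c⁻¹ := by group
    _ = 1 := by rw [hn']; group

end ODD

/-- PIECE ODD (generic). -/
theorem odd_eq_bot_of_invol [Finite G] (M K : Subgroup G) (_hKM : K ≤ M)
    (hnorm : ∀ m ∈ M, ∀ k ∈ K, m * k * m⁻¹ ∈ K) (hodd : Odd (Nat.card K))
    (a b : G) (haM : a ∈ M) (hbM : b ∈ M) (ha : orderOf a = 2) (hb : orderOf b = 2)
    (_hab : a * b = b * a) (_hne : a ≠ b)
    (hCa : IsPGroup 2 (Subgroup.centralizer ({a} : Set G)))
    (hCb : IsPGroup 2 (Subgroup.centralizer ({b} : Set G)))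
    (hCab : IsPGroup 2 (Subgroup.centralizer ({a * b} : Set G))) : K = ⊥ := by
  have haa : a * a = 1 := by
    rw [← pow_two, ← ha]; exact pow_orderOf_eq_one a
  have hbb : b * b = 1 := by
    rw [← pow_two, ← hb]; exact pow_orderOf_eq_one b
  have hinva := Cfsg.Agent.Helper23.inverts_of_fixed_point_free a haa K (hnorm a haM)
    (fun u hu h => ODD.eq_one_of_comm K hodd a hCa u hu h)
  have hinvb := Cfsg.Agent.Helper23.inverts_of_fixed_point_free b hbb K (hnorm b hbM)
    (fun u hu h => ODD.eq_one_of_comm K hodd b hCb u hu h)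
  rw [Subgroup.eq_bot_iff_forall]
  intro k hk
  apply ODD.eq_one_of_comm K hodd (a * b) hCab k hk
  have e1 : a * b * k * (a * b)⁻¹ = a * (b * k * b⁻¹) * a⁻¹ := by group
  rw [e1, hinvb k hk, hinva k⁻¹ (K.inv_mem hk), inv_inv]

/-- PIECE ODDL. -/
theorem odd_eq_bot [Finite G] {t z v τ : G} {T : Subgroup G} (L : Loc t z v τ T)
    (M K : Subgroup G) (hzM : z ∈ M) (hvM : v ∈ M) (hKM : K ≤ M)
    (hnorm : ∀ m ∈ M, ∀ k ∈ K, m * k * m⁻¹ ∈ K) (hodd : Odd (Nat.card K)) : K = ⊥ := by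
  have hzv : z * v = v * z := by
    have := L.vT
    rw [← L.cent_z, Subgroup.mem_centralizer_singleton_iff] at this
    exact this.symm
  have hCz : IsPGroup 2 (Subgroup.centralizer ({z} : Set G)) := by
    rw [L.cent_z]
    exact IsPGroup.of_card (n := 4) (by rw [L.card_T]; norm_num)
  have hCv : IsPGroup 2 (Subgroup.centralizer ({v} : Set G)) := by
    obtain ⟨c, _, hc⟩ := L.v_conj
    rw [hc]
    exact ODD.pgroup_cent_conj c z hCz
  have hCzv : IsPGroup 2 (Subgroup.centralizer ({z * v} : Set G)) := by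
    obtain ⟨c, _, hc⟩ := L.zv_conj
    rw [hc]
    exact ODD.pgroup_cent_conj c z hCz
  have hvo : orderOf v = 2 := by
    obtain ⟨c, _, hc⟩ := L.v_conj
    rw [hc, ← L.hz]
    exact MulEquiv.orderOf_eq (MulAut.conj c) z
  exact odd_eq_bot_of_invol M K hKM hnorm hodd z v hzM hvM L.hz hvo hzv (Ne.symm L.v_ne)
    hCz hCv hCzv

/-- PIECE ODDCORE. -/
theorem oddCore_eq_bot [Finite G] {t z v τ : G} {T : Subgroup G} (L : Loc t z v τ T)
    (M : Subgroup G) (hzM : z ∈ M) (hvM : v ∈ M) : Cfsg.oddCore ↥M = ⊥ := by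
  unfold Cfsg.oddCore Cfsg.pPrimeCore
  rw [sSup_eq_bot]
  rintro N ⟨hNn, hNc⟩
  have hK := odd_eq_bot L M (N.map M.subtype) hzM hvM (Subgroup.map_subtype_le N) ?_ ?_
  · rw [Subgroup.eq_bot_iff_forall]
    intro n hn
    have h1 : (n : G) ∈ N.map M.subtype := ⟨n, hn, rfl⟩
    rw [hK, Subgroup.mem_bot] at h1
    exact Subtype.ext h1
  · rintro m hm k ⟨n, hn, rfl⟩
    refine ⟨(⟨m, hm⟩ : ↥M) * n * (⟨m, hm⟩ : ↥M)⁻¹, hNn.conj_mem n hn _, ?_⟩
    simp
  · rw [Subgroup.card_map_of_injective (Subgroup.subtype_injective M)]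
    exact Nat.coprime_two_right.1 hNc

end Cfsg.Agent.Helper23.ZS4
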