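import Mathlib
import Cfsg.Prelude.Def_Blocks
import Cfsg.Agent.Lib.Helper24.CharLinear
import Cfsg.Agent.Lib.Helper1.TLDDCHAR
import Cfsg.Agent.Lib.Helper23.B2Defs

/-!
# S4705, PIECE SCH: a central element acts as a scalar (helper23)
-/

set_option autoImplicit false
set_option linter.unusedSectionVars false
set_option linter.unusedVariables false

namespace Cfsg.Agent.Helper23.B2

open scoped ComplexConjugate
open Cfsg Cfsg.Agent.Helper24

universe u

variable {G : Type u} [Group G] [Fintype G]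

/-- PIECE SCH. -/
theorem central_mul (χ : IrrCharacter G) {z : G} (hz : z ∈ Subgroup.center G) (g : G) :
    (χ : G → ℂ) (g * z) * (χ : G → ℂ) 1 = (χ : G → ℂ) z * (χ : G → ℂ) g ∧
      ‖(χ : G → ℂ) z‖ = ‖(χ : G → ℂ) 1‖ := by
  classical
  have hcen : ∀ z ∈ Subgroup.center G, ∀ h : G, z * h = h * z := fun z hz h =>
    ((Subgroup.mem_center_iff.1 hz) h).symm
  obtain ⟨lam, hlam⟩ := Cfsg.Agent.Helper5.TLD.dchar_exists_central_hom (Subgroup.center G) hcen χ
  have h1 := hlam ⟨z, hz⟩ 1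
  have h2 := hlam ⟨z, hz⟩ g
  simp only [mul_one] at h1
  have hcomm : g * z = z * g := (hcen z hz g).symm
  refine ⟨?_, ?_⟩
  · rw [hcomm, h2, h1]; ring
  · have hpow : ((lam ⟨z, hz⟩ : ℂˣ) : ℂ) ^ Nat.card (Subgroup.center G) = 1 := by
      rw [← Units.val_pow_eq_pow_val, ← map_pow, pow_card_eq_one', map_one, Units.val_one]
    have hn : ‖((lam ⟨z, hz⟩ : ℂˣ) : ℂ)‖ = 1 :=
      Complex.norm_eq_one_of_pow_eq_one hpow Nat.card_pos.ne'
    rw [h1, norm_mul, hn, one_mul]

end Cfsg.Agent.Helper23.B2
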