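import Mathlib
import Cfsg.Agent.Lib.Helper23.BlockNormalP
import Cfsg.Agent.Lib.Helper10.Cores

/-!
# Groups with a single block (helper23's shared library)
-/

set_option autoImplicit false
set_option linter.unusedSectionVars false

namespace Cfsg.Agent.Helper23.Blk

open Cfsg Cfsg.Agent.Helper24
open scoped ComplexConjugate

universe u

section

variable {G : Type u} [Group G] [Finite G] {M : Ideal AlgInt} {p : ℕ}

/-- If `C_G(O_p(G)) ≤ O_p(G)` then `G` has a single `p`-block. -/
theorem sameBlock_of_centralizer_pCore_le (hM : IsPModular p M)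
    (hconstr : Subgroup.centralizer ((pCore p G) : Set G) ≤ pCore p G)
    (χ ψ : IrrCharacter G) : SameBlock M (χ : G → ℂ) (ψ : G → ℂ) := by
  classical
  haveI : Fintype G := Fintype.ofFinite G
  letI : Fintype (IrrCharacter G) := irrFintype
  haveI hMp : M.IsPrime := hM.2.1.isPrime
  haveI : Fact p.Prime := ⟨hM.1⟩
  haveI hn : (pCore p G).Normal := Cfsg.Agent.Helper10.pCore_normal p
  have hpg : IsPGroup p (pCore p G) := Cfsg.Agent.Helper10.pCore_isPGroup p
  set B := blockOf M (χ : G → ℂ) with hBdef
  have hB : IsPBlock M B := ⟨χ, rfl⟩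
  -- the idempotent is supported at the identity
  have hsupp : ∀ g : G, g ≠ 1 → blockCoeff B g = 0 := by
    intro g hg
    by_cases hgc : g ∈ Subgroup.centralizer ((pCore p G) : Set G)
    · have hgP : g ∈ pCore p G := hconstr hgc
      apply blockCoeff_eq_zero_of_pSingular hM hB
      have h1 : (⟨g, hgP⟩ : pCore p G) ≠ 1 := fun h => hg (congrArg Subtype.val h)
      have := hpg.dvd_orderOf h1
      rwa [Subgroup.orderOf_mk] at this
    · exact blockCoeff_eq_zero_of_not_mem_centralizer hM hB (pCore p G) hpg hgc
  -- hence constant central characters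
  set b : IrrCharacter G → ℂ := fun φ => if φ ∈ B then (1 : ℂ) else 0 with hb
  have hval : ∀ φ : IrrCharacter G, b φ = blockCoeff B 1 := by
    intro φ
    rw [← omega_synth b φ]
    unfold omega
    rw [Finset.sum_eq_single (1 : G)]
    · rw [← blockCoeff_eq_synth, mul_div_assoc, div_self (irr_one_ne_zero φ.2), mul_one]
    · intro g _ hg
      rw [← blockCoeff_eq_synth, hsupp g hg, zero_mul]
    · intro h
      exact absurd (Finset.mem_univ _) h
  have h1 : b χ = 1 := by
    rw [hb]
    simp only
    rw [if_pos (mem_blockOf_self χ)]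
  have h2 : b ψ = 1 := by rw [hval ψ, ← hval χ, h1]
  rw [hb] at h2
  simp only at h2
  by_contra hne
  have : ψ ∉ B := hne
  rw [if_neg this] at h2
  exact zero_ne_one h2

end

end Cfsg.Agent.Helper23.Blk
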