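import Mathlib
import Cfsg.Prelude.Def_Blocks
import Cfsg.Prelude.Def_CaseTheorems
import Cfsg.Agent.Lib.Helper23.PrincipalQuot
import Cfsg.Agent.Lib.Helper23.PSolvable
import Cfsg.Agent.S0915

/-!
# The principal block of a `p`-solvable group (Fong) (helper23's library)
-/

set_option autoImplicit false
set_option linter.style.haveILetI false

namespace Cfsg.Agent.Helper23.Blk

open Cfsg Cfsg.Agent.Helper24 Cfsg.Agent.Helper18
open scoped ComplexConjugate

universe u

section Fong

variable {G : Type u} [Group G] [Finite G] {p : ℕ} {M : Ideal AlgInt}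

/-- **Fong**: in a `p`-solvable group the principal `p`-block consists of the irreducible
characters with `O_{p'}(G)` in their kernel. -/
theorem mem_principalBlock_iff_of_isPSolvable [Fact p.Prime] (hM : IsPModular p M)
    (hsolv : IsPSolvable p G) (χ : IrrCharacter G) :
    χ ∈ principalBlock M G ↔ ∀ n ∈ pPrimeCore p G, (χ : G → ℂ) n = (χ : G → ℂ) 1 := by
  have hp : p.Prime := hM.1
  have hN : ¬ p ∣ Nat.card (pPrimeCore p G) := Cfsg.Agent.Helper22.not_dvd_card_pPrimeCore p hp
  constructor
  · intro hχ
    exact principalBlock_trivial_on hM (pPrimeCore p G) hN hχ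
  · intro h
    set ψ := (inflateEquiv (pPrimeCore p G)).symm ⟨χ, h⟩ with hψ
    have hinf : ((inflateEquiv (pPrimeCore p G) ψ).1 : IrrCharacter G) = χ := by
      rw [hψ, Equiv.apply_symm_apply]
    have hq : IsPSolvable p (G ⧸ pPrimeCore p G) := PSolv.isPSolvable_quotient _ hsolv
    have hcore : pPrimeCore p (G ⧸ pPrimeCore p G) = ⊥ := PSolv.pPrimeCore_quotient_pPrimeCore p
    have hsame := Cfsg.Agent.S0915.result p M hM hq hcore (principalChar (G ⧸ pPrimeCore p G)) ψ
    have hmem : ψ ∈ principalBlock M (G ⧸ pPrimeCore p G) := hsame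
    rw [← principalBlock_quot hM (pPrimeCore p G) hN] at hmem
    rw [← hinf]
    exact hmem

end Fong

end Cfsg.Agent.Helper23.Blk
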