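import Mathlib
import Cfsg.Agent.Lib.Helper24.CharBasic
import Cfsg.Agent.Lib.Helper23.CharValues

/-!
# Galois conjugates of sums of roots of unity (helper23's shared library)

`prod_coprime_pow_sum`: for `n`-th roots of unity `μ_i`, the product over `k < n` coprime to `n`
of `∑_i μ_i ^ k` is an integer, nonzero if `∑_i μ_i ≠ 0`; and if `∑_i μ_i = 0` every factor
vanishes.
-/

set_option autoImplicit false

namespace Cfsg.Agent.Helper23

open Polynomial

theorem prod_coprime_pow_sum {n d : ℕ} (hn : 0 < n) (μ : Fin d → ℂ) (hμ : ∀ i, μ i ^ n = 1) :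
    ∃ z : ℤ, ∏ k ∈ (Finset.range n).filter (fun k => Nat.Coprime k n), (∑ i, μ i ^ k) = z ∧
      ((∑ i, μ i) ≠ 0 → z ≠ 0) ∧
      ((∑ i, μ i) = 0 → ∀ k : ℕ, Nat.Coprime k n → (∑ i, μ i ^ k) = 0) := by
  classical
  haveI : NeZero n := ⟨hn.ne'⟩
  obtain ⟨ζ, hζ⟩ : ∃ ζ : ℂ, IsPrimitiveRoot ζ n := ⟨_, Complex.isPrimitiveRoot_exp n hn.ne'⟩
  have hex : ∀ i, ∃ a < n, ζ ^ a = μ i := fun i => hζ.eq_pow_of_pow_eq_one (hμ i)
  choose a han ha using hex
  -- the cyclotomic field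
  haveI : IsCyclotomicExtension {n} ℚ (CyclotomicField n ℚ) :=
    CyclotomicField.isCyclotomicExtension n ℚ
  have hζK : IsPrimitiveRoot (IsCyclotomicExtension.zeta n ℚ (CyclotomicField n ℚ)) n :=
    IsCyclotomicExtension.zeta_spec n ℚ (CyclotomicField n ℚ)
  obtain ⟨ζK, hζKdef⟩ : ∃ ζK : CyclotomicField n ℚ, ζK = IsCyclotomicExtension.zeta n ℚ (CyclotomicField n ℚ) := ⟨_, rfl⟩
  rw [← hζKdef] at hζK
  have hirr : Irreducible (cyclotomic n ℚ) := cyclotomic.irreducible_rat hn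
  obtain ⟨x, hxdef⟩ : ∃ x : CyclotomicField n ℚ, x = ∑ i, ζK ^ a i := ⟨_, rfl⟩
  have hσx : ∀ σ : CyclotomicField n ℚ →ₐ[ℚ] ℂ, σ x = ∑ i, (σ ζK) ^ a i := by
    intro σ
    rw [hxdef, map_sum]
    exact Finset.sum_congr rfl fun i _ => map_pow σ _ _
  let e := hζK.embeddingsEquivPrimitiveRoots ℂ hirr
  have he : ∀ σ : CyclotomicField n ℚ →ₐ[ℚ] ℂ, ((e σ : primitiveRoots n ℂ) : ℂ) = σ ζK := fun σ => rfl
  -- the embedding attached to a primitive root
  have hemb : ∀ η : ℂ, IsPrimitiveRoot η n → ∃ σ : CyclotomicField n ℚ →ₐ[ℚ] ℂ, σ ζK = η := by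
    intro η hη
    refine ⟨e.symm ⟨η, (mem_primitiveRoots hn).2 hη⟩, ?_⟩
    rw [← he, Equiv.apply_symm_apply]
  -- factors as values of embeddings
  have hfac : ∀ k : ℕ, Nat.Coprime k n → ∃ σ : CyclotomicField n ℚ →ₐ[ℚ] ℂ, σ x = ∑ i, μ i ^ k := by
    intro k hk
    obtain ⟨σ, hσ⟩ := hemb (ζ ^ k) (hζ.pow_of_coprime k hk)
    refine ⟨σ, ?_⟩
    rw [hσx, hσ]
    refine Finset.sum_congr rfl fun i _ => ?_
    rw [← ha i, ← pow_mul, ← pow_mul, mul_comm]
  have hx1 : ∃ σ : CyclotomicField n ℚ →ₐ[ℚ] ℂ, σ x = ∑ i, μ i := by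
    obtain ⟨σ, hσ⟩ := hfac 1 (Nat.coprime_one_left n)
    exact ⟨σ, by simpa using hσ⟩
  -- the norm
  have hnorm := Algebra.norm_eq_prod_embeddings ℚ ℂ x
  have hxint : IsIntegral ℤ x := by
    rw [hxdef]
    apply IsIntegral.sum
    intro i _
    apply IsIntegral.pow
    exact hζK.isIntegral hn
  have hnint : IsIntegral ℤ (Algebra.norm ℚ x) := Algebra.isIntegral_norm ℚ hxint
  obtain ⟨z, hz⟩ := IsIntegrallyClosed.isIntegral_iff.mp hnint
  -- product over embeddings = product over k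
  have hprod : ∏ σ : CyclotomicField n ℚ →ₐ[ℚ] ℂ, σ x =
      ∏ k ∈ (Finset.range n).filter (fun k => Nat.Coprime k n), (∑ i, μ i ^ k) := by
    rw [Fintype.prod_equiv e (fun σ => σ x) (fun η => ∑ i, (η : ℂ) ^ a i)
      (fun σ => by rw [hσx, he])]
    rw [Finset.prod_coe_sort (primitiveRoots n ℂ) (fun η => ∑ i, η ^ a i)]
    symm
    apply Finset.prod_bij (fun k _ => ζ ^ k)
    · intro k hk
      rw [Finset.mem_filter] at hk
      exact (mem_primitiveRoots hn).2 (hζ.pow_of_coprime k hk.2)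
    · intro k₁ hk₁ k₂ hk₂ h
      rw [Finset.mem_filter, Finset.mem_range] at hk₁ hk₂
      exact hζ.pow_inj hk₁.1 hk₂.1 h
    · intro η hη
      have hη' := (mem_primitiveRoots hn).1 hη
      obtain ⟨k, hkn, hk⟩ := hζ.eq_pow_of_pow_eq_one hη'.pow_eq_one
      refine ⟨k, ?_, hk⟩
      rw [Finset.mem_filter, Finset.mem_range]
      refine ⟨hkn, ?_⟩
      rw [← hζ.pow_iff_coprime hn, hk]
      exact hη'
    · intro k _
      refine Finset.sum_congr rfl fun i _ => ?_
      rw [← ha i, ← pow_mul, ← pow_mul, mul_comm]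
  refine ⟨z, ?_, ?_, ?_⟩
  · rw [← hprod, ← hnorm, ← hz]
    simp
  · intro hne hz0
    obtain ⟨σ, hσ⟩ := hx1
    have hx0 : x ≠ 0 := by
      intro h0
      rw [h0, map_zero] at hσ
      exact hne hσ.symm
    have : Algebra.norm ℚ x ≠ 0 := Algebra.norm_ne_zero_iff.2 hx0
    apply this
    rw [← hz, hz0]
    simp
  · intro h0 k hk
    obtain ⟨σ, hσ⟩ := hx1
    have hx0 : x = 0 := by
      rw [h0] at hσ
      exact (map_eq_zero_iff σ σ.toRingHom.injective).1 hσ
    obtain ⟨τ, hτ⟩ := hfac k hk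
    rw [← hτ, hx0, map_zero]

/-- If positive reals have product at least one, their sum is at least their number. -/
theorem card_le_sum_of_one_le_prod {ι : Type*} (s : Finset ι) (a : ι → ℝ)
    (ha : ∀ i ∈ s, 0 < a i) (h : 1 ≤ ∏ i ∈ s, a i) : (s.card : ℝ) ≤ ∑ i ∈ s, a i := by
  have h1 : ∑ i ∈ s, Real.log (a i) ≤ ∑ i ∈ s, (a i - 1) :=
    Finset.sum_le_sum fun i hi => Real.log_le_sub_one_of_pos (ha i hi)
  have h2 : Real.log (∏ i ∈ s, a i) = ∑ i ∈ s, Real.log (a i) :=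
    Real.log_prod fun i hi => (ha i hi).ne'
  have h3 : 0 ≤ Real.log (∏ i ∈ s, a i) := Real.log_nonneg h
  rw [Finset.sum_sub_distrib, Finset.sum_const, nsmul_eq_mul, mul_one] at h1
  linarith

section Char

open Cfsg.Agent.Helper24

variable {G : Type*} [Group G] [Finite G] {V : Type*} [AddCommGroup V] [Module ℂ V]
  [FiniteDimensional ℂ V] (ρ : Representation ℂ G V)

/-- The Galois average of `|χ|²` over the generators of `⟨g⟩` is at least one when `χ(g) ≠ 0`. -/
theorem card_le_sum_normSq_char_pow (g : G) (h : ρ.character g ≠ 0) :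
    (((Finset.range (Nat.card G)).filter (fun k => Nat.Coprime k (Nat.card G))).card : ℝ) ≤
      ∑ k ∈ (Finset.range (Nat.card G)).filter (fun k => Nat.Coprime k (Nat.card G)),
        ‖ρ.character (g ^ k)‖ ^ 2 := by
  obtain ⟨μ, hμ, hpow, -⟩ := exists_roots_of_unity ρ g
  obtain ⟨z, hz, hz0, -⟩ := prod_coprime_pow_sum (Nat.card_pos (α := G)) μ hμ
  have hsum1 : ρ.character g = ∑ i, μ i := by
    have := hpow 1
    simpa using this
  have hzne : z ≠ 0 := hz0 (hsum1 ▸ h)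
  have hprod : ∏ k ∈ (Finset.range (Nat.card G)).filter (fun k => Nat.Coprime k (Nat.card G)),
      ρ.character (g ^ k) = (z : ℂ) := by
    rw [← hz]
    exact Finset.prod_congr rfl fun k _ => hpow k
  have hfac : ∀ k ∈ (Finset.range (Nat.card G)).filter (fun k => Nat.Coprime k (Nat.card G)),
      ρ.character (g ^ k) ≠ 0 := by
    intro k hk h0
    have : (z : ℂ) = 0 := by
      rw [← hprod]
      exact Finset.prod_eq_zero hk h0
    exact hzne (by exact_mod_cast this)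
  apply card_le_sum_of_one_le_prod
  · intro k hk
    exact pow_pos (norm_pos_iff.2 (hfac k hk)) 2
  · rw [Finset.prod_pow, ← norm_prod, hprod]
    have h1 : (1 : ℝ) ≤ ‖(z : ℂ)‖ := by
      rw [Complex.norm_intCast]
      have : (1 : ℤ) ≤ |z| := Int.one_le_abs hzne
      exact_mod_cast this
    nlinarith [norm_nonneg (z : ℂ)]

/-- Vanishing is stable under Galois conjugation. -/
theorem char_pow_eq_zero_of_coprime (g : G) (h : ρ.character g = 0) (k : ℕ)
    (hk : Nat.Coprime k (Nat.card G)) : ρ.character (g ^ k) = 0 := by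
  obtain ⟨μ, hμ, hpow, -⟩ := exists_roots_of_unity ρ g
  obtain ⟨z, -, -, hz0⟩ := prod_coprime_pow_sum (Nat.card_pos (α := G)) μ hμ
  have hsum1 : ρ.character g = ∑ i, μ i := by
    have := hpow 1
    simpa using this
  rw [hpow k]
  exact hz0 (hsum1 ▸ h) k hk

/-- If `|χ(g)| = χ(1)` then `|χ(g^k)| = χ(1)` for all `k`. -/
theorem norm_char_pow_of_norm_eq (g : G) (h : ‖ρ.character g‖ = Module.finrank ℂ V) (k : ℕ) :
    ‖ρ.character (g ^ k)‖ = Module.finrank ℂ V := by
  obtain ⟨μ, hμ, hpow, -⟩ := exists_roots_of_unity ρ g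
  have hsum1 : ρ.character g = ∑ i, μ i := by
    have := hpow 1
    simpa using this
  have hnorm : ∀ i, ‖μ i‖ = 1 := by
    intro i
    exact Complex.norm_eq_one_of_pow_eq_one (hμ i) Nat.card_pos.ne'
  obtain ⟨ω, hω⟩ := multiset_const_of_norm_sum_eq_card (Finset.univ.val.map μ)
    (by
      intro x hx
      obtain ⟨i, -, rfl⟩ := Multiset.mem_map.1 hx
      exact hnorm i)
    (by
      rw [Multiset.card_map, Finset.card_val, Finset.card_univ, Fintype.card_fin]
      rw [← h, hsum1]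
      rfl)
  have hμω : ∀ i, μ i = ω := fun i => hω _ (Multiset.mem_map_of_mem μ (Finset.mem_univ_val i))
  rcases Nat.eq_zero_or_pos (Module.finrank ℂ V) with h0 | h0
  · rw [hpow k]
    have : IsEmpty (Fin (Module.finrank ℂ V)) := by rw [h0]; exact Fin.isEmpty
    simp [h0]
  · have hω1 : ‖ω‖ = 1 := by
      rw [← hμω ⟨0, h0⟩]; exact hnorm _
    rw [hpow k]
    simp only [hμω, Finset.sum_const, Finset.card_univ, Fintype.card_fin, nsmul_eq_mul]
    rw [norm_mul, norm_pow, hω1, one_pow, mul_one, Complex.norm_natCast]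

end Char

end Cfsg.Agent.Helper23
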