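import Mathlib
import Cfsg.Agent.Lib.Helper18.LSDefs
import Cfsg.Agent.Lib.Helper11.UnitaryGeom

/-!
# S2335 piece DUAL (helper23): the characters of the hermitian matrices

`Ψ T S = χ (trace (S * T))` for an additive character `χ` of `F` with `χ 1 ≠ 1` identifies the
hermitian matrices with the characters of the additive group of hermitian matrices, equivariantly.
-/

set_option autoImplicit false
set_option linter.unusedSectionVars false

namespace Cfsg.Agent.Helper18.LS

open Matrix

section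

variable {F : Type*} [Field F]

theorem dual_trace_ct {ι : Type*} [Fintype ι] (φ : F →+* F) (A : Matrix ι ι F) :
    (ct φ A).trace = φ A.trace := by
  unfold ct
  rw [Matrix.trace_transpose]
  simp only [Matrix.trace, Matrix.diag_apply, Matrix.map_apply, map_sum]

/-- the hermitian matrix `M + M^*` -/
def dualSym (φ : F →+* F) (hφφ : ∀ x, φ (φ x) = x) (m : ℕ) (M : Matrix (Fin m) (Fin m) F) :
    Herm φ m :=
  ⟨M + ct φ M, by
    show ct φ (M + ct φ M) = M + ct φ M
    rw [ct_add, ct_ct φ hφφ, add_comm]⟩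

theorem dualSym_trace (φ : F →+* F) (hφφ : ∀ x, φ (φ x) = x) (m : ℕ)
    (M : Matrix (Fin m) (Fin m) F) (D : Matrix (Fin m) (Fin m) F) (hD : ct φ D = D) :
    (((dualSym φ hφφ m M : Herm φ m) : Matrix (Fin m) (Fin m) F) * D).trace =
      (M * D).trace + φ (M * D).trace := by
  show ((M + ct φ M) * D).trace = _
  rw [add_mul, Matrix.trace_add]
  congr 1
  rw [← dual_trace_ct, ct_mul, hD, Matrix.trace_mul_comm]

variable [Fintype F] {q : ℕ}

/-- a hermitian matrix orthogonal to all hermitian matrices for the trace form twisted by a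
character `χ` with `χ 1 ≠ 1` vanishes -/
theorem dual_nondeg (hF : Fintype.card F = q ^ 2) (φ : F →+* F) (hφ : ∀ x, φ x = x ^ q) (m : ℕ)
    (χ : AddChar F ℂ) (hχ : χ 1 ≠ 1) (D : Matrix (Fin m) (Fin m) F) (hD : ct φ D = D)
    (h : ∀ S : Herm φ m, χ ((S : Matrix (Fin m) (Fin m) F) * D).trace = 1) : D = 0 := by
  have hφφ := Cfsg.Agent.Helper11.Herm.frob_frob hF φ hφ
  by_contra hne
  obtain ⟨j, i, hji⟩ : ∃ j i, D j i ≠ 0 := by
    by_contra hcon
    push Not at hcon
    apply hne
    ext j i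
    exact hcon j i
  obtain ⟨τ, hτ⟩ := Cfsg.Agent.Helper11.Witt.exists_trace_eq φ
    (Cfsg.Agent.Helper11.Herm.frob_ne_id hF φ hφ) hφφ 1 (map_one φ)
  have h1 := h (dualSym φ hφφ m (Matrix.single i j (τ / D j i)))
  rw [dualSym_trace φ hφφ m _ D hD, Matrix.trace_single_mul, smul_eq_mul,
    div_mul_cancel₀ _ hji, hτ] at h1
  exact hχ h1

/-- PIECE DUAL -/
theorem herm_dual (hF : Fintype.card F = q ^ 2) (φ : F →+* F) (hφ : ∀ x, φ x = x ^ q) (m : ℕ) :
    ∃ Ψ : Herm φ m → AddChar (Herm φ m) ℂ, Function.Bijective Ψ ∧ Ψ 0 = 1 ∧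
      ∀ (a : Matrix (Fin m) (Fin m) F) (T T' S S' : Herm φ m),
        (T' : Matrix (Fin m) (Fin m) F) = ct φ a * (T : Matrix (Fin m) (Fin m) F) * a →
        (S' : Matrix (Fin m) (Fin m) F) = a * (S : Matrix (Fin m) (Fin m) F) * ct φ a →
        Ψ T' S = Ψ T S' := by
  classical
  obtain ⟨χ, hχ⟩ := (AddChar.exists_apply_ne_zero (α := F) (a := 1)).mpr one_ne_zero
  let Ψ : Herm φ m → AddChar (Herm φ m) ℂ := fun T =>
    { toFun := fun S => χ ((S : Matrix (Fin m) (Fin m) F) * (T : Matrix (Fin m) (Fin m) F)).trace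
      map_zero_eq_one' := by
        rw [AddSubgroup.coe_zero, zero_mul, Matrix.trace_zero, AddChar.map_zero_eq_one]
      map_add_eq_mul' := by
        intro S S'
        rw [AddSubgroup.coe_add, add_mul, Matrix.trace_add, AddChar.map_add_eq_mul] }
  have hΨ : ∀ T S : Herm φ m, Ψ T S =
      χ ((S : Matrix (Fin m) (Fin m) F) * (T : Matrix (Fin m) (Fin m) F)).trace := fun _ _ => rfl
  refine ⟨Ψ, ?_, ?_, ?_⟩
  · have hinj : Function.Injective Ψ := by
      intro T T' hTT
      have hD : ct φ ((T : Matrix (Fin m) (Fin m) F) - (T' : Matrix (Fin m) (Fin m) F)) =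
          (T : Matrix (Fin m) (Fin m) F) - (T' : Matrix (Fin m) (Fin m) F) := by
        rw [ct_sub, T.2, T'.2]
      have h0 := dual_nondeg hF φ hφ m χ hχ _ hD (by
        intro S
        have h1 := DFunLike.congr_fun hTT S
        rw [hΨ, hΨ] at h1
        rw [mul_sub, Matrix.trace_sub, sub_eq_add_neg, AddChar.map_add_eq_mul,
          AddChar.map_neg_eq_inv, h1]
        apply mul_inv_cancel₀
        exact (χ.val_isUnit _).ne_zero)
      exact Subtype.ext (sub_eq_zero.mp h0)
    rw [Fintype.bijective_iff_injective_and_card]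
    exact ⟨hinj, (AddChar.card_eq (α := Herm φ m)).symm⟩
  · apply DFunLike.ext
    intro S
    rw [hΨ, AddSubgroup.coe_zero, mul_zero, Matrix.trace_zero, AddChar.map_zero_eq_one]
    rfl
  · intro a T T' S S' hT' hS'
    rw [hΨ, hΨ, hT', hS']
    congr 1
    calc ((S : Matrix (Fin m) (Fin m) F) * (ct φ a * (T : Matrix (Fin m) (Fin m) F) * a)).trace
        = (((S : Matrix (Fin m) (Fin m) F) * (ct φ a * (T : Matrix (Fin m) (Fin m) F))) * a).trace := by
          rw [← Matrix.mul_assoc (S : Matrix (Fin m) (Fin m) F)]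
      _ = (a * ((S : Matrix (Fin m) (Fin m) F) * (ct φ a * (T : Matrix (Fin m) (Fin m) F)))).trace :=
          Matrix.trace_mul_comm _ _
      _ = (a * (S : Matrix (Fin m) (Fin m) F) * ct φ a * (T : Matrix (Fin m) (Fin m) F)).trace := by
          simp only [Matrix.mul_assoc]

end

end Cfsg.Agent.Helper18.LS
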