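import Mathlib
import Cfsg.Agent.Lib.Helper2.RepWeights

/-!
# S2335 piece ABS (helper23): the abstract Landazuri-Seitz bound from orbits of characters
-/

set_option autoImplicit false

namespace Cfsg.Agent.Helper18.LS

open Cfsg.Agent.Helper2

theorem abs_bound {A V : Type*} [AddCommGroup A] [Fintype A] [AddCommGroup V] [Module ℂ V]
    [FiniteDimensional ℂ V] (T : A → V →ₗ[ℂ] V) (hT0 : T 0 = 1)
    (hTadd : ∀ a b, T (a + b) = T a * T b) (a₁ : A) (h1 : T a₁ ≠ 1) (N : ℕ)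
    (Sg : Set (A → A))
    (hSg : ∀ σ ∈ Sg, Function.Surjective σ ∧ ∃ D : V →ₗ[ℂ] V, Function.Injective D ∧
      ∀ a v, D (T a v) = T (σ a) (D v))
    (horb : ∀ ψ : AddChar A ℂ, ψ ≠ 1 → ∃ s : Finset (AddChar A ℂ), N ≤ s.card ∧
      ∀ ψ' ∈ s, ∃ σ ∈ Sg, ∀ a, ψ a = ψ' (σ a)) :
    N ≤ Module.finrank ℂ V := by
  obtain ⟨ψ, hψ1, hψbot⟩ := RepWt.exists_wt_ne_bot T hT0 hTadd h1
  have hψne : ψ ≠ 1 := by
    rintro rfl
    exact hψ1 (by simp)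
  obtain ⟨s, hs, hs'⟩ := horb ψ hψne
  have hpos : 1 ≤ Module.finrank ℂ (RepWt.wt T ψ) := by
    rw [Nat.one_le_iff_ne_zero]
    intro h0
    exact hψbot (Submodule.finrank_eq_zero.mp h0)
  have hle : ∀ ψ' ∈ s, 1 ≤ Module.finrank ℂ (RepWt.wt T ψ') := by
    intro ψ' hψ'
    obtain ⟨σ, hσ, hσψ⟩ := hs' ψ' hψ'
    obtain ⟨hsurj, D, hDinj, hD⟩ := hSg σ hσ
    exact hpos.trans (RepWt.finrank_wt_le T D hDinj σ hsurj hD ψ ψ' hσψ)
  calc N ≤ s.card := hs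
    _ = ∑ _ψ' ∈ s, 1 := by simp
    _ ≤ ∑ ψ' ∈ s, Module.finrank ℂ (RepWt.wt T ψ') := Finset.sum_le_sum hle
    _ ≤ Module.finrank ℂ V := RepWt.sum_finrank_le T hT0 hTadd s

end Cfsg.Agent.Helper18.LS
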