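import Mathlib
import Cfsg.Agent.Lib.Helper18.LS3Defs

/-!
# S2333, piece CHAR (helper23): the characters of the group of symmetric matrices, any characteristic
-/

set_option autoImplicit false
set_option linter.unusedSectionVars false

namespace Cfsg.Agent.Helper18.LS3

open Matrix Cfsg.Agent.Helper6.Weil

section CHAR
variable {n : ℕ} {F : Type*} [Field F] [Fintype F]

/-- scalar multiples of symmetric matrices -/
def charSmul (c : F) (S : symmAdd n F) : symmAdd n F :=
  ⟨c • (S : Matrix (Fin n) (Fin n) F), by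
    show (c • (S : Matrix (Fin n) (Fin n) F))ᵀ = _
    rw [Matrix.transpose_smul, (S.2 : (S : Matrix (Fin n) (Fin n) F)ᵀ = _)]⟩

/-- the symmetric matrix `v vᵀ` -/
def charVV (v : Fin n → F) : symmAdd n F :=
  ⟨Matrix.vecMulVec v v, by
    show (Matrix.vecMulVec v v)ᵀ = _
    rw [Matrix.transpose_vecMulVec]⟩

/-- the symmetric matrix `E_ii` -/
def charE (i : Fin n) : symmAdd n F :=
  ⟨Matrix.single i i (1 : F), by
    show (Matrix.single i i (1 : F))ᵀ = _
    rw [Matrix.transpose_single]⟩

omit [Fintype F] in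
theorem char_exists_ne (ψ₀ : AddChar F ℂ) (hψ₀ : ψ₀ ≠ 1) : ∃ t, ψ₀ t ≠ 1 := by
  by_contra hcon
  push Not at hcon
  apply hψ₀
  apply DFunLike.ext
  intro t
  rw [hcon t]
  rfl

omit [Fintype F] in
/-- equal characters: equal traces against every symmetric matrix -/
theorem char_trace_eq (ψ₀ : AddChar F ℂ) (hψ₀ : ψ₀ ≠ 1) (M M' : Matrix (Fin n) (Fin n) F)
    (h : symmChar ψ₀ M = symmChar ψ₀ M') (S : symmAdd n F) :
    (M * (S : Matrix (Fin n) (Fin n) F)).trace = (M' * (S : Matrix (Fin n) (Fin n) F)).trace := by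
  obtain ⟨t₀, ht₀⟩ := char_exists_ne ψ₀ hψ₀
  by_contra hne
  set a : F := (M * (S : Matrix (Fin n) (Fin n) F)).trace -
    (M' * (S : Matrix (Fin n) (Fin n) F)).trace with ha
  have ha0 : a ≠ 0 := sub_ne_zero.mpr hne
  have h1 := DFunLike.congr_fun h (charSmul (t₀ / a) S)
  rw [symmChar_apply, symmChar_apply] at h1
  have e1 : ∀ N : Matrix (Fin n) (Fin n) F,
      (N * ((charSmul (t₀ / a) S : symmAdd n F) : Matrix (Fin n) (Fin n) F)).trace =
        (t₀ / a) * (N * (S : Matrix (Fin n) (Fin n) F)).trace := by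
    intro N
    show (N * ((t₀ / a) • (S : Matrix (Fin n) (Fin n) F))).trace = _
    rw [Matrix.mul_smul, Matrix.trace_smul, smul_eq_mul]
  rw [e1, e1] at h1
  apply ht₀
  have e2 : t₀ = (t₀ / a) * (M * (S : Matrix (Fin n) (Fin n) F)).trace -
      (t₀ / a) * (M' * (S : Matrix (Fin n) (Fin n) F)).trace := by
    rw [← mul_sub, ← ha]
    field_simp
  rw [e2, sub_eq_add_neg, AddChar.map_add_eq_mul, AddChar.map_neg_eq_inv, h1]
  apply mul_inv_cancel₀
  exact (ψ₀.val_isUnit _).ne_zero

omit [Fintype F] in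
theorem qf_eq_trace (M : Matrix (Fin n) (Fin n) F) (v : Fin n → F) :
    qf M v = (M * ((charVV v : symmAdd n F) : Matrix (Fin n) (Fin n) F)).trace := by
  show qf M v = (M * Matrix.vecMulVec v v).trace
  rw [Matrix.mul_vecMulVec, Matrix.trace_vecMulVec, dotProduct_comm]
  rfl

omit [Fintype F] in
/-- the character determines the quadratic form. -/
theorem qf_eq_of_symmChar_eq (ψ₀ : AddChar F ℂ) (hψ₀ : ψ₀ ≠ 1) (M M' : Matrix (Fin n) (Fin n) F)
    (h : symmChar ψ₀ M = symmChar ψ₀ M') : ∀ v : Fin n → F, qf M v = qf M' v := by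
  intro v
  rw [qf_eq_trace, qf_eq_trace]
  exact char_trace_eq ψ₀ hψ₀ M M' h (charVV v)

omit [Fintype F] in
theorem trace_mul_altS (M : Matrix (Fin n) (Fin n) F) (i j : Fin n) :
    (M * ((altS i j : symmAdd n F) : Matrix (Fin n) (Fin n) F)).trace = M i j + M j i := by
  show (M * (Matrix.single i j (1 : F) + Matrix.single j i (1 : F))).trace = _
  rw [mul_add, Matrix.trace_add, Matrix.trace_mul_single, Matrix.trace_mul_single]
  simp [add_comm]

omit [Fintype F] in
theorem trace_mul_charE (M : Matrix (Fin n) (Fin n) F) (i : Fin n) :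
    (M * ((charE i : symmAdd n F) : Matrix (Fin n) (Fin n) F)).trace = M i i := by
  show (M * (Matrix.single i i (1 : F))).trace = _
  rw [Matrix.trace_mul_single]
  simp

omit [Fintype F] in
/-- value at `E_ij + E_ji` -/
theorem symmChar_altS (ψ₀ : AddChar F ℂ) (M : Matrix (Fin n) (Fin n) F) (i j : Fin n) :
    symmChar ψ₀ M (altS i j) = ψ₀ (M i j + M j i) := by
  rw [symmChar_apply, trace_mul_altS]

omit [Fintype F] in
/-- `pol M` in coordinates -/
theorem pol_single (M : Matrix (Fin n) (Fin n) F) (i j : Fin n) :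
    pol M (Pi.single i 1) (Pi.single j 1) = M i j + M j i := by
  unfold pol
  rw [Matrix.mulVec_single_one, single_one_dotProduct]
  simp [Matrix.add_apply, Matrix.transpose_apply]

/-- upper triangular matrices -/
def charUT (n : ℕ) (F : Type*) [Field F] : Type _ :=
  {U : Matrix (Fin n) (Fin n) F // ∀ i j : Fin n, j < i → U i j = 0}

omit [Fintype F] in
/-- the character of an upper triangular matrix determines it -/
theorem charUT_injective (ψ₀ : AddChar F ℂ) (hψ₀ : ψ₀ ≠ 1) (U U' : charUT n F)
    (h : symmChar ψ₀ U.1 = symmChar ψ₀ U'.1) : U = U' := by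
  apply Subtype.ext
  ext i j
  rcases lt_trichotomy i j with hij | hij | hij
  · have h1 := char_trace_eq ψ₀ hψ₀ _ _ h (altS i j)
    rw [trace_mul_altS, trace_mul_altS, U.2 j i hij, U'.2 j i hij, add_zero, add_zero] at h1
    exact h1
  · subst hij
    have h1 := char_trace_eq ψ₀ hψ₀ _ _ h (charE i)
    rw [trace_mul_charE, trace_mul_charE] at h1
    exact h1
  · rw [U.2 i j hij, U'.2 i j hij]

/-- the upper triangular part of a symmetric matrix -/
def charUpper (S : symmAdd n F) : charUT n F :=
  ⟨Matrix.of fun i j => if i ≤ j then (S : Matrix (Fin n) (Fin n) F) i j else 0, by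
    intro i j hji
    show (if i ≤ j then (S : Matrix (Fin n) (Fin n) F) i j else 0) = 0
    rw [if_neg (not_le.mpr hji)]⟩

omit [Fintype F] in
theorem charUpper_injective : Function.Injective (charUpper : symmAdd n F → charUT n F) := by
  intro S S' h
  apply Subtype.ext
  have key : ∀ i j : Fin n, i ≤ j →
      (S : Matrix (Fin n) (Fin n) F) i j = (S' : Matrix (Fin n) (Fin n) F) i j := by
    intro i j hij
    have h1 := congrFun (congrFun (congrArg Subtype.val h) i) j
    change (if i ≤ j then (S : Matrix (Fin n) (Fin n) F) i j else 0) =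
      (if i ≤ j then (S' : Matrix (Fin n) (Fin n) F) i j else 0) at h1
    rw [if_pos hij, if_pos hij] at h1
    exact h1
  have hS : ∀ i j : Fin n, (S : Matrix (Fin n) (Fin n) F) i j = (S : Matrix (Fin n) (Fin n) F) j i := by
    intro i j
    have := congrFun (congrFun (S.2 : (S : Matrix (Fin n) (Fin n) F)ᵀ = _) i) j
    rw [Matrix.transpose_apply] at this
    exact this.symm
  have hS' : ∀ i j : Fin n,
      (S' : Matrix (Fin n) (Fin n) F) i j = (S' : Matrix (Fin n) (Fin n) F) j i := by
    intro i j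
    have := congrFun (congrFun (S'.2 : (S' : Matrix (Fin n) (Fin n) F)ᵀ = _) i) j
    rw [Matrix.transpose_apply] at this
    exact this.symm
  ext i j
  rcases le_total i j with hij | hij
  · exact key i j hij
  · rw [hS i j, hS' i j]
    exact key j i hij

/-- every character of the symmetric matrices is `S ↦ ψ₀ (tr (M S))` for some matrix `M` (any characteristic). -/
theorem exists_symmChar_gen (ψ₀ : AddChar F ℂ) (hψ₀ : ψ₀ ≠ 1) (lam : AddChar (symmAdd n F) ℂ) :
    ∃ M : Matrix (Fin n) (Fin n) F, lam = symmChar ψ₀ M := by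
  classical
  let _ : Fintype (symmAdd n F) := Fintype.ofFinite _
  let _ : Fintype (charUT n F) := by
    unfold charUT
    exact Fintype.ofFinite _
  let Ψ : charUT n F → AddChar (symmAdd n F) ℂ := fun U => symmChar ψ₀ U.1
  have hinj : Function.Injective Ψ := fun U U' h => charUT_injective ψ₀ hψ₀ U U' h
  have h1 : Fintype.card (charUT n F) ≤ Fintype.card (AddChar (symmAdd n F) ℂ) :=
    Fintype.card_le_of_injective Ψ hinj
  have h2 : Fintype.card (symmAdd n F) ≤ Fintype.card (charUT n F) :=
    Fintype.card_le_of_injective _ charUpper_injective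
  have h3 : Fintype.card (AddChar (symmAdd n F) ℂ) = Fintype.card (symmAdd n F) :=
    AddChar.card_eq (α := symmAdd n F)
  have hbij : Function.Bijective Ψ := by
    rw [Fintype.bijective_iff_injective_and_card]
    exact ⟨hinj, by omega⟩
  obtain ⟨U, hU⟩ := hbij.2 lam
  exact ⟨U.1, hU.symm⟩

end CHAR

end Cfsg.Agent.Helper18.LS3
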