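import Mathlib
import Cfsg.Agent.Lib.Helper27.M11UDefs
import Cfsg.Agent.Lib.Helper27.M11UData

/-!
# S0420 piece CANDS50 (helper27's farm-out): the permutations compatible with `U0`
-/

set_option autoImplicit false
set_option linter.unusedVariables false

namespace Cfsg.Agent.Helper27.M11U

namespace CANDS50

/-- The permutation forced by the values at `1` and `2`. -/
def forced (a b : Fin 12) : Fin 12 → Fin 12 :=
  ![11, a, b, U0 (U0 a), U0 (U0 (U0 a)), U0 a, U0 (U0 b), U0 (U0 (U0 (U0 b))), U0 (U0 (U0 b)),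
    U0 (U0 (U0 (U0 a))), U0 b, 0]

set_option maxRecDepth 100000 in
theorem forced_mem : ∀ a b : Fin 12,
    (∀ i, forced a b (forced a b (forced a b (forced a b i))) = i) →
      ∃ p ∈ cands50, ∀ i, p i = forced a b i := by
  decide +kernel

theorem U0_five : ∀ y : Fin 12, U0 (U0 (U0 (U0 (U0 y)))) = y := by decide

end CANDS50

open CANDS50 in
/-- PIECE CANDS50: the permutations compatible with `U0`. -/
theorem mem_cands50 (S : Equiv.Perm (Fin 12)) (h11 : S 11 = 0) (h0 : S 0 = 11)
    (hU : S * U0 = U0 ^ 2 * S) (h4 : S ^ 4 = 1) : S ∈ cands50 := by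
  have key : ∀ x, S (U0 x) = U0 (U0 (S x)) := by
    intro x
    have := congrArg (fun p : Equiv.Perm (Fin 12) => p x) hU
    simpa [Equiv.Perm.mul_apply, pow_two] using this
  have e3 : S 3 = U0 (U0 (S 1)) := key 1
  have e9 : S 9 = U0 (U0 (S 3)) := key 3
  have e5 : S 5 = U0 (U0 (S 9)) := key 9
  have e4 : S 4 = U0 (U0 (S 5)) := key 5
  have e6 : S 6 = U0 (U0 (S 2)) := key 2
  have e7 : S 7 = U0 (U0 (S 6)) := key 6
  have e10 : S 10 = U0 (U0 (S 7)) := key 7
  have e8 : S 8 = U0 (U0 (S 10)) := key 10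
  have hS : ∀ i, S i = forced (S 1) (S 2) i := by
    intro i
    fin_cases i
    · exact h0
    · rfl
    · rfl
    · exact e3
    · show S 4 = U0 (U0 (U0 (S 1)))
      rw [e4, e5, e9, e3, U0_five]
    · show S 5 = U0 (S 1)
      rw [e5, e9, e3, U0_five]
    · exact e6
    · show S 7 = U0 (U0 (U0 (U0 (S 2))))
      rw [e7, e6]
    · show S 8 = U0 (U0 (U0 (S 2)))
      rw [e8, e10, e7, e6, U0_five]
    · show S 9 = U0 (U0 (U0 (U0 (S 1))))
      rw [e9, e3]
    · show S 10 = U0 (S 2)
      rw [e10, e7, e6, U0_five]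
    · exact h11
  have h4' : ∀ i, S (S (S (S i))) = i := by
    intro i
    have := congrArg (fun p : Equiv.Perm (Fin 12) => p i) h4
    simpa [pow_succ, Equiv.Perm.mul_apply] using this
  obtain ⟨p, hp, hpi⟩ := forced_mem (S 1) (S 2)
    (by intro i; rw [← hS, ← hS, ← hS, ← hS]; exact h4' i)
  have : p = S := Equiv.ext (fun i => (hpi i).trans (hS i).symm)
  exact this ▸ hp

end Cfsg.Agent.Helper27.M11U
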