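import Mathlib
import Cfsg.Agent.Lib.Helper23.GaloisChar

/-!
# Galois conjugates of integer combinations of roots of unity (helper23's shared library)

`prod_coprime_pow_sum_weighted`: for `n`-th roots of unity `μ_i` and integers `w_i`, the product
over `k < n` coprime to `n` of `∑_i w_i μ_i ^ k` is an integer, nonzero if `∑_i w_i μ_i ≠ 0`.
`card_le_sum_normSq_weighted`: the resulting AM–GM bound.
-/

set_option autoImplicit false

namespace Cfsg.Agent.Helper23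

open Polynomial

theorem prod_coprime_pow_sum_weighted {n : ℕ} {ι : Type*} [Fintype ι] (hn : 0 < n) (w : ι → ℤ)
    (μ : ι → ℂ) (hμ : ∀ i, μ i ^ n = 1) :
    ∃ z : ℤ, ∏ k ∈ (Finset.range n).filter (fun k => Nat.Coprime k n),
        (∑ i, (w i : ℂ) * μ i ^ k) = z ∧
      ((∑ i, (w i : ℂ) * μ i) ≠ 0 → z ≠ 0) := by
  classical
  haveI : NeZero n := ⟨hn.ne'⟩
  obtain ⟨ζ, hζ⟩ : ∃ ζ : ℂ, IsPrimitiveRoot ζ n := ⟨_, Complex.isPrimitiveRoot_exp n hn.ne'⟩
  have hex : ∀ i, ∃ a < n, ζ ^ a = μ i := fun i => hζ.eq_pow_of_pow_eq_one (hμ i)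
  choose a han ha using hex
  haveI : IsCyclotomicExtension {n} ℚ (CyclotomicField n ℚ) :=
    CyclotomicField.isCyclotomicExtension n ℚ
  have hζK : IsPrimitiveRoot (IsCyclotomicExtension.zeta n ℚ (CyclotomicField n ℚ)) n :=
    IsCyclotomicExtension.zeta_spec n ℚ (CyclotomicField n ℚ)
  obtain ⟨ζK, hζKdef⟩ : ∃ ζK : CyclotomicField n ℚ,
      ζK = IsCyclotomicExtension.zeta n ℚ (CyclotomicField n ℚ) := ⟨_, rfl⟩
  rw [← hζKdef] at hζK
  have hirr : Irreducible (cyclotomic n ℚ) := cyclotomic.irreducible_rat hn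
  obtain ⟨x, hxdef⟩ : ∃ x : CyclotomicField n ℚ, x = ∑ i, (w i : CyclotomicField n ℚ) * ζK ^ a i :=
    ⟨_, rfl⟩
  have hσx : ∀ σ : CyclotomicField n ℚ →ₐ[ℚ] ℂ, σ x = ∑ i, (w i : ℂ) * (σ ζK) ^ a i := by
    intro σ
    rw [hxdef, map_sum]
    refine Finset.sum_congr rfl fun i _ => ?_
    rw [map_mul, map_pow, map_intCast]
  let e := hζK.embeddingsEquivPrimitiveRoots ℂ hirr
  have he : ∀ σ : CyclotomicField n ℚ →ₐ[ℚ] ℂ, ((e σ : primitiveRoots n ℂ) : ℂ) = σ ζK :=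
    fun σ => rfl
  have hemb : ∀ η : ℂ, IsPrimitiveRoot η n → ∃ σ : CyclotomicField n ℚ →ₐ[ℚ] ℂ, σ ζK = η := by
    intro η hη
    refine ⟨e.symm ⟨η, (mem_primitiveRoots hn).2 hη⟩, ?_⟩
    rw [← he, Equiv.apply_symm_apply]
  have hfac : ∀ k : ℕ, Nat.Coprime k n →
      ∃ σ : CyclotomicField n ℚ →ₐ[ℚ] ℂ, σ x = ∑ i, (w i : ℂ) * μ i ^ k := by
    intro k hk
    obtain ⟨σ, hσ⟩ := hemb (ζ ^ k) (hζ.pow_of_coprime k hk)
    refine ⟨σ, ?_⟩
    rw [hσx, hσ]
    refine Finset.sum_congr rfl fun i _ => ?_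
    rw [← ha i, ← pow_mul, ← pow_mul, mul_comm k]
  have hx1 : ∃ σ : CyclotomicField n ℚ →ₐ[ℚ] ℂ, σ x = ∑ i, (w i : ℂ) * μ i := by
    obtain ⟨σ, hσ⟩ := hfac 1 (Nat.coprime_one_left n)
    exact ⟨σ, by simpa using hσ⟩
  have hnorm := Algebra.norm_eq_prod_embeddings ℚ ℂ x
  have hxint : IsIntegral ℤ x := by
    rw [hxdef]
    apply IsIntegral.sum
    intro i _
    apply IsIntegral.mul
    · exact isIntegral_algebraMap (R := ℤ) (A := CyclotomicField n ℚ) (x := w i) |> fun h => by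
        simpa using h
    · apply IsIntegral.pow
      exact hζK.isIntegral hn
  have hnint : IsIntegral ℤ (Algebra.norm ℚ x) := Algebra.isIntegral_norm ℚ hxint
  obtain ⟨z, hz⟩ := IsIntegrallyClosed.isIntegral_iff.mp hnint
  have hprod : ∏ σ : CyclotomicField n ℚ →ₐ[ℚ] ℂ, σ x =
      ∏ k ∈ (Finset.range n).filter (fun k => Nat.Coprime k n), (∑ i, (w i : ℂ) * μ i ^ k) := by
    rw [Fintype.prod_equiv e (fun σ => σ x) (fun η => ∑ i, (w i : ℂ) * (η : ℂ) ^ a i)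
      (fun σ => by rw [hσx, he])]
    rw [Finset.prod_coe_sort (primitiveRoots n ℂ) (fun η => ∑ i, (w i : ℂ) * η ^ a i)]
    symm
    apply Finset.prod_bij (fun k _ => ζ ^ k)
    · intro k hk
      rw [Finset.mem_filter] at hk
      exact (mem_primitiveRoots hn).2 (hζ.pow_of_coprime k hk.2)
    · intro k₁ hk₁ k₂ hk₂ h
      rw [Finset.mem_filter, Finset.mem_range] at hk₁ hk₂
      exact hζ.pow_inj hk₁.1 hk₂.1 h
    · intro η hη
      have hη' := (mem_primitiveRoots hn).1 hη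
      obtain ⟨k, hkn, hk⟩ := hζ.eq_pow_of_pow_eq_one hη'.pow_eq_one
      refine ⟨k, ?_, hk⟩
      rw [Finset.mem_filter, Finset.mem_range]
      refine ⟨hkn, ?_⟩
      rw [← hζ.pow_iff_coprime hn, hk]
      exact hη'
    · intro k _
      refine Finset.sum_congr rfl fun i _ => ?_
      rw [← ha i, ← pow_mul, ← pow_mul, mul_comm k]
  refine ⟨z, ?_, ?_⟩
  · rw [← hprod, ← hnorm, ← hz]
    simp
  · intro hne hz0
    obtain ⟨σ, hσ⟩ := hx1
    have hx0 : x ≠ 0 := by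
      intro h0
      rw [h0, map_zero] at hσ
      exact hne hσ.symm
    have : Algebra.norm ℚ x ≠ 0 := Algebra.norm_ne_zero_iff.2 hx0
    apply this
    rw [← hz, hz0]
    simp

/-- The Galois average of `|A|²` is at least one for a nonzero integer combination `A` of roots
of unity. -/
theorem card_le_sum_normSq_weighted {n : ℕ} {ι : Type*} [Fintype ι] (hn : 0 < n) (w : ι → ℤ)
    (μ : ι → ℂ) (hμ : ∀ i, μ i ^ n = 1) (h : (∑ i, (w i : ℂ) * μ i) ≠ 0) :
    (((Finset.range n).filter (fun k => Nat.Coprime k n)).card : ℝ) ≤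
      ∑ k ∈ (Finset.range n).filter (fun k => Nat.Coprime k n),
        ‖∑ i, (w i : ℂ) * μ i ^ k‖ ^ 2 := by
  obtain ⟨z, hz, hz0⟩ := prod_coprime_pow_sum_weighted hn w μ hμ
  have hzne : z ≠ 0 := hz0 h
  have hfac : ∀ k ∈ (Finset.range n).filter (fun k => Nat.Coprime k n),
      (∑ i, (w i : ℂ) * μ i ^ k) ≠ 0 := by
    intro k hk h0
    have : (z : ℂ) = 0 := by
      rw [← hz]
      exact Finset.prod_eq_zero hk h0
    exact hzne (by exact_mod_cast this)
  apply card_le_sum_of_one_le_prod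
  · intro k hk
    exact pow_pos (norm_pos_iff.2 (hfac k hk)) 2
  · rw [Finset.prod_pow, ← norm_prod, hz]
    have h1 : (1 : ℝ) ≤ ‖(z : ℂ)‖ := by
      rw [Complex.norm_intCast]
      have : (1 : ℤ) ≤ |z| := Int.one_le_abs hzne
      exact_mod_cast this
    nlinarith [norm_nonneg (z : ℂ)]

end Cfsg.Agent.Helper23
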