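import Mathlib
import Cfsg.Agent.Lib.Helper23.BlockContrib
import Cfsg.Agent.Lib.Helper23.BlockHeightZero2
import Cfsg.Agent.Lib.Helper23.BlockCongr

/-!
# Reduced Cartan-type integers of a block and a nonvanishing criterion (helper23's shared library)

`nRed p b ξ ξ'` is the integer `p^d [ξ°, ξ']` for `ξ, ξ'` in the block `b` of defect `d`
(and `0` otherwise).  `weighted_sum_not_memLocalIdeal`: for characters `θ, θ'` of `K` whose
truncated conjugates have unit central-character values on `b`, the sum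
`∑ a_ξ a'_ξ' n_{ξξ'} μ_{ξξ'}` with `μ ≡ 1` is a unit of the local ring.
-/

set_option autoImplicit false
set_option linter.unusedSectionVars false

namespace Cfsg.Agent.Helper23.Blk

open Cfsg Cfsg.Agent.Helper24 Cfsg.Agent.Helper18
open scoped ComplexConjugate

universe u

section NRed

variable {K : Type u} [Group K] [Fintype K] {M : Ideal AlgInt} {p : ℕ} [Fact p.Prime]
  [Fintype (IrrCharacter K)]

/-- the integer `p^d [ξ°, ξ']` for `ξ, ξ'` in the block `b` of defect `d`; zero outside `b` -/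
noncomputable def nRed (p : ℕ) [Fact p.Prime] (b : Set (IrrCharacter K))
    (ξ ξ' : IrrCharacter K) : ℤ := by
  classical
  exact if ξ ∈ b ∧ ξ' ∈ b then nInt p ξ ξ' / ((p ^ minVal p b : ℕ) : ℤ) else 0

theorem nRed_of_not_mem (b : Set (IrrCharacter K)) {ξ ξ' : IrrCharacter K}
    (h : ¬ (ξ ∈ b ∧ ξ' ∈ b)) : nRed p b ξ ξ' = 0 := by
  unfold nRed
  rw [if_neg h]

theorem nRed_symm (b : Set (IrrCharacter K)) (ξ ξ' : IrrCharacter K) :
    nRed p b ξ ξ' = nRed p b ξ' ξ := by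
  unfold nRed
  by_cases h : ξ ∈ b ∧ ξ' ∈ b
  · rw [if_pos h, if_pos h.symm, nInt_symm]
  · rw [if_neg h, if_neg (fun h' => h h'.symm)]

theorem nRed_spec (hM : IsPModular p M) {b : Set (IrrCharacter K)} (hb : IsPBlock M b)
    {ξ ξ' : IrrCharacter K} (h : ξ ∈ b ∨ ξ' ∈ b) :
    (nRed p b ξ ξ' : ℂ) = ((p ^ blockDefect p b : ℕ) : ℂ) *
      classInner (pRegularPart p (ξ : K → ℂ)) (ξ' : K → ℂ) := by
  haveI hMp : M.IsPrime := hM.2.1.isPrime
  have hp : p.Prime := hM.1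
  by_cases hboth : ξ ∈ b ∧ ξ' ∈ b
  · obtain ⟨hξ, hξ'⟩ := hboth
    unfold nRed
    rw [if_pos ⟨hξ, hξ'⟩]
    have hdvd : ((p ^ minVal p b : ℕ) : ℤ) ∣ nInt p ξ ξ' := by
      refine dvd_trans ?_ (nInt_dvd_left ξ ξ')
      have := pow_dvd_pow p (minVal_le (p := p) hξ)
      exact_mod_cast this
    obtain ⟨q, hq⟩ := hdvd
    have hpm0 : ((p ^ minVal p b : ℕ) : ℤ) ≠ 0 := by
      have := pow_pos hp.pos (minVal p b)
      exact_mod_cast this.ne'
    rw [hq, Int.mul_ediv_cancel_left _ hpm0]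
    have hspec := nInt_spec (p := p) ξ ξ'
    rw [classInner_smul_left, hq] at hspec
    have hle : minVal p b ≤ (Nat.card K).factorization p := minVal_le_card ⟨ξ, hξ⟩
    have hsplit : (Nat.card K).factorization p = minVal p b + blockDefect p b := by
      rw [blockDefect_eq_sub_minVal]
      omega
    rw [hsplit, pow_add] at hspec
    have hpm0' : ((p ^ minVal p b : ℕ) : ℂ) ≠ 0 := by
      have := pow_pos hp.pos (minVal p b)
      exact_mod_cast this.ne'
    apply mul_left_cancel₀ hpm0'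
    rw [← mul_assoc]
    push_cast at hspec ⊢
    rw [hspec]
  · rw [nRed_of_not_mem b hboth, Int.cast_zero]
    have hA : ∀ g : K, MemLocalRing M (blockCoeff b g) :=
      fun g => memLocalRing_blockCoeff hMp hb g
    rcases h with hξ | hξ'
    · have hξ' : ξ' ∉ b := fun h' => hboth ⟨hξ, h'⟩
      rw [classInner_pRegularPart_eq_zero p hM hA hξ hξ', mul_zero]
    · have hξ : ξ ∉ b := fun h' => hboth ⟨h', hξ'⟩
      rw [classInner_pRegularPart_symm, classInner_pRegularPart_eq_zero p hM hA hξ' hξ,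
        map_zero, mul_zero]

/-- the local factor `p^d ξ(1) / |K|` -/
noncomputable def rhoFac (p : ℕ) (b : Set (IrrCharacter K)) (ξ : IrrCharacter K) : ℂ :=
  ((p ^ blockDefect p b : ℕ) : ℂ) * (ξ : K → ℂ) 1 / (Nat.card K : ℂ)

theorem rhoFac_local (hM : IsPModular p M) {b : Set (IrrCharacter K)} {ξ : IrrCharacter K}
    (hξ : ξ ∈ b) :
    MemLocalRing M (rhoFac p b ξ) ∧
      ((charDegree (ξ : K → ℂ)).factorization p = minVal p b →
        ¬ MemLocalIdeal M (rhoFac p b ξ)) := by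
  have hp : p.Prime := hM.1
  have hA : p ^ blockDefect p b * charDegree (ξ : K → ℂ) ≠ 0 :=
    mul_ne_zero (pow_pos hp.pos _).ne' (charDegree_ne_zero ξ)
  have hB : Nat.card K ≠ 0 := (Nat.card_pos (α := K)).ne'
  have hfac : (p ^ blockDefect p b * charDegree (ξ : K → ℂ)).factorization p =
      blockDefect p b + (charDegree (ξ : K → ℂ)).factorization p := by
    rw [Nat.factorization_mul (pow_pos hp.pos _).ne' (charDegree_ne_zero ξ),
      Finsupp.add_apply, hp.factorization_pow, Finsupp.single_eq_same]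
  have hle : minVal p b ≤ (Nat.card K).factorization p := minVal_le_card ⟨ξ, hξ⟩
  have hmin := minVal_le (p := p) hξ
  have hd : blockDefect p b = (Nat.card K).factorization p - minVal p b :=
    blockDefect_eq_sub_minVal b
  have h1 := memLocalRing_natCast_div hM hA hB (by rw [hfac]; omega)
  have heq : rhoFac p b ξ = ((p ^ blockDefect p b * charDegree (ξ : K → ℂ) : ℕ) : ℂ) /
      (Nat.card K : ℂ) := by
    unfold rhoFac
    rw [irr_one_eq_charDegree ξ.2]
    push_cast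
    rfl
  rw [heq]
  refine ⟨h1.1, fun h => h1.2 ?_⟩
  rw [hfac]
  omega

/-- `∑_ξ a_ξ n_{ξξ'}` through the central character of `ξ' ∈ b` -/
theorem sum_nRed_eq (hM : IsPModular p M) {b : Set (IrrCharacter K)} (hb : IsPBlock M b)
    {θ : K → ℂ} (hθ : IsCharacter K θ) (a : IrrCharacter K → ℕ)
    (hdec : θ = ∑ ξ : IrrCharacter K, (a ξ : ℂ) • (ξ : K → ℂ))
    {ξ' : IrrCharacter K} (hξ' : ξ' ∈ b) :
    ∑ ξ : IrrCharacter K, (a ξ : ℂ) * (nRed p b ξ ξ' : ℂ) =
      rhoFac p b ξ' * omega (ξ' : K → ℂ) (conjReg p θ) := by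
  have h1 : classInner (pRegularPart p θ) (ξ' : K → ℂ) =
      ∑ ξ : IrrCharacter K, (a ξ : ℂ) *
        classInner (pRegularPart p (ξ : K → ℂ)) (ξ' : K → ℂ) := by
    conv_lhs => rw [hdec]
    rw [pRegularPart_sum, classInner_sum_left]
    apply Finset.sum_congr rfl
    intro ξ _
    rw [pRegularPart_smul, classInner_smul_left]
  have h2 := classInner_pRegularPart_eq_omega' (p := p) hθ ξ'.2
  have h3 : rhoFac p b ξ' * omega (ξ' : K → ℂ) (conjReg p θ) =
      ((p ^ blockDefect p b : ℕ) : ℂ) * classInner (pRegularPart p θ) (ξ' : K → ℂ) := by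
    rw [h2]
    unfold rhoFac
    ring
  rw [h3, h1, Finset.mul_sum]
  apply Finset.sum_congr rfl
  intro ξ _
  rw [nRed_spec hM hb (Or.inr hξ')]
  ring

/-- a single entry through the central character -/
theorem nRed_eq_rhoFac_mul (hM : IsPModular p M) {b : Set (IrrCharacter K)} (hb : IsPBlock M b)
    {ξ₀ ξ' : IrrCharacter K} (hξ' : ξ' ∈ b) :
    (nRed p b ξ₀ ξ' : ℂ) =
      rhoFac p b ξ' * omega (ξ' : K → ℂ) (conjReg p (ξ₀ : K → ℂ)) := by
  rw [nRed_spec hM hb (Or.inr hξ'),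
    classInner_pRegularPart_eq_omega' (p := p) (isCharacter_of_isIrrCharacter ξ₀.2) ξ'.2]
  unfold rhoFac
  ring

/-- congruence of weighted sums of central character values over a block -/
theorem sum_mul_omega_cong (hM : IsPModular p M) {b : Set (IrrCharacter K)}
    [DecidablePred (· ∈ b)] (hb : IsPBlock M b)
    {ξ₀ : IrrCharacter K} (hξ₀ : ξ₀ ∈ b) (c : IrrCharacter K → ℂ)
    (hc : ∀ ξ ∈ b, MemLocalRing M (c ξ)) {F : K → ℂ} (hF : IsClassFunction K F)
    (hFR : ∀ g, MemLocalRing M (F g)) :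
    MemLocalIdeal M ((∑ ξ : IrrCharacter K,
        (if ξ ∈ b then c ξ * omega (ξ : K → ℂ) F else 0)) -
      omega (ξ₀ : K → ℂ) F * ∑ ξ : IrrCharacter K, (if ξ ∈ b then c ξ else 0)) := by
  haveI hMp : M.IsPrime := hM.2.1.isPrime
  rw [Finset.mul_sum, ← Finset.sum_sub_distrib]
  apply memLocalIdeal_sum
  intro ξ _
  by_cases hξ : ξ ∈ b
  · rw [if_pos hξ, if_pos hξ]
    have : c ξ * omega (ξ : K → ℂ) F - omega (ξ₀ : K → ℂ) F * c ξ =
        c ξ * (omega (ξ : K → ℂ) F - omega (ξ₀ : K → ℂ) F) := by ring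
    rw [this]
    exact memLocalIdeal_mul_left (hc ξ hξ)
      (memLocalIdeal_omega_sub (sameBlock_of_mem hb hξ hξ₀) hF hFR)
  · rw [if_neg hξ, if_neg hξ, mul_zero, sub_zero]
    exact memLocalIdeal_zero ne_top

set_option maxHeartbeats 1600000 in
/-- **nonvanishing of the contribution of a subsection modulo the local ideal** -/
theorem weighted_sum_not_memLocalIdeal (hM : IsPModular p M) {b : Set (IrrCharacter K)}
    (hb : IsPBlock M b) {θ θ' : K → ℂ} (hθ : IsCharacter K θ) (hθ' : IsCharacter K θ')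
    (a a' : IrrCharacter K → ℕ)
    (hdec : θ = ∑ ξ : IrrCharacter K, (a ξ : ℂ) • (ξ : K → ℂ))
    (hdec' : θ' = ∑ ξ : IrrCharacter K, (a' ξ : ℂ) • (ξ : K → ℂ))
    (hW : ∀ ξ₀ ∈ b, ¬ MemLocalIdeal M (omega (ξ₀ : K → ℂ) (conjReg p θ)))
    (hW' : ∀ ξ₀ ∈ b, ¬ MemLocalIdeal M (omega (ξ₀ : K → ℂ) (conjReg p θ')))
    (μ : IrrCharacter K → IrrCharacter K → ℂ)
    (hμ : ∀ ξ ξ', MemLocalIdeal M (μ ξ ξ' - 1)) :
    ¬ MemLocalIdeal M (∑ ξ : IrrCharacter K, ∑ ξ' : IrrCharacter K,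
      ((a ξ : ℂ) * (a' ξ' : ℂ) * (nRed p b ξ ξ' : ℂ)) * μ ξ ξ') := by
  classical
  haveI hMp : M.IsPrime := hM.2.1.isPrime
  obtain ⟨ξ₀, hξ₀, hmin⟩ := exists_min_degree (p := p) (block_nonempty hM hb)
  have hξ₀min : (charDegree (ξ₀ : K → ℂ)).factorization p = minVal p b := by
    apply le_antisymm
    · apply le_csInf
      · obtain ⟨ξ, hξ⟩ := block_nonempty hM hb
        exact ⟨_, ξ, hξ, rfl⟩
      · rintro _ ⟨ψ, hψ, rfl⟩
        exact hmin ψ hψ
    · exact minVal_le hξ₀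
  -- local facts
  have hcfθ : IsClassFunction K (conjReg p θ) :=
    isClassFunction_conjReg (isClassFunction_of_isCharacter hθ)
  have hRθ : ∀ g, MemLocalRing M (conjReg p θ g) := memLocalRing_conjReg hθ
  have hcfξ₀ : IsClassFunction K (conjReg p (ξ₀ : K → ℂ)) :=
    isClassFunction_conjReg (isClassFunction_of_isIrrCharacter ξ₀.2)
  have hRξ₀ : ∀ g, MemLocalRing M (conjReg p (ξ₀ : K → ℂ) g) :=
    memLocalRing_conjReg (isCharacter_of_isIrrCharacter ξ₀.2)
  have hcR : ∀ ξ ∈ b, MemLocalRing M ((a' ξ : ℂ) * rhoFac p b ξ) :=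
    fun ξ hξ => memLocalRing_mul (memLocalRing_natCast _) (rhoFac_local hM hξ).1
  set T' : ℂ := ∑ ξ : IrrCharacter K, (if ξ ∈ b then (a' ξ : ℂ) * rhoFac p b ξ else 0) with hT'
  have hT'R : MemLocalRing M T' := by
    apply memLocalRing_sum
    intro ξ _
    by_cases hξ : ξ ∈ b
    · rw [if_pos hξ]
      exact hcR ξ hξ
    · rw [if_neg hξ]
      exact memLocalRing_zero ne_top
  -- `T'` is a unit
  have hT'0 : ¬ MemLocalIdeal M T' := by
    intro hT
    set Q : ℂ := ∑ ξ' : IrrCharacter K, (a' ξ' : ℂ) * (nRed p b ξ₀ ξ' : ℂ) with hQ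
    have hQ1 : Q = rhoFac p b ξ₀ * omega (ξ₀ : K → ℂ) (conjReg p θ') := by
      rw [← sum_nRed_eq hM hb hθ' a' hdec' hξ₀, hQ]
      apply Finset.sum_congr rfl
      intro ξ' _
      rw [nRed_symm]
    have hQ2 : Q = ∑ ξ' : IrrCharacter K, (if ξ' ∈ b then
        ((a' ξ' : ℂ) * rhoFac p b ξ') * omega (ξ' : K → ℂ) (conjReg p (ξ₀ : K → ℂ)) else 0) := by
      rw [hQ]
      apply Finset.sum_congr rfl
      intro ξ' _
      by_cases hξ' : ξ' ∈ b
      · rw [if_pos hξ', nRed_eq_rhoFac_mul hM hb hξ']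
        ring
      · rw [if_neg hξ', nRed_of_not_mem b (fun h => hξ' h.2), Int.cast_zero, mul_zero]
    have hcong := sum_mul_omega_cong hM hb hξ₀ (fun ξ => (a' ξ : ℂ) * rhoFac p b ξ) hcR
      hcfξ₀ hRξ₀
    rw [← hQ2, ← hT'] at hcong
    have hVR : MemLocalRing M (omega (ξ₀ : K → ℂ) (conjReg p (ξ₀ : K → ℂ))) :=
      memLocalRing_omega ξ₀ hcfξ₀ hRξ₀
    have hQI : MemLocalIdeal M Q := by
      have := memLocalIdeal_add hcong (memLocalIdeal_mul_left hVR hT)
      rwa [sub_add_cancel] at this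
    have hcfθ' : IsClassFunction K (conjReg p θ') :=
      isClassFunction_conjReg (isClassFunction_of_isCharacter hθ')
    have hRθ' : ∀ g, MemLocalRing M (conjReg p θ' g) := memLocalRing_conjReg hθ'
    rw [hQ1] at hQI
    exact not_memLocalIdeal_mul (rhoFac_local hM hξ₀).1 (memLocalRing_omega ξ₀ hcfθ' hRθ')
      ((rhoFac_local hM hξ₀).2 hξ₀min) (hW' ξ₀ hξ₀) hQI
  -- the sum with `μ = 1`
  set S : ℂ := ∑ ξ : IrrCharacter K, ∑ ξ' : IrrCharacter K,
      ((a ξ : ℂ) * (a' ξ' : ℂ) * (nRed p b ξ ξ' : ℂ)) with hS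
  have hS1 : S = ∑ ξ' : IrrCharacter K, (if ξ' ∈ b then
      ((a' ξ' : ℂ) * rhoFac p b ξ') * omega (ξ' : K → ℂ) (conjReg p θ) else 0) := by
    rw [hS, Finset.sum_comm]
    apply Finset.sum_congr rfl
    intro ξ' _
    by_cases hξ' : ξ' ∈ b
    · rw [if_pos hξ', mul_assoc, ← sum_nRed_eq hM hb hθ a hdec hξ', Finset.mul_sum]
      apply Finset.sum_congr rfl
      intro ξ _
      ring
    · rw [if_neg hξ']
      apply Finset.sum_eq_zero
      intro ξ _
      rw [nRed_of_not_mem b (fun h => hξ' h.2), Int.cast_zero, mul_zero]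
  have hScong := sum_mul_omega_cong hM hb hξ₀ (fun ξ => (a' ξ : ℂ) * rhoFac p b ξ) hcR
    hcfθ hRθ
  rw [← hS1, ← hT'] at hScong
  have hS0 : ¬ MemLocalIdeal M S :=
    not_memLocalIdeal_of_cong hScong
      (not_memLocalIdeal_mul (memLocalRing_omega ξ₀ hcfθ hRθ) hT'R (hW ξ₀ hξ₀) hT'0)
  -- the general sum
  refine not_memLocalIdeal_of_cong ?_ hS0
  rw [hS, ← Finset.sum_sub_distrib]
  apply memLocalIdeal_sum
  intro ξ _
  rw [← Finset.sum_sub_distrib]
  apply memLocalIdeal_sum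
  intro ξ' _
  have : (a ξ : ℂ) * (a' ξ' : ℂ) * (nRed p b ξ ξ' : ℂ) * μ ξ ξ' -
      (a ξ : ℂ) * (a' ξ' : ℂ) * (nRed p b ξ ξ' : ℂ) =
      ((a ξ : ℂ) * (a' ξ' : ℂ) * (nRed p b ξ ξ' : ℂ)) * (μ ξ ξ' - 1) := by ring
  rw [this]
  exact memLocalIdeal_mul_left (memLocalRing_mul (memLocalRing_mul (memLocalRing_natCast _)
    (memLocalRing_natCast _)) (memLocalRing_intCast _)) (hμ ξ ξ')

end NRed

end Cfsg.Agent.Helper23.Blk
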