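import Mathlib
import Cfsg.Agent.Lib.Helper23.BlockContrib2
import Cfsg.Agent.Lib.Helper23.Schur

/-!
# Explicit form of the contributions of a subsection (helper23's shared library)

For `Z` central in `H`, the contribution of `(Z, e)` to `(χ, ψ)`, multiplied by `p^d`, is
`∑ a_ξ a'_ξ' n_{ξξ'} λ_ξ(Z) conj λ_ξ'(Z)` with `λ_ξ(Z) = ξ(Z)/ξ(1)` multiplicative in `Z`.
-/

set_option autoImplicit false
set_option linter.unusedSectionVars false
set_option linter.style.haveILetI false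

namespace Cfsg.Agent.Helper23.Blk

open Cfsg Cfsg.Agent.Helper24 Cfsg.Agent.Helper18
open scoped ComplexConjugate

universe u

section Ratio

variable {K : Type u} [Group K] [Fintype K]

/-- the scalar by which a central element acts -/
noncomputable def cRatio (ξ : K → ℂ) (Z : K) : ℂ := ξ Z / ξ 1

theorem cRatio_one {ξ : K → ℂ} (hξ : IsIrrCharacter K ξ) : cRatio ξ 1 = 1 := by
  unfold cRatio
  exact div_self (irr_one_ne_zero hξ)

theorem apply_central_mul {ξ : K → ℂ} (hξ : IsIrrCharacter K ξ) {Z : K}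
    (hZ : Z ∈ Subgroup.center K) (g : K) : ξ (Z * g) = cRatio ξ Z * ξ g :=
  irr_central_mul ξ hξ Z hZ g

theorem cRatio_mul {ξ : K → ℂ} (hξ : IsIrrCharacter K ξ) {Z : K}
    (hZ : Z ∈ Subgroup.center K) (Z' : K) : cRatio ξ (Z * Z') = cRatio ξ Z * cRatio ξ Z' := by
  unfold cRatio
  rw [irr_central_mul ξ hξ Z hZ Z']
  ring

theorem cRatio_pow {ξ : K → ℂ} (hξ : IsIrrCharacter K ξ) {Z : K}
    (hZ : Z ∈ Subgroup.center K) (k : ℕ) : cRatio ξ (Z ^ k) = cRatio ξ Z ^ k := by
  induction k with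
  | zero => rw [pow_zero, pow_zero, cRatio_one hξ]
  | succ k ih => rw [pow_succ', pow_succ', cRatio_mul hξ hZ, ih]

theorem cRatio_pow_orderOf {ξ : K → ℂ} (hξ : IsIrrCharacter K ξ) {Z : K}
    (hZ : Z ∈ Subgroup.center K) : cRatio ξ Z ^ orderOf Z = 1 := by
  rw [← cRatio_pow hξ hZ, pow_orderOf_eq_one, cRatio_one hξ]

theorem conj_cRatio {ξ : K → ℂ} (hξ : IsIrrCharacter K ξ) (Z : K) :
    conj (cRatio ξ Z) = cRatio ξ Z⁻¹ := by
  unfold cRatio
  rw [map_div₀, conj_irr_one hξ, irr_inv (isCharacter_of_isIrrCharacter hξ)]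

theorem cRatio_mul_conj {ξ : K → ℂ} (hξ : IsIrrCharacter K ξ) {Z : K}
    (hZ : Z ∈ Subgroup.center K) : cRatio ξ Z * conj (cRatio ξ Z) = 1 := by
  rw [conj_cRatio hξ, ← cRatio_mul hξ hZ, mul_inv_cancel, cRatio_one hξ]

end Ratio

section Shift

variable {G : Type u} [Group G] [Fintype G] {M : Ideal AlgInt} {p : ℕ}

/-- the multiplicities of a translate by a central element of `H` -/
theorem classInner_shift_central (H : Subgroup G) [Fintype H] {Z : H}
    (hZ : Z ∈ Subgroup.center H) (χ : G → ℂ) (ξ : IrrCharacter H) :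
    classInner (fun c : H => χ ((Z : G) * (c : G))) (ξ : H → ℂ) =
      classInner (fun c : H => χ (c : G)) (ξ : H → ℂ) * cRatio (ξ : H → ℂ) Z := by
  unfold classInner
  rw [mul_assoc, Finset.sum_mul]
  congr 1
  rw [← Equiv.sum_comp (Equiv.mulLeft Z)
    (fun c : H => χ (c : G) * conj ((ξ : H → ℂ) c) * cRatio (ξ : H → ℂ) Z)]
  apply Finset.sum_congr rfl
  intro c _
  rw [Equiv.coe_mulLeft, apply_central_mul ξ.2 hZ, map_mul]
  have h1 := cRatio_mul_conj ξ.2 hZ
  push_cast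
  calc χ ((Z : G) * (c : G)) * conj ((ξ : H → ℂ) c)
      = χ ((Z : G) * (c : G)) * conj ((ξ : H → ℂ) c) *
          (cRatio (ξ : H → ℂ) Z * conj (cRatio (ξ : H → ℂ) Z)) := by rw [h1, mul_one]
    _ = _ := by ring

set_option maxHeartbeats 1600000 in
/-- **explicit form of a contribution** for a central element `Z` of `H` -/
theorem contrib_eq_sum (hM : IsPModular p M) [Fact p.Prime] (H : Subgroup G) [Fintype H]
    [Fintype (IrrCharacter H)] {e : Set (IrrCharacter H)} (he : IsPBlock M e) {Z : H}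
    (hZ : Z ∈ Subgroup.center H) {χ ψ : G → ℂ} (a a' : IrrCharacter H → ℕ)
    (ha : ∀ ξ : IrrCharacter H, classInner (fun c : H => χ (c : G)) (ξ : H → ℂ) = a ξ)
    (ha' : ∀ ξ : IrrCharacter H, classInner (fun c : H => ψ (c : G)) (ξ : H → ℂ) = a' ξ) :
    ((p ^ blockDefect p e : ℕ) : ℂ) * contrib p H (Z : G) e χ ψ =
      ∑ ξ : IrrCharacter H, ∑ ξ' : IrrCharacter H,
        ((a ξ : ℂ) * (a' ξ' : ℂ) * (nRed p e ξ ξ' : ℂ)) *
          (cRatio (ξ : H → ℂ) Z * conj (cRatio (ξ' : H → ℂ) Z)) := by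
  classical
  have hη : ∀ (φ : G → ℂ) (m : IrrCharacter H → ℕ),
      (∀ ξ : IrrCharacter H, classInner (fun c : H => φ (c : G)) (ξ : H → ℂ) = m ξ) →
      etaPart H (Z : G) e φ = ∑ ξ : IrrCharacter H,
        (if ξ ∈ e then (m ξ : ℂ) * cRatio (ξ : H → ℂ) Z else 0) • (ξ : H → ℂ) := by
    intro φ m hm
    unfold etaPart
    rw [blockPart_eq_sum]
    apply Finset.sum_congr rfl
    intro ξ _
    by_cases hξ : ξ ∈ e
    · rw [if_pos hξ, if_pos hξ, classInner_shift_central H hZ φ ξ, hm ξ]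
    · rw [if_neg hξ, if_neg hξ]
  unfold contrib
  rw [hη χ a ha, hη ψ a' ha', pRegularPart_sum, classInner_sum_left, Finset.mul_sum]
  apply Finset.sum_congr rfl
  intro ξ _
  rw [pRegularPart_smul, classInner_smul_left, classInner_sum_right, Finset.mul_sum,
    Finset.mul_sum]
  apply Finset.sum_congr rfl
  intro ξ' _
  rw [classInner_smul_right]
  by_cases hξ : ξ ∈ e
  · by_cases hξ' : ξ' ∈ e
    · rw [if_pos hξ, if_pos hξ', nRed_spec hM he (Or.inl hξ), map_mul, Complex.conj_natCast]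
      ring
    · rw [if_neg hξ', nRed_of_not_mem e (fun h => hξ' h.2), map_zero, Int.cast_zero]
      ring
  · rw [if_neg hξ, nRed_of_not_mem e (fun h => hξ h.1), Int.cast_zero]
    ring

end Shift

end Cfsg.Agent.Helper23.Blk
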