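import Mathlib
import Cfsg.Agent.Lib.Helper23.BlockHeightZero4

/-!
# Okuyama's and Blau's theorems on height zero characters (helper23's shared library)
-/

set_option autoImplicit false
set_option linter.unusedSectionVars false

namespace Cfsg.Agent.Helper23.Blk

open Cfsg Cfsg.Agent.Helper24 Cfsg.Agent.Helper18
open scoped ComplexConjugate

universe u

section Oku

variable {G : Type u} [Group G] [Fintype G] {M : Ideal AlgInt} {p : ℕ}

theorem conjReg_restrict_eq (H : Subgroup G) (χ : G → ℂ) :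
    (fun h : H => conjReg p χ (h : G)) = conjReg p (fun h : H => χ (h : G)) := by
  classical
  funext h
  unfold conjReg
  rw [pRegularPart_apply, pRegularPart_apply, Subgroup.orderOf_coe]

/-- outside the block of `ψ` the pairing with `(conj ψ)°` vanishes modulo the local ideal -/
theorem memLocalIdeal_omega_conjReg_of_not_mem (hM : IsPModular p M) [Fact p.Prime]
    {ψ ξ : IrrCharacter G} (h : ξ ∉ blockOf M (ψ : G → ℂ)) :
    MemLocalIdeal M (omega (ξ : G → ℂ) (conjReg p (ψ : G → ℂ))) := by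
  classical
  haveI hMp : M.IsPrime := hM.2.1.isPrime
  letI : Fintype (IrrCharacter G) := irrFintype
  obtain ⟨n, hn, -, -, hform⟩ := exists_int_tilde (p := p) ψ ξ
  apply (heightUnit_iff hM ψ ξ hform).1
  have h3 : classInner (pRegularPart p (ψ : G → ℂ)) (ξ : G → ℂ) = 0 :=
    classInner_pRegularPart_eq_zero p hM
      (fun g => memLocalRing_blockCoeff hMp ⟨ψ, rfl⟩ g) (mem_blockOf_self ψ) h
  rw [classInner_smul_left, h3, mul_zero] at hn
  have : n = 0 := by exact_mod_cast hn.symm
  rw [this, Int.cast_zero, zero_div]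
  exact memLocalIdeal_zero ne_top

/-- **Okuyama's theorem** -/
theorem okuyama (hM : IsPModular p M) [Fact p.Prime] (H : Subgroup G) [Fintype H]
    (χ : IrrCharacter G) (hres : IsIrrCharacter H (fun h : H => (χ : G → ℂ) h))
    (hχ0 : blockHeight p (blockOf M (χ : G → ℂ)) (χ : G → ℂ) = 0)
    (hψ0 : blockHeight p (blockOf M (fun h : H => (χ : G → ℂ) h))
      (fun h : H => (χ : G → ℂ) h) = 0)
    (e : Set (IrrCharacter H)) (he : InducedBlockDefined M H e) :
    IsInducedBlock M H e (blockOf M (χ : G → ℂ)) ↔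
      e = blockOf M (fun h : H => (χ : G → ℂ) h) := by
  classical
  haveI hMp : M.IsPrime := hM.2.1.isPrime
  set ψ : IrrCharacter H := ⟨fun h : H => (χ : G → ℂ) h, hres⟩ with hψ
  have hψc : (ψ : H → ℂ) = fun h : H => (χ : G → ℂ) h := rfl
  have hb : IsPBlock M (blockOf M (ψ : H → ℂ)) := ⟨ψ, rfl⟩
  have hB : IsPBlock M (blockOf M (χ : G → ℂ)) := ⟨χ, rfl⟩
  have hrestr : (fun h : H => conjReg p (χ : G → ℂ) (h : G)) = conjReg p (ψ : H → ℂ) :=
    conjReg_restrict_eq H _
  constructor
  · intro hind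
    obtain ⟨ξ₀, hξ₀⟩ := block_nonempty hM hind.1
    have h1 := (omega_restrict_conjReg hM H hind χ hξ₀).2 (mem_blockOf_self χ) hχ0
    rw [hrestr] at h1
    have hξ₀b : ξ₀ ∈ blockOf M (ψ : H → ℂ) := by
      by_contra hc
      exact h1 (memLocalIdeal_omega_conjReg_of_not_mem hM hc)
    rw [← hψc]
    exact isPBlock_eq_of_mem hind.1 hb hξ₀ hξ₀b
  · intro heq
    obtain ⟨B', hind'⟩ := he
    have hψe : ψ ∈ e := by
      rw [heq, ← hψc]
      exact mem_blockOf_self ψ
    have hχB' : χ ∈ B' := by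
      by_contra hc
      have h1 := (omega_restrict_conjReg hM H hind' χ hψe).1 hc
      rw [hrestr] at h1
      have h2 := (height_zero_criterion hM hb (mem_blockOf_self ψ)).2.1 hψ0 ψ
        (mem_blockOf_self ψ)
      exact h2 h1
    have : B' = blockOf M (χ : G → ℂ) :=
      isPBlock_eq_of_mem hind'.2.1 hB hχB' (mem_blockOf_self χ)
    rw [← this]
    exact hind'

end Oku

end Cfsg.Agent.Helper23.Blk
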