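import Mathlib
import Cfsg.Agent.Lib.Helper23.BlockContrib3
import Cfsg.Agent.Lib.Helper23.BlockHeightZero5
import Cfsg.Agent.Lib.Helper23.BlockTrace

/-!
# The `p`-adic size of the contributions of a subsection (helper23's shared library)

For a subsection `(z, e)`, `H = C_G(z)`, and characters `ψ, ψ'` of `G` in the same block, the
numbers `|G| m_{χψ} / ψ(1)` and `|G| m_{χψ'} / ψ'(1)` are local integers congruent modulo the local
ideal.  For a major subsection and `χ` of height zero they are units.
-/

set_option autoImplicit false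
set_option linter.unusedSectionVars false
set_option linter.style.haveILetI false

namespace Cfsg.Agent.Helper23.Blk

open Cfsg Cfsg.Agent.Helper24 Cfsg.Agent.Helper18
open scoped ComplexConjugate

universe u

section ClassSums

variable {G : Type u} [Group G] [Fintype G] {M : Ideal AlgInt}

/-- the sum of a class function divided by the class sizes is the sum over the classes -/
theorem sum_div_index_eq [DecidableEq G] [Fintype (ConjClasses G)] {A : G → ℂ}
    (hA : IsClassFunction G A) :
    ∑ g : G, A g / ((Subgroup.centralizer ({g} : Set G)).index : ℂ) =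
      ∑ K : ConjClasses G, A (Quotient.out K) := by
  have hcf : IsClassFunction G
      (fun g => A g / ((Subgroup.centralizer ({g} : Set G)).index : ℂ)) := by
    intro g h
    simp only
    rw [hA g h]
    congr 2
    rw [Subgroup.index_eq_card, Subgroup.index_eq_card]
    have h1 : Subgroup.centralizer ({h * g * h⁻¹} : Set G) =
        (Subgroup.centralizer ({g} : Set G)).map (MulAut.conj h).toMonoidHom := by
      rw [centralizer_conj]
    rw [h1]
    have h2 := Subgroup.index_map_equiv (Subgroup.centralizer ({g} : Set G)) (MulAut.conj h)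
    rw [Subgroup.index_eq_card, Subgroup.index_eq_card] at h2
    exact h2
  rw [sum_classFunction_eq hcf]
  apply Finset.sum_congr rfl
  intro K _
  have h0 : ((Subgroup.centralizer ({Quotient.out K} : Set G)).index : ℂ) ≠ 0 := by
    have : (Subgroup.centralizer ({Quotient.out K} : Set G)).index ≠ 0 :=
      Subgroup.index_ne_zero_of_finite
    exact_mod_cast this
  field_simp

theorem memLocalIdeal_sum_div_index [hMp : M.IsPrime] {A : G → ℂ} (hA : IsClassFunction G A)
    (hAI : ∀ g, MemLocalIdeal M (A g)) :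
    MemLocalIdeal M (∑ g : G, A g / ((Subgroup.centralizer ({g} : Set G)).index : ℂ)) := by
  classical
  haveI : Fintype (ConjClasses G) := Fintype.ofFinite _
  rw [sum_div_index_eq hA]
  exact memLocalIdeal_sum _ _ (fun K _ => hAI _)

theorem memLocalRing_sum_div_index [hMp : M.IsPrime] {A : G → ℂ} (hA : IsClassFunction G A)
    (hAI : ∀ g, MemLocalRing M (A g)) :
    MemLocalRing M (∑ g : G, A g / ((Subgroup.centralizer ({g} : Set G)).index : ℂ)) := by
  classical
  haveI : Fintype (ConjClasses G) := Fintype.ofFinite _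
  rw [sum_div_index_eq hA]
  exact memLocalRing_sum _ _ (fun K _ => hAI _)

end ClassSums

section Val

variable {G : Type u} [Group G] [Fintype G] {M : Ideal AlgInt} {p : ℕ}

/-- translating by an element centralized by `H` gives a class function on `H` -/
theorem isClassFunction_shift_of_comm (H : Subgroup G) {z : G} (hzH : ∀ h ∈ H, z * h = h * z)
    {ψ : G → ℂ} (hψ : IsClassFunction G ψ) :
    IsClassFunction H (fun c : H => ψ (z * (c : G))) := by
  intro c t
  beta_reduce
  have e : z * ((t * c * t⁻¹ : H) : G) = (t : G) * (z * (c : G)) * (t : G)⁻¹ := by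
    push_cast
    rw [← mul_assoc, ← mul_assoc, ← mul_assoc, hzH t t.2]
  rw [e, hψ]

/-- contributions through block orthogonality: the second argument need not be projected -/
theorem contrib_eq_classInner_shift (hM : IsPModular p M) (H : Subgroup G) [Fintype H] {z : G}
    (hzH : ∀ h ∈ H, z * h = h * z) {e : Set (IrrCharacter H)} (he : IsPBlock M e) (χ : G → ℂ)
    {ψ : G → ℂ} (hψ : IsClassFunction G ψ) :
    contrib p H z e χ ψ =
      classInner (pRegularPart p (etaPart H z e χ)) (fun c : H => ψ (z * (c : G))) := by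
  classical
  letI : Fintype (IrrCharacter H) := irrFintype
  have hT := isClassFunction_shift_of_comm H hzH hψ
  set T : H → ℂ := fun c : H => ψ (z * (c : G)) with hTdef
  set f : H → ℂ := pRegularPart p (etaPart H z e χ) with hf
  have h1 : classInner f (blockPart e T) = ∑ ξ : IrrCharacter H,
      conj (classInner T (ξ : H → ℂ)) * classInner f (ξ : H → ℂ) := by
    rw [blockPart_eq_sum, classInner_sum_right]
    apply Finset.sum_congr rfl
    intro ξ _
    rw [classInner_smul_right]
    by_cases hξ : ξ ∈ e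
    · rw [if_pos hξ]
    · rw [if_neg hξ, hf]
      unfold etaPart
      rw [classInner_pRegularPart_blockPart_eq_zero hM he _ hξ, mul_zero, mul_zero]
  have h2 : classInner f T = ∑ ξ : IrrCharacter H,
      conj (classInner T (ξ : H → ℂ)) * classInner f (ξ : H → ℂ) := by
    have hexp := classFunction_expansion hT
    have h3 : classInner f T = classInner f
        (∑ ξ : IrrCharacter H, classInner T (ξ : H → ℂ) • (ξ : H → ℂ)) :=
      congrArg (classInner f) hexp
    rw [h3, classInner_sum_right]
    apply Finset.sum_congr rfl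
    intro ξ _
    rw [classInner_smul_right]
  show classInner f (blockPart e T) = classInner f T
  rw [h1, h2]

end Val

section Val2

variable {G : Type u} [Group G] [Fintype G] {M : Ideal AlgInt} {p : ℕ}

theorem card_centralizer_eq_card_conj {K : Type*} [Group K] (g : K) :
    Nat.card (Subgroup.centralizer ({g} : Set K)) = Nat.card {t : K // t * g * t⁻¹ = g} := by
  apply Nat.card_congr
  apply Equiv.subtypeEquivRight
  intro t
  rw [Subgroup.mem_centralizer_singleton_iff]
  constructor
  · intro h
    rw [h, mul_inv_cancel_right]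
  · intro h
    calc t * g = (t * g * t⁻¹) * t := by group
      _ = g * t := by rw [h]

/-- the centralizer in `G` of `z y` and the centralizer in `C_G(z)` of `y` have the same order,
for a `p`-element `z` and a `p`-regular `y` -/
theorem card_centralizer_mul_eq (hp : p.Prime) {z : G} (hz : ∃ k : ℕ, orderOf z = p ^ k)
    (y : Subgroup.centralizer ({z} : Set G)) (hy : ¬ p ∣ orderOf y) :
    Nat.card (Subgroup.centralizer ({z * (y : G)} : Set G)) =
      Nat.card (Subgroup.centralizer ({y} : Set (Subgroup.centralizer ({z} : Set G)))) := by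
  rw [card_centralizer_eq_card_conj, card_centralizer_eq_card_conj]
  exact card_conj_section hp hz y y hy hy

theorem index_centralizer_inv (g : G) :
    (Subgroup.centralizer ({g⁻¹} : Set G)).index = (Subgroup.centralizer ({g} : Set G)).index := by
  have : Subgroup.centralizer ({g⁻¹} : Set G) = Subgroup.centralizer ({g} : Set G) := by
    ext t
    rw [Subgroup.mem_centralizer_singleton_iff, Subgroup.mem_centralizer_singleton_iff]
    constructor
    · intro h
      calc t * g = g * (g⁻¹ * t) * g := by group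
        _ = g * (t * g⁻¹) * g := by rw [← h]
        _ = g * t := by group
    · intro h
      calc t * g⁻¹ = g⁻¹ * (g * t) * g⁻¹ := by group
        _ = g⁻¹ * (t * g) * g⁻¹ := by rw [← h]
        _ = g⁻¹ * t := by group
  rw [this]

set_option maxHeartbeats 800000 in
/-- `|G| m_{χψ} / ψ(1)` as a sum over the classes of `C_G(z)` -/
theorem card_mul_contrib_div_aux (hM : IsPModular p M) {z : G}
    (hz : ∃ k : ℕ, orderOf z = p ^ k) [Fintype (Subgroup.centralizer ({z} : Set G))]
    {e : Set (IrrCharacter (Subgroup.centralizer ({z} : Set G)))} (he : IsPBlock M e)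
    (χ : G → ℂ) (ψ : IrrCharacter G) :
    (Nat.card G : ℂ) * contrib p (Subgroup.centralizer ({z} : Set G)) z e χ (ψ : G → ℂ) /
        (ψ : G → ℂ) 1 =
      ∑ y : Subgroup.centralizer ({z} : Set G),
        (pRegularPart p (etaPart (Subgroup.centralizer ({z} : Set G)) z e χ) y *
          centralChar (ψ : G → ℂ) ((z * (y : G))⁻¹)) /
        ((Subgroup.centralizer ({y} : Set (Subgroup.centralizer ({z} : Set G)))).index : ℂ) := by
  classical
  have hp : p.Prime := hM.1
  have hzH : ∀ h ∈ Subgroup.centralizer ({z} : Set G), z * h = h * z := by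
    intro h hh
    exact Subgroup.mem_centralizer_iff.1 hh z (Set.mem_singleton z)
  have hψc : IsCharacter G (ψ : G → ℂ) := isCharacter_of_isIrrCharacter ψ.2
  rw [contrib_eq_classInner_shift hM _ hzH he χ (isClassFunction_of_isCharacter hψc)]
  unfold classInner
  rw [mul_div_assoc, mul_div_assoc, Finset.sum_div, Finset.mul_sum, Finset.mul_sum]
  apply Finset.sum_congr rfl
  intro y _
  by_cases hy : p ∣ orderOf y
  · rw [pRegularPart_of_dvd p _ hy]
    simp
  · have hψ1 : (ψ : G → ℂ) 1 ≠ 0 := irr_one_ne_zero ψ.2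
    have hcardG : (Nat.card G : ℂ) ≠ 0 := card_ne_zero
    have hcardH : (Nat.card (Subgroup.centralizer ({z} : Set G)) : ℂ) ≠ 0 := card_ne_zero
    have hC := card_centralizer_mul_eq hp hz y hy
    have hidxG : ((Subgroup.centralizer ({z * (y : G)} : Set G)).index : ℂ) *
        (Nat.card (Subgroup.centralizer ({z * (y : G)} : Set G)) : ℂ) = (Nat.card G : ℂ) := by
      rw [← Nat.cast_mul, mul_comm, Subgroup.card_mul_index]
    have hidxH : ((Subgroup.centralizer
        ({y} : Set (Subgroup.centralizer ({z} : Set G)))).index : ℂ) *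
        (Nat.card (Subgroup.centralizer
          ({y} : Set (Subgroup.centralizer ({z} : Set G)))) : ℂ) =
        (Nat.card (Subgroup.centralizer ({z} : Set G)) : ℂ) := by
      rw [← Nat.cast_mul, mul_comm, Subgroup.card_mul_index]
    rw [← hC] at hidxH
    have hC0 : (Nat.card (Subgroup.centralizer ({z * (y : G)} : Set G)) : ℂ) ≠ 0 := card_ne_zero
    have hiH0 : ((Subgroup.centralizer
        ({y} : Set (Subgroup.centralizer ({z} : Set G)))).index : ℂ) ≠ 0 := by
      intro h0
      rw [h0, zero_mul] at hidxH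
      exact hcardH hidxH.symm
    unfold centralChar
    rw [index_centralizer_inv, irr_inv hψc, ← hidxG, ← hidxH]
    field_simp

end Val2

section Val3

variable {G : Type u} [Group G] [Fintype G] {M : Ideal AlgInt} {p : ℕ}

/-- the values of the block part of a translate of a character are local integers -/
theorem memLocalRing_etaPart [hMp : M.IsPrime] {z : G}
    [Fintype (Subgroup.centralizer ({z} : Set G))]
    {e : Set (IrrCharacter (Subgroup.centralizer ({z} : Set G)))} (he : IsPBlock M e)
    {χ : G → ℂ} (hχ : IsCharacter G χ) (y : Subgroup.centralizer ({z} : Set G)) :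
    MemLocalRing M (etaPart (Subgroup.centralizer ({z} : Set G)) z e χ y) := by
  unfold etaPart
  rw [blockPart_shift_eq_shiftPart e (isClassFunction_of_isCharacter hχ)]
  unfold shiftPart
  apply memLocalRing_sum
  intro k _
  exact memLocalRing_mul (memLocalRing_blockCoeff hMp he k)
    (memLocalRing_of_isIntegral (isIntegral_of_isCharacter hχ _) ne_top)

theorem memLocalRing_pRegularPart [hMp : M.IsPrime] {K : Type*} [Group K] {f : K → ℂ}
    (hf : ∀ k, MemLocalRing M (f k)) (k : K) : MemLocalRing M (pRegularPart p f k) := by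
  classical
  rw [pRegularPart_apply]
  split_ifs
  · exact memLocalRing_zero ne_top
  · exact hf k

theorem isClassFunction_centralChar_inv {ψ : G → ℂ} (hψ : IsClassFunction G ψ) :
    IsClassFunction G (fun g => centralChar ψ g⁻¹) := by
  intro g h
  beta_reduce
  have : (h * g * h⁻¹)⁻¹ = h * g⁻¹ * h⁻¹ := by group
  rw [this, centralChar_conj hψ]

/-- **the congruence of the normalized contributions**: for `ψ, ψ'` in the same block of `G`,
`|G| m_{χψ} / ψ(1) ≡ |G| m_{χψ'} / ψ'(1)` modulo the local ideal -/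
theorem memLocalIdeal_contrib_div_sub_aux (hM : IsPModular p M) {z : G}
    (hz : ∃ k : ℕ, orderOf z = p ^ k) [Fintype (Subgroup.centralizer ({z} : Set G))]
    {e : Set (IrrCharacter (Subgroup.centralizer ({z} : Set G)))} (he : IsPBlock M e)
    {χ : G → ℂ} (hχ : IsCharacter G χ) {ψ ψ' : IrrCharacter G}
    (hs : SameBlock M (ψ : G → ℂ) (ψ' : G → ℂ)) :
    MemLocalIdeal M
      ((Nat.card G : ℂ) * contrib p (Subgroup.centralizer ({z} : Set G)) z e χ (ψ : G → ℂ) /
          (ψ : G → ℂ) 1 -
        (Nat.card G : ℂ) * contrib p (Subgroup.centralizer ({z} : Set G)) z e χ (ψ' : G → ℂ) /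
          (ψ' : G → ℂ) 1) := by
  classical
  haveI hMp : M.IsPrime := hM.2.1.isPrime
  have hzH : ∀ h ∈ Subgroup.centralizer ({z} : Set G), z * h = h * z := by
    intro h hh
    exact Subgroup.mem_centralizer_iff.1 hh z (Set.mem_singleton z)
  rw [card_mul_contrib_div_aux hM hz he χ ψ, card_mul_contrib_div_aux hM hz he χ ψ',
    ← Finset.sum_sub_distrib]
  have hcomb : ∀ y : Subgroup.centralizer ({z} : Set G),
      (pRegularPart p (etaPart (Subgroup.centralizer ({z} : Set G)) z e χ) y *
          centralChar (ψ : G → ℂ) ((z * (y : G))⁻¹)) /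
        ((Subgroup.centralizer ({y} : Set (Subgroup.centralizer ({z} : Set G)))).index : ℂ) -
      (pRegularPart p (etaPart (Subgroup.centralizer ({z} : Set G)) z e χ) y *
          centralChar (ψ' : G → ℂ) ((z * (y : G))⁻¹)) /
        ((Subgroup.centralizer ({y} : Set (Subgroup.centralizer ({z} : Set G)))).index : ℂ) =
      (pRegularPart p (etaPart (Subgroup.centralizer ({z} : Set G)) z e χ) y *
          (centralChar (ψ : G → ℂ) ((z * (y : G))⁻¹) -
            centralChar (ψ' : G → ℂ) ((z * (y : G))⁻¹))) /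
        ((Subgroup.centralizer ({y} : Set (Subgroup.centralizer ({z} : Set G)))).index : ℂ) := by
    intro y
    ring
  rw [Finset.sum_congr rfl (fun y _ => hcomb y)]
  apply memLocalIdeal_sum_div_index
  · intro y t
    beta_reduce
    have h1 := isClassFunction_pRegularPart (p := p)
      (isClassFunction_blockPart e
        (fun c : Subgroup.centralizer ({z} : Set G) => χ (z * (c : G)))) y t
    have h2 := isClassFunction_shift_of_comm (Subgroup.centralizer ({z} : Set G)) hzH
      (isClassFunction_centralChar_inv (isClassFunction_of_isIrrCharacter ψ.2)) y t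
    have h3 := isClassFunction_shift_of_comm (Subgroup.centralizer ({z} : Set G)) hzH
      (isClassFunction_centralChar_inv (isClassFunction_of_isIrrCharacter ψ'.2)) y t
    beta_reduce at h2 h3
    unfold etaPart
    rw [h1, h2, h3]
  · intro y
    apply memLocalIdeal_mul_left
    · exact memLocalRing_pRegularPart (fun k => memLocalRing_etaPart he hχ k) y
    · exact hs _

/-- the normalized contributions are local integers -/
theorem memLocalRing_contrib_div_aux (hM : IsPModular p M) {z : G}
    (hz : ∃ k : ℕ, orderOf z = p ^ k) [Fintype (Subgroup.centralizer ({z} : Set G))]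
    {e : Set (IrrCharacter (Subgroup.centralizer ({z} : Set G)))} (he : IsPBlock M e)
    {χ : G → ℂ} (hχ : IsCharacter G χ) (ψ : IrrCharacter G) :
    MemLocalRing M
      ((Nat.card G : ℂ) * contrib p (Subgroup.centralizer ({z} : Set G)) z e χ (ψ : G → ℂ) /
          (ψ : G → ℂ) 1) := by
  classical
  haveI hMp : M.IsPrime := hM.2.1.isPrime
  have hzH : ∀ h ∈ Subgroup.centralizer ({z} : Set G), z * h = h * z := by
    intro h hh
    exact Subgroup.mem_centralizer_iff.1 hh z (Set.mem_singleton z)
  rw [card_mul_contrib_div_aux hM hz he χ ψ]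
  apply memLocalRing_sum_div_index
  · intro y t
    beta_reduce
    have h1 := isClassFunction_pRegularPart (p := p)
      (isClassFunction_blockPart e
        (fun c : Subgroup.centralizer ({z} : Set G) => χ (z * (c : G)))) y t
    have h2 := isClassFunction_shift_of_comm (Subgroup.centralizer ({z} : Set G)) hzH
      (isClassFunction_centralChar_inv (isClassFunction_of_isIrrCharacter ψ.2)) y t
    beta_reduce at h2
    unfold etaPart
    rw [h1, h2]
  · intro y
    apply memLocalRing_mul
    · exact memLocalRing_pRegularPart (fun k => memLocalRing_etaPart he hχ k) y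
    · exact memLocalRing_of_isIntegral (isIntegral_centralChar ψ.2 _) ne_top

end Val3

section Val4

variable {G : Type u} [Group G] [Fintype G] {M : Ideal AlgInt} {p : ℕ}

/-- general-`H` form of the congruence of the normalized contributions -/
theorem memLocalIdeal_contrib_div_sub (hM : IsPModular p M) {z : G}
    (hz : ∃ k : ℕ, orderOf z = p ^ k) (H : Subgroup G) [Fintype H]
    (hH : H = Subgroup.centralizer ({z} : Set G))
    {e : Set (IrrCharacter H)} (he : IsPBlock M e)
    {χ : G → ℂ} (hχ : IsCharacter G χ) {ψ ψ' : IrrCharacter G}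
    (hs : SameBlock M (ψ : G → ℂ) (ψ' : G → ℂ)) :
    MemLocalIdeal M
      ((Nat.card G : ℂ) * contrib p H z e χ (ψ : G → ℂ) / (ψ : G → ℂ) 1 -
        (Nat.card G : ℂ) * contrib p H z e χ (ψ' : G → ℂ) / (ψ' : G → ℂ) 1) := by
  subst hH
  exact memLocalIdeal_contrib_div_sub_aux hM hz he hχ hs

theorem memLocalRing_contrib_div (hM : IsPModular p M) {z : G}
    (hz : ∃ k : ℕ, orderOf z = p ^ k) (H : Subgroup G) [Fintype H]
    (hH : H = Subgroup.centralizer ({z} : Set G))
    {e : Set (IrrCharacter H)} (he : IsPBlock M e)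
    {χ : G → ℂ} (hχ : IsCharacter G χ) (ψ : IrrCharacter G) :
    MemLocalRing M
      ((Nat.card G : ℂ) * contrib p H z e χ (ψ : G → ℂ) / (ψ : G → ℂ) 1) := by
  subst hH
  exact memLocalRing_contrib_div_aux hM hz he hχ ψ

set_option maxHeartbeats 1600000 in
/-- for characters of height zero, `p^{d(e)} m_{χψ}` is not in the local ideal -/
theorem not_memLocalIdeal_pow_mul_contrib (hM : IsPModular p M) [Fact p.Prime] {z : G}
    (hz : ∃ k : ℕ, orderOf z = p ^ k) (H : Subgroup G) [Fintype H]
    (hH : H = Subgroup.centralizer ({z} : Set G)) {B : Set (IrrCharacter G)}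
    {e : Set (IrrCharacter H)} (hind : IsInducedBlock M H e B)
    {χ ψ : IrrCharacter G} (hχ : χ ∈ B) (hψ : ψ ∈ B)
    (hhχ : blockHeight p B (χ : G → ℂ) = 0) (hhψ : blockHeight p B (ψ : G → ℂ) = 0) :
    ¬ MemLocalIdeal M
      (((p ^ blockDefect p e : ℕ) : ℂ) * contrib p H z e (χ : G → ℂ) (ψ : G → ℂ)) := by
  classical
  subst hH
  letI : Fintype (IrrCharacter G) := irrFintype
  letI : Fintype (IrrCharacter (Subgroup.centralizer ({z} : Set G))) := irrFintype
  haveI hMp : M.IsPrime := hM.2.1.isPrime
  have hb : IsPBlock M e := hind.1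
  have hzH : z ∈ Subgroup.centralizer ({z} : Set G) := by
    rw [Subgroup.mem_centralizer_iff]
    intro h hh
    rw [Set.mem_singleton_iff] at hh
    rw [hh]
  set Y : Subgroup.centralizer ({z} : Set G) := ⟨z, hzH⟩ with hY
  have hYc : Y ∈ Subgroup.center (Subgroup.centralizer ({z} : Set G)) := by
    rw [Subgroup.mem_center_iff]
    intro c
    apply Subtype.ext
    push_cast
    exact (Subgroup.mem_centralizer_iff.1 c.2 z rfl).symm
  obtain ⟨j, hj⟩ := hz
  have hYn : orderOf Y = p ^ j := by
    rw [← Subgroup.orderOf_coe]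
    exact hj
  have hdecomp : ∀ φ : IrrCharacter G,
      ∃ m : IrrCharacter (Subgroup.centralizer ({z} : Set G)) → ℕ,
      (∀ ξ : IrrCharacter (Subgroup.centralizer ({z} : Set G)),
        classInner (fun c : Subgroup.centralizer ({z} : Set G) => (φ : G → ℂ) (c : G))
          (ξ : Subgroup.centralizer ({z} : Set G) → ℂ) = m ξ) ∧
      (fun c : Subgroup.centralizer ({z} : Set G) => (φ : G → ℂ) (c : G)) =
        ∑ ξ : IrrCharacter (Subgroup.centralizer ({z} : Set G)),
          (m ξ : ℂ) • (ξ : Subgroup.centralizer ({z} : Set G) → ℂ) := by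
    intro φ
    obtain ⟨hm, hdec⟩ := isCharacter_decomp
      (isCharacter_restrict (Subgroup.centralizer ({z} : Set G))
        (isCharacter_of_isIrrCharacter φ.2))
    choose m hm using hm
    refine ⟨m, hm, ?_⟩
    conv_lhs => rw [hdec]
    apply Finset.sum_congr rfl
    intro ξ _
    rw [hm ξ]
  choose a ha hadec using hdecomp
  have h1 := contrib_eq_sum hM (Subgroup.centralizer ({z} : Set G)) hb hYc
    (a χ) (a ψ) (ha χ) (ha ψ)
  have hYz : ((Y : Subgroup.centralizer ({z} : Set G)) : G) = z := rfl
  rw [hYz] at h1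
  rw [h1]
  have hW : ∀ φ : IrrCharacter G, φ ∈ B → blockHeight p B (φ : G → ℂ) = 0 →
      ∀ ξ₀ ∈ e, ¬ MemLocalIdeal M (omega (ξ₀ : Subgroup.centralizer ({z} : Set G) → ℂ)
        (conjReg p (fun c : Subgroup.centralizer ({z} : Set G) => (φ : G → ℂ) (c : G)))) := by
    intro φ hφ hh ξ₀ hξ₀
    have := (omega_restrict_conjReg hM (Subgroup.centralizer ({z} : Set G)) hind φ hξ₀).2 hφ hh
    rwa [conjReg_restrict_eq] at this
  have hμ1 : ∀ ξ ξ' : IrrCharacter (Subgroup.centralizer ({z} : Set G)),
      MemLocalIdeal M (cRatio (ξ : Subgroup.centralizer ({z} : Set G) → ℂ) Y *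
        conj (cRatio (ξ' : Subgroup.centralizer ({z} : Set G) → ℂ) Y) - 1) := by
    intro ξ ξ'
    apply memLocalIdeal_sub_one_of_pow_eq_one hM (k := j)
    rw [mul_pow, ← map_pow, ← hYn, cRatio_pow_orderOf ξ.2 hYc, cRatio_pow_orderOf ξ'.2 hYc,
      map_one, mul_one]
  exact weighted_sum_not_memLocalIdeal hM hb
    (isCharacter_restrict (Subgroup.centralizer ({z} : Set G))
      (isCharacter_of_isIrrCharacter χ.2))
    (isCharacter_restrict (Subgroup.centralizer ({z} : Set G))
      (isCharacter_of_isIrrCharacter ψ.2))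
    (a χ) (a ψ) (hadec χ) (hadec ψ) (hW χ hχ hhχ) (hW ψ hψ hhψ)
    (fun ξ ξ' => cRatio (ξ : Subgroup.centralizer ({z} : Set G) → ℂ) Y *
        conj (cRatio (ξ' : Subgroup.centralizer ({z} : Set G) → ℂ) Y)) hμ1

end Val4

section Val5

variable {G : Type u} [Group G] [Fintype G] {M : Ideal AlgInt} {p : ℕ}

/-- `p^d χ(1) / (|G| p^h)` is a local unit, `h` the height of `χ` -/
theorem rhoFac_div_pow_height (hM : IsPModular p M) {B : Set (IrrCharacter G)}
    {χ : IrrCharacter G} (hχ : χ ∈ B) :
    MemLocalRing M (rhoFac p B χ / ((p ^ blockHeight p B (χ : G → ℂ) : ℕ) : ℂ)) ∧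
      ¬ MemLocalIdeal M (rhoFac p B χ / ((p ^ blockHeight p B (χ : G → ℂ) : ℕ) : ℂ)) := by
  have hp : p.Prime := hM.1
  haveI : Fact p.Prime := ⟨hp⟩
  have hA : p ^ blockDefect p B * charDegree (χ : G → ℂ) ≠ 0 :=
    mul_ne_zero (pow_pos hp.pos _).ne' (charDegree_ne_zero χ)
  have hB : Nat.card G * p ^ blockHeight p B (χ : G → ℂ) ≠ 0 :=
    mul_ne_zero (Nat.card_pos (α := G)).ne' (pow_pos hp.pos _).ne'
  have hfacA : (p ^ blockDefect p B * charDegree (χ : G → ℂ)).factorization p =
      blockDefect p B + (charDegree (χ : G → ℂ)).factorization p := by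
    rw [Nat.factorization_mul (pow_pos hp.pos _).ne' (charDegree_ne_zero χ),
      Finsupp.add_apply, hp.factorization_pow, Finsupp.single_eq_same]
  have hfacB : (Nat.card G * p ^ blockHeight p B (χ : G → ℂ)).factorization p =
      (Nat.card G).factorization p + blockHeight p B (χ : G → ℂ) := by
    rw [Nat.factorization_mul (Nat.card_pos (α := G)).ne' (pow_pos hp.pos _).ne',
      Finsupp.add_apply, hp.factorization_pow, Finsupp.single_eq_same]
  have hle : minVal p B ≤ (Nat.card G).factorization p := minVal_le_card ⟨χ, hχ⟩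
  have hmin := minVal_le (p := p) hχ
  have hd : blockDefect p B = (Nat.card G).factorization p - minVal p B :=
    blockDefect_eq_sub_minVal B
  have hh : blockHeight p B (χ : G → ℂ) =
      (charDegree (χ : G → ℂ)).factorization p - minVal p B :=
    blockHeight_eq_sub_minVal B _
  have hfe : (Nat.card G * p ^ blockHeight p B (χ : G → ℂ)).factorization p =
      (p ^ blockDefect p B * charDegree (χ : G → ℂ)).factorization p := by
    rw [hfacA, hfacB]
    omega
  have h1 := memLocalRing_natCast_div hM hA hB (le_of_eq hfe)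
  have heq : rhoFac p B χ / ((p ^ blockHeight p B (χ : G → ℂ) : ℕ) : ℂ) =
      ((p ^ blockDefect p B * charDegree (χ : G → ℂ) : ℕ) : ℂ) /
        ((Nat.card G * p ^ blockHeight p B (χ : G → ℂ) : ℕ) : ℂ) := by
    unfold rhoFac
    rw [irr_one_eq_charDegree χ.2]
    push_cast
    rw [div_div]
  rw [heq]
  exact ⟨h1.1, h1.2 hfe⟩

set_option maxHeartbeats 800000 in
/-- **the `p`-adic size of the contributions of a major subsection**: for `ψ₀ ∈ B` of height zero
and `χ ∈ B` of height `h`, the number `p^d m_{ψ₀χ} / p^h` is a unit of the local ring. -/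
theorem pow_mul_contrib_div_pow_height (hM : IsPModular p M) [Fact p.Prime] {z : G}
    (hz : ∃ k : ℕ, orderOf z = p ^ k) (H : Subgroup G) [Fintype H]
    (hH : H = Subgroup.centralizer ({z} : Set G)) {B : Set (IrrCharacter G)}
    {e : Set (IrrCharacter H)} (hind : IsInducedBlock M H e B)
    (hdef : blockDefect p e = blockDefect p B)
    {ψ₀ χ : IrrCharacter G} (hψ₀ : ψ₀ ∈ B) (hχ : χ ∈ B)
    (hh : blockHeight p B (ψ₀ : G → ℂ) = 0) :
    MemLocalRing M (((p ^ blockDefect p B : ℕ) : ℂ) * contrib p H z e (ψ₀ : G → ℂ) (χ : G → ℂ) /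
        ((p ^ blockHeight p B (χ : G → ℂ) : ℕ) : ℂ)) ∧
      ¬ MemLocalIdeal M (((p ^ blockDefect p B : ℕ) : ℂ) *
        contrib p H z e (ψ₀ : G → ℂ) (χ : G → ℂ) /
        ((p ^ blockHeight p B (χ : G → ℂ) : ℕ) : ℂ)) := by
  classical
  haveI hMp : M.IsPrime := hM.2.1.isPrime
  have hp : p.Prime := hM.1
  have hB : IsPBlock M B := hind.2.1
  have he : IsPBlock M e := hind.1
  have hψc : IsCharacter G (ψ₀ : G → ℂ) := isCharacter_of_isIrrCharacter ψ₀.2
  have hUχ := memLocalRing_contrib_div hM hz H hH he hψc χ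
  have hUψ := memLocalRing_contrib_div hM hz H hH he hψc ψ₀
  letI : Fintype (IrrCharacter G) := irrFintype
  have hsub := memLocalIdeal_contrib_div_sub hM hz H hH he hψc (sameBlock_of_mem hB hχ hψ₀)
  have hunit0 := not_memLocalIdeal_pow_mul_contrib hM hz H hH hind hψ₀ hψ₀ hh hh
  rw [hdef] at hunit0
  have hG0 : (Nat.card G : ℂ) ≠ 0 := by exact_mod_cast (Nat.card_pos (α := G)).ne'
  have hψ1 : (ψ₀ : G → ℂ) 1 ≠ 0 := irr_one_ne_zero ψ₀.2
  have hχ1 : (χ : G → ℂ) 1 ≠ 0 := irr_one_ne_zero χ.2
  have heq0 : ((p ^ blockDefect p B : ℕ) : ℂ) * contrib p H z e (ψ₀ : G → ℂ) (ψ₀ : G → ℂ) =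
      rhoFac p B ψ₀ * ((Nat.card G : ℂ) * contrib p H z e (ψ₀ : G → ℂ) (ψ₀ : G → ℂ) /
        (ψ₀ : G → ℂ) 1) := by
    unfold rhoFac
    field_simp
  have hUψ0 : ¬ MemLocalIdeal M ((Nat.card G : ℂ) *
      contrib p H z e (ψ₀ : G → ℂ) (ψ₀ : G → ℂ) / (ψ₀ : G → ℂ) 1) := by
    intro hI
    apply hunit0
    rw [heq0]
    exact memLocalIdeal_mul_left (rhoFac_local hM hψ₀).1 hI
  have hUχ0 : ¬ MemLocalIdeal M ((Nat.card G : ℂ) *
      contrib p H z e (ψ₀ : G → ℂ) (χ : G → ℂ) / (χ : G → ℂ) 1) := by
    intro hI
    apply hUψ0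
    have := memLocalIdeal_sub hI hsub
    rwa [sub_sub_cancel] at this
  have hpow0 : (((p ^ blockHeight p B (χ : G → ℂ) : ℕ)) : ℂ) ≠ 0 := by
    exact_mod_cast (pow_pos hp.pos _).ne'
  have heq : ((p ^ blockDefect p B : ℕ) : ℂ) * contrib p H z e (ψ₀ : G → ℂ) (χ : G → ℂ) /
        ((p ^ blockHeight p B (χ : G → ℂ) : ℕ) : ℂ) =
      ((Nat.card G : ℂ) * contrib p H z e (ψ₀ : G → ℂ) (χ : G → ℂ) / (χ : G → ℂ) 1) *
        (rhoFac p B χ / ((p ^ blockHeight p B (χ : G → ℂ) : ℕ) : ℂ)) := by
    unfold rhoFac
    field_simp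
  rw [heq]
  obtain ⟨hr1, hr2⟩ := rhoFac_div_pow_height hM hχ
  exact ⟨memLocalRing_mul hUχ hr1, not_memLocalIdeal_mul hUχ hr1 hUχ0 hr2⟩

end Val5

end Cfsg.Agent.Helper23.Blk
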