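import Mathlib
import Cfsg.Agent.Lib.Helper23.BlockContribVal
import Cfsg.Agent.Lib.Helper23.BlockConj
import Cfsg.Agent.Lib.Helper23.BlockSubsectionCount

/-!
# Contributions of subsections: conjugation and the Bessel inequality (helper23's shared library)

* `contrib_transport`, `contribIdx_conjPair`: contributions are invariant under conjugation.
* `sum_contrib_self_re_le`: for distinct blocks `f` of `C_G(z)`, the diagonal contributions
  `m^{(z,f)}_{χχ}` add up to at most the truncated norm of `χ` on the section of `z`.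
-/

set_option autoImplicit false
set_option linter.unusedSectionVars false
set_option linter.style.haveILetI false

namespace Cfsg.Agent.Helper23.Blk

open Cfsg Cfsg.Agent.Helper24 Cfsg.Agent.Helper18
open scoped ComplexConjugate

universe u

section Transport

variable {K K' : Type u} [Group K] [Group K'] [Fintype K] [Fintype K'] {p : ℕ}

theorem blockPart_image_irrComp (σ : K ≃* K') (f : Set (IrrCharacter K')) (ϑ : K' → ℂ) (k : K) :
    blockPart (irrComp σ '' f) (ϑ ∘ σ) k = blockPart f ϑ (σ k) := by
  rw [blockPart_apply, blockPart_apply, finsum_mem_image ((irrComp_injective σ).injOn)]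
  apply finsum_mem_congr rfl
  intro ξ _
  have h1 : ((irrComp σ ξ : IrrCharacter K) : K → ℂ) = (ξ : K' → ℂ) ∘ σ := rfl
  rw [h1, Cfsg.Agent.Helper5.classInner_comp_equiv]
  rfl

theorem pRegularPart_comp_equiv (σ : K ≃* K') (ϑ : K' → ℂ) :
    pRegularPart p (ϑ ∘ σ) = pRegularPart p ϑ ∘ σ := by
  classical
  funext k
  rw [Function.comp_apply, pRegularPart_apply, pRegularPart_apply, Function.comp_apply,
    MulEquiv.orderOf_eq]

end Transport

section TransportContrib

variable {G : Type u} [Group G] [Fintype G] {p : ℕ}

/-- transport of the block part of a translate along an isomorphism of subgroups -/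
theorem etaPart_transport (H H' : Subgroup G) [Fintype H] [Fintype H'] (σ : H ≃* H') (z z' : G)
    (f : Set (IrrCharacter H)) (χ : G → ℂ)
    (hχ : ∀ c : H, χ (z' * ((σ c : H') : G)) = χ (z * (c : G))) :
    etaPart H' z' (irrComp σ.symm '' f) χ = etaPart H z f χ ∘ σ.symm := by
  funext c'
  unfold etaPart
  have h1 : (fun c : H' => χ (z' * (c : G))) = (fun c : H => χ (z * (c : G))) ∘ σ.symm := by
    funext c
    rw [Function.comp_apply, ← hχ (σ.symm c), MulEquiv.apply_symm_apply]
  rw [h1, blockPart_image_irrComp σ.symm f]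
  rfl

/-- **contributions are invariant under transport** -/
theorem contrib_transport (H H' : Subgroup G) [Fintype H] [Fintype H'] (σ : H ≃* H') (z z' : G)
    (f : Set (IrrCharacter H)) (χ ψ : G → ℂ)
    (hχ : ∀ c : H, χ (z' * ((σ c : H') : G)) = χ (z * (c : G)))
    (hψ : ∀ c : H, ψ (z' * ((σ c : H') : G)) = ψ (z * (c : G))) :
    contrib p H' z' (irrComp σ.symm '' f) χ ψ = contrib p H z f χ ψ := by
  unfold contrib
  rw [etaPart_transport H H' σ z z' f χ hχ, etaPart_transport H H' σ z z' f ψ hψ,
    pRegularPart_comp_equiv, Cfsg.Agent.Helper5.classInner_comp_equiv]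

/-- the contribution of a subsection given by an element and a pair -/
noncomputable def contribIdx (p : ℕ) (z : G) (a : BrauerPairIdx G) (χ ψ : G → ℂ) : ℂ :=
  @contrib G _ _ p (Subgroup.centralizer (a.1 : Set G)) (Fintype.ofFinite _) z a.2 χ ψ

theorem contribIdx_mk (z : G) (Q : Subgroup G) [inst : Fintype (Subgroup.centralizer (Q : Set G))]
    (f : Set (IrrCharacter (Subgroup.centralizer (Q : Set G)))) (χ ψ : G → ℂ) :
    contribIdx p z ⟨Q, f⟩ χ ψ = contrib p (Subgroup.centralizer (Q : Set G)) z f χ ψ := by
  unfold contribIdx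
  have : Fintype.ofFinite (Subgroup.centralizer (Q : Set G)) = inst := Subsingleton.elim _ _
  rw [this]

theorem contribIdx_conjPair (x z : G) (a : BrauerPairIdx G) {χ ψ : G → ℂ}
    (hχ : IsClassFunction G χ) (hψ : IsClassFunction G ψ) :
    contribIdx p (x * z * x⁻¹) (conjPair x a) χ ψ = contribIdx p z a χ ψ := by
  obtain ⟨Q, f⟩ := a
  haveI : Fintype (Subgroup.centralizer (Q : Set G)) := Fintype.ofFinite _
  haveI : Fintype (Subgroup.centralizer
    ((Q.map (MulAut.conj x).toMonoidHom : Subgroup G) : Set G)) := Fintype.ofFinite _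
  unfold conjPair
  rw [contribIdx_mk, contribIdx_mk, conjBlock_eq_image]
  have key : ∀ φ : G → ℂ, IsClassFunction G φ → ∀ c : Subgroup.centralizer (Q : Set G),
      φ (x * z * x⁻¹ * ((centConj Q x c : Subgroup.centralizer
        ((Q.map (MulAut.conj x).toMonoidHom : Subgroup G) : Set G)) : G)) = φ (z * (c : G)) := by
    intro φ hφ c
    rw [centConj_coe]
    have : x * z * x⁻¹ * (x * (c : G) * x⁻¹) = x * (z * (c : G)) * x⁻¹ := by group
    rw [this, hφ]
  exact contrib_transport _ _ (centConj Q x) z (x * z * x⁻¹) f χ ψ (key χ hχ) (key ψ hψ)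

/-- the second component of a pair whose first component is `Q` -/
noncomputable def pairBlock (Q : Subgroup G) (a : BrauerPairIdx G) :
    Set (IrrCharacter (Subgroup.centralizer (Q : Set G))) := by
  classical
  exact if h : a.1 = Q then h ▸ a.2 else ∅

theorem pairBlock_mk (Q : Subgroup G)
    (f : Set (IrrCharacter (Subgroup.centralizer (Q : Set G)))) :
    pairBlock Q (⟨Q, f⟩ : BrauerPairIdx G) = f := by
  unfold pairBlock
  rw [dif_pos rfl]

theorem eq_mk_pairBlock {Q : Subgroup G} {a : BrauerPairIdx G} (h : a.1 = Q) :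
    a = ⟨Q, pairBlock Q a⟩ := by
  obtain ⟨Q', f⟩ := a
  simp only at h
  subst h
  rw [pairBlock_mk]

end TransportContrib

section PNorm

variable {K : Type u} [Group K] [Fintype K] {p : ℕ}

open Classical in
/-- the truncated squared norm of a function -/
noncomputable def pNorm (p : ℕ) (X : K → ℂ) : ℝ :=
  (Nat.card K : ℝ)⁻¹ * ∑ y : K, if p ∣ orderOf y then 0 else ‖X y‖ ^ 2

theorem pNorm_nonneg (X : K → ℂ) : 0 ≤ pNorm p X := by
  classical
  unfold pNorm
  apply mul_nonneg
  · positivity
  · apply Finset.sum_nonneg
    intro y _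
    split_ifs
    · exact le_refl _
    · positivity

theorem classInner_pRegularPart_self (X : K → ℂ) :
    classInner (pRegularPart p X) X = (pNorm p X : ℂ) := by
  classical
  unfold classInner pNorm
  push_cast
  congr 1
  apply Finset.sum_congr rfl
  intro y _
  rw [pRegularPart_apply]
  split_ifs
  · rw [zero_mul]
    simp
  · rw [Complex.mul_conj']
    push_cast
    rfl

theorem norm_classInner_pRegularPart_le (X Y : K → ℂ) :
    ‖classInner (pRegularPart p X) Y‖ ≤ (pNorm p X + pNorm p Y) / 2 := by
  classical
  unfold classInner pNorm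
  rw [norm_mul, norm_inv, Complex.norm_natCast, ← mul_add, mul_div_assoc]
  apply mul_le_mul_of_nonneg_left _ (by positivity)
  rw [← Finset.sum_add_distrib, Finset.sum_div]
  refine (norm_sum_le _ _).trans ?_
  apply Finset.sum_le_sum
  intro y _
  rw [pRegularPart_apply, norm_mul, RCLike.norm_conj]
  split_ifs
  · simp
  · nlinarith [sq_nonneg (‖X y‖ - ‖Y y‖), norm_nonneg (X y), norm_nonneg (Y y)]

/-- Bessel's inequality for the truncated norm -/
theorem pNorm_le_of_orthogonal (T X : K → ℂ)
    (h : classInner (pRegularPart p X) (T - X) = 0) : pNorm p X ≤ pNorm p T := by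
  have h2 : classInner (pRegularPart p (T - X)) X = 0 := by
    rw [classInner_pRegularPart_symm, h, map_zero]
  have hT : T = X + (T - X) := by
    funext y
    simp
  have h3 : (pNorm p T : ℂ) = (pNorm p X : ℂ) + (pNorm p (T - X) : ℂ) := by
    rw [← classInner_pRegularPart_self, ← classInner_pRegularPart_self,
      ← classInner_pRegularPart_self]
    conv_lhs => rw [hT]
    rw [pRegularPart_add, classInner_add_left, classInner_add_right, classInner_add_right,
      h, h2, add_zero, zero_add]
  have h4 : pNorm p T = pNorm p X + pNorm p (T - X) := by exact_mod_cast h3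
  rw [h4]
  linarith [pNorm_nonneg (p := p) (T - X)]

end PNorm

section Bessel

variable {G : Type u} [Group G] [Fintype G] {M : Ideal AlgInt} {p : ℕ}

/-- the diagonal contribution is the truncated norm of the block part -/
theorem contrib_self_eq_pNorm (H : Subgroup G) [Fintype H] (z : G) (f : Set (IrrCharacter H))
    (χ : G → ℂ) : contrib p H z f χ χ = (pNorm p (etaPart H z f χ) : ℂ) := by
  unfold contrib
  exact classInner_pRegularPart_self _

theorem norm_contrib_le (H : Subgroup G) [Fintype H] (z : G) (f : Set (IrrCharacter H))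
    (χ ψ : G → ℂ) :
    ‖contrib p H z f χ ψ‖ ≤ (pNorm p (etaPart H z f χ) + pNorm p (etaPart H z f ψ)) / 2 := by
  unfold contrib
  exact norm_classInner_pRegularPart_le _ _

/-- distinct blocks give orthogonal block parts -/
theorem classInner_pRegularPart_blockPart_blockPart {K : Type u} [Group K] [Fintype K]
    (hM : IsPModular p M) {b b' : Set (IrrCharacter K)} (hb : IsPBlock M b)
    (hb' : IsPBlock M b') (hne : b ≠ b') (T T' : K → ℂ) :
    classInner (pRegularPart p (blockPart b T)) (blockPart b' T') = 0 := by
  classical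
  haveI hMp : M.IsPrime := hM.2.1.isPrime
  letI : Fintype (IrrCharacter K) := irrFintype
  rw [blockPart_eq_sum b' T', classInner_sum_right]
  apply Finset.sum_eq_zero
  intro ξ _
  rw [classInner_smul_right]
  by_cases hξ : ξ ∈ b'
  · have hξb : ξ ∉ b := fun h => hne (isPBlock_eq_of_mem hb hb' h hξ)
    rw [classInner_pRegularPart_blockPart_eq_zero hM hb T hξb, mul_zero]
  · rw [if_neg hξ, map_zero, zero_mul]

set_option maxHeartbeats 800000 in
/-- **Bessel's inequality for the contributions of the blocks of a subsection** -/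
theorem sum_pNorm_etaPart_le (hM : IsPModular p M) (H : Subgroup G) [Fintype H] {z : G}
    (hzH : ∀ h ∈ H, z * h = h * z) (F : Finset (Set (IrrCharacter H)))
    (hF : ∀ f ∈ F, IsPBlock M f) {χ : G → ℂ} (hχ : IsClassFunction G χ) :
    ∑ f ∈ F, pNorm p (etaPart H z f χ) ≤ pNorm p (fun c : H => χ (z * (c : G))) := by
  classical
  set T : H → ℂ := fun c : H => χ (z * (c : G)) with hT
  set X : H → ℂ := ∑ f ∈ F, etaPart H z f χ with hX
  have h1 : ∀ f ∈ F, classInner (pRegularPart p (etaPart H z f χ)) T =
      (pNorm p (etaPart H z f χ) : ℂ) := by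
    intro f hf
    rw [← contrib_self_eq_pNorm, contrib_eq_classInner_shift hM H hzH (hF f hf) χ hχ]
  have h2 : ∀ f ∈ F, classInner (pRegularPart p (etaPart H z f χ)) X =
      (pNorm p (etaPart H z f χ) : ℂ) := by
    intro f hf
    rw [hX, classInner_sum_right, Finset.sum_eq_single f]
    · exact classInner_pRegularPart_self _
    · intro f' hf' hne
      unfold etaPart
      exact classInner_pRegularPart_blockPart_blockPart hM (hF f hf) (hF f' hf') hne.symm _ _
    · intro h
      exact absurd hf h
  have h3 : classInner (pRegularPart p X) T = ∑ f ∈ F, (pNorm p (etaPart H z f χ) : ℂ) := by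
    rw [hX, pRegularPart_sum, classInner_sum_left]
    exact Finset.sum_congr rfl h1
  have h4 : classInner (pRegularPart p X) X = ∑ f ∈ F, (pNorm p (etaPart H z f χ) : ℂ) := by
    conv_lhs => rw [hX, pRegularPart_sum, classInner_sum_left]
    exact Finset.sum_congr rfl h2
  have h5 : classInner (pRegularPart p X) (T - X) = 0 := by
    have hTX : T = X + (T - X) := by
      funext y
      simp
    have h6 : classInner (pRegularPart p X) T =
        classInner (pRegularPart p X) X + classInner (pRegularPart p X) (T - X) := by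
      conv_lhs => rw [hTX]
      rw [classInner_add_right]
    rw [h3, h4] at h6
    have := h6.symm
    rwa [add_eq_left] at this
  have h7 := pNorm_le_of_orthogonal T X h5
  have h8 : (pNorm p X : ℂ) = ((∑ f ∈ F, pNorm p (etaPart H z f χ) : ℝ) : ℂ) := by
    rw [← classInner_pRegularPart_self, h4]
    push_cast
    rfl
  have h9 : pNorm p X = ∑ f ∈ F, pNorm p (etaPart H z f χ) := by exact_mod_cast h8
  rw [← h9]
  exact h7

end Bessel

end Cfsg.Agent.Helper23.Blk
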