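import Mathlib
import Cfsg.Agent.Lib.Helper23.BlockContribVal
import Cfsg.Agent.Lib.Helper23.GaloisWeighted

/-!
# Galois averages of the contributions of a major subsection (helper23's shared library)
-/

set_option autoImplicit false
set_option linter.unusedSectionVars false
set_option linter.style.haveILetI false

namespace Cfsg.Agent.Helper23.Blk

open Cfsg Cfsg.Agent.Helper24 Cfsg.Agent.Helper18
open scoped ComplexConjugate

universe u

section Arith

variable {M : Ideal AlgInt} {p : ℕ}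

/-- an integer divisible by `p^m` in the local ring is divisible by `p^m` -/
theorem pow_dvd_of_memLocalRing_div (hM : IsPModular p M) :
    ∀ (m : ℕ) (z : ℤ), MemLocalRing M ((z : ℂ) / ((p ^ m : ℕ) : ℂ)) → ((p ^ m : ℕ) : ℤ) ∣ z := by
  haveI hMp : M.IsPrime := hM.2.1.isPrime
  have hp : p.Prime := hM.1
  have hp0 : (p : ℂ) ≠ 0 := by exact_mod_cast hp.ne_zero
  intro m
  induction m with
  | zero =>
    intro z _
    simp
  | succ m ih =>
    intro z hz
    have h1 : MemLocalRing M ((z : ℂ) / ((p ^ m : ℕ) : ℂ)) := by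
      have : (z : ℂ) / ((p ^ m : ℕ) : ℂ) = (p : ℂ) * ((z : ℂ) / ((p ^ (m + 1) : ℕ) : ℂ)) := by
        push_cast
        rw [pow_succ]
        field_simp
      rw [this]
      exact memLocalRing_mul (memLocalRing_natCast p) hz
    obtain ⟨z', hz'⟩ := ih z h1
    have hpm0 : ((p ^ m : ℕ) : ℂ) ≠ 0 := by exact_mod_cast (pow_pos hp.pos m).ne'
    have h2 : MemLocalIdeal M ((z' : ℤ) : ℂ) := by
      have : ((z' : ℤ) : ℂ) = (p : ℂ) * ((z : ℂ) / ((p ^ (m + 1) : ℕ) : ℂ)) := by
        rw [hz']
        push_cast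
        rw [pow_succ]
        field_simp
      rw [this]
      exact memLocalIdeal_mul_right (memLocalIdeal_prime hM) hz
    obtain ⟨z'', hz''⟩ := (memLocalIdeal_intCast_iff hM z').1 h2
    refine ⟨z'', ?_⟩
    rw [hz', hz'']
    push_cast
    ring

/-- the first-power Galois average of an integer combination of roots of unity whose conjugates
are all divisible by `p^h` in the local ring -/
theorem card_mul_pow_le_sum_norm_weighted (hM : IsPModular p M) {n : ℕ} {ι : Type*} [Fintype ι]
    (hn : 0 < n) (w : ι → ℤ) (μ : ι → ℂ) (hμ : ∀ i, μ i ^ n = 1) (h : ℕ)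
    (hloc : ∀ k ∈ (Finset.range n).filter (fun k => Nat.Coprime k n),
      MemLocalRing M ((∑ i, (w i : ℂ) * μ i ^ k) / ((p ^ h : ℕ) : ℂ)))
    (hne : (∑ i, (w i : ℂ) * μ i) ≠ 0) :
    (((Finset.range n).filter (fun k => Nat.Coprime k n)).card : ℝ) * (p : ℝ) ^ h ≤
      ∑ k ∈ (Finset.range n).filter (fun k => Nat.Coprime k n),
        ‖∑ i, (w i : ℂ) * μ i ^ k‖ := by
  haveI hMp : M.IsPrime := hM.2.1.isPrime
  have hp : p.Prime := hM.1
  set J := (Finset.range n).filter (fun k => Nat.Coprime k n) with hJ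
  obtain ⟨z, hz, hz0⟩ := Cfsg.Agent.Helper23.prod_coprime_pow_sum_weighted hn w μ hμ
  have hzne : z ≠ 0 := hz0 hne
  have hph0 : ((p ^ h : ℕ) : ℂ) ≠ 0 := by exact_mod_cast (pow_pos hp.pos h).ne'
  have hfac : ∀ k ∈ J, (∑ i, (w i : ℂ) * μ i ^ k) ≠ 0 := by
    intro k hk h0
    have : (z : ℂ) = 0 := by
      rw [← hz]
      exact Finset.prod_eq_zero hk h0
    exact hzne (by exact_mod_cast this)
  -- divisibility of the norm
  have hdiv : ((p ^ (h * J.card) : ℕ) : ℤ) ∣ z := by
    apply pow_dvd_of_memLocalRing_div hM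
    have : (z : ℂ) / ((p ^ (h * J.card) : ℕ) : ℂ) =
        ∏ k ∈ J, ((∑ i, (w i : ℂ) * μ i ^ k) / ((p ^ h : ℕ) : ℂ)) := by
      rw [Finset.prod_div_distrib, hz, Finset.prod_const]
      push_cast
      rw [pow_mul]
    rw [this]
    exact memLocalRing_prod _ _ hloc
  have hzabs : ((p ^ (h * J.card) : ℕ) : ℝ) ≤ ‖(z : ℂ)‖ := by
    rw [Complex.norm_intCast]
    have h1 : ((p ^ (h * J.card) : ℕ) : ℤ) ≤ |z| := by
      have := Int.le_of_dvd (abs_pos.2 hzne) ((dvd_abs _ _).2 hdiv)
      exact this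
    exact_mod_cast h1
  have hphr : (0 : ℝ) < (p : ℝ) ^ h := by
    have : (0 : ℝ) < (p : ℝ) := by exact_mod_cast hp.pos
    positivity
  have key := Cfsg.Agent.Helper23.card_le_sum_of_one_le_prod J
    (fun k => ‖∑ i, (w i : ℂ) * μ i ^ k‖ / (p : ℝ) ^ h)
    (fun k hk => div_pos (norm_pos_iff.2 (hfac k hk)) hphr)
    (by
      rw [Finset.prod_div_distrib, ← norm_prod, hz, Finset.prod_const, ← pow_mul,
        le_div_iff₀ (pow_pos (by exact_mod_cast hp.pos) _), one_mul]
      have : ((p ^ (h * J.card) : ℕ) : ℝ) = (p : ℝ) ^ (h * J.card) := by push_cast; rfl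
      rw [← this]
      exact hzabs)
  rw [← Finset.sum_div, le_div_iff₀ hphr] at key
  exact key

end Arith

section Weighted

variable {G : Type u} [Group G] [Fintype G] {M : Ideal AlgInt} {p : ℕ}

theorem centralizer_singleton_pow_of_coprime {K : Type*} [Group K] {g : K} {k : ℕ}
    (hk : Nat.Coprime k (orderOf g)) :
    Subgroup.centralizer ({g ^ k} : Set K) = Subgroup.centralizer ({g} : Set K) := by
  obtain ⟨m, hm⟩ := exists_pow_eq_self_of_coprime hk
  ext x
  simp only [Subgroup.mem_centralizer_iff, Set.mem_singleton_iff, forall_eq]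
  constructor
  · intro h
    have hc : Commute (g ^ k) x := h
    have := hc.pow_left m
    rw [hm] at this
    exact this
  · intro h
    have hc : Commute g x := h
    exact hc.pow_left k

set_option maxHeartbeats 1600000 in
/-- the contributions of the powers of a central element of `H`, as integer combinations of
roots of unity -/
theorem exists_weighted_form (hM : IsPModular p M) [Fact p.Prime] (H : Subgroup G) [Fintype H]
    [Fintype (IrrCharacter H)]
    {e : Set (IrrCharacter H)} (he : IsPBlock M e) {Y : H} (hY : Y ∈ Subgroup.center H)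
    (χ ψ : IrrCharacter G) :
    ∃ (w : IrrCharacter H × IrrCharacter H → ℤ) (μ : IrrCharacter H × IrrCharacter H → ℂ),
      (∀ i, μ i ^ orderOf Y = 1) ∧
      ∀ k : ℕ, ((p ^ blockDefect p e : ℕ) : ℂ) *
        contrib p H ((Y : G) ^ k) e (χ : G → ℂ) (ψ : G → ℂ) = ∑ i, (w i : ℂ) * μ i ^ k := by
  classical
  have hdecomp : ∀ φ : IrrCharacter G, ∃ m : IrrCharacter H → ℕ,
      (∀ ξ : IrrCharacter H,
        classInner (fun c : H => (φ : G → ℂ) (c : G)) (ξ : H → ℂ) = m ξ) ∧
      (fun c : H => (φ : G → ℂ) (c : G)) =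
        ∑ ξ : IrrCharacter H, (m ξ : ℂ) • (ξ : H → ℂ) := by
    intro φ
    obtain ⟨hm, hdec⟩ := isCharacter_decomp
      (isCharacter_restrict H (isCharacter_of_isIrrCharacter φ.2))
    choose m hm using hm
    refine ⟨m, hm, ?_⟩
    conv_lhs => rw [hdec]
    apply Finset.sum_congr rfl
    intro ξ _
    rw [hm ξ]
  choose a ha hadec using hdecomp
  refine ⟨fun i => (a χ i.1 : ℤ) * (a ψ i.2 : ℤ) * nRed p e i.1 i.2,
    fun i => cRatio (i.1 : H → ℂ) Y * conj (cRatio (i.2 : H → ℂ) Y), ?_, ?_⟩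
  · intro i
    rw [mul_pow, ← map_pow, cRatio_pow_orderOf i.1.2 hY, cRatio_pow_orderOf i.2.2 hY,
      map_one, mul_one]
  · intro k
    have hYcoe : (((Y ^ k : H)) : G) = (Y : G) ^ k := by
      push_cast
      rfl
    have h1 := contrib_eq_sum hM H he (Subgroup.pow_mem _ hY k) (a χ) (a ψ) (ha χ) (ha ψ)
    rw [hYcoe] at h1
    rw [h1, Fintype.sum_prod_type]
    apply Finset.sum_congr rfl
    intro ξ _
    apply Finset.sum_congr rfl
    intro ξ' _
    rw [cRatio_pow ξ.2 hY, cRatio_pow ξ'.2 hY, mul_pow, map_pow]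
    push_cast
    ring

set_option maxHeartbeats 1600000 in
/-- **the Galois average of the contributions of a major subsection** -/
theorem card_mul_pow_le_sum_norm_contrib (hM : IsPModular p M) [Fact p.Prime]
    {B : Set (IrrCharacter G)} {u : G} {N : ℕ} (hu : orderOf u ∣ p ^ N)
    [Fintype (Subgroup.centralizer ((Subgroup.zpowers u : Subgroup G) : Set G))]
    {f : Set (IrrCharacter (Subgroup.centralizer ((Subgroup.zpowers u : Subgroup G) : Set G)))}
    (hind : IsInducedBlock M (Subgroup.centralizer ((Subgroup.zpowers u : Subgroup G) : Set G)) f B)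
    (hdef : blockDefect p f = blockDefect p B)
    {ψ₀ χ : IrrCharacter G} (hψ₀ : ψ₀ ∈ B) (hχ : χ ∈ B)
    (hh : blockHeight p B (ψ₀ : G → ℂ) = 0) :
    (((Finset.range (p ^ N)).filter (fun k => Nat.Coprime k (p ^ N))).card : ℝ) *
        (p : ℝ) ^ blockHeight p B (χ : G → ℂ) ≤
      ∑ k ∈ (Finset.range (p ^ N)).filter (fun k => Nat.Coprime k (p ^ N)),
        (p : ℝ) ^ blockDefect p B *
          ‖contrib p (Subgroup.centralizer ((Subgroup.zpowers u : Subgroup G) : Set G)) (u ^ k) f
            (ψ₀ : G → ℂ) (χ : G → ℂ)‖ := by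
  classical
  haveI hMp : M.IsPrime := hM.2.1.isPrime
  have hp : p.Prime := hM.1
  letI : Fintype (IrrCharacter
    (Subgroup.centralizer ((Subgroup.zpowers u : Subgroup G) : Set G))) := irrFintype
  have hf : IsPBlock M f := hind.1
  have hHu : Subgroup.centralizer ((Subgroup.zpowers u : Subgroup G) : Set G) =
      Subgroup.centralizer ({u} : Set G) := centralizer_zpowers u
  have huH : u ∈ Subgroup.centralizer ((Subgroup.zpowers u : Subgroup G) : Set G) := by
    rw [hHu]
    exact self_mem_centralizer_singleton u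
  set Y : Subgroup.centralizer ((Subgroup.zpowers u : Subgroup G) : Set G) := ⟨u, huH⟩ with hY
  have hYc : Y ∈ Subgroup.center
      (Subgroup.centralizer ((Subgroup.zpowers u : Subgroup G) : Set G)) := by
    rw [Subgroup.mem_center_iff]
    intro c
    apply Subtype.ext
    push_cast
    have hc : (c : G) ∈ Subgroup.centralizer ({u} : Set G) := hHu ▸ c.2
    exact (Subgroup.mem_centralizer_iff.1 hc u rfl).symm
  have hYn : orderOf Y = orderOf u := by
    rw [← Subgroup.orderOf_coe]
  obtain ⟨w, μ, hμ, hkey⟩ := exists_weighted_form hM _ hf hYc ψ₀ χ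
  have hYu : ((Y : Subgroup.centralizer ((Subgroup.zpowers u : Subgroup G) : Set G)) : G) = u :=
    rfl
  rw [hYu] at hkey
  rw [hYn] at hμ
  have hμN : ∀ i, μ i ^ (p ^ N) = 1 := by
    intro i
    obtain ⟨t, ht⟩ := hu
    rw [ht, pow_mul, hμ i, one_pow]
  have hNpos : 0 < p ^ N := pow_pos hp.pos N
  -- the valuation for each Galois conjugate
  have hval : ∀ k : ℕ, Nat.Coprime k (orderOf u) →
      MemLocalRing M ((∑ i, (w i : ℂ) * μ i ^ k) /
        ((p ^ blockHeight p B (χ : G → ℂ) : ℕ) : ℂ)) ∧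
      ¬ MemLocalIdeal M ((∑ i, (w i : ℂ) * μ i ^ k) /
        ((p ^ blockHeight p B (χ : G → ℂ) : ℕ) : ℂ)) := by
    intro k hk
    have hH : Subgroup.centralizer ((Subgroup.zpowers u : Subgroup G) : Set G) =
        Subgroup.centralizer ({u ^ k} : Set G) := by
      rw [hHu, centralizer_singleton_pow_of_coprime hk]
    have hz : ∃ j : ℕ, orderOf (u ^ k) = p ^ j := by
      rw [Nat.Coprime.orderOf_pow hk.symm]
      obtain ⟨j, -, hj⟩ := (Nat.dvd_prime_pow hp).1 hu
      exact ⟨j, hj⟩
    have h1 := pow_mul_contrib_div_pow_height hM hz _ hH hind hdef hψ₀ hχ hh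
    rw [← hdef, hkey k] at h1
    exact h1
  have hcop : ∀ k : ℕ, Nat.Coprime k (p ^ N) → Nat.Coprime k (orderOf u) :=
    fun k hk => Nat.Coprime.coprime_dvd_right hu hk
  have hloc : ∀ k ∈ (Finset.range (p ^ N)).filter (fun k => Nat.Coprime k (p ^ N)),
      MemLocalRing M ((∑ i, (w i : ℂ) * μ i ^ k) /
        ((p ^ blockHeight p B (χ : G → ℂ) : ℕ) : ℂ)) :=
    fun k hk => (hval k (hcop k (Finset.mem_filter.1 hk).2)).1
  have hne : (∑ i, (w i : ℂ) * μ i) ≠ 0 := by
    intro h0
    have h1 := (hval 1 (Nat.coprime_one_left _)).2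
    apply h1
    simp only [pow_one]
    rw [h0, zero_div]
    exact memLocalIdeal_zero ne_top
  have key := card_mul_pow_le_sum_norm_weighted hM hNpos w μ hμN
    (blockHeight p B (χ : G → ℂ)) hloc hne
  refine key.trans (le_of_eq ?_)
  apply Finset.sum_congr rfl
  intro k _
  rw [← hkey k, hdef, norm_mul, Complex.norm_natCast]
  push_cast
  rfl

end Weighted

end Cfsg.Agent.Helper23.Blk
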