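import Mathlib
import Cfsg.Agent.Lib.Helper23.BlockMajorGalois
import Cfsg.Agent.Lib.Helper23.BlockContribBessel

/-!
# Counting the characters of a block through a major subsection (helper23's shared library)

`card_le_pow_mul_blockRank`: for a major subsection `(z, b)` of a block `B` of defect `d`,
`k(B) ≤ p^d l(b)`.
-/

set_option autoImplicit false
set_option linter.unusedSectionVars false
set_option linter.style.haveILetI false

namespace Cfsg.Agent.Helper23.Blk

open Cfsg Cfsg.Agent.Helper24 Cfsg.Agent.Helper18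
open scoped ComplexConjugate

universe u

section Arith

/-- AM–GM for positive real numbers that are Galois conjugate integer combinations of roots of
unity -/
theorem card_le_sum_of_weighted_pos {n : ℕ} {ι : Type*} [Fintype ι] (hn : 0 < n) (w : ι → ℤ)
    (μ : ι → ℂ) (hμ : ∀ i, μ i ^ n = 1) (r : ℕ → ℝ)
    (hr : ∀ k ∈ (Finset.range n).filter (fun k => Nat.Coprime k n),
      (∑ i, (w i : ℂ) * μ i ^ k) = (r k : ℂ))
    (hpos : ∀ k ∈ (Finset.range n).filter (fun k => Nat.Coprime k n), 0 < r k) :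
    (((Finset.range n).filter (fun k => Nat.Coprime k n)).card : ℝ) ≤
      ∑ k ∈ (Finset.range n).filter (fun k => Nat.Coprime k n), r k := by
  obtain ⟨z, hz, -⟩ := Cfsg.Agent.Helper23.prod_coprime_pow_sum_weighted hn w μ hμ
  apply Cfsg.Agent.Helper23.card_le_sum_of_one_le_prod _ _ hpos
  have h1 : ((∏ k ∈ (Finset.range n).filter (fun k => Nat.Coprime k n), r k : ℝ) : ℂ) =
      (z : ℂ) := by
    rw [← hz]
    push_cast
    exact Finset.prod_congr rfl (fun k hk => (hr k hk).symm)
  have h2 : (∏ k ∈ (Finset.range n).filter (fun k => Nat.Coprime k n), r k : ℝ) = (z : ℝ) := by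
    have : ((z : ℝ) : ℂ) = (z : ℂ) := by push_cast; rfl
    rw [← this] at h1
    exact_mod_cast h1
  have h3 : 0 < ∏ k ∈ (Finset.range n).filter (fun k => Nat.Coprime k n), r k :=
    Finset.prod_pos hpos
  rw [h2] at h3 ⊢
  have h4 : (0 : ℤ) < z := by exact_mod_cast h3
  have h5 : (1 : ℤ) ≤ z := h4
  exact_mod_cast h5

end Arith

section General

variable {G : Type u} [Group G] [Fintype G] {M : Ideal AlgInt} {p : ℕ}

theorem sum_contrib_self (hM : IsPModular p M) {z : G}
    (hz : ∃ k : ℕ, orderOf z = p ^ k) (H : Subgroup G) [Fintype H]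
    (hH : H = Subgroup.centralizer ({z} : Set G)) [Fintype (IrrCharacter G)]
    {B : Set (IrrCharacter G)} [DecidablePred (· ∈ B)]
    {e : Set (IrrCharacter H)} (hind : IsInducedBlock M H e B) :
    ∑ χ : IrrCharacter G, (if χ ∈ B then
      contrib p H z e (χ : G → ℂ) (χ : G → ℂ) else 0) = (blockRank p e : ℂ) := by
  subst hH
  exact sum_contrib_self_aux hM hz hind

theorem sum_contrib_mul_conj (hM : IsPModular p M) {z : G}
    (hz : ∃ k : ℕ, orderOf z = p ^ k) (H : Subgroup G) [Fintype H]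
    (hH : H = Subgroup.centralizer ({z} : Set G)) [Fintype (IrrCharacter G)]
    {e : Set (IrrCharacter H)} (he : IsPBlock M e) (χ : G → ℂ) :
    ∑ ψ : IrrCharacter G, contrib p H z e χ (ψ : G → ℂ) *
        conj (contrib p H z e χ (ψ : G → ℂ)) = contrib p H z e χ χ := by
  subst hH
  exact sum_contrib_mul_conj_aux hM hz he χ

theorem contrib_conj_symm (H : Subgroup G) [Fintype H] (z : G) (e : Set (IrrCharacter H))
    (χ ψ : G → ℂ) : contrib p H z e χ ψ = conj (contrib p H z e ψ χ) := by
  unfold contrib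
  exact classInner_pRegularPart_symm _ _

/-- the diagonal contribution dominates the squares of the off-diagonal ones -/
theorem normSq_contrib_le (hM : IsPModular p M) {z : G}
    (hz : ∃ k : ℕ, orderOf z = p ^ k) (H : Subgroup G) [Fintype H]
    (hH : H = Subgroup.centralizer ({z} : Set G))
    {e : Set (IrrCharacter H)} (he : IsPBlock M e) (χ : G → ℂ) (ψ₀ : IrrCharacter G) :
    ‖contrib p H z e χ (ψ₀ : G → ℂ)‖ ^ 2 ≤ pNorm p (etaPart H z e χ) := by
  classical
  letI : Fintype (IrrCharacter G) := irrFintype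
  have h1 := sum_contrib_mul_conj hM hz H hH he χ
  rw [contrib_self_eq_pNorm] at h1
  have h2 : ∀ ψ : IrrCharacter G, contrib p H z e χ (ψ : G → ℂ) *
      conj (contrib p H z e χ (ψ : G → ℂ)) =
      ((‖contrib p H z e χ (ψ : G → ℂ)‖ ^ 2 : ℝ) : ℂ) := by
    intro ψ
    rw [Complex.mul_conj']
    push_cast
    rfl
  rw [Finset.sum_congr rfl (fun ψ _ => h2 ψ), ← Complex.ofReal_sum] at h1
  have h3 : ∑ ψ : IrrCharacter G, ‖contrib p H z e χ (ψ : G → ℂ)‖ ^ 2 =
      pNorm p (etaPart H z e χ) := by exact_mod_cast h1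
  rw [← h3]
  exact Finset.single_le_sum (f := fun ψ : IrrCharacter G =>
    ‖contrib p H z e χ (ψ : G → ℂ)‖ ^ 2) (fun ψ _ => sq_nonneg _) (Finset.mem_univ ψ₀)

end General

section LemmaA

variable {G : Type u} [Group G] [Fintype G] {M : Ideal AlgInt} {p : ℕ}

theorem exists_height_zero (hM : IsPModular p M) {B : Set (IrrCharacter G)} (hB : IsPBlock M B) :
    ∃ ψ₀ ∈ B, blockHeight p B (ψ₀ : G → ℂ) = 0 := by
  haveI : Fact p.Prime := ⟨hM.1⟩
  obtain ⟨ψ₀, hψ₀, hmin⟩ := exists_min_degree (p := p) (block_nonempty hM hB)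
  refine ⟨ψ₀, hψ₀, ?_⟩
  rw [blockHeight_eq_sub_minVal]
  apply Nat.sub_eq_zero_of_le
  apply le_csInf
  · exact ⟨_, ψ₀, hψ₀, rfl⟩
  · rintro _ ⟨ψ, hψ, rfl⟩
    exact hmin ψ hψ

/-- the contributions of a major subsection to `(χ, ψ₀)` do not vanish -/
theorem contrib_ne_zero_of_major (hM : IsPModular p M) [Fact p.Prime] {z : G}
    (hz : ∃ k : ℕ, orderOf z = p ^ k) (H : Subgroup G) [Fintype H]
    (hH : H = Subgroup.centralizer ({z} : Set G)) {B : Set (IrrCharacter G)}
    {e : Set (IrrCharacter H)} (hind : IsInducedBlock M H e B)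
    (hdef : blockDefect p e = blockDefect p B)
    {ψ₀ χ : IrrCharacter G} (hψ₀ : ψ₀ ∈ B) (hχ : χ ∈ B)
    (hh : blockHeight p B (ψ₀ : G → ℂ) = 0) :
    contrib p H z e (ψ₀ : G → ℂ) (χ : G → ℂ) ≠ 0 := by
  haveI hMp : M.IsPrime := hM.2.1.isPrime
  intro h0
  have h1 := (pow_mul_contrib_div_pow_height hM hz H hH hind hdef hψ₀ hχ hh).2
  apply h1
  rw [h0, mul_zero, zero_div]
  exact memLocalIdeal_zero ne_top

set_option maxHeartbeats 3200000 in
/-- **`k(B) ≤ p^d l(b)` for a major subsection `(z, b)`** -/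
theorem card_le_pow_mul_blockRank (hM : IsPModular p M) [Fact p.Prime] {z : G}
    (hz : ∃ k : ℕ, orderOf z = p ^ k) (H : Subgroup G) [Fintype H]
    (hH : H = Subgroup.centralizer ({z} : Set G)) {B : Set (IrrCharacter G)}
    {e : Set (IrrCharacter H)} (hind : IsInducedBlock M H e B)
    (hdef : blockDefect p e = blockDefect p B) :
    Nat.card B ≤ p ^ blockDefect p B * blockRank p e := by
  classical
  letI : Fintype (IrrCharacter G) := irrFintype
  letI : Fintype (IrrCharacter H) := irrFintype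
  haveI hMp : M.IsPrime := hM.2.1.isPrime
  have hp : p.Prime := hM.1
  have hB : IsPBlock M B := hind.2.1
  have he : IsPBlock M e := hind.1
  obtain ⟨ψ₀, hψ₀, hh⟩ := exists_height_zero hM hB
  have hzH : z ∈ H := by
    rw [hH]
    exact self_mem_centralizer_singleton z
  set Y : H := ⟨z, hzH⟩ with hY
  have hYc : Y ∈ Subgroup.center H := by
    rw [Subgroup.mem_center_iff]
    intro c
    apply Subtype.ext
    push_cast
    have hc : (c : G) ∈ Subgroup.centralizer ({z} : Set G) := hH ▸ c.2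
    exact (Subgroup.mem_centralizer_iff.1 hc z rfl).symm
  have hYn : orderOf Y = orderOf z := by
    rw [← Subgroup.orderOf_coe]
  obtain ⟨j, hj⟩ := hz
  set n := orderOf z with hn
  have hnpos : 0 < n := orderOf_pos z
  set J := (Finset.range n).filter (fun k => Nat.Coprime k n) with hJ
  -- facts about the conjugate subsections
  have hHk : ∀ k ∈ J, H = Subgroup.centralizer ({z ^ k} : Set G) := by
    intro k hk
    rw [hH, centralizer_singleton_pow_of_coprime (Finset.mem_filter.1 hk).2]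
  have hzk : ∀ k ∈ J, ∃ i : ℕ, orderOf (z ^ k) = p ^ i := by
    intro k hk
    rw [Nat.Coprime.orderOf_pow (Finset.mem_filter.1 hk).2.symm]
    exact ⟨j, hj⟩
  -- per character bound
  have hper : ∀ χ ∈ B, (J.card : ℝ) ≤ ∑ k ∈ J, (p : ℝ) ^ blockDefect p B *
      pNorm p (etaPart H (z ^ k) e (χ : G → ℂ)) := by
    intro χ hχ
    obtain ⟨w, μ, hμ, hkey⟩ := exists_weighted_form hM H he hYc χ χ
    rw [hYn] at hμ
    have hYz : ((Y : H) : G) = z := rfl
    rw [hYz] at hkey
    apply card_le_sum_of_weighted_pos hnpos w μ hμ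
      (fun k => (p : ℝ) ^ blockDefect p B * pNorm p (etaPart H (z ^ k) e (χ : G → ℂ)))
    · intro k _
      rw [← hkey k, contrib_self_eq_pNorm, hdef]
      push_cast
      rfl
    · intro k hk
      apply mul_pos
      · have : (0 : ℝ) < (p : ℝ) := by exact_mod_cast hp.pos
        positivity
      · have h1 := normSq_contrib_le hM (hzk k hk) H (hHk k hk) he (χ : G → ℂ) ψ₀
        have h2 := contrib_ne_zero_of_major hM (hzk k hk) H (hHk k hk) hind hdef hψ₀ hχ hh
        have h3 : contrib p H (z ^ k) e (χ : G → ℂ) (ψ₀ : G → ℂ) ≠ 0 := by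
          rw [contrib_conj_symm]
          intro h0
          apply h2
          have := congrArg (starRingEnd ℂ) h0
          rwa [Complex.conj_conj, map_zero] at this
        have h4 : 0 < ‖contrib p H (z ^ k) e (χ : G → ℂ) (ψ₀ : G → ℂ)‖ ^ 2 :=
          pow_pos (norm_pos_iff.2 h3) 2
        linarith
  -- sum over the block
  have hsumB : ∀ k ∈ J, ∑ χ ∈ Finset.univ.filter (· ∈ B),
      pNorm p (etaPart H (z ^ k) e ((χ : IrrCharacter G) : G → ℂ)) = (blockRank p e : ℝ) := by
    intro k hk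
    have h1 := sum_contrib_self hM (hzk k hk) H (hHk k hk) hind
    rw [← Finset.sum_filter] at h1
    have h2 : ∑ χ ∈ Finset.univ.filter (· ∈ B),
        contrib p H (z ^ k) e ((χ : IrrCharacter G) : G → ℂ) ((χ : IrrCharacter G) : G → ℂ) =
        ((∑ χ ∈ Finset.univ.filter (· ∈ B),
          pNorm p (etaPart H (z ^ k) e ((χ : IrrCharacter G) : G → ℂ)) : ℝ) : ℂ) := by
      push_cast
      exact Finset.sum_congr rfl (fun χ _ => contrib_self_eq_pNorm _ _ _ _)
    rw [h2] at h1
    exact_mod_cast h1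
  have hcardB : Nat.card B = (Finset.univ.filter (fun χ : IrrCharacter G => χ ∈ B)).card := by
    rw [Nat.card_eq_fintype_card, Fintype.card_subtype]
  have hJpos : 0 < J.card := by
    rw [Finset.card_pos]
    by_cases h1 : n = 1
    · refine ⟨0, Finset.mem_filter.2 ⟨Finset.mem_range.2 hnpos, ?_⟩⟩
      rw [h1]
      exact Nat.coprime_one_right 0
    · refine ⟨1, Finset.mem_filter.2 ⟨Finset.mem_range.2 (by omega), Nat.coprime_one_left n⟩⟩
  have hfin : (J.card : ℝ) * (Nat.card B : ℝ) ≤
      (J.card : ℝ) * ((p : ℝ) ^ blockDefect p B * (blockRank p e : ℝ)) := by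
    calc (J.card : ℝ) * (Nat.card B : ℝ)
        = ∑ χ ∈ Finset.univ.filter (fun χ : IrrCharacter G => χ ∈ B), (J.card : ℝ) := by
          rw [Finset.sum_const, nsmul_eq_mul, hcardB]
          ring
      _ ≤ ∑ χ ∈ Finset.univ.filter (fun χ : IrrCharacter G => χ ∈ B),
          ∑ k ∈ J, (p : ℝ) ^ blockDefect p B *
            pNorm p (etaPart H (z ^ k) e (χ : G → ℂ)) :=
          Finset.sum_le_sum (fun χ hχ => hper χ (Finset.mem_filter.1 hχ).2)
      _ = ∑ k ∈ J, (p : ℝ) ^ blockDefect p B * (blockRank p e : ℝ) := by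
          rw [Finset.sum_comm]
          apply Finset.sum_congr rfl
          intro k hk
          rw [← Finset.mul_sum, hsumB k hk]
      _ = (J.card : ℝ) * ((p : ℝ) ^ blockDefect p B * (blockRank p e : ℝ)) := by
          rw [Finset.sum_const, nsmul_eq_mul]
  have hJr : (0 : ℝ) < (J.card : ℝ) := by exact_mod_cast hJpos
  have h5 := le_of_mul_le_mul_left hfin hJr
  exact_mod_cast h5

end LemmaA

end Cfsg.Agent.Helper23.Blk
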