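import Mathlib
import Cfsg.Prelude.Def_BlockFusion
import Cfsg.Agent.Lib.Helper23.BlockConj4

/-!
# The fusion system of a block: fully centralized, fully normalized and centric subgroups
(helper23's shared library)
-/

set_option autoImplicit false
set_option linter.unusedSectionVars false

namespace Cfsg.Agent.Helper23.Blk

open Cfsg Cfsg.Agent.Helper24
open scoped ComplexConjugate

universe u

section FusionBasics

variable {G : Type u} [Group G] [Fintype G] {M : Ideal AlgInt} {p : ℕ}

/-- conjugates in the fusion system of a block are conjugate pairs below the maximal pair -/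
theorem exists_conj_of_isConj (hM : IsPModular p M) [Fact p.Prime]
    {B : Set (IrrCharacter G)} {P : Subgroup G}
    {e : Set (IrrCharacter (Subgroup.centralizer (P : Set G)))} {F : FusionSystem P}
    (hF : IsBlockFusionSystemOn p M B P e F) {Q : Subgroup G}
    {f : Set (IrrCharacter (Subgroup.centralizer (Q : Set G)))}
    (hle : SubpairLE p M Q f P e) {Q' : Subgroup G} (hconj : F.IsConj Q Q') :
    ∃ g : G, Q' = Q.map (MulAut.conj g).toMonoidHom ∧
      SubpairLE p M (Q.map (MulAut.conj g).toMonoidHom) (conjBlock Q g f) P e := by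
  obtain ⟨φ, hφ, hrange⟩ := hconj
  obtain ⟨hQP, g, hφg, hgP, f₁, hle₁, hle₂⟩ := (hF.2 Q φ).1 hφ
  have hPe : IsBrauerPair p M P e := hF.1.1.1
  have hff : f₁ = f := subpairLE_unique hM _ P Q e hPe rfl f₁ f hle₁ hle
  rw [hff] at hle₂
  refine ⟨g, ?_, hle₂⟩
  rw [← hrange]
  ext y
  constructor
  · rintro ⟨u, rfl⟩
    exact ⟨(u : G), u.2, (hφg u).symm⟩
  · rintro ⟨u, hu, rfl⟩
    exact ⟨⟨u, hu⟩, hφg ⟨u, hu⟩⟩

/-- conjugate pairs below the maximal pair are conjugate in the fusion system of the block -/
theorem isConj_of_subpairLE_conj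
    {B : Set (IrrCharacter G)} {P : Subgroup G}
    {e : Set (IrrCharacter (Subgroup.centralizer (P : Set G)))} {F : FusionSystem P}
    (hF : IsBlockFusionSystemOn p M B P e F) {Q : Subgroup G}
    {f : Set (IrrCharacter (Subgroup.centralizer (Q : Set G)))}
    (hle : SubpairLE p M Q f P e) {x : G}
    (hlex : SubpairLE p M (Q.map (MulAut.conj x).toMonoidHom) (conjBlock Q x f) P e) :
    F.IsConj Q (Q.map (MulAut.conj x).toMonoidHom) := by
  refine ⟨conjHom Q x, (hF.2 Q (conjHom Q x)).2
    ⟨chain_le hle, x, fun u => rfl, chain_le hlex, f, hle, hlex⟩, ?_⟩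
  ext y
  constructor
  · rintro ⟨u, rfl⟩
    exact ⟨(u : G), u.2, rfl⟩
  · rintro ⟨u, hu, rfl⟩
    exact ⟨⟨u, hu⟩, rfl⟩

theorem card_subgroupOf_inf_right (P K : Subgroup G) :
    Nat.card ((P ⊓ K).subgroupOf K) = Nat.card (P ⊓ K : Subgroup G) :=
  Nat.card_congr (Subgroup.subgroupOfEquivOfLe inf_le_right).toEquiv

end FusionBasics

section FullyCentralized

variable {G : Type u} [Group G] [Fintype G] {M : Ideal AlgInt} {p : ℕ}

/-- **`Q` is fully centralized iff `C_P(Q)` is a defect group of the block of `C_G(Q)`** -/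
theorem isFullyCentralized_iff (hM : IsPModular p M) [Fact p.Prime]
    {B : Set (IrrCharacter G)} {P : Subgroup G}
    {e : Set (IrrCharacter (Subgroup.centralizer (P : Set G)))} {F : FusionSystem P}
    (hF : IsBlockFusionSystemOn p M B P e F) {Q : Subgroup G}
    {f : Set (IrrCharacter (Subgroup.centralizer (Q : Set G)))}
    (hle : SubpairLE p M Q f P e) :
    F.IsFullyCentralized Q ↔
      IsDefectGroup p M f ((P ⊓ Subgroup.centralizer (Q : Set G)).subgroupOf
        (Subgroup.centralizer (Q : Set G))) := by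
  classical
  have hmax := hF.1
  have hPe : IsBrauerPair p M P e := hmax.1.1
  have hQP : Q ≤ P := chain_le hle
  have hf : IsPBlock M f := (chain_isBrauerPair hle hPe).2
  constructor
  · rintro ⟨-, hfull⟩
    obtain ⟨x, hlex, hDx⟩ := exists_conj_centralizer_isDefectGroup hM hmax hle
    have hconj := isConj_of_subpairLE_conj hF hle hlex
    have h1 := hfull _ hconj
    unfold FusionSystem.centralizerIn at h1
    obtain ⟨D, hD, hleD⟩ := centralizer_le_defectGroup_of_subpairLE hM hPe hle
    have hc1 := card_defectGroup hM hf hD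
    have hc2 := card_defectGroup hM (isPBlock_conjBlock Q x hf) hDx
    rw [blockDefect_conjBlock, card_subgroupOf_inf_right] at hc2
    have hc3 := card_subgroupOf_inf_right P (Subgroup.centralizer (Q : Set G))
    have heq := Subgroup.eq_of_le_of_card_ge hleD (by omega)
    rw [heq]
    exact hD
  · intro hD
    refine ⟨hQP, ?_⟩
    intro Q' hconj
    obtain ⟨g, rfl, hleg⟩ := exists_conj_of_isConj hM hF hle hconj
    unfold FusionSystem.centralizerIn
    obtain ⟨D'', hD'', hle''⟩ := centralizer_le_defectGroup_of_subpairLE hM hPe hleg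
    have hc1 := card_defectGroup hM hf hD
    have hc2 := card_defectGroup hM (isPBlock_conjBlock Q g hf) hD''
    rw [blockDefect_conjBlock] at hc2
    rw [card_subgroupOf_inf_right] at hc1
    have hc3 := card_subgroupOf_inf_right P (Subgroup.centralizer
      ((Q.map (MulAut.conj g).toMonoidHom : Subgroup G) : Set G))
    have hc4 := Subgroup.card_le_of_le hle''
    omega

end FullyCentralized

section Centric

variable {G : Type u} [Group G] [Fintype G] {M : Ideal AlgInt} {p : ℕ}

theorem map_conj_center (Q : Subgroup G) (x : G) :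
    (Q ⊓ Subgroup.centralizer (Q : Set G)).map (MulAut.conj x).toMonoidHom =
      Q.map (MulAut.conj x).toMonoidHom ⊓
        Subgroup.centralizer ((Q.map (MulAut.conj x).toMonoidHom : Subgroup G) : Set G) := by
  ext y
  rw [Subgroup.mem_inf, Subgroup.mem_map]
  constructor
  · rintro ⟨u, hu, rfl⟩
    rw [Subgroup.mem_inf] at hu
    refine ⟨⟨u, hu.1, rfl⟩, ?_⟩
    rw [mem_centralizer_map_conj_iff]
    simp only [MulEquiv.coe_toMonoidHom, MulAut.conj_apply]
    have h2 : x⁻¹ * (x * u * x⁻¹) * x = u := by group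
    rw [h2]
    exact hu.2
  · rintro ⟨⟨u, hu, rfl⟩, h2⟩
    refine ⟨u, Subgroup.mem_inf.2 ⟨hu, ?_⟩, rfl⟩
    rw [mem_centralizer_map_conj_iff] at h2
    simp only [MulEquiv.coe_toMonoidHom, MulAut.conj_apply] at h2
    have h3 : x⁻¹ * (x * u * x⁻¹) * x = u := by group
    rw [h3] at h2
    exact h2

theorem card_center_conj (Q : Subgroup G) (x : G) :
    Nat.card (Q.map (MulAut.conj x).toMonoidHom ⊓
      Subgroup.centralizer ((Q.map (MulAut.conj x).toMonoidHom : Subgroup G) : Set G) :
        Subgroup G) = Nat.card (Q ⊓ Subgroup.centralizer (Q : Set G) : Subgroup G) := by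
  rw [← map_conj_center]
  exact Subgroup.card_map_of_injective (MulAut.conj x).injective

/-- **`Q` is centric iff `Z(Q)` is a defect group of the block of `C_G(Q)`** -/
theorem isCentric_iff (hM : IsPModular p M) [Fact p.Prime]
    {B : Set (IrrCharacter G)} {P : Subgroup G}
    {e : Set (IrrCharacter (Subgroup.centralizer (P : Set G)))} {F : FusionSystem P}
    (hF : IsBlockFusionSystemOn p M B P e F) {Q : Subgroup G}
    {f : Set (IrrCharacter (Subgroup.centralizer (Q : Set G)))}
    (hle : SubpairLE p M Q f P e) :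
    F.IsCentric Q ↔
      IsDefectGroup p M f ((Q ⊓ Subgroup.centralizer (Q : Set G)).subgroupOf
        (Subgroup.centralizer (Q : Set G))) := by
  classical
  have hmax := hF.1
  have hPe : IsBrauerPair p M P e := hmax.1.1
  have hQP : Q ≤ P := chain_le hle
  have hf : IsPBlock M f := (chain_isBrauerPair hle hPe).2
  constructor
  · rintro ⟨-, hcen⟩
    obtain ⟨x, hlex, hDx⟩ := exists_conj_centralizer_isDefectGroup hM hmax hle
    have hconj := isConj_of_subpairLE_conj hF hle hlex
    have h1 := hcen _ hconj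
    unfold FusionSystem.centralizerIn at h1
    have h2 : P ⊓ Subgroup.centralizer
        ((Q.map (MulAut.conj x).toMonoidHom : Subgroup G) : Set G) ≤
        Q.map (MulAut.conj x).toMonoidHom ⊓ Subgroup.centralizer
          ((Q.map (MulAut.conj x).toMonoidHom : Subgroup G) : Set G) :=
      le_inf h1 inf_le_right
    have hc0 := Subgroup.card_le_of_le h2
    rw [card_center_conj] at hc0
    obtain ⟨D, hD, hleD⟩ := centralizer_le_defectGroup_of_subpairLE hM hPe hle
    have hleZ : (Q ⊓ Subgroup.centralizer (Q : Set G)).subgroupOf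
        (Subgroup.centralizer (Q : Set G)) ≤ D := by
      refine le_trans ?_ hleD
      intro c hc
      rw [Subgroup.mem_subgroupOf] at hc ⊢
      exact ⟨hQP hc.1, hc.2⟩
    have hc1 := card_defectGroup hM hf hD
    have hc2 := card_defectGroup hM (isPBlock_conjBlock Q x hf) hDx
    rw [blockDefect_conjBlock, card_subgroupOf_inf_right] at hc2
    have hc3 := card_subgroupOf_inf_right Q (Subgroup.centralizer (Q : Set G))
    have heq := Subgroup.eq_of_le_of_card_ge hleZ (by omega)
    rw [heq]
    exact hD
  · intro hD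
    refine ⟨hQP, ?_⟩
    intro Q' hconj
    obtain ⟨g, rfl, hleg⟩ := exists_conj_of_isConj hM hF hle hconj
    unfold FusionSystem.centralizerIn
    obtain ⟨D'', hD'', hle''⟩ := centralizer_le_defectGroup_of_subpairLE hM hPe hleg
    have hc1 := card_defectGroup hM hf hD
    have hc2 := card_defectGroup hM (isPBlock_conjBlock Q g hf) hD''
    rw [blockDefect_conjBlock] at hc2
    rw [card_subgroupOf_inf_right] at hc1
    have hc3 := card_subgroupOf_inf_right P (Subgroup.centralizer
      ((Q.map (MulAut.conj g).toMonoidHom : Subgroup G) : Set G))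
    have hc4 := Subgroup.card_le_of_le hle''
    have hc5 := card_center_conj Q g
    have hgP : Q.map (MulAut.conj g).toMonoidHom ≤ P := chain_le hleg
    have hZle : Q.map (MulAut.conj g).toMonoidHom ⊓ Subgroup.centralizer
        ((Q.map (MulAut.conj g).toMonoidHom : Subgroup G) : Set G) ≤
        P ⊓ Subgroup.centralizer
          ((Q.map (MulAut.conj g).toMonoidHom : Subgroup G) : Set G) :=
      inf_le_inf_right _ hgP
    have heq := Subgroup.eq_of_le_of_card_ge hZle (by omega)
    rw [← heq]
    exact inf_le_left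

end Centric

section FullyNormalized

variable {G : Type u} [Group G] [Fintype G] {M : Ideal AlgInt} {p : ℕ}

/-- the stabilizer of `f` in `N_G(Q)`, as a subgroup -/
def pairStab (Q : Subgroup G) (f : Set (IrrCharacter (Subgroup.centralizer (Q : Set G)))) :
    Subgroup G :=
  blockStab (Subgroup.centralizer (Q : Set G)) f ⊓ Subgroup.normalizer (Q : Set G)

theorem mem_pairStab_iff (hM : IsPModular p M) {Q : Subgroup G}
    {f : Set (IrrCharacter (Subgroup.centralizer (Q : Set G)))} (hf : IsPBlock M f) (y : G) :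
    y ∈ pairStab Q f ↔ y ∈ Subgroup.normalizer (Q : Set G) ∧
      StabilizesBlock (Subgroup.centralizer (Q : Set G)) f y := by
  haveI hMp : M.IsPrime := hM.2.1.isPrime
  unfold pairStab
  rw [Subgroup.mem_inf]
  constructor
  · rintro ⟨h1, h2⟩
    exact ⟨h2, stabilizesBlock_of_mem_blockStab h1⟩
  · rintro ⟨h1, h2⟩
    exact ⟨mem_blockStab_of_stabilizesBlock hf (block_nonempty hM hf) h2, h1⟩

/-- the blocks of the stabilizers of conjugate pairs have the same defect -/
theorem blockDefect_stab_conj {Q : Subgroup G}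
    {f : Set (IrrCharacter (Subgroup.centralizer (Q : Set G)))} (x : G)
    (T : Subgroup G)
    (hT : ∀ y : G, y ∈ T ↔ y ∈ Subgroup.normalizer (Q : Set G) ∧
      StabilizesBlock (Subgroup.centralizer (Q : Set G)) f y)
    (T' : Subgroup G)
    (hT' : ∀ y : G, y ∈ T' ↔
      y ∈ Subgroup.normalizer ((Q.map (MulAut.conj x).toMonoidHom : Subgroup G) : Set G) ∧
      StabilizesBlock
        (Subgroup.centralizer ((Q.map (MulAut.conj x).toMonoidHom : Subgroup G) : Set G))
        (conjBlock Q x f) y)
    {F : Set (IrrCharacter T)}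
    (hFc : ∀ t : T, blockCoeff F t =
      subgroupBlockCoeff (Subgroup.centralizer (Q : Set G)) f (t : G))
    {F' : Set (IrrCharacter T')}
    (hF'c : ∀ t : T', blockCoeff F' t =
      subgroupBlockCoeff
        (Subgroup.centralizer ((Q.map (MulAut.conj x).toMonoidHom : Subgroup G) : Set G))
        (conjBlock Q x f) (t : G)) :
    blockDefect p F' = blockDefect p F := by
  classical
  haveI : Fintype T := Fintype.ofFinite _
  haveI : Fintype T' := Fintype.ofFinite _
  have hTT' : ∀ y, y ∈ T' ↔ x⁻¹ * y * x ∈ T := by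
    intro y
    rw [hT', hT, mem_normalizer_map_conj_iff]
    constructor
    · rintro ⟨h1, h2⟩
      exact ⟨h1, stabilizesBlock_conj_symm Q x h2⟩
    · rintro ⟨h1, h2⟩
      refine ⟨h1, ?_⟩
      have h3 := stabilizesBlock_conj Q x h2
      have e1 : x * (x⁻¹ * y * x) * x⁻¹ = y := by group
      rwa [e1] at h3
  have hFF' : F' = irrComp (subConjEquiv T T' x hTT').symm '' F := by
    apply eq_of_blockCoeff_eq
    intro t'
    rw [blockCoeff_image_irrComp, hF'c, hFc, subConjEquiv_symm_coe,
      ← subgroupBlockCoeff_conjBlock Q x f]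
    congr 1
    group
  rw [hFF', blockDefect_image_irrComp]

theorem card_subgroupOf_of_le {S T : Subgroup G} (h : S ≤ T) :
    Nat.card (S.subgroupOf T) = Nat.card S :=
  Nat.card_congr (Subgroup.subgroupOfEquivOfLe h).toEquiv

/-- **`Q` is fully normalized iff `N_P(Q)` is a defect group of the block of the stabilizer** -/
theorem isFullyNormalized_iff (hM : IsPModular p M) [Fact p.Prime]
    {B : Set (IrrCharacter G)} {P : Subgroup G}
    {e : Set (IrrCharacter (Subgroup.centralizer (P : Set G)))} {F : FusionSystem P}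
    (hF : IsBlockFusionSystemOn p M B P e F) {Q : Subgroup G}
    {f : Set (IrrCharacter (Subgroup.centralizer (Q : Set G)))}
    (hle : SubpairLE p M Q f P e) (T : Subgroup G)
    (hT : ∀ y : G, y ∈ T ↔ y ∈ Subgroup.normalizer (Q : Set G) ∧
      StabilizesBlock (Subgroup.centralizer (Q : Set G)) f y) :
    F.IsFullyNormalized Q ↔
      ∃ F' : Set (IrrCharacter T), IsPBlock M F' ∧
        (∀ t : T, blockCoeff F' t =
          subgroupBlockCoeff (Subgroup.centralizer (Q : Set G)) f (t : G)) ∧
        IsDefectGroup p M F' ((P ⊓ Subgroup.normalizer (Q : Set G)).subgroupOf T) := by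
  classical
  have hmax := hF.1
  have hPe : IsBrauerPair p M P e := hmax.1.1
  have hQP : Q ≤ P := chain_le hle
  have hQf : IsBrauerPair p M Q f := chain_isBrauerPair hle hPe
  obtain ⟨hQ, hf⟩ := hQf
  constructor
  · rintro ⟨-, hfull⟩
    obtain ⟨F₀, hF₀, hF₀c⟩ := exists_block_of_stab hM hQ hf T hT
    refine ⟨F₀, hF₀, hF₀c, ?_⟩
    obtain ⟨x, hlex, hall⟩ := exists_conj_normalizer_isDefectGroup hM hmax hle T hT
    have hfx : IsPBlock M (conjBlock Q x f) := isPBlock_conjBlock Q x hf
    obtain ⟨F'', hF'', hF''c, hD''⟩ := hall (pairStab _ (conjBlock Q x f))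
      (mem_pairStab_iff hM hfx)
    obtain ⟨hST', -⟩ := normalizer_le_defectGroup_of_subpairLE hM hPe hlex _
      (mem_pairStab_iff hM hfx) hF'' hF''c
    have hconj := isConj_of_subpairLE_conj hF hle hlex
    have h1 := hfull _ hconj
    unfold FusionSystem.normalizerIn at h1
    obtain ⟨hST, D, hD, hleD⟩ :=
      normalizer_le_defectGroup_of_subpairLE hM hPe hle T hT hF₀ hF₀c
    have hdef := blockDefect_stab_conj (p := p) x T hT _ (mem_pairStab_iff hM hfx) hF₀c hF''c
    have hc1 := card_defectGroup hM hF₀ hD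
    have hc2 := card_defectGroup hM hF'' hD''
    rw [hdef, card_subgroupOf_of_le hST'] at hc2
    have hc3 := card_subgroupOf_of_le hST
    have heq := Subgroup.eq_of_le_of_card_ge hleD (by omega)
    rw [heq]
    exact hD
  · rintro ⟨F', hF', hF'c, hD⟩
    refine ⟨hQP, ?_⟩
    intro Q' hconj
    obtain ⟨g, rfl, hleg⟩ := exists_conj_of_isConj hM hF hle hconj
    unfold FusionSystem.normalizerIn
    have hfg : IsPBlock M (conjBlock Q g f) := isPBlock_conjBlock Q g hf
    obtain ⟨F'', hF'', hF''c⟩ := exists_block_of_stab hM (hQ.map _) hfg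
      (pairStab _ (conjBlock Q g f)) (mem_pairStab_iff hM hfg)
    obtain ⟨hST', D'', hD'', hle''⟩ := normalizer_le_defectGroup_of_subpairLE hM hPe hleg _
      (mem_pairStab_iff hM hfg) hF'' hF''c
    obtain ⟨hST, -⟩ := normalizer_le_defectGroup_of_subpairLE hM hPe hle T hT hF' hF'c
    have hdef := blockDefect_stab_conj (p := p) g T hT _ (mem_pairStab_iff hM hfg) hF'c hF''c
    have hc1 := card_defectGroup hM hF' hD
    have hc2 := card_defectGroup hM hF'' hD''
    rw [hdef] at hc2
    rw [card_subgroupOf_of_le hST] at hc1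
    have hc3 := card_subgroupOf_of_le hST'
    have hc4 := Subgroup.card_le_of_le hle''
    omega

end FullyNormalized

end Cfsg.Agent.Helper23.Blk
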