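import Mathlib
import Cfsg.Prelude.Def_Blocks
import Cfsg.Prelude.Def_BrauerPairs
import Cfsg.Agent.Lib.Helper23.BlockFirstMain
import Cfsg.Agent.Lib.Helper23.BlockPairs5
import Cfsg.Agent.Lib.Helper23.BlockFR2
import Cfsg.Agent.Lib.Helper23.BlockConj3
import Cfsg.Agent.S0917
import Cfsg.Agent.Lib.Helper18.PairRel2

/-!
# The Brauer correspondence in terms of the Brauer map (helper23's library)
-/

set_option autoImplicit false
set_option linter.style.haveILetI false

namespace Cfsg.Agent.Helper23.Blk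

open Cfsg Cfsg.Agent.Helper24
open scoped ComplexConjugate

universe u

section Decomp

variable {K : Type u} [Group K] [Fintype K] [Fintype (IrrCharacter K)] {M : Ideal AlgInt}
  [hMp : M.IsPrime]

/-- the central characters take the values `0` or `1` (modulo the local ideal) on a central
element that is idempotent modulo the local ideal -/
theorem omega_idem_cases {u : K → ℂ} (hu : IsClassFunction K u)
    (huR : ∀ g, MemLocalRing M (u g)) (hidem : ∀ g, MemLocalIdeal M (conv u u g - u g))
    (ζ : IrrCharacter K) :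
    MemLocalIdeal M (omega (ζ : K → ℂ) u) ∨ MemLocalIdeal M (omega (ζ : K → ℂ) u - 1) := by
  have hcf : IsClassFunction K (conv u u - u) := by
    intro y x
    rw [Pi.sub_apply, Pi.sub_apply, isClassFunction_conv hu hu y x, hu y x]
  have h1 : MemLocalIdeal M (omega (ζ : K → ℂ) (conv u u - u)) :=
    memLocalIdeal_omega ζ hcf (fun g => hidem g)
  rw [omega_sub, omega_conv ζ hu hu] at h1
  have h2 : omega (ζ : K → ℂ) u * omega (ζ : K → ℂ) u - omega (ζ : K → ℂ) u =
      omega (ζ : K → ℂ) u * (omega (ζ : K → ℂ) u - 1) := by ring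
  rw [h2] at h1
  have hR := memLocalRing_omega (M := M) ζ hu huR
  exact memLocalIdeal_or_of_mul hR (memLocalRing_sub hR (memLocalRing_one ne_top)) h1

/-- **Decomposition of an idempotent**: a central element that is idempotent modulo the local
ideal is congruent to the sum of the block idempotents on which it acts as the identity. -/
theorem idem_decomp {u : K → ℂ} (hu : IsClassFunction K u)
    (huR : ∀ g, MemLocalRing M (u g)) (hidem : ∀ g, MemLocalIdeal M (conv u u g - u g))
    (𝔅 : Finset (Set (IrrCharacter K))) (h𝔅 : ∀ f, f ∈ 𝔅 ↔ IsPBlock M f)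
    [DecidablePred (fun f : Set (IrrCharacter K) =>
      ∀ ζ ∈ f, MemLocalIdeal M (omega (ζ : K → ℂ) u - 1))] (k : K) :
    MemLocalIdeal M (u k - ∑ f ∈ 𝔅.filter (fun f : Set (IrrCharacter K) =>
      ∀ ζ ∈ f, MemLocalIdeal M (omega (ζ : K → ℂ) u - 1)), blockCoeff f k) := by
  classical
  set U : IrrCharacter K → ℂ := fun ζ => omega (ζ : K → ℂ) u with hU
  have hsU : synth U = u := by
    funext g
    exact synth_omega hu g
  have hE : ∀ f : Set (IrrCharacter K), synth (fun ζ : IrrCharacter K =>
      if ζ ∈ f then (1 : ℂ) else 0) = blockCoeff f := by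
    intro f
    funext g
    exact (blockCoeff_eq_synth f g).symm
  -- `u = ∑_f u * ε_f`
  have hsum : u k = ∑ f ∈ 𝔅, conv u (blockCoeff f) k := by
    have h1 : U = ∑ f ∈ 𝔅, U * (fun ζ : IrrCharacter K => if ζ ∈ f then (1 : ℂ) else 0) := by
      funext ζ
      rw [Finset.sum_apply]
      simp only [Pi.mul_apply]
      rw [← Finset.mul_sum, Finset.sum_eq_single (blockOf M (ζ : K → ℂ))]
      · rw [if_pos (mem_blockOf_self ζ), mul_one]
      · intro f hf hne
        rw [if_neg]
        intro hζ
        apply hne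
        obtain ⟨χ₀, rfl⟩ := (h𝔅 f).1 hf
        exact (blockOf_eq_of_mem hζ).symm
      · intro h
        exact absurd ((h𝔅 _).2 ⟨ζ, rfl⟩) h
    conv_lhs => rw [← hsU, h1]
    rw [synth_sum]
    apply Finset.sum_congr rfl
    intro f _
    rw [← hE f, ← hsU, conv_synth]
  rw [hsum, Finset.sum_filter, ← Finset.sum_sub_distrib]
  apply memLocalIdeal_sum
  intro f hf
  have hfB : IsPBlock M f := (h𝔅 f).1 hf
  by_cases h1 : ∀ ζ ∈ f, MemLocalIdeal M (omega (ζ : K → ℂ) u - 1)
  · rw [if_pos h1]
    exact cong_symm (conv_blockCoeff_cong hu huR hidem hfB h1 k)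
  · rw [if_neg h1, sub_zero]
    push Not at h1
    obtain ⟨ζ₀, hζ₀, hζ₀1⟩ := h1
    have h0 : MemLocalIdeal M (omega (ζ₀ : K → ℂ) u) := by
      rcases omega_idem_cases hu huR hidem ζ₀ with h | h
      · exact h
      · exact absurd h hζ₀1
    apply conv_blockCoeff_null hu huR hidem hfB
    intro ζ hζ
    obtain ⟨χ₀, rfl⟩ := hfB
    have hsame : SameBlock M (ζ : K → ℂ) (ζ₀ : K → ℂ) :=
      sameBlock_trans (sameBlock_symm hζ) hζ₀
    have h2 := memLocalIdeal_omega_sub hsame hu huR
    have h3 := memLocalIdeal_add h2 h0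
    rwa [sub_add_cancel] at h3

end Decomp

section Key

variable {G : Type u} [Group G] [Fintype G] {M : Ideal AlgInt} {p : ℕ} (P : Subgroup G)

/-- **The Brauer map on block idempotents**: the truncation of `ε_B` to `C_G(P)`, viewed in
`N_G(P)`, is congruent to the sum of the idempotents of the blocks of `N_G(P)` inducing `B`. -/
theorem resC_blockCoeff_cong_sum (hM : IsPModular p M) (hP : IsPGroup p P)
    {B : Set (IrrCharacter G)} (hB : IsPBlock M B)
    (𝔅 : Finset (Set (IrrCharacter (Subgroup.normalizer (P : Set G)))))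
    (h𝔅 : ∀ f, f ∈ 𝔅 ↔ IsPBlock M f)
    [DecidablePred (fun f : Set (IrrCharacter (Subgroup.normalizer (P : Set G))) =>
      IsInducedBlock M (Subgroup.normalizer (P : Set G)) f B)]
    (t : Subgroup.normalizer (P : Set G)) :
    MemLocalIdeal M (resC P (Subgroup.normalizer (P : Set G)) (blockCoeff B) t -
      ∑ f ∈ 𝔅.filter (fun f : Set (IrrCharacter (Subgroup.normalizer (P : Set G))) =>
        IsInducedBlock M (Subgroup.normalizer (P : Set G)) f B), blockCoeff f t) := by
  classical
  haveI hMp : M.IsPrime := hM.2.1.isPrime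
  haveI : Fact p.Prime := ⟨hM.1⟩
  haveI : Fintype (Subgroup.normalizer (P : Set G)) := Fintype.ofFinite _
  letI : Fintype (IrrCharacter G) := irrFintype
  letI : Fintype (IrrCharacter (Subgroup.normalizer (P : Set G))) := irrFintype
  have hPN : P ≤ Subgroup.normalizer (P : Set G) := Subgroup.le_normalizer
  have hCN : Subgroup.centralizer (P : Set G) ≤ Subgroup.normalizer (P : Set G) :=
    Subgroup.centralizer_le_normalizer _
  have ha := isClassFunction_blockCoeff B
  have haR : ∀ g, MemLocalRing M (blockCoeff B g) := memLocalRing_blockCoeff hMp hB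
  set u : Subgroup.normalizer (P : Set G) → ℂ :=
    resC P (Subgroup.normalizer (P : Set G)) (blockCoeff B) with hu
  have hucf : IsClassFunction (Subgroup.normalizer (P : Set G)) u :=
    isClassFunction_resC P _ le_rfl ha
  have huR : ∀ y, MemLocalRing M (u y) := by
    intro y
    rw [hu]
    unfold resC
    split_ifs
    · exact haR _
    · exact memLocalRing_zero ne_top
  have hidem : ∀ y, MemLocalIdeal M (conv u u y - u y) := by
    intro y
    have h1 := resC_conv_cong P (Subgroup.normalizer (P : Set G)) hM hP hCN ha ha haR haR y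
    rw [conv_blockCoeff hB hB, if_pos rfl] at h1
    exact cong_symm h1
  have hdec := idem_decomp hucf huR hidem 𝔅 h𝔅 t
  have hfilter : 𝔅.filter (fun f : Set (IrrCharacter (Subgroup.normalizer (P : Set G))) =>
      ∀ ζ ∈ f, MemLocalIdeal M (omega (ζ : Subgroup.normalizer (P : Set G) → ℂ) u - 1)) =
      𝔅.filter (fun f : Set (IrrCharacter (Subgroup.normalizer (P : Set G))) =>
        IsInducedBlock M (Subgroup.normalizer (P : Set G)) f B) := by
    apply Finset.filter_congr
    intro f hf
    have hfB : IsPBlock M f := (h𝔅 f).1 hf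
    constructor
    · intro h1
      obtain ⟨ζ, hζ⟩ := block_nonempty hM hfB
      obtain ⟨χ, hχ⟩ := exists_irr_induced P (Subgroup.normalizer (P : Set G)) hM hP hPN hCN
        le_rfl ζ
      have h2 := induced_cong_brauer P (Subgroup.normalizer (P : Set G)) hM hP hPN le_rfl ζ ha haR
      have h3 := hχ _ ha haR
      rw [omega_blockCoeff] at h3
      have hχB : χ ∈ B := by
        by_contra hχB
        rw [if_neg hχB] at h3
        have h4 := cong_trans (cong_symm h2) h3
        -- `ω_ζ(u) ≡ 0` and `ω_ζ(u) ≡ 1`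
        have h5 := memLocalIdeal_sub h4 (h1 ζ hζ)
        have h6 : omega (ζ : Subgroup.normalizer (P : Set G) → ℂ)
            (resC P (Subgroup.normalizer (P : Set G)) (blockCoeff B)) - 0 -
            (omega (ζ : Subgroup.normalizer (P : Set G) → ℂ) u - 1) = 1 := by
          rw [hu]; ring
        rw [h6] at h5
        exact not_memLocalIdeal_one h5
      have hind := isInducedBlock_of_forall (M := M) (H := Subgroup.normalizer (P : Set G))
        (ξ₀ := ζ) (χ₀ := χ) (fun g => hχ _ (isClassFunction_classInd g)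
          (fun x => memLocalRing_classInd g x))
      obtain ⟨ζ₀, rfl⟩ := hfB
      obtain ⟨χ₀, rfl⟩ := hB
      rw [← blockOf_eq_of_mem hζ, ← blockOf_eq_of_mem hχB]
      exact hind
    · intro hind ζ hζ
      obtain ⟨χ, hχ⟩ := block_nonempty hM hB
      have h2 := induced_cong_brauer P (Subgroup.normalizer (P : Set G)) hM hP hPN le_rfl ζ ha haR
      have h3 := IsInducedBlock.omega_cong (Subgroup.normalizer (P : Set G)) hind hζ hχ ha haR
      rw [omega_blockCoeff, if_pos hχ] at h3
      exact cong_trans (cong_symm h2) h3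
  rw [hfilter] at hdec
  exact hdec

/-- a block of `N_G(P)` inducing a block with defect group `P` has defect group `P` -/
theorem isDefectGroup_of_induces (hM : IsPModular p M) (hP : IsPGroup p P)
    {B : Set (IrrCharacter G)} (hB : IsPBlock M B) (hDB : IsDefectGroup p M B P)
    {f : Set (IrrCharacter (Subgroup.normalizer (P : Set G)))}
    (hind : IsInducedBlock M (Subgroup.normalizer (P : Set G)) f B) :
    IsDefectGroup p M f (P.subgroupOf (Subgroup.normalizer (P : Set G))) := by
  classical
  haveI hMp : M.IsPrime := hM.2.1.isPrime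
  haveI : Fact p.Prime := ⟨hM.1⟩
  have hf : IsPBlock M f := hind.1
  obtain ⟨D, hD⟩ := exists_isDefectGroup hM hf
  obtain ⟨E, hE, hDE⟩ := Cfsg.Agent.S0917.result p M hM _ f hf B hB hind D hD
  have hD' := hD
  obtain ⟨g, hg, Q, hQ⟩ := hD'
  haveI hN : (P.subgroupOf (Subgroup.normalizer (P : Set G))).Normal :=
    Subgroup.normal_subgroupOf_of_le_normalizer le_rfl
  have hP' : IsPGroup p (P.subgroupOf (Subgroup.normalizer (P : Set G))) := hP.comap_subtype
  have hle : P.subgroupOf (Subgroup.normalizer (P : Set G)) ≤ D := by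
    rw [hQ]
    exact normal_pgroup_le_defectGroup hM hf _ hP' hg Q
  have hcard : Nat.card D ≤ Nat.card (P.subgroupOf (Subgroup.normalizer (P : Set G))) := by
    rw [Nat.card_congr (Subgroup.subgroupOfEquivOfLe
      (Subgroup.le_normalizer (H := P))).toEquiv, card_defectGroup hM hB hDB,
      ← card_defectGroup hM hB hE]
    calc Nat.card D = Nat.card (D.map (Subgroup.normalizer (P : Set G)).subtype) :=
          (Subgroup.card_map_of_injective (Subgroup.subtype_injective _)).symm
      _ ≤ Nat.card E := Subgroup.card_le_of_le hDE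
  have heq := Subgroup.eq_of_le_of_card_ge hle hcard
  rw [heq]
  exact hD

/-- **Key lemma**: if the block `b` of `N_G(P)` with defect group `P` induces the block `B` of
`G` with defect group `P`, then `ε_B` truncated to `C_G(P)` is congruent to `ε_b`. -/
theorem resC_blockCoeff_cong (hM : IsPModular p M) (hP : IsPGroup p P)
    {B : Set (IrrCharacter G)} (hB : IsPBlock M B) (hDB : IsDefectGroup p M B P)
    {b : Set (IrrCharacter (Subgroup.normalizer (P : Set G)))}
    (hDb : IsDefectGroup p M b (P.subgroupOf (Subgroup.normalizer (P : Set G))))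
    (hind : IsInducedBlock M (Subgroup.normalizer (P : Set G)) b B)
    (t : Subgroup.normalizer (P : Set G)) :
    MemLocalIdeal M (resC P (Subgroup.normalizer (P : Set G)) (blockCoeff B) t -
      blockCoeff b t) := by
  classical
  haveI hMp : M.IsPrime := hM.2.1.isPrime
  haveI : Fact p.Prime := ⟨hM.1⟩
  haveI : Fintype (Subgroup.normalizer (P : Set G)) := Fintype.ofFinite _
  letI : Fintype (IrrCharacter G) := irrFintype
  letI : Fintype (IrrCharacter (Subgroup.normalizer (P : Set G))) := irrFintype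
  set 𝔅 : Finset (Set (IrrCharacter (Subgroup.normalizer (P : Set G)))) :=
    Finset.univ.image (fun ζ : IrrCharacter (Subgroup.normalizer (P : Set G)) =>
      blockOf M (ζ : Subgroup.normalizer (P : Set G) → ℂ)) with h𝔅def
  have h𝔅 : ∀ f, f ∈ 𝔅 ↔ IsPBlock M f := by
    intro f
    rw [h𝔅def, Finset.mem_image]
    constructor
    · rintro ⟨ζ, -, rfl⟩
      exact ⟨ζ, rfl⟩
    · rintro ⟨ζ, rfl⟩
      exact ⟨ζ, Finset.mem_univ _, rfl⟩
  have h1 := resC_blockCoeff_cong_sum P hM hP hB 𝔅 h𝔅 t
  have h2 : 𝔅.filter (fun f : Set (IrrCharacter (Subgroup.normalizer (P : Set G))) =>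
      IsInducedBlock M (Subgroup.normalizer (P : Set G)) f B) = {b} := by
    ext f
    rw [Finset.mem_filter, Finset.mem_singleton]
    constructor
    · rintro ⟨-, hf⟩
      exact firstMain_unique P hM hP hf.1 hind.1 (isDefectGroup_of_induces P hM hP hB hDB hf) hDb
        hf hind
    · rintro rfl
      exact ⟨(h𝔅 _).2 hind.1, hind⟩
  rw [h2, Finset.sum_singleton] at h1
  exact h1

/-- the Brauer-map relation between a block `B` of `G` and a block `b` of `N_G(P)`: the
idempotents agree on `C_G(P)` modulo the local ideal -/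
def BrCong (M : Ideal AlgInt) (P : Subgroup G) (B : Set (IrrCharacter G))
    (b : Set (IrrCharacter (Subgroup.normalizer (P : Set G)))) : Prop :=
  ∀ (x : G) (hx : x ∈ Subgroup.centralizer (P : Set G)),
    MemLocalIdeal M (blockCoeff B x -
      blockCoeff b ⟨x, Subgroup.centralizer_le_normalizer (P : Set G) hx⟩)

theorem brCong_of_induced (hM : IsPModular p M) (hP : IsPGroup p P)
    {B : Set (IrrCharacter G)} (hB : IsPBlock M B) (hDB : IsDefectGroup p M B P)
    {b : Set (IrrCharacter (Subgroup.normalizer (P : Set G)))}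
    (hDb : IsDefectGroup p M b (P.subgroupOf (Subgroup.normalizer (P : Set G))))
    (hind : IsInducedBlock M (Subgroup.normalizer (P : Set G)) b B) : BrCong M P B b := by
  intro x hx
  have h := resC_blockCoeff_cong P hM hP hB hDB hDb hind
    ⟨x, Subgroup.centralizer_le_normalizer (P : Set G) hx⟩
  unfold resC at h
  rw [if_pos hx] at h
  exact h

/-- from `G` down to `N_G(P)` -/
theorem corr_exists_down (hM : IsPModular p M) (hP : IsPGroup p P)
    {B : Set (IrrCharacter G)} (hB : IsPBlock M B) (hDB : IsDefectGroup p M B P) :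
    ∃ b : Set (IrrCharacter (Subgroup.normalizer (P : Set G))), IsPBlock M b ∧
      IsDefectGroup p M b (P.subgroupOf (Subgroup.normalizer (P : Set G))) ∧
      IsInducedBlock M (Subgroup.normalizer (P : Set G)) b B ∧ BrCong M P B b := by
  classical
  haveI : Fintype (Subgroup.normalizer (P : Set G)) := Fintype.ofFinite _
  letI : Fintype (IrrCharacter G) := irrFintype
  letI : Fintype (IrrCharacter (Subgroup.normalizer (P : Set G))) := irrFintype
  obtain ⟨b, hb, hDb, hind⟩ := firstMain_exists P hM hP hB hDB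
  exact ⟨b, hb, hDb, hind, brCong_of_induced P hM hP hB hDB hDb hind⟩

/-- from `N_G(P)` up to `G` -/
theorem corr_exists_up (hM : IsPModular p M) (hP : IsPGroup p P)
    {b : Set (IrrCharacter (Subgroup.normalizer (P : Set G)))} (hb : IsPBlock M b)
    (hDb : IsDefectGroup p M b (P.subgroupOf (Subgroup.normalizer (P : Set G)))) :
    ∃ B : Set (IrrCharacter G), IsPBlock M B ∧ IsDefectGroup p M B P ∧
      IsInducedBlock M (Subgroup.normalizer (P : Set G)) b B ∧ BrCong M P B b := by
  classical
  haveI hMp : M.IsPrime := hM.2.1.isPrime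
  haveI : Fintype (Subgroup.normalizer (P : Set G)) := Fintype.ofFinite _
  letI : Fintype (IrrCharacter G) := irrFintype
  letI : Fintype (IrrCharacter (Subgroup.normalizer (P : Set G))) := irrFintype
  obtain ⟨ζ, hζ⟩ := block_nonempty hM hb
  obtain ⟨χ, hχ⟩ := exists_irr_induced P (Subgroup.normalizer (P : Set G)) hM hP
    Subgroup.le_normalizer (Subgroup.centralizer_le_normalizer _) le_rfl ζ
  have hind := isInducedBlock_of_forall (M := M) (H := Subgroup.normalizer (P : Set G))
    (ξ₀ := ζ) (χ₀ := χ) (fun g => hχ _ (isClassFunction_classInd g)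
      (fun x => memLocalRing_classInd g x))
  have hbeq : blockOf M (ζ : Subgroup.normalizer (P : Set G) → ℂ) = b := by
    obtain ⟨ζ₀, rfl⟩ := hb
    exact blockOf_eq_of_mem hζ
  rw [hbeq] at hind
  have hB : IsPBlock M (blockOf M (χ : G → ℂ)) := ⟨χ, rfl⟩
  have hDB := firstMain_forward P hM hP hb hDb hB hind
  exact ⟨_, hB, hDB, hind, brCong_of_induced P hM hP hB hDB hDb hind⟩

/-- blocks of `N_G(P)` are determined by their idempotents on `C_G(P)` modulo the local ideal -/
theorem corr_unique_down (hM : IsPModular p M) (hP : IsPGroup p P)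
    {b₁ b₂ : Set (IrrCharacter (Subgroup.normalizer (P : Set G)))} (hb₁ : IsPBlock M b₁)
    (hb₂ : IsPBlock M b₂)
    (h : ∀ (x : G) (hx : x ∈ Subgroup.centralizer (P : Set G)),
      MemLocalIdeal M (blockCoeff b₁ ⟨x, Subgroup.centralizer_le_normalizer (P : Set G) hx⟩ -
        blockCoeff b₂ ⟨x, Subgroup.centralizer_le_normalizer (P : Set G) hx⟩)) : b₁ = b₂ := by
  classical
  haveI hMp : M.IsPrime := hM.2.1.isPrime
  haveI : Fintype (Subgroup.normalizer (P : Set G)) := Fintype.ofFinite _
  letI : Fintype (IrrCharacter (Subgroup.normalizer (P : Set G))) := irrFintype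
  have hall : ∀ t : Subgroup.normalizer (P : Set G),
      MemLocalIdeal M ((blockCoeff b₁ - blockCoeff b₂) t) := by
    intro t
    rw [Pi.sub_apply]
    by_cases ht : (t : G) ∈ Subgroup.centralizer (P : Set G)
    · exact h (t : G) ht
    · rw [blockCoeff_eq_zero_of_not_mem_centralizer' hM P _ hP Subgroup.le_normalizer le_rfl hb₁ t ht,
        blockCoeff_eq_zero_of_not_mem_centralizer' hM P _ hP Subgroup.le_normalizer le_rfl hb₂ t ht,
        sub_self]
      exact memLocalIdeal_zero ne_top
  obtain ⟨ζ, hζ⟩ := block_nonempty hM hb₁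
  by_contra hne
  have hζ₂ : ζ ∉ b₂ := fun hζ₂ => hne (isPBlock_eq_of_mem hb₁ hb₂ hζ hζ₂)
  have hcf : IsClassFunction (Subgroup.normalizer (P : Set G)) (blockCoeff b₁ - blockCoeff b₂) := by
    intro y x
    rw [Pi.sub_apply, Pi.sub_apply, isClassFunction_blockCoeff b₁ y x,
      isClassFunction_blockCoeff b₂ y x]
  have h1 := memLocalIdeal_omega ζ hcf hall
  rw [omega_sub, omega_blockCoeff, omega_blockCoeff, if_pos hζ, if_neg hζ₂, sub_zero] at h1
  exact not_memLocalIdeal_one h1

theorem isInducedBlock_unique_corr (hM : IsPModular p M) {T : Subgroup G}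
    {B' : Set (IrrCharacter T)}
    {B₁ B₂ : Set (IrrCharacter G)} (h₁ : IsInducedBlock M T B' B₁)
    (h₂ : IsInducedBlock M T B' B₂) : B₁ = B₂ := by
  haveI hMp : M.IsPrime := hM.2.1.isPrime
  obtain ⟨ξ, hξ⟩ := block_nonempty hM h₁.1
  obtain ⟨χ₁, hχ₁⟩ := block_nonempty hM h₁.2.1
  obtain ⟨χ₂, hχ₂⟩ := block_nonempty hM h₂.2.1
  have hsame : SameBlock M (χ₁ : G → ℂ) (χ₂ : G → ℂ) := by
    intro g
    have a1 := h₁.2.2 ξ hξ χ₁ hχ₁ g
    have a2 := h₂.2.2 ξ hξ χ₂ hχ₂ g
    exact cong_trans (cong_symm a1) a2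
  obtain ⟨χ₀, hB₁⟩ := h₁.2.1
  have hχ₂' : χ₂ ∈ B₁ := by
    rw [hB₁] at hχ₁ ⊢
    exact sameBlock_trans hχ₁ hsame
  exact isPBlock_eq_of_mem ⟨χ₀, hB₁⟩ h₂.2.1 hχ₂' hχ₂

/-- blocks of `G` with defect group `P` are determined by their idempotents on `C_G(P)` modulo
the local ideal -/
theorem corr_unique_up (hM : IsPModular p M) (hP : IsPGroup p P)
    {B₁ B₂ : Set (IrrCharacter G)} (hB₁ : IsPBlock M B₁) (hB₂ : IsPBlock M B₂)
    (hD₁ : IsDefectGroup p M B₁ P) (hD₂ : IsDefectGroup p M B₂ P)
    (h : ∀ x : G, x ∈ Subgroup.centralizer (P : Set G) →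
      MemLocalIdeal M (blockCoeff B₁ x - blockCoeff B₂ x)) : B₁ = B₂ := by
  haveI hMp : M.IsPrime := hM.2.1.isPrime
  obtain ⟨b₁, hb₁, -, hind₁, hbr₁⟩ := corr_exists_down P hM hP hB₁ hD₁
  obtain ⟨b₂, hb₂, -, hind₂, hbr₂⟩ := corr_exists_down P hM hP hB₂ hD₂
  have hbb : b₁ = b₂ := by
    apply corr_unique_down P hM hP hb₁ hb₂
    intro x hx
    exact cong_trans (cong_trans (cong_symm (hbr₁ x hx)) (h x hx)) (hbr₂ x hx)
  rw [hbb] at hind₁
  exact isInducedBlock_unique_corr hM hind₁ hind₂

end Key

section Transport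

variable {G : Type u} [Group G] [Fintype G] {M : Ideal AlgInt} {p : ℕ} (P H : Subgroup G)

open Cfsg.Agent.Helper18.PairRel in
/-- the normalizer of `P` computed inside `H ⊇ N_G(P)` is `N_G(P)` -/
def relNormEquiv (hH : Subgroup.normalizer (P : Set G) ≤ H) :
    Subgroup.normalizer ((P.subgroupOf H : Subgroup H) : Set H) ≃*
      Subgroup.normalizer (P : Set G) where
  toFun x := ⟨((x : H) : G),
    (mem_normalizer_subgroupOf_iff H P (le_trans Subgroup.le_normalizer hH) x.1).1 x.2⟩
  invFun n := ⟨⟨(n : G), hH n.2⟩,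
    (mem_normalizer_subgroupOf_iff H P (le_trans Subgroup.le_normalizer hH) ⟨n, hH n.2⟩).2 n.2⟩
  left_inv x := by ext; rfl
  right_inv n := by ext; rfl
  map_mul' x y := by ext; rfl

theorem relNormEquiv_coe (hH : Subgroup.normalizer (P : Set G) ≤ H)
    (x : Subgroup.normalizer ((P.subgroupOf H : Subgroup H) : Set H)) :
    ((relNormEquiv P H hH x : Subgroup.normalizer (P : Set G)) : G) = ((x : H) : G) := rfl

theorem relNormEquiv_symm_coe (hH : Subgroup.normalizer (P : Set G) ≤ H)
    (n : Subgroup.normalizer (P : Set G)) :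
    ((((relNormEquiv P H hH).symm n :
      Subgroup.normalizer ((P.subgroupOf H : Subgroup H) : Set H)) : H) : G) = (n : G) := rfl

theorem map_relNormEquiv_symm (hH : Subgroup.normalizer (P : Set G) ≤ H) :
    (P.subgroupOf (Subgroup.normalizer (P : Set G))).map
      (relNormEquiv P H hH).symm.toMonoidHom =
    (P.subgroupOf H).subgroupOf (Subgroup.normalizer ((P.subgroupOf H : Subgroup H) : Set H)) := by
  ext y
  rw [Subgroup.mem_map_equiv, Subgroup.mem_subgroupOf, Subgroup.mem_subgroupOf,
    Subgroup.mem_subgroupOf, MulEquiv.symm_symm]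
  rfl

theorem map_relNormEquiv (hH : Subgroup.normalizer (P : Set G) ≤ H) :
    ((P.subgroupOf H).subgroupOf
      (Subgroup.normalizer ((P.subgroupOf H : Subgroup H) : Set H))).map
      (relNormEquiv P H hH).symm.symm.toMonoidHom =
    P.subgroupOf (Subgroup.normalizer (P : Set G)) := by
  ext y
  rw [Subgroup.mem_map_equiv, Subgroup.mem_subgroupOf, Subgroup.mem_subgroupOf,
    Subgroup.mem_subgroupOf]
  rfl

/-- the relation between a block of `H` and a block of `N_G(P)`: the idempotents agree on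
`C_G(P)` modulo the local ideal -/
def RelCong (M : Ideal AlgInt) (P H : Subgroup G) (hH : Subgroup.normalizer (P : Set G) ≤ H)
    (c : Set (IrrCharacter H)) (b : Set (IrrCharacter (Subgroup.normalizer (P : Set G)))) :
    Prop :=
  ∀ (x : G) (hx : x ∈ Subgroup.centralizer (P : Set G)),
    MemLocalIdeal M (blockCoeff c ⟨x, hH (Subgroup.centralizer_le_normalizer (P : Set G) hx)⟩ -
      blockCoeff b ⟨x, Subgroup.centralizer_le_normalizer (P : Set G) hx⟩)

open Cfsg.Agent.Helper18.PairRel in
theorem rel_exists_down (hM : IsPModular p M) (hP : IsPGroup p P)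
    (hH : Subgroup.normalizer (P : Set G) ≤ H) {c : Set (IrrCharacter H)} (hc : IsPBlock M c)
    (hDc : IsDefectGroup p M c (P.subgroupOf H)) :
    ∃ b : Set (IrrCharacter (Subgroup.normalizer (P : Set G))), IsPBlock M b ∧
      IsDefectGroup p M b (P.subgroupOf (Subgroup.normalizer (P : Set G))) ∧
      RelCong M P H hH c b := by
  classical
  haveI : Fintype H := Fintype.ofFinite _
  have hP' : IsPGroup p (P.subgroupOf H) := hP.comap_subtype
  have hPH : P ≤ H := le_trans Subgroup.le_normalizer hH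
  obtain ⟨b', hb', hDb', -, hbr⟩ := corr_exists_down (P.subgroupOf H) hM hP' hc hDc
  set σ := relNormEquiv P H hH with hσ
  refine ⟨irrComp σ.symm '' b', isPBlock_image_irrComp σ.symm hb', ?_, ?_⟩
  · have h1 := isDefectGroup_image_irrComp hM σ.symm hb' hDb'
    rw [hσ, map_relNormEquiv] at h1
    exact h1
  · intro x hx
    have hxH : x ∈ H := hH (Subgroup.centralizer_le_normalizer (P : Set G) hx)
    have hx' : (⟨x, hxH⟩ : H) ∈ Subgroup.centralizer ((P.subgroupOf H : Subgroup H) : Set H) :=
      (mem_centralizer_subgroupOf_iff H P hPH ⟨x, hxH⟩).2 hx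
    have h1 := hbr ⟨x, hxH⟩ hx'
    rw [blockCoeff_image_irrComp]
    exact h1

open Cfsg.Agent.Helper18.PairRel in
theorem rel_exists_up (hM : IsPModular p M) (hP : IsPGroup p P)
    (hH : Subgroup.normalizer (P : Set G) ≤ H)
    {b : Set (IrrCharacter (Subgroup.normalizer (P : Set G)))} (hb : IsPBlock M b)
    (hDb : IsDefectGroup p M b (P.subgroupOf (Subgroup.normalizer (P : Set G)))) :
    ∃ c : Set (IrrCharacter H), IsPBlock M c ∧ IsDefectGroup p M c (P.subgroupOf H) ∧
      RelCong M P H hH c b := by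
  classical
  haveI : Fintype H := Fintype.ofFinite _
  have hP' : IsPGroup p (P.subgroupOf H) := hP.comap_subtype
  have hPH : P ≤ H := le_trans Subgroup.le_normalizer hH
  set σ := relNormEquiv P H hH with hσ
  have hb' : IsPBlock M (irrComp σ '' b) := isPBlock_image_irrComp σ hb
  have hDb' := isDefectGroup_image_irrComp hM σ hb hDb
  rw [hσ, map_relNormEquiv_symm] at hDb'
  obtain ⟨c, hc, hDc, -, hbr⟩ := corr_exists_up (P.subgroupOf H) hM hP' hb' hDb'
  refine ⟨c, hc, hDc, ?_⟩
  intro x hx
  have hxH : x ∈ H := hH (Subgroup.centralizer_le_normalizer (P : Set G) hx)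
  have hx' : (⟨x, hxH⟩ : H) ∈ Subgroup.centralizer ((P.subgroupOf H : Subgroup H) : Set H) :=
    (mem_centralizer_subgroupOf_iff H P hPH ⟨x, hxH⟩).2 hx
  have h1 := hbr ⟨x, hxH⟩ hx'
  rw [blockCoeff_image_irrComp] at h1
  exact h1

open Cfsg.Agent.Helper18.PairRel in
theorem rel_unique_up (hM : IsPModular p M) (hP : IsPGroup p P)
    (hH : Subgroup.normalizer (P : Set G) ≤ H) {c₁ c₂ : Set (IrrCharacter H)}
    (hc₁ : IsPBlock M c₁) (hc₂ : IsPBlock M c₂)
    (hD₁ : IsDefectGroup p M c₁ (P.subgroupOf H)) (hD₂ : IsDefectGroup p M c₂ (P.subgroupOf H))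
    (h : ∀ (x : G) (hx : x ∈ Subgroup.centralizer (P : Set G)),
      MemLocalIdeal M
        (blockCoeff c₁ ⟨x, hH (Subgroup.centralizer_le_normalizer (P : Set G) hx)⟩ -
          blockCoeff c₂ ⟨x, hH (Subgroup.centralizer_le_normalizer (P : Set G) hx)⟩)) :
    c₁ = c₂ := by
  classical
  haveI : Fintype H := Fintype.ofFinite _
  have hP' : IsPGroup p (P.subgroupOf H) := hP.comap_subtype
  have hPH : P ≤ H := le_trans Subgroup.le_normalizer hH
  apply corr_unique_up (P.subgroupOf H) hM hP' hc₁ hc₂ hD₁ hD₂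
  intro y hy
  exact h (y : G) ((mem_centralizer_subgroupOf_iff H P hPH y).1 hy)

end Transport

end Cfsg.Agent.Helper23.Blk
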