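import Mathlib
import Cfsg.Agent.Lib.Helper18.WCDefs

/-!
# S2244 piece WC-DEC-BFG (tables): decomposition witnesses for `B₂`, `F₄`, `G₂`
All witnesses are from `plans/S2244_witness.md`; every table fact is checked by `decide +kernel`.
-/

set_option autoImplicit false
set_option linter.unusedSectionVars false
set_option linter.unusedVariables false

namespace Cfsg.Agent.Helper18.WC

open Cfsg Cfsg.Lie Cfsg.Agent.Lead.Chev Cfsg.Agent.Helper6.ChevL Cfsg.Agent.Helper6.Uni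
open scoped commutatorElement

section Chev

variable {F : Type*} [Field F] {D : ChevalleyDatum} (hF : ChevFacts D F)

include hF

omit hF in
theorem wc_dec_bfg_B2_list : ∀ r < chevB2.nroots, chevB2.IsPosRoot r → NonSimple chevB2 r →
    r ∈ ([6, 7] : List ℕ) := by decide +kernel

omit hF in
/-- WC-DEC-BF (tables): `B₂`, `F₄` -/
theorem exists_dec_B2 (r : ℕ) (hr : chevB2.IsPosRoot r) (hns : NonSimple chevB2 r) :
    (∃ a s N N', DecOK chevB2 r a s N N' ∧ (N = 1 ∨ N = -1) ∧ (N' = 1 ∨ N' = -1)) ∨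
    (r = 7 ∧ (∃ a s N N', DecOK chevB2 r a s N N' ∧ (N = 2 ∨ N = -2) ∧ (N' = 2 ∨ N' = -2)) ∧
      ∃ a b m e1 e2, Patch21OK chevB2 r a b m e1 e2 ∧ (e2 = 1 ∨ e2 = -1)) := by
  have hmem := wc_dec_bfg_B2_list r hr.1 hr hns
  simp only [List.mem_cons, List.not_mem_nil, or_false] at hmem
  rcases hmem with rfl | rfl
  · exact Or.inl ⟨4, 5, 1, (-1), by decide +kernel, Or.inl rfl, Or.inr rfl⟩
  · exact Or.inr ⟨rfl, ⟨5, 6, 2, (-2), by decide +kernel, Or.inl rfl, Or.inr rfl⟩, ⟨5, 4, 6, (-1), (-1), by decide +kernel, Or.inr rfl⟩⟩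

omit hF in
theorem wc_dec_bfg_F4_list : ∀ r < chevF4.nroots, chevF4.IsPosRoot r → NonSimple chevF4 r →
    r ∈ ([26, 28, 29, 30, 31, 32, 34, 35, 36, 37, 38, 39, 40, 41, 42, 43, 44, 45, 46, 47] : List ℕ) := by decide +kernel

omit hF in
theorem exists_dec_F4 (r : ℕ) (hr : chevF4.IsPosRoot r) (hns : NonSimple chevF4 r) :
    (∃ a s N N', DecOK chevF4 r a s N N' ∧ (N = 1 ∨ N = -1) ∧ (N' = 1 ∨ N' = -1)) ∨
    ((r = 30 ∨ r = 41) ∧ (∃ a s N N', DecOK chevF4 r a s N N' ∧ (N = 2 ∨ N = -2) ∧ (N' = 2 ∨ N' = -2)) ∧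
      ∃ a b m e1 e2, Patch21OK chevF4 r a b m e1 e2 ∧ (e2 = 1 ∨ e2 = -1)) := by
  have hmem := wc_dec_bfg_F4_list r hr.1 hr hns
  simp only [List.mem_cons, List.not_mem_nil, or_false] at hmem
  rcases hmem with rfl | rfl | rfl | rfl | rfl | rfl | rfl | rfl | rfl | rfl | rfl | rfl | rfl | rfl | rfl | rfl | rfl | rfl | rfl | rfl
  · exact Or.inl ⟨24, 25, 1, (-1), by decide +kernel, Or.inl rfl, Or.inr rfl⟩
  · exact Or.inl ⟨25, 27, 1, (-1), by decide +kernel, Or.inl rfl, Or.inr rfl⟩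
  · exact Or.inl ⟨24, 28, 1, (-1), by decide +kernel, Or.inl rfl, Or.inr rfl⟩
  · exact Or.inr ⟨Or.inl rfl, ⟨27, 28, 2, (-2), by decide +kernel, Or.inl rfl, Or.inr rfl⟩, ⟨27, 25, 28, (-1), (-1), by decide +kernel, Or.inr rfl⟩⟩
  · exact Or.inl ⟨24, 30, 1, (-1), by decide +kernel, Or.inl rfl, Or.inr rfl⟩
  · exact Or.inl ⟨25, 31, 1, (-1), by decide +kernel, Or.inl rfl, Or.inr rfl⟩
  · exact Or.inl ⟨27, 33, 1, (-1), by decide +kernel, Or.inl rfl, Or.inr rfl⟩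
  · exact Or.inl ⟨25, 34, 1, (-1), by decide +kernel, Or.inl rfl, Or.inr rfl⟩
  · exact Or.inl ⟨24, 35, 1, (-1), by decide +kernel, Or.inl rfl, Or.inr rfl⟩
  · exact Or.inl ⟨27, 35, 1, (-1), by decide +kernel, Or.inl rfl, Or.inr rfl⟩
  · exact Or.inl ⟨24, 37, 1, (-1), by decide +kernel, Or.inl rfl, Or.inr rfl⟩
  · exact Or.inl ⟨25, 38, 1, (-1), by decide +kernel, Or.inl rfl, Or.inr rfl⟩
  · exact Or.inl ⟨27, 39, 1, (-1), by decide +kernel, Or.inl rfl, Or.inr rfl⟩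
  · exact Or.inr ⟨Or.inr rfl, ⟨33, 37, 2, (-2), by decide +kernel, Or.inl rfl, Or.inr rfl⟩, ⟨34, 25, 35, (-1), 1, by decide +kernel, Or.inl rfl⟩⟩
  · exact Or.inl ⟨24, 41, 1, (-1), by decide +kernel, Or.inl rfl, Or.inr rfl⟩
  · exact Or.inl ⟨25, 42, 1, (-1), by decide +kernel, Or.inl rfl, Or.inr rfl⟩
  · exact Or.inl ⟨27, 43, 1, (-1), by decide +kernel, Or.inl rfl, Or.inr rfl⟩
  · exact Or.inl ⟨30, 42, (-1), 1, by decide +kernel, Or.inr rfl, Or.inl rfl⟩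
  · exact Or.inl ⟨25, 45, 1, (-1), by decide +kernel, Or.inl rfl, Or.inr rfl⟩
  · exact Or.inl ⟨24, 46, 1, (-1), by decide +kernel, Or.inl rfl, Or.inr rfl⟩

omit hF in
theorem wc_dec_bfg_G2_list : ∀ r < chevG2.nroots, chevG2.IsPosRoot r → NonSimple chevG2 r →
    r ∈ ([8, 9, 10, 11] : List ℕ) := by decide +kernel

omit hF in
/-- WC-DEC-G2 (tables) -/
theorem exists_dec_G2 (r : ℕ) (hr : chevG2.IsPosRoot r) (hns : NonSimple chevG2 r) :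
    (∃ a s N N', DecOK chevG2 r a s N N' ∧ (N = 1 ∨ N = -1) ∧ (N' = 1 ∨ N' = -1)) ∨
    (r = 9 ∧ (∃ a s N N', DecOK chevG2 r a s N N' ∧ (N = 2 ∨ N = -2) ∧ (N' = 2 ∨ N' = -2)) ∧
      ∃ a b m e1 e2, Patch21OK chevG2 r a b m e1 e2 ∧ (e2 = 1 ∨ e2 = -1)) ∨
    (r = 10 ∧ ∃ a s N N', DecOK chevG2 r a s N N' ∧ (N = 3 ∨ N = -3) ∧ (N' = 3 ∨ N' = -3)) := by
  have hmem := wc_dec_bfg_G2_list r hr.1 hr hns
  simp only [List.mem_cons, List.not_mem_nil, or_false] at hmem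
  rcases hmem with rfl | rfl | rfl | rfl
  · exact Or.inl ⟨6, 7, 1, (-1), by decide +kernel, Or.inl rfl, Or.inr rfl⟩
  · exact Or.inr (Or.inl ⟨rfl, ⟨7, 8, (-2), 2, by decide +kernel, Or.inr rfl, Or.inl rfl⟩, ⟨7, 6, 8, (-1), 1, by decide +kernel, Or.inl rfl⟩⟩)
  · exact Or.inr (Or.inr ⟨rfl, 7, 9, 3, (-3), by decide +kernel, Or.inl rfl, Or.inr rfl⟩)
  · exact Or.inl ⟨6, 10, 1, (-1), by decide +kernel, Or.inl rfl, Or.inr rfl⟩

end Chev

end Cfsg.Agent.Helper18.WC
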