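import Mathlib
import Cfsg.Agent.Lib.Helper20.A3Defs

/-!
# S3117 (helper20's farm-out), PIECE FIB3 core (helper23): order `16`, `#U = 4`, a fibre with three
elements but not all three such.  The INV and IDX2 statements enter as hypotheses.
-/

set_option autoImplicit false
set_option linter.unusedSectionVars false
set_option linter.unusedVariables false

namespace Cfsg.Agent.Helper20.A3

section Abs

variable {W U : Type*} [Group W] [Group U] [Finite W] [Finite U]

/-- A quadratic map sends `1` to `1` (local copy of Q1). -/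
theorem fib3_q_one (hU : ∀ u : U, u * u = 1) (q : W → U) (hq : IsQuadMap q) : q 1 = 1 := by
  have h := hq 1 1 1
  unfold bet at h
  simp only [one_mul] at h
  have h1 : q 1 * q 1 * q 1 = 1 := by
    have : (q 1 * q 1 * q 1) * 1 = (q 1 * q 1 * q 1) * (q 1 * q 1 * q 1) := by
      rw [mul_one]; exact h
    exact (mul_left_cancel this).symm
  rw [hU (q 1), one_mul] at h1
  exact h1

/-- In a group of exponent `2` and order `4`, three distinct elements `1, u, v` and `u * v` are all
the elements. -/
theorem fib3_four (hU : ∀ u : U, u * u = 1) (hU4 : Nat.card U = 4) (u v : U) (hu : u ≠ 1)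
    (hv : v ≠ 1) (huv : u ≠ v) :
    u * v ≠ 1 ∧ u * v ≠ u ∧ u * v ≠ v ∧ ∀ x : U, x = 1 ∨ x = u ∨ x = v ∨ x = u * v := by
  classical
  have h1 : u * v ≠ 1 := by
    intro h
    apply huv
    have : u * v = v * v := by rw [h, hU v]
    exact mul_right_cancel this
  have h2 : u * v ≠ u := by
    intro h
    apply hv
    have : u * v = u * 1 := by rw [mul_one]; exact h
    exact mul_left_cancel this
  have h3 : u * v ≠ v := by
    intro h
    apply hu
    have : u * v = 1 * v := by rw [one_mul]; exact h
    exact mul_right_cancel this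
  refine ⟨h1, h2, h3, ?_⟩
  let _ : Fintype U := Fintype.ofFinite U
  have hcard : ({1, u, v, u * v} : Finset U).card = 4 := by
    rw [Finset.card_insert_of_notMem, Finset.card_insert_of_notMem,
      Finset.card_insert_of_notMem, Finset.card_singleton]
    · simp only [Finset.mem_singleton]; exact fun h => h3 h.symm
    · simp only [Finset.mem_insert, Finset.mem_singleton]
      rintro (h | h)
      · exact huv h
      · exact h2 h.symm
    · simp only [Finset.mem_insert, Finset.mem_singleton]
      rintro (h | h | h)
      · exact hu h.symm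
      · exact hv h.symm
      · exact h1 h.symm
  have huniv : ({1, u, v, u * v} : Finset U) = Finset.univ := by
    apply Finset.eq_univ_of_card
    rw [hcard, ← Nat.card_eq_fintype_card, hU4]
  intro x
  have hx : x ∈ ({1, u, v, u * v} : Finset U) := by rw [huniv]; exact Finset.mem_univ x
  simpa using hx

/-- An automorphism compatible with `q` maps fibres bijectively onto fibres. -/
theorem fib3_card_fibre (q : W → U) (g : MulAut W) (h : MulAut U)
    (hh : ∀ w, q (g w) = h (q w)) (v : U) :
    Nat.card {w : W // q w = v} = Nat.card {w : W // q w = h v} := by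
  refine Nat.card_congr
    { toFun := fun w => ⟨g w.1, by rw [hh, w.2]⟩
      invFun := fun w => ⟨g⁻¹ w.1, ?_⟩
      left_inv := ?_
      right_inv := ?_ }
  · have h1 := hh (g⁻¹ w.1)
    have h2 : g (g⁻¹ w.1) = w.1 := MulEquiv.apply_symm_apply g w.1
    rw [h2, w.2] at h1
    exact (h.injective h1).symm
  · intro w
    apply Subtype.ext
    exact MulEquiv.symm_apply_apply g w.1
  · intro w
    apply Subtype.ext
    exact MulEquiv.apply_symm_apply g w.1

/-- **A3-FIB3**, with INV and IDX2 as hypotheses. -/
theorem fib3_core (hW : ∀ w : W, w * w = 1) (hU : ∀ u : U, u * u = 1) (q : W → U)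
    (hq : IsQuadMap q) (R : Subgroup (MulAut W))
    (hR : ∀ g ∈ R, ∃ h : MulAut U, ∀ w, q (g w) = h (q w))
    (hcard : Nat.card W = 16) (hU4 : Nat.card U = 4) (hn0 : n0 q = 0)
    (u : U) (hu : u ≠ 1) (h3 : Nat.card {w : W // q w = u} = 3)
    (hsub : ∀ v : U, v ≠ 1 → Nat.card {w : W // q w = v} = 3 →
      ∀ x y : W, q x = v → q y = v → x ≠ y → q (x * y) = v)
    (hnot3 : ∃ v : U, v ≠ 1 ∧ Nat.card {w : W // q w = v} ≠ 3)
    (hinv : ∀ (R' : Subgroup (MulAut W)) (N : Subgroup W),
      (∀ g ∈ R', ∀ n ∈ N, g n ∈ N) → Nat.card N ≤ 4 → N.index ≤ 4 → Group.IsSolvable R')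
    (hidx : ∀ H : Subgroup ↥R, H.index ≤ 2 → Group.IsSolvable H → Group.IsSolvable ↥R) :
    Group.IsSolvable R := by
  classical
  obtain ⟨v0, hv01, hv03⟩ := hnot3
  have huv0 : u ≠ v0 := by
    intro h
    apply hv03
    rw [← h]; exact h3
  obtain ⟨hu'1, hu'u, hu'v, hall⟩ := fib3_four hU hU4 u v0 hu hv01 huv0
  set u' : U := u * v0 with hu'def
  have hq1 : q 1 = 1 := fib3_q_one hU q hq
  -- the key alternative
  have key : ∀ g ∈ R, ∀ h : MulAut U, (∀ w, q (g w) = h (q w)) →
      h u = u ∨ (h u = u' ∧ h u' = u) := by
    intro g hg h hh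
    have hne1 : ∀ x : U, x ≠ 1 → h x ≠ 1 := by
      intro x hx hhx
      apply hx
      have : h x = h 1 := by rw [hhx, map_one]
      exact h.injective this
    have hc : ∀ x : U, Nat.card {w : W // q w = x} = 3 → h x ≠ v0 := by
      intro x hx hhx
      apply hv03
      rw [← hhx, ← fib3_card_fibre q g h hh x]
      exact hx
    rcases hall (h u) with h1 | h1 | h1 | h1
    · exact absurd h1 (hne1 u hu)
    · left; exact h1
    · exact absurd h1 (hc u h3)
    · right
      refine ⟨h1, ?_⟩
      have h3' : Nat.card {w : W // q w = u'} = 3 := by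
        rw [← h1, ← fib3_card_fibre q g h hh u]
        exact h3
      rcases hall (h u') with h2 | h2 | h2 | h2
      · exact absurd h2 (hne1 u' hu'1)
      · exact h2
      · exact absurd h2 (hc u' h3')
      · exfalso
        apply hu'u
        apply h.injective
        rw [h2, h1]
  -- the subgroup `N = {1} ∪ q⁻¹(u)`
  have hWinv : ∀ w : W, w⁻¹ = w := fun w => inv_eq_of_mul_eq_one_left (hW w)
  let N : Subgroup W :=
    { carrier := {w | w = 1 ∨ q w = u}
      one_mem' := Or.inl rfl
      mul_mem' := by
        rintro x y (hx | hx) (hy | hy)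
        · left; rw [hx, hy, one_mul]
        · right; rw [hx, one_mul]; exact hy
        · right; rw [hy, mul_one]; exact hx
        · by_cases hxy : x = y
          · left; rw [hxy]; exact hW y
          · right; exact hsub u hu h3 x y hx hy hxy
      inv_mem' := by
        intro x hx
        rw [hWinv x]
        exact hx }
  have hNmem : ∀ w : W, w ∈ N ↔ (w = 1 ∨ q w = u) := fun w => Iff.rfl
  have hNcard : Nat.card N = 4 := by
    have hset : ((N : Subgroup W) : Set W) = insert 1 {w : W | q w = u} := by
      ext w
      simp only [SetLike.mem_coe, hNmem, Set.mem_insert_iff, Set.mem_ofPred_eq]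
    have h1 : Nat.card N = ((N : Subgroup W) : Set W).ncard := (Nat.card_coe_set_eq _)
    rw [h1, hset, Set.ncard_insert_of_notMem _ (Set.toFinite _)]
    · have h2 : ({w : W | q w = u} : Set W).ncard = Nat.card {w : W // q w = u} :=
        (Nat.card_coe_set_eq _).symm
      rw [h2, h3]
    · intro h
      apply hu
      have : q 1 = u := h
      rw [← this, hq1]
  have hNidx : N.index = 4 := by
    have := N.index_mul_card
    rw [hNcard, hcard] at this
    omega
  -- the stabiliser of the fibre over `u`
  let R1 : Subgroup (MulAut W) :=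
    { carrier := {g | g ∈ R ∧ ∀ w, q w = u ↔ q (g w) = u}
      one_mem' := ⟨R.one_mem, fun w => Iff.rfl⟩
      mul_mem' := by
        rintro a b ⟨ha, ha'⟩ ⟨hb, hb'⟩
        refine ⟨R.mul_mem ha hb, fun w => ?_⟩
        rw [hb' w, ha' (b w)]
        rfl
      inv_mem' := by
        rintro a ⟨ha, ha'⟩
        refine ⟨R.inv_mem ha, fun w => ?_⟩
        have h1 := ha' (a⁻¹ w)
        have h2 : a (a⁻¹ w) = w := MulEquiv.apply_symm_apply a w
        rw [h2] at h1
        exact h1.symm }
  have hR1mem : ∀ g : MulAut W, g ∈ R1 ↔ (g ∈ R ∧ ∀ w, q w = u ↔ q (g w) = u) := fun g => Iff.rfl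
  have hR1le : R1 ≤ R := fun g hg => hg.1
  have hR1solv : Group.IsSolvable R1 := by
    refine hinv R1 N ?_ (by rw [hNcard]) (by rw [hNidx])
    rintro g ⟨hg, hg'⟩ n hn
    rcases (hNmem n).mp hn with h | h
    · rw [h, map_one]; exact N.one_mem
    · exact (hNmem _).mpr (Or.inr ((hg' n).mp h))
  -- a nonempty fibre
  have hfib : ∃ w0 : W, q w0 = u := by
    have : Nonempty {w : W // q w = u} := by
      by_contra hne
      rw [not_nonempty_iff] at hne
      rw [Nat.card_of_isEmpty] at h3
      omega
    obtain ⟨⟨w0, hw0⟩⟩ := this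
    exact ⟨w0, hw0⟩
  obtain ⟨w0, hw0⟩ := hfib
  -- membership in `R1` through `h`
  have hR1of : ∀ g ∈ R, ∀ h : MulAut U, (∀ w, q (g w) = h (q w)) → h u = u → g ∈ R1 := by
    intro g hg h hh hhu
    refine ⟨hg, fun w => ?_⟩
    rw [hh]
    constructor
    · intro hw; rw [hw, hhu]
    · intro hw
      apply h.injective
      rw [hw, hhu]
  -- the index
  have hindex : (R1.subgroupOf R).index ≤ 2 := by
    by_cases hallR : ∀ g ∈ R, g ∈ R1
    · have : R1.subgroupOf R = ⊤ := by
        rw [Subgroup.subgroupOf_eq_top]
        exact hallR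
      rw [this, Subgroup.index_top]
      omega
    · push Not at hallR
      obtain ⟨a, haR, haR1⟩ := hallR
      obtain ⟨ha, hha⟩ := hR a haR
      have hka : ha u = u' ∧ ha u' = u := by
        rcases key a haR ha hha with h | h
        · exact absurd (hR1of a haR ha hha h) haR1
        · exact h
      have : (R1.subgroupOf R).index = 2 := by
        rw [Subgroup.index_eq_two_iff]
        refine ⟨⟨a, haR⟩, fun b => ?_⟩
        by_cases hb : b ∈ R1.subgroupOf R
        · right
          refine ⟨hb, fun hba => ?_⟩
          apply haR1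
          have h1 : b⁻¹ * (b * ⟨a, haR⟩) ∈ R1.subgroupOf R :=
            Subgroup.mul_mem _ (Subgroup.inv_mem _ hb) hba
          rw [inv_mul_cancel_left] at h1
          exact Subgroup.mem_subgroupOf.mp h1
        · left
          refine ⟨?_, hb⟩
          rw [Subgroup.mem_subgroupOf]
          have hbR : (b : MulAut W) ∈ R := b.2
          have hbR1 : (b : MulAut W) ∉ R1 := fun h => hb (Subgroup.mem_subgroupOf.mpr h)
          obtain ⟨hbb, hhb⟩ := hR b hbR
          have hkb : hbb u = u' ∧ hbb u' = u := by
            rcases key b hbR hbb hhb with h | h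
            · exact absurd (hR1of b hbR hbb hhb h) hbR1
            · exact h
          refine ⟨R.mul_mem hbR haR, fun w => ?_⟩
          show q w = u ↔ q ((b : MulAut W) (a w)) = u
          rw [hhb, hha]
          constructor
          · intro hw
            rw [hw, hka.1, hkb.2]
          · intro hw
            apply ha.injective
            apply hbb.injective
            rw [hw, hka.1, hkb.2]
      omega
  -- conclusion
  have hsolvH : Group.IsSolvable ↥(R1.subgroupOf R) := by
    have := hR1solv
    exact Group.isSolvable_of_isSolvable_injective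
      (f := (Subgroup.subgroupOfEquivOfLe hR1le).toMonoidHom)
      (Subgroup.subgroupOfEquivOfLe hR1le).injective
  exact hidx (R1.subgroupOf R) hindex hsolvH

end Abs

end Cfsg.Agent.Helper20.A3
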