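import Mathlib
import Cfsg.Agent.Lib.Helper20.A3Defs
import Cfsg.Agent.Lib.Helper23.A3FIB3Core
import Cfsg.Agent.Lib.Helper7.A3INV
import Cfsg.Agent.Lib.Helper7.A3IDX2

/-!
# S3117 (helper20's farm-out), PIECE FIB3 (helper23): order `16`, `#U = 4`, a fibre of three
elements, not all three.
-/

set_option autoImplicit false
set_option linter.unusedSectionVars false
set_option linter.unusedVariables false

namespace Cfsg.Agent.Helper20.A3

section Abs

variable {W U : Type*} [Group W] [Group U] [Finite W] [Finite U]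

/-- **A3-FIB3.** Order `16`, `#U = 4`: if some fibre over `u ≠ 1` has exactly `3` elements
(fibres of size `3` together with `1` being subgroups) and not all three have, then `R` is
solvable. -/
theorem solv_of_fiber_three (hW : ∀ w : W, w * w = 1) (hU : ∀ u : U, u * u = 1) (q : W → U)
    (hq : IsQuadMap q) (R : Subgroup (MulAut W))
    (hR : ∀ g ∈ R, ∃ h : MulAut U, ∀ w, q (g w) = h (q w))
    (hcard : Nat.card W = 16) (hU4 : Nat.card U = 4) (hn0 : n0 q = 0)
    (u : U) (hu : u ≠ 1) (h3 : Nat.card {w : W // q w = u} = 3)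
    (hsub : ∀ v : U, v ≠ 1 → Nat.card {w : W // q w = v} = 3 →
      ∀ x y : W, q x = v → q y = v → x ≠ y → q (x * y) = v)
    (hnot3 : ∃ v : U, v ≠ 1 ∧ Nat.card {w : W // q w = v} ≠ 3) : Group.IsSolvable R :=
  fib3_core hW hU q hq R hR hcard hU4 hn0 u hu h3 hsub hnot3
    (fun R' N hN h1 h2 => solv_of_inv hW R' N hN h1 h2)
    (fun H hidx hH => solv_of_index_le_two H hidx hH)

end Abs

end Cfsg.Agent.Helper20.A3
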