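import Mathlib
import Cfsg.Agent.Lib.Helper20.A3Defs
import Cfsg.Agent.Lib.Helper17.A3CONST

/-!
# S3117 (helper20's farm-out), PIECE W8A core (helper23): order `8`, `#U = 2`, with the CLOS
statement as a hypothesis.
-/

set_option autoImplicit false
set_option linter.unusedSectionVars false
set_option linter.unusedVariables false

namespace Cfsg.Agent.Helper20.A3

section Abs

variable {W U : Type*} [Group W] [Group U] [Finite W] [Finite U]

/-- A group of order `2` has exactly one nontrivial element. -/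
theorem w8a_two (hU2 : Nat.card U = 2) : ∃ u : U, u ≠ 1 ∧ ∀ v : U, v = 1 ∨ v = u := by
  obtain ⟨a, b, hab, huniv⟩ := Nat.card_eq_two_iff.mp hU2
  have hmem : ∀ v : U, v = a ∨ v = b := by
    intro v
    have : v ∈ ({a, b} : Set U) := by rw [huniv]; exact Set.mem_univ v
    simpa using this
  rcases hmem 1 with h1 | h1
  · refine ⟨b, ?_, ?_⟩
    · rw [h1]; exact hab.symm
    · intro v
      rcases hmem v with h | h
      · left; rw [h, h1]
      · right; exact h
  · refine ⟨a, ?_, ?_⟩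
    · rw [h1]; exact hab
    · intro v
      rcases hmem v with h | h
      · right; exact h
      · left; rw [h, h1]

/-- **A3-W8A**, with CLOS as a hypothesis. -/
theorem w8a_core (hW : ∀ w : W, w * w = 1) (hU : ∀ u : U, u * u = 1) (q : W → U)
    (hq : IsQuadMap q) (R : Subgroup (MulAut W))
    (hR : ∀ g ∈ R, ∃ h : MulAut U, ∀ w, q (g w) = h (q w))
    (hcard : Nat.card W = 8) (hU2 : Nat.card U = 2) (hcount : n0 q ≤ 2)
    (hclos : ∀ T : Set W, (∀ t ∈ T, t ≠ 1) → T.Nonempty → Nat.card T ≤ 2 →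
      (∀ g ∈ R, ∀ t ∈ T, g t ∈ T) →
      ∃ N : Subgroup W, N ≠ ⊥ ∧ Nat.card N ≤ 4 ∧ ∀ g ∈ R, ∀ n ∈ N, g n ∈ N) :
    ∃ N : Subgroup W, N ≠ ⊥ ∧ Nat.card N ≤ 4 ∧ ∀ g ∈ R, ∀ n ∈ N, g n ∈ N := by
  obtain ⟨u, hu1, hu⟩ := w8a_two hU2
  refine hclos {w : W | w ≠ 1 ∧ q w = 1} (fun t ht => ht.1) ?_ ?_ ?_
  · by_contra hne
    rw [Set.not_nonempty_iff_eq_empty] at hne
    refine not_const hW hU q hq (by omega) u hu1 ?_
    intro w hw
    rcases hu (q w) with h | h
    · exfalso
      have : w ∈ {w : W | w ≠ 1 ∧ q w = 1} := ⟨hw, h⟩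
      rw [hne] at this
      exact this
    · exact h
  · unfold n0 at hcount
    exact hcount
  · rintro g hg t ⟨ht1, htq⟩
    obtain ⟨h, hh⟩ := hR g hg
    refine ⟨?_, ?_⟩
    · intro hgt
      apply ht1
      have : g t = g 1 := by rw [hgt, map_one]
      exact g.injective this
    · rw [hh, htq, map_one]

end Abs

end Cfsg.Agent.Helper20.A3
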