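import Mathlib
import Cfsg.Agent.Lib.Helper20.A3Defs
import Cfsg.Agent.Lib.Helper23.A3W8ACore
import Cfsg.Agent.Lib.Helper18.A3CLOS

/-!
# S3117 (helper20's farm-out), PIECE W8A (helper23): order `8`, `#U = 2`.
-/

set_option autoImplicit false
set_option linter.unusedSectionVars false
set_option linter.unusedVariables false

namespace Cfsg.Agent.Helper20.A3

section Abs

variable {W U : Type*} [Group W] [Group U] [Finite W] [Finite U]

/-- **A3-W8A.** Order `8`, `#U = 2`. -/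
theorem exists_inv_eight_two (hW : ∀ w : W, w * w = 1) (hU : ∀ u : U, u * u = 1) (q : W → U)
    (hq : IsQuadMap q) (R : Subgroup (MulAut W))
    (hR : ∀ g ∈ R, ∃ h : MulAut U, ∀ w, q (g w) = h (q w))
    (hcard : Nat.card W = 8) (hU2 : Nat.card U = 2) (hcount : n0 q ≤ 2) :
    ∃ N : Subgroup W, N ≠ ⊥ ∧ Nat.card N ≤ 4 ∧ ∀ g ∈ R, ∀ n ∈ N, g n ∈ N :=
  w8a_core hW hU q hq R hR hcard hU2 hcount
    (fun T hT1 hTne hTcard hTR =>
      exists_inv_of_small_set hW R (by omega) T hT1 hTne hTcard hTR)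

end Abs

end Cfsg.Agent.Helper20.A3
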