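import Mathlib
import Cfsg.Agent.Lib.Helper26.MHDefs

/-!
# S4221 piece P3SET (helper23): `φ = 3`, the fixed-point configuration of `V`
-/

set_option autoImplicit false
set_option linter.unusedSectionVars false
set_option linter.unusedVariables false

namespace Cfsg.Agent.Helper26.MH

open MulAction Cfsg.Agent.Helper22.SharpFour

namespace P3SET

variable {α : Type*} [DecidableEq α]

/-- a 3-element finset containing `r ≠ s` is `{r, s, w}` -/
theorem three_of (F : Finset α) (hc : F.card = 3) {r s : α} (hr : r ∈ F) (hs : s ∈ F) (hrs : r ≠ s) :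
    ∃ w ∈ F, w ≠ r ∧ w ≠ s ∧ ∀ x ∈ F, x = r ∨ x = s ∨ x = w := by
  have hs' : s ∈ F.erase r := Finset.mem_erase.2 ⟨hrs.symm, hs⟩
  have h1 : (F.erase r).card = 2 := by rw [Finset.card_erase_of_mem hr, hc]
  have h2 : ((F.erase r).erase s).card = 1 := by rw [Finset.card_erase_of_mem hs', h1]
  obtain ⟨w, hw⟩ := Finset.card_eq_one.1 h2
  have hwm : w ∈ (F.erase r).erase s := by rw [hw]; exact Finset.mem_singleton_self w
  have hw1 := Finset.mem_erase.1 hwm
  have hw2 := Finset.mem_erase.1 hw1.2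
  refine ⟨w, hw2.2, hw2.1, hw1.1, ?_⟩
  intro x hx
  by_cases hxr : x = r
  · exact Or.inl hxr
  by_cases hxs : x = s
  · exact Or.inr (Or.inl hxs)
  right; right
  have : x ∈ (F.erase r).erase s := Finset.mem_erase.2 ⟨hxs, Finset.mem_erase.2 ⟨hxr, hx⟩⟩
  rw [hw] at this
  exact Finset.mem_singleton.1 this

/-- a 3-element finset containing `w` is `{w, k, k'}` -/
theorem two_of (F : Finset α) (hc : F.card = 3) {w : α} (hw : w ∈ F) :
    ∃ k k' : α, k ∈ F ∧ k' ∈ F ∧ k ≠ k' ∧ w ≠ k ∧ w ≠ k' ∧ ∀ x ∈ F, x = w ∨ x = k ∨ x = k' := by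
  have h1 : (F.erase w).card = 2 := by rw [Finset.card_erase_of_mem hw, hc]
  obtain ⟨k, k', hkk', he⟩ := Finset.card_eq_two.1 h1
  have hk : k ∈ F.erase w := by rw [he]; simp
  have hk' : k' ∈ F.erase w := by rw [he]; simp
  have hk1 := Finset.mem_erase.1 hk
  have hk1' := Finset.mem_erase.1 hk'
  refine ⟨k, k', hk1.2, hk1'.2, hkk', fun e => hk1.1 e.symm, fun e => hk1'.1 e.symm, ?_⟩
  intro x hx
  by_cases hxw : x = w
  · exact Or.inl hxw
  right
  have : x ∈ F.erase w := Finset.mem_erase.2 ⟨hxw, hx⟩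
  rw [he] at this
  simpa using this

end P3SET

variable {G : Type*} [Group G] [Finite G] {α : Type*} [Fintype α] [DecidableEq α] [MulAction G α]

theorem exists_omega3 (h : Hall G α) (h8 : 8 ≤ Fintype.card α)
    (hphi : ∀ t : G, IsInv t → (fixF α t).card = 3) {p q r s : α} {a c : G} (hV : VData p q r s a c) :
    ∃ w k k' : α, Omega3 p q r s a c w k k' := by
  obtain ⟨hd, ha, hc, hcomm, ⟨ap, aq, ar, as⟩, ⟨cp, cq, cr, cs⟩⟩ := hV
  have haa : ∀ y : α, a • a • y = y := fun y => by rw [← mul_smul, ha.1, one_smul]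
  have hcc : ∀ y : α, c • c • y = y := fun y => by rw [← mul_smul, hc.1, one_smul]
  -- `b = a * c` is an involution
  have hb : IsInv (a * c) := by
    refine ⟨?_, ?_⟩
    · calc a * c * (a * c) = a * (c * a) * c := by group
        _ = a * (a * c) * c := by rw [hcomm]
        _ = (a * a) * (c * c) := by group
        _ = 1 := by rw [ha.1, hc.1, one_mul]
    · intro h1
      have : (a * c) • r = s := by rw [mul_smul, cr, as]
      rw [h1, one_smul] at this
      exact hd.cd this
  have bp : (a * c) • p = p := by rw [mul_smul, cp, aq]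
  have bq : (a * c) • q = q := by rw [mul_smul, cq, ap]
  -- Fix(a) = {r, s, w}
  obtain ⟨w, hwF, hwr, hws, hFa⟩ := P3SET.three_of (fixF α a) (hphi a ha) (mem_fixF.2 ar) (mem_fixF.2 as) hd.cd
  have aw : a • w = w := mem_fixF.1 hwF
  -- `c` permutes Fix(a), swaps `r`, `s`, so fixes `w`
  have hacw : a • (c • w) = c • w := by rw [← mul_smul, hcomm, mul_smul, aw]
  have cw : c • w = w := by
    rcases hFa (c • w) (mem_fixF.2 hacw) with e | e | e
    · exfalso
      have := congrArg (fun y => c • y) e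
      simp only [hcc, cr] at this
      exact hws this
    · exfalso
      have := congrArg (fun y => c • y) e
      simp only [hcc, cs] at this
      exact hwr this
    · exact e
  have bw : (a * c) • w = w := by rw [mul_smul, cw, aw]
  -- `w ≠ p, q`
  have hwp : w ≠ p := by
    intro e
    rw [e, ap] at aw
    exact hd.ab aw.symm
  have hwq : w ≠ q := by
    intro e
    rw [e, aq] at aw
    exact hd.ab aw
  -- Fix(b) = {p, q, w}
  obtain ⟨w', hw'F, hw'p, hw'q, hFb⟩ :=
    P3SET.three_of (fixF α (a * c)) (hphi _ hb) (mem_fixF.2 bp) (mem_fixF.2 bq) hd.ab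
  have hww' : w = w' := by
    rcases hFb w (mem_fixF.2 bw) with e | e | e
    · exact absurd e hwp
    · exact absurd e hwq
    · exact e
  subst hww'
  -- Fix(c) = {w, k, k'}
  obtain ⟨k, k', hkF, hk'F, hkk', hwk, hwk', hFc⟩ := P3SET.two_of (fixF α c) (hphi c hc) (mem_fixF.2 cw)
  have ck : c • k = k := mem_fixF.1 hkF
  have ck' : c • k' = k' := mem_fixF.1 hk'F
  -- `a` permutes Fix(c)
  have hcak : c • (a • k) = a • k := by rw [← mul_smul, ← hcomm, mul_smul, ck]
  have ak : a • k = k' := by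
    rcases hFc (a • k) (mem_fixF.2 hcak) with e | e | e
    · exfalso
      have := congrArg (fun y => a • y) e
      simp only [haa, aw] at this
      exact hwk this.symm
    · exfalso
      -- `k ∈ Fix(a) = {r, s, w}`, but `c` fixes `k` and moves `r`, `s`
      rcases hFa k (mem_fixF.2 e) with e' | e' | e'
      · rw [e', cr] at ck
        exact hd.cd ck.symm
      · rw [e', cs] at ck
        exact hd.cd ck
      · exact hwk e'.symm
    · exact e
  exact ⟨w, k, k', ⟨aw, cw, ck, ck', ak, hkk', hwk, hwk',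
    fun x hx => hFa x (mem_fixF.2 hx), fun x hx => hFb x (mem_fixF.2 hx), fun x hx => hFc x (mem_fixF.2 hx)⟩⟩

/-- the configuration for the 4-set `{p,q,k,k'}`: `c = (p q)(k)(k')` is of type a, `a = (p q)(k k')` of type c -/
theorem Omega3.rot {p q r s : α} {a c : G} {w k k' : α} (hV : VData p q r s a c)
    (hO : Omega3 p q r s a c w k k') : VData p q k k' c a ∧ Omega3 p q k k' c a w r s := by
  obtain ⟨hd, ha, hc, hcomm, ⟨ap, aq, ar, as⟩, ⟨cp, cq, cr, cs⟩⟩ := hV
  obtain ⟨aw, cw, ck, ck', ak, hkk', hwk, hwk', fa, fb, fc⟩ := hO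
  have haa : ∀ y : α, a • a • y = y := fun y => by rw [← mul_smul, ha.1, one_smul]
  have ak' : a • k' = k := by rw [← ak, haa]
  have hpk : p ≠ k := by
    intro e
    rw [← e, cp] at ck
    exact hd.ab ck.symm
  have hpk' : p ≠ k' := by
    intro e
    rw [← e, cp] at ck'
    exact hd.ab ck'.symm
  have hqk : q ≠ k := by
    intro e
    rw [← e, cq] at ck
    exact hd.ab ck
  have hqk' : q ≠ k' := by
    intro e
    rw [← e, cq] at ck'
    exact hd.ab ck'
  have hwr : w ≠ r := by
    intro e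
    rw [e, cr] at cw
    exact hd.cd cw.symm
  have hws : w ≠ s := by
    intro e
    rw [e, cs] at cw
    exact hd.cd cw
  refine ⟨⟨⟨hd.ab, hpk, hpk', hqk, hqk', hkk'⟩, hc, ha, hcomm.symm, ⟨cp, cq, ck, ck'⟩, ⟨ap, aq, ak, ak'⟩⟩,
    ⟨cw, aw, ar, as, cr, hd.cd, hwr, hws, ?_, ?_, ?_⟩⟩
  · intro x hx
    rcases fc x hx with e | e | e
    · exact Or.inr (Or.inr e)
    · exact Or.inl e
    · exact Or.inr (Or.inl e)
  · intro x hx
    rw [← hcomm] at hx
    exact fb x hx
  · intro x hx
    rcases fa x hx with e | e | e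
    · exact Or.inr (Or.inl e)
    · exact Or.inr (Or.inr e)
    · exact Or.inl e

end Cfsg.Agent.Helper26.MH
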