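import Mathlib
import Cfsg.Agent.Lib.Helper6.SL2Hom

/-!
# OINV-S1-SL2ABS (helper23, for helper25's OINV-S1): two facts on `SL₂(F)` and an element `t` acting on the image of
`φ : SL₂(F) →* G` as conjugation by `M = [[0,1],[γ,0]]`.

`sl2abs_tw γ hγ A = M A M⁻¹`; `t φ(A) t⁻¹ = φ(tw A)` for all `A` (submonoid argument), so
`φ A * t * (φ A)⁻¹ = φ (A * tw A⁻¹) * t`, and two explicit matrices `A`.
-/

set_option autoImplicit false
set_option linter.unusedSectionVars false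
set_option linter.unusedVariables false

namespace Cfsg.Agent.Helper25.OInv

open Cfsg.Agent.Helper6.SL2Hom Matrix

section abs

variable {F : Type*} [Field F] {G : Type*} [Group G]

/-- `M A M⁻¹` for `M = [[0,1],[γ,0]]` -/
def sl2abs_tw (γ : F) (hγ : γ ≠ 0) (A : SpecialLinearGroup (Fin 2) F) : SpecialLinearGroup (Fin 2) F :=
  ⟨!![A 1 1, A 1 0 / γ; γ * A 0 1, A 0 0], by
    have hd := det_eq A
    rw [Matrix.det_fin_two]
    simp only [Matrix.of_apply, Matrix.cons_val', Matrix.cons_val_zero, Matrix.cons_val_one,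
      Matrix.empty_val', Matrix.cons_val_fin_one]
    field_simp
    linear_combination hd⟩

theorem sl2abs_tw_coe (γ : F) (hγ : γ ≠ 0) (A : SpecialLinearGroup (Fin 2) F) :
    ((sl2abs_tw γ hγ A : SpecialLinearGroup (Fin 2) F) : Matrix (Fin 2) (Fin 2) F) =
      !![A 1 1, A 1 0 / γ; γ * A 0 1, A 0 0] := rfl

theorem sl2abs_tw_one (γ : F) (hγ : γ ≠ 0) : sl2abs_tw γ hγ 1 = 1 := by
  apply Matrix.SpecialLinearGroup.ext
  intro i j
  fin_cases i <;> fin_cases j <;> simp [sl2abs_tw_coe]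

theorem sl2abs_tw_mul (γ : F) (hγ : γ ≠ 0) (A B : SpecialLinearGroup (Fin 2) F) :
    sl2abs_tw γ hγ (A * B) = sl2abs_tw γ hγ A * sl2abs_tw γ hγ B := by
  apply Matrix.SpecialLinearGroup.ext
  intro i j
  fin_cases i <;> fin_cases j <;>
    simp [sl2abs_tw_coe, Matrix.mul_apply, Fin.sum_univ_two] <;> field_simp <;> ring

theorem sl2abs_tw_xS (γ : F) (hγ : γ ≠ 0) (u : F) : sl2abs_tw γ hγ (xS u) = yS (γ * u) := by
  apply Matrix.SpecialLinearGroup.ext
  intro i j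
  fin_cases i <;> fin_cases j <;> simp [sl2abs_tw_coe, xS_coe, yS_coe]

theorem sl2abs_tw_yS (γ : F) (hγ : γ ≠ 0) (u : F) : sl2abs_tw γ hγ (yS u) = xS (γ⁻¹ * u) := by
  apply Matrix.SpecialLinearGroup.ext
  intro i j
  fin_cases i <;> fin_cases j <;> simp [sl2abs_tw_coe, xS_coe, yS_coe, div_eq_inv_mul]

theorem sl2abs_nS_eq : nS F = xS 1 * yS (-1) * xS 1 := by
  apply Matrix.SpecialLinearGroup.ext
  intro i j
  fin_cases i <;> fin_cases j <;>
    simp [xS_coe, yS_coe, nS_coe, Matrix.mul_apply, Fin.sum_univ_two]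

/-- `t` acts on the image of `φ` as `tw` -/
theorem sl2abs_conj (φ : SpecialLinearGroup (Fin 2) F →* G) (t : G) (γ : F) (hγ : γ ≠ 0)
    (hx : ∀ u, t * φ (xS u) * t⁻¹ = φ (yS (γ * u))) (hy : ∀ u, t * φ (yS u) * t⁻¹ = φ (xS (γ⁻¹ * u)))
    (A : SpecialLinearGroup (Fin 2) F) : t * φ A * t⁻¹ = φ (sl2abs_tw γ hγ A) := by
  let S : Submonoid (SpecialLinearGroup (Fin 2) F) :=
    { carrier := {A | t * φ A * t⁻¹ = φ (sl2abs_tw γ hγ A)}
      one_mem' := by
        show t * φ 1 * t⁻¹ = φ (sl2abs_tw γ hγ 1)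
        rw [sl2abs_tw_one, map_one, mul_one, mul_inv_cancel]
      mul_mem' := by
        intro A B hA hB
        show t * φ (A * B) * t⁻¹ = φ (sl2abs_tw γ hγ (A * B))
        have hA' : t * φ A * t⁻¹ = φ (sl2abs_tw γ hγ A) := hA
        have hB' : t * φ B * t⁻¹ = φ (sl2abs_tw γ hγ B) := hB
        rw [sl2abs_tw_mul, map_mul, map_mul, ← hA', ← hB']
        group }
  have hxS : ∀ u, xS u ∈ S := by
    intro u
    show t * φ (xS u) * t⁻¹ = φ (sl2abs_tw γ hγ (xS u))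
    rw [sl2abs_tw_xS, hx]
  have hyS : ∀ u, yS u ∈ S := by
    intro u
    show t * φ (yS u) * t⁻¹ = φ (sl2abs_tw γ hγ (yS u))
    rw [sl2abs_tw_yS, hy]
  have hnS : nS F ∈ S := by
    rw [sl2abs_nS_eq]
    exact mul_mem (mul_mem (hxS _) (hyS _)) (hxS _)
  have hle : Submonoid.closure (({nS F} : Set (SpecialLinearGroup (Fin 2) F)) ∪ Set.range xS) ≤ S := by
    rw [Submonoid.closure_le]
    rintro B (hB | ⟨u, rfl⟩)
    · rw [Set.mem_singleton_iff] at hB
      rw [hB]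
      exact hnS
    · exact hxS u
  exact hle (mem_closure A)

/-- conjugating `t` by `φ A` -/
theorem sl2abs_conj_t (φ : SpecialLinearGroup (Fin 2) F →* G) (t : G) (γ : F) (hγ : γ ≠ 0)
    (hx : ∀ u, t * φ (xS u) * t⁻¹ = φ (yS (γ * u))) (hy : ∀ u, t * φ (yS u) * t⁻¹ = φ (xS (γ⁻¹ * u)))
    (A : SpecialLinearGroup (Fin 2) F) :
    φ A * t * (φ A)⁻¹ = φ (A * sl2abs_tw γ hγ A⁻¹) * t := by
  have h := sl2abs_conj φ t γ hγ hx hy A⁻¹
  rw [map_mul, ← h, map_inv]
  group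

/-- SL2ABS (1) -/
theorem sl2_reduce (φ : SpecialLinearGroup (Fin 2) F →* G) (t : G) (γ : F) (hγ : γ ≠ 0)
    (hx : ∀ u, t * φ (xS u) * t⁻¹ = φ (yS (γ * u))) (hy : ∀ u, t * φ (yS u) * t⁻¹ = φ (xS (γ⁻¹ * u)))
    (h2 : (2 : F) ≠ 0) (e : F) (he : γ = e * e) :
    ∃ A : SpecialLinearGroup (Fin 2) F, φ A * t * (φ A)⁻¹ = φ (xS e⁻¹ * yS (-e) * xS e⁻¹) * t := by
  have he0 : e ≠ 0 := by
    rintro rfl
    exact hγ (by rw [he, mul_zero])
  let A : SpecialLinearGroup (Fin 2) F := ⟨!![e, 1; -(1 / 2), 1 / (2 * e)], by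
    rw [Matrix.det_fin_two]
    simp only [Matrix.of_apply, Matrix.cons_val', Matrix.cons_val_zero, Matrix.cons_val_one,
      Matrix.empty_val', Matrix.cons_val_fin_one]
    field_simp
    ring⟩
  have hA : (A : Matrix (Fin 2) (Fin 2) F) = !![e, 1; -(1 / 2), 1 / (2 * e)] := rfl
  refine ⟨A, ?_⟩
  rw [sl2abs_conj_t φ t γ hγ hx hy A]
  congr 2
  apply Matrix.SpecialLinearGroup.ext
  intro i j
  subst he
  fin_cases i <;> fin_cases j <;>
    simp [sl2abs_tw_coe, xS_coe, yS_coe, hA, Matrix.mul_apply, Fin.sum_univ_two,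
      Matrix.SpecialLinearGroup.coe_inv, Matrix.adjugate_fin_two] <;> field_simp <;> ring

/-- over a finite field of odd order, `X² - γ b²` takes every value -/
theorem sl2abs_exists_norm [Fintype F] (hodd : Odd (Fintype.card F)) (γ : F) (hγ : γ ≠ 0) (v : F) :
    ∃ X b : F, X * X - γ * b * b = v := by
  have hcard : Fintype.card F % 2 = 1 := Nat.odd_iff.1 hodd
  have hf : (Polynomial.X ^ 2 - Polynomial.C v : Polynomial F).degree = 2 := by
    rw [Polynomial.degree_X_pow_sub_C (by norm_num)]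
    rfl
  have hg : (Polynomial.C (-γ) * Polynomial.X ^ 2 : Polynomial F).degree = 2 := by
    rw [Polynomial.degree_C_mul_X_pow _ (neg_ne_zero.2 hγ)]
    rfl
  obtain ⟨a, b, hab⟩ := FiniteField.exists_root_sum_quadratic hf hg hcard
  refine ⟨a, b, ?_⟩
  simp only [Polynomial.eval_sub, Polynomial.eval_pow, Polynomial.eval_X, Polynomial.eval_C,
    Polynomial.eval_mul] at hab
  linear_combination hab

/-- SL2ABS (2) -/
theorem sl2_move [Fintype F] (hodd : Odd (Fintype.card F)) (φ : SpecialLinearGroup (Fin 2) F →* G) (t : G) (γ : F)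
    (hγ : γ ≠ 0) (hx : ∀ u, t * φ (xS u) * t⁻¹ = φ (yS (γ * u)))
    (hy : ∀ u, t * φ (yS u) * t⁻¹ = φ (xS (γ⁻¹ * u))) (v : F) (hv : v ≠ 0) :
    ∃ A : SpecialLinearGroup (Fin 2) F,
      φ A * t * (φ A)⁻¹ = φ (xS v * yS (-v⁻¹) * xS v * (xS 1 * yS (-1) * xS 1)⁻¹) * t := by
  obtain ⟨X, b, hXb⟩ := sl2abs_exists_norm hodd γ hγ v
  let A : SpecialLinearGroup (Fin 2) F := ⟨!![X, b; γ * b / v, X / v], by
    rw [Matrix.det_fin_two]
    simp only [Matrix.of_apply, Matrix.cons_val', Matrix.cons_val_zero, Matrix.cons_val_one,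
      Matrix.empty_val', Matrix.cons_val_fin_one]
    field_simp
    linear_combination hXb⟩
  have hA : (A : Matrix (Fin 2) (Fin 2) F) = !![X, b; γ * b / v, X / v] := rfl
  refine ⟨A, ?_⟩
  rw [sl2abs_conj_t φ t γ hγ hx hy A]
  congr 2
  rw [eq_mul_inv_iff_mul_eq]
  apply Matrix.SpecialLinearGroup.ext
  intro i j
  fin_cases i <;> fin_cases j <;>
    simp [sl2abs_tw_coe, xS_coe, yS_coe, hA, Matrix.mul_apply, Fin.sum_univ_two,
      Matrix.SpecialLinearGroup.coe_inv, Matrix.adjugate_fin_two] <;> field_simp <;>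
    first | linear_combination hXb | linear_combination (-1 : F) * hXb | ring

end abs

end Cfsg.Agent.Helper25.OInv
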