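import Mathlib
import Cfsg.Agent.Lib.Helper25.OInvDefs
import Cfsg.Agent.Lib.Helper6.ChevLSL2
import Cfsg.Agent.Lib.Helper23.OInvSL2ABS

/-!
# OINV-S1-SL2CHEV (helper23, for helper25's OINV-S1): the two rank-one moves in the Chevalley group.

`swap_reduce` (Lemma R) and `swap_move` (Lemma B) from `sl2_reduce`, `sl2_move` with
`φ = (rankOne_root hF hd β hβ).hom`.
-/

set_option autoImplicit false
set_option linter.unusedSectionVars false
set_option linter.unusedVariables false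

namespace Cfsg.Agent.Helper25.OInv

open Cfsg Cfsg.Lie Cfsg.Agent.Lead.Chev Cfsg.Agent.Helper13.InvN Cfsg.Agent.Helper6.ChevL
  Cfsg.Agent.Helper6.SL2Hom Matrix

variable {F : Type*} [Field F] {D : ChevalleyDatum} (hF : ChevFacts D F)
include hF

/-- the image of the rank-one homomorphism lies in the Chevalley group -/
theorem sl2chev_hom_mem (hd : ∀ j < D.rank, D.cartan j (D.simple j) = 2) (β : ℕ) (hβ : β < D.nroots)
    (A : SpecialLinearGroup (Fin 2) F) : (rankOne_root hF hd β hβ).hom A ∈ D.group F := by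
  have h1 : (rankOne_root hF hd β hβ).hom A ∈ (rankOne_root hF hd β hβ).hom.range := ⟨A, rfl⟩
  rw [(rankOne_root hF hd β hβ).hom_range] at h1
  have hle : Subgroup.closure (Set.range (xGL D hF.xadd β)) ⊔
      Subgroup.closure (Set.range (xGL D hF.xadd (D.neg β))) ≤ D.group F := by
    apply sup_le
    · rw [Subgroup.closure_le]
      rintro _ ⟨u, rfl⟩
      exact xGL_mem_group D hF.xadd β u
    · rw [Subgroup.closure_le]
      rintro _ ⟨u, rfl⟩
      exact xGL_mem_group D hF.xadd (D.neg β) u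
  exact hle h1

/-- the image of `x(a) y(-a⁻¹) x(a)` is `n_β(a)` -/
theorem sl2chev_hom_n (hd : ∀ j < D.rank, D.cartan j (D.simple j) = 2) (β : ℕ) (hβ : β < D.nroots) (a : F) :
    (rankOne_root hF hd β hβ).hom (xS a * yS (-a⁻¹) * xS a) = nGLt D hF.xadd β a := by
  rw [map_mul, map_mul, (rankOne_root hF hd β hβ).hom_xS, (rankOne_root hF hd β hβ).hom_yS, nGLt_eq]

/-- SL2CHEV (1) = Lemma R: if the factor is a square, `t` is conjugate to `h_β(a) n_β t` -/
theorem swap_reduce (hd : ∀ j < D.rank, D.cartan j (D.simple j) = 2) (β : ℕ) (hβ : β < D.nroots)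
    (t : GL D.Idx F) (γ : F) (hγ : γ ≠ 0) (hsw : Swap hF t β γ) (h2 : (2 : F) ≠ 0) (hsq : IsSquare γ) :
    ∃ g ∈ D.group F, ∃ a : F, a ≠ 0 ∧ g * t * g⁻¹ = hGLt D hF.xadd β a * nGL D hF.xadd β * t := by
  obtain ⟨e, he⟩ := hsq
  have he0 : e ≠ 0 := by
    rintro rfl
    exact hγ (by rw [he, mul_zero])
  have hx : ∀ u, t * (rankOne_root hF hd β hβ).hom (xS u) * t⁻¹ =
      (rankOne_root hF hd β hβ).hom (yS (γ * u)) := by
    intro u
    rw [(rankOne_root hF hd β hβ).hom_xS, (rankOne_root hF hd β hβ).hom_yS]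
    exact hsw.1 u
  have hy : ∀ u, t * (rankOne_root hF hd β hβ).hom (yS u) * t⁻¹ =
      (rankOne_root hF hd β hβ).hom (xS (γ⁻¹ * u)) := by
    intro u
    rw [(rankOne_root hF hd β hβ).hom_xS, (rankOne_root hF hd β hβ).hom_yS]
    exact hsw.2 u
  obtain ⟨A, hA⟩ := sl2_reduce (rankOne_root hF hd β hβ).hom t γ hγ hx hy h2 e he
  refine ⟨_, sl2chev_hom_mem hF hd β hβ A, e⁻¹, inv_ne_zero he0, ?_⟩
  rw [hA]
  have h3 := sl2chev_hom_n hF hd β hβ e⁻¹
  rw [inv_inv] at h3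
  rw [h3, nGLt_eq_hGLt_mul, nGL_eq_nGLt]

/-- SL2CHEV (2) = Lemma B: `t` is conjugate to `h_β(v) t` for every `v ≠ 0` -/
theorem swap_move [Fintype F] (hodd : Odd (Fintype.card F)) (hd : ∀ j < D.rank, D.cartan j (D.simple j) = 2)
    (β : ℕ) (hβ : β < D.nroots) (t : GL D.Idx F) (γ : F) (hγ : γ ≠ 0) (hsw : Swap hF t β γ) (v : F) (hv : v ≠ 0) :
    ∃ g ∈ D.group F, g * t * g⁻¹ = hGLt D hF.xadd β v * t := by
  have hx : ∀ u, t * (rankOne_root hF hd β hβ).hom (xS u) * t⁻¹ =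
      (rankOne_root hF hd β hβ).hom (yS (γ * u)) := by
    intro u
    rw [(rankOne_root hF hd β hβ).hom_xS, (rankOne_root hF hd β hβ).hom_yS]
    exact hsw.1 u
  have hy : ∀ u, t * (rankOne_root hF hd β hβ).hom (yS u) * t⁻¹ =
      (rankOne_root hF hd β hβ).hom (xS (γ⁻¹ * u)) := by
    intro u
    rw [(rankOne_root hF hd β hβ).hom_xS, (rankOne_root hF hd β hβ).hom_yS]
    exact hsw.2 u
  obtain ⟨A, hA⟩ := sl2_move hodd (rankOne_root hF hd β hβ).hom t γ hγ hx hy v hv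
  refine ⟨_, sl2chev_hom_mem hF hd β hβ A, ?_⟩
  rw [hA]
  congr 1
  have h3 := sl2chev_hom_n hF hd β hβ v
  have h4 := sl2chev_hom_n hF hd β hβ 1
  rw [inv_one] at h4
  rw [map_mul, map_inv, h3, h4, nGLt_eq_hGLt_mul D hF.xadd β v, mul_inv_cancel_right]

end Cfsg.Agent.Helper25.OInv
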