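import Mathlib
import Cfsg.Agent.Lib.Helper2.AICDefs
import Cfsg.Agent.Lib.Helper2.AICDefs2
import Cfsg.Agent.Lib.Helper2.AICGEN
import Cfsg.Agent.Lib.Helper2.AICBAS1
import Cfsg.Agent.Lib.Helper4.AICBAS2
import Cfsg.Agent.Lib.Helper13.AICINV

/-!
# S2202, piece E5 (helper23): `Kn_le_of_sq`

Self-contained (does not use piece E1: the order of the image of an involution of `P` in `HQ Z` is
re-proved locally as `e5_orderOf_mk`).
-/

set_option autoImplicit false
set_option linter.unusedSectionVars false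

namespace Cfsg.Agent.Helper2.AIC

variable {G : Type*} [Group G] [Finite G]

/-- local copy of `orderOf_mk_inv` (piece E1), to be independent of it -/
theorem e5_orderOf_mk (c : Cfg G) {Z : Subgroup G} {P : Sylow 2 G} (hZP : Z ≤ Kn P) {s : G}
    (hs : s ∈ P) (hso : orderOf s = 2) (hsH : s ∈ Subgroup.centralizer (Z : Set G)) :
    orderOf (QuotientGroup.mk (⟨s, hsH⟩ : ↥(Subgroup.centralizer (Z : Set G))) : HQ Z) = 2 := by
  apply orderOf_eq_prime
  · rw [← QuotientGroup.mk_pow]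
    have h1 : (⟨s, hsH⟩ : ↥(Subgroup.centralizer (Z : Set G))) ^ 2 = 1 := by
      apply Subtype.ext
      show s ^ 2 = 1
      rw [← hso]; exact pow_orderOf_eq_one s
    rw [h1]; rfl
  · intro h
    rw [QuotientGroup.eq_one_iff, mem_ZH] at h
    have h2 := ((c.mem_Kn_iff P).1 (hZP h)).2
    rw [hso] at h2
    exact absurd h2 (by decide)

/-- `Cn P` centralizes `Z ≤ Kn P` -/
theorem e5_Cn_le (c : Cfg G) {Z : Subgroup G} {P : Sylow 2 G} (hZP : Z ≤ Kn P) :
    Cn P ≤ Subgroup.centralizer (Z : Set G) := by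
  intro x hx
  rw [Subgroup.mem_centralizer_iff]
  intro z hz
  exact c.comm_Cn P z (c.Kn_le_Cn P (hZP hz)) x hx

/-- squares of elements of `Cn P` lie in `Z` -/
theorem e5_sq_mem (c : Cfg G) {Z : Subgroup G} {P : Sylow 2 G} (hZP : Z ≤ Kn P)
    (hB : ∀ t : HQ Z, orderOf t = 2 → ∀ x ∈ Subgroup.centralizer ({t} : Set (HQ Z)), x ^ 2 = 1)
    {x : G} (hx : x ∈ Cn P) : x ^ 2 ∈ Z := by
  obtain ⟨s, hs, hso⟩ := c.exists_inv P
  have hCnH := e5_Cn_le c hZP
  have hsH : s ∈ Subgroup.centralizer (Z : Set G) := hCnH (c.sylow_le_Cn P hs)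
  have hπs := e5_orderOf_mk c hZP hs hso hsH
  have hxH := hCnH hx
  have hcomm : (QuotientGroup.mk (⟨x, hxH⟩ : ↥(Subgroup.centralizer (Z : Set G))) : HQ Z) ∈
      Subgroup.centralizer
        ({(QuotientGroup.mk (⟨s, hsH⟩ : ↥(Subgroup.centralizer (Z : Set G))) : HQ Z)} :
          Set (HQ Z)) := by
    rw [Subgroup.mem_centralizer_singleton_iff, ← QuotientGroup.mk_mul, ← QuotientGroup.mk_mul]
    congr 1
    apply Subtype.ext
    exact c.comm_Cn P x hx s (c.sylow_le_Cn P hs)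
  have h := hB _ hπs _ hcomm
  rw [← QuotientGroup.mk_pow, QuotientGroup.eq_one_iff, mem_ZH] at h
  exact h

/-- PIECE E5 -/
theorem Kn_le_of_sq (c : Cfg G) {Z : Subgroup G} {P : Sylow 2 G} (hZP : Z ≤ Kn P)
    (hB : ∀ t : HQ Z, orderOf t = 2 → ∀ x ∈ Subgroup.centralizer ({t} : Set (HQ Z)), x ^ 2 = 1) :
    Kn P ≤ Z ∧ ∀ x ∈ P, x ^ 2 = 1 := by
  constructor
  · intro k hk
    obtain ⟨hkC, hkodd⟩ := (c.mem_Kn_iff P).1 hk
    have h2 := e5_sq_mem c hZP hB hkC
    obtain ⟨m, hm⟩ := hkodd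
    have e : k = (k ^ 2) ^ (m + 1) := by
      rw [← pow_mul]
      have e2 : 2 * (m + 1) = orderOf k + 1 := by omega
      rw [e2, pow_succ, pow_orderOf_eq_one, one_mul]
    rw [e]
    exact Subgroup.pow_mem _ h2 _
  · intro x hx
    have h2 := e5_sq_mem c hZP hB (c.sylow_le_Cn P hx)
    have hodd := ((c.mem_Kn_iff P).1 (hZP h2)).2
    obtain ⟨n, hn⟩ := bas2_orderOf_of_mem hx
    apply inv_eq_one_of_odd_of_two_pow hodd (n := n)
    rw [← pow_mul, mul_comm, pow_mul, ← hn, pow_orderOf_eq_one, one_pow]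

end Cfsg.Agent.Helper2.AIC
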