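import Mathlib
import Cfsg.Agent.Lib.Helper2.AICDefs
import Cfsg.Agent.Lib.Helper2.AICGEN
import Cfsg.Agent.Lib.Helper2.AICBAS1

/-! S2202 piece D6 (helper23): core, with the facts from pieces ORB / D5A as hypotheses. -/

set_option autoImplicit false
set_option linter.unusedSectionVars false

namespace Cfsg.Agent.Helper2.AIC

variable {G : Type*} [Group G] [Finite G]

/-- `|H ⊔ N| * |H ⊓ N| = |H| * |N|` when `H` normalizes `N`. -/
theorem d6_card_sup (H N : Subgroup G) (hLE : H ≤ Subgroup.normalizer (N : Set G)) :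
    Nat.card (H ⊔ N : Subgroup G) * Nat.card (H ⊓ N : Subgroup G) = Nat.card H * Nat.card N := by
  have hcm : ∀ {A B : Subgroup G}, A ≤ B → A.relIndex B * Nat.card A = Nat.card B := by
    intro A B hAB
    have := Subgroup.relIndex_mul_relIndex (⊥ : Subgroup G) A B bot_le hAB
    rw [Subgroup.relIndex_bot_left, Subgroup.relIndex_bot_left] at this
    rw [mul_comm]; exact this
  have h1 : N.relIndex H = N.relIndex (H ⊔ N) := by
    have i1 := Subgroup.normal_subgroupOf_of_le_normalizer hLE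
    have i2 := Subgroup.normal_subgroupOf_sup_of_le_normalizer hLE
    rw [Subgroup.relIndex, Subgroup.relIndex, Subgroup.index_eq_card, Subgroup.index_eq_card]
    exact Nat.card_congr (QuotientGroup.quotientInfEquivProdNormalizerQuotient H N hLE).toEquiv
  have h2 : N.relIndex (H ⊔ N) * Nat.card N = Nat.card (H ⊔ N : Subgroup G) :=
    hcm le_sup_right
  have h3 : (H ⊓ N).relIndex H * Nat.card (H ⊓ N : Subgroup G) = Nat.card H :=
    hcm inf_le_left
  have h4 : (H ⊓ N).relIndex H = N.relIndex H := Subgroup.inf_relIndex_left H N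
  rw [← h2, ← h1, ← h3, h4]; ring

theorem d6_core (c : Cfg G) {P R1 : Sylow 2 G} (X' : Subgroup G)
    (hXn : X' ≤ Subgroup.normalizer ((Kn P : Subgroup G) : Set G))
    (hK1 : Kn R1 = Kn P)
    (hfix : X' ⊓ Mn P ≤ Mn R1)
    (hcardDn : Nat.card (Dn P R1) = nInv P * Nat.card (Kn P ⊓ Mn R1 : Subgroup G))
    (hcardDp : Nat.card (X' ⊓ Mn P : Subgroup G) = nInv P * Nat.card (X' ⊓ Kn P : Subgroup G)) :
    Dn P R1 = (X' ⊓ Mn P) ⊔ Kn P := by
  have hKP : Kn P ≤ Mn P := c.Kn_le_Mn P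
  have hKR : Kn P ≤ Mn R1 := hK1 ▸ c.Kn_le_Mn R1
  have hle : (X' ⊓ Mn P) ⊔ Kn P ≤ Dn P R1 := by
    refine sup_le (le_inf inf_le_right hfix) (le_inf hKP hKR)
  have hinf : (X' ⊓ Mn P) ⊓ Kn P = X' ⊓ Kn P := by
    rw [inf_assoc, inf_of_le_right hKP]
  have hprod := d6_card_sup (X' ⊓ Mn P) (Kn P) (inf_le_left.trans hXn)
  rw [hinf, hcardDp] at hprod
  have hpos : 0 < Nat.card (X' ⊓ Kn P : Subgroup G) := Nat.card_pos
  have hcard : Nat.card ((X' ⊓ Mn P) ⊔ Kn P : Subgroup G) = nInv P * Nat.card (Kn P) := by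
    have : Nat.card ((X' ⊓ Mn P) ⊔ Kn P : Subgroup G) * Nat.card (X' ⊓ Kn P : Subgroup G) =
        (nInv P * Nat.card (Kn P)) * Nat.card (X' ⊓ Kn P : Subgroup G) := by
      rw [hprod]; ring
    exact Nat.eq_of_mul_eq_mul_right hpos this
  have hDn : Nat.card (Dn P R1) = nInv P * Nat.card (Kn P) := by
    rw [hcardDn, inf_of_le_left hKR]
  refine (Subgroup.eq_of_le_of_card_ge hle ?_).symm
  rw [hcard, hDn]

end Cfsg.Agent.Helper2.AIC
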