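import Mathlib
import Cfsg.Agent.Lib.Helper23.AICD6Core
import Cfsg.Agent.Lib.Helper24.AICORB
import Cfsg.Agent.Lib.Helper16.AICD5A

/-! S2202 piece D6 (helper23): `Dn_eq_of_fix`, exact skeleton signature. -/

set_option autoImplicit false
set_option linter.unusedSectionVars false

namespace Cfsg.Agent.Helper2.AIC

variable {G : Type*} [Group G] [Finite G]

/-! ### PIECE D6 -/
theorem Dn_eq_of_fix (c : Cfg G) {P : Sylow 2 G} (hne : ∃ R : Sylow 2 G, Kn R ≠ Kn P) {u : G}
    (hu : orderOf u = 2) (huX : u ∉ Subgroup.normalizer ((Kn P : Subgroup G) : Set G))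
    {R1 : Sylow 2 G} (h1 : R1 ≠ P) (hK1 : Kn R1 = Kn P)
    (hfix : (Subgroup.normalizer ((Kn P : Subgroup G) : Set G) ⊓
        (Subgroup.normalizer ((Kn P : Subgroup G) : Set G)).map (MulAut.conj u).toMonoidHom ⊓
        Mn P : Subgroup G) ≤ Mn R1) :
    Dn P R1 = (Subgroup.normalizer ((Kn P : Subgroup G) : Set G) ⊓
        (Subgroup.normalizer ((Kn P : Subgroup G) : Set G)).map (MulAut.conj u).toMonoidHom ⊓
        Mn P : Subgroup G) ⊔ Kn P :=
  d6_core c _ inf_le_left hK1 hfix (c.card_Dn (Ne.symm h1)) (card_Dp_stab c hne hu huX)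

end Cfsg.Agent.Helper2.AIC
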