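import Mathlib
import Cfsg.Agent.Lib.Helper2.AICDefs
import Cfsg.Agent.Lib.Helper2.AICGEN
import Cfsg.Agent.Lib.Helper2.AICBAS1

/-! S2202 piece D7 (helper23): core, with the facts from pieces SE / FACT / ORB / BAS2 / D2 as
hypotheses. -/

set_option autoImplicit false
set_option linter.unusedSectionVars false
set_option linter.unusedVariables false

namespace Cfsg.Agent.Helper2.AIC

variable {G : Type*} [Group G] [Finite G]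

/-- the external facts used by D7 -/
structure D7Facts (G : Type*) [Group G] [Finite G] : Prop where
  exists_swap : ∀ {P Q : Sylow 2 G}, P ≠ Q → ∃ u : G, orderOf u = 2 ∧ u • P = Q
  odd_card_Dn : ∀ {P Q : Sylow 2 G}, P ≠ Q → Odd (Nat.card (Dn P Q))
  fact_odd : ∀ {D : Subgroup G}, Odd (Nat.card D) → ∀ {u : G}, orderOf u = 2 →
    (∀ d ∈ D, u * d * u⁻¹ ∈ D) → ∀ {d : G}, d ∈ D →
    ∃ c ∈ D, ∃ y ∈ D, u * c * u⁻¹ = c ∧ u * y * u⁻¹ = y⁻¹ ∧ d = c * y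
  inv_normalizer_Kn : ∀ {P : Sylow 2 G} {v : G}, orderOf v = 2 →
    v ∈ Subgroup.normalizer ((Kn P : Subgroup G) : Set G) → ∀ {R : Sylow 2 G}, v ∈ R →
    Kn R = Kn P ∧ ∀ k ∈ Kn P, v * k * v⁻¹ = k
  Mn_eq_mul : ∀ {P Q : Sylow 2 G}, P ≠ Q → ∀ {m : G}, m ∈ Mn P →
    ∃ x ∈ Cn P, ∃ d ∈ Dn P Q, m = x * d
  Dn_inf_Cn : ∀ {P Q : Sylow 2 G}, P ≠ Q → Dn P Q ⊓ Cn P = Kn P ⊓ Mn Q
  card_Dn : ∀ {P Q : Sylow 2 G}, P ≠ Q →
    Nat.card (Dn P Q) = nInv P * Nat.card (Kn P ⊓ Mn Q : Subgroup G)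
  three_le_nInv : ∀ P : Sylow 2 G, 3 ≤ nInv P

/-- an involution swapping two points `A`, `B` of the block of `P` normalizes `D_{AB}` and inverts
it modulo `K`. -/
theorem d7_inverts (c : Cfg G) (F : D7Facts G) {P A B : Sylow 2 G} (hAB : A ≠ B)
    (hKA : Kn A = Kn P) (hKB : Kn B = Kn P) {v : G} (hv : orderOf v = 2) (hvA : v • A = B) :
    ∀ d ∈ Dn A B, v * d * v⁻¹ ∈ Dn A B ∧ v * d * v⁻¹ * d ∈ Kn P := by
  have hvB : v • B = A := swap_symm hv hvA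
  -- `v` normalizes `D_{AB}`
  have hnorm : ∀ d ∈ Dn A B, v * d * v⁻¹ ∈ Dn A B := by
    intro d hd
    obtain ⟨hdA, hdB⟩ := Subgroup.mem_inf.1 hd
    refine Subgroup.mem_inf.2 ⟨?_, ?_⟩
    · have := (conj_mem_Mn B v d).2 hdB
      rwa [hvB] at this
    · have := (conj_mem_Mn A v d).2 hdA
      rwa [hvA] at this
  -- `v` normalizes `K`
  have hvN : v ∈ Subgroup.normalizer ((Kn P : Subgroup G) : Set G) := by
    rw [Subgroup.mem_normalizer_iff]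
    intro x
    have h := conj_mem_Kn A v x
    rw [hvA, hKB, hKA] at h
    exact h.symm
  obtain ⟨R, hvR⟩ := exists_sylow_of_orderOf_two hv
  obtain ⟨hKR, -⟩ := F.inv_normalizer_Kn hv hvN hvR
  have hodd := F.odd_card_Dn hAB
  intro d hd
  refine ⟨hnorm d hd, ?_⟩
  obtain ⟨x, hx, y, hy, hvx, hvy, rfl⟩ := F.fact_odd hodd hv hnorm hd
  -- `x ∈ K`
  have hxK : x ∈ Kn P := by
    rw [← hKR, c.mem_Kn_iff R]
    constructor
    · rw [← c.centralizer_eq hvR hv, Subgroup.mem_centralizer_singleton_iff]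
      -- v * x = x * v
      have : v * x * v⁻¹ * v = x * v := by rw [hvx]
      have h' : v * x = x * v := by simpa using this
      exact h'.symm
    · have hdvd : orderOf x ∣ Nat.card (Dn A B) := Subgroup.orderOf_dvd_natCard _ hx
      exact Odd.of_dvd_nat hodd hdvd
  have hyinv : y⁻¹ ∈ Mn A := (Dn A B).inv_mem hy |> fun h => (Subgroup.mem_inf.1 h).1
  have h1 : y⁻¹ * x * y⁻¹⁻¹ ∈ Kn P := by
    rw [← hKA]
    exact c.Kn_normal hyinv (hKA ▸ hxK)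
  have h2 : v * (x * y) * v⁻¹ * (x * y) = x * (y⁻¹ * x * y⁻¹⁻¹) := by
    have e : v * (x * y) * v⁻¹ = (v * x * v⁻¹) * (v * y * v⁻¹) := by group
    rw [e, hvx, hvy]; group
  rw [h2]
  exact (Kn P).mul_mem hxK h1

theorem d7_core (c : Cfg G) (F : D7Facts G) {P R1 R2 : Sylow 2 G} (h1 : R1 ≠ P) (h2 : R2 ≠ P)
    (h12 : R1 ≠ R2) (hK1 : Kn R1 = Kn P) (hK2 : Kn R2 = Kn P) (hD : Dn P R1 = Dn P R2) :
    False := by
  set K := Kn P with hKdef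
  set D := Dn P R1 with hDdef
  have hKP : K ≤ Mn P := c.Kn_le_Mn P
  have hKR1 : K ≤ Mn R1 := hK1 ▸ c.Kn_le_Mn R1
  have hKR2 : K ≤ Mn R2 := hK2 ▸ c.Kn_le_Mn R2
  have hDP : D ≤ Mn P := inf_le_left
  have hDR1 : D ≤ Mn R1 := inf_le_right
  have hDR2 : D ≤ Mn R2 := by rw [hD]; exact inf_le_right
  -- cardinalities
  have hcardD : Nat.card D = nInv P * Nat.card K := by
    rw [hDdef, F.card_Dn (Ne.symm h1), inf_of_le_left hKR1]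
  have hcard12 : Nat.card (Dn R2 R1) = nInv P * Nat.card K := by
    rw [F.card_Dn (Ne.symm h12), hK2, inf_of_le_left hKR1, nInv_eq R2 P]
  have hD21 : Dn R2 R1 = D := by
    refine (Subgroup.eq_of_le_of_card_ge (le_inf hDR2 hDR1) ?_).symm
    rw [hcard12, hcardD]
  have hD2 : Dn P R2 = D := hD.symm
  have hodd : Odd (Nat.card D) := F.odd_card_Dn (Ne.symm h1)
  -- the three involutions
  obtain ⟨v1, hv1, hv1P⟩ := F.exists_swap (Ne.symm h1)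
  obtain ⟨v2, hv2, hv2P⟩ := F.exists_swap (Ne.symm h2)
  obtain ⟨w, hw, hwR⟩ := F.exists_swap (Ne.symm h12)
  have I1 : ∀ d ∈ D, v1 * d * v1⁻¹ ∈ D ∧ v1 * d * v1⁻¹ * d ∈ K :=
    d7_inverts c F (Ne.symm h1) rfl hK1 hv1 hv1P
  have I2 : ∀ d ∈ D, v2 * d * v2⁻¹ ∈ D ∧ v2 * d * v2⁻¹ * d ∈ K := by
    have := d7_inverts c F (P := P) (Ne.symm h2) rfl hK2 hv2 hv2P
    rwa [hD2] at this
  have I3 : ∀ d ∈ D, w * d * w⁻¹ ∈ D ∧ w * d * w⁻¹ * d ∈ K := by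
    have := d7_inverts c F (P := P) (Ne.symm h12) hK2 hK1 hw hwR
    rwa [hD21] at this
  -- `K` is normalized by `D`
  have hKn : ∀ d ∈ D, ∀ k ∈ K, d * k * d⁻¹ ∈ K := fun d hd k hk => c.Kn_normal (hDP hd) hk
  -- `D / K` is abelian
  have hab : ∀ d ∈ D, ∀ e ∈ D, d * e * d⁻¹ * e⁻¹ ∈ K := by
    intro d hd e he
    -- apply the inversion to `d⁻¹`, `e⁻¹`, `d⁻¹ e⁻¹`
    have hdi : d⁻¹ ∈ D := D.inv_mem hd
    have hei : e⁻¹ ∈ D := D.inv_mem he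
    obtain ⟨-, k1⟩ := I1 d⁻¹ hdi
    obtain ⟨-, k2⟩ := I1 e⁻¹ hei
    obtain ⟨-, k3⟩ := I1 (d⁻¹ * e⁻¹) (D.mul_mem hdi hei)
    -- v(d⁻¹e⁻¹)v⁻¹ (d⁻¹e⁻¹) = [v d⁻¹ v⁻¹ d⁻¹] d [v e⁻¹ v⁻¹ e⁻¹] e d⁻¹ e⁻¹
    set a := v1 * d⁻¹ * v1⁻¹ * d⁻¹ with ha
    set b := v1 * e⁻¹ * v1⁻¹ * e⁻¹ with hb
    have e1 : v1 * (d⁻¹ * e⁻¹) * v1⁻¹ * (d⁻¹ * e⁻¹) = a * (d * b * d⁻¹) * (d * e * d⁻¹ * e⁻¹) := by
      rw [ha, hb]; group
    rw [e1] at k3
    have hb' : d * b * d⁻¹ ∈ K := hKn d hd b k2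
    have : d * e * d⁻¹ * e⁻¹ = (a * (d * b * d⁻¹))⁻¹ * (a * (d * b * d⁻¹) * (d * e * d⁻¹ * e⁻¹)) := by
      group
    rw [this]
    exact K.mul_mem (K.inv_mem (K.mul_mem k1 hb')) k3
  -- the element `y`
  set y := w * v1 * v2 with hy
  have hyR2 : y ∈ Mn R2 := by
    rw [mem_Mn_iff, hy, mul_smul, mul_smul, swap_symm hv2 hv2P, hv1P, swap_symm hw hwR]
  have Iy : ∀ d ∈ D, y * d * y⁻¹ ∈ D ∧ y * d * y⁻¹ * d ∈ K := by
    intro d hd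
    obtain ⟨m2, k2⟩ := I2 d hd
    obtain ⟨m1, k1⟩ := I1 _ m2
    obtain ⟨m0, k0⟩ := I3 _ m1
    set d2 := v2 * d * v2⁻¹ with hd2
    set d1 := v1 * d2 * v1⁻¹ with hd1
    set d0 := w * d1 * w⁻¹ with hd0
    have e0 : y * d * y⁻¹ = d0 := by rw [hy, hd0, hd1, hd2]; group
    rw [e0]
    refine ⟨m0, ?_⟩
    have k1' : d2 * d1 ∈ K := by
      have := hKn d2 m2 _ k1
      have e : d2 * (d1 * d2) * d2⁻¹ = d2 * d1 := by group
      rwa [e] at this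
    have : d0 * d = (d0 * d1) * (d2 * d1)⁻¹ * (d2 * d) := by group
    rw [this]
    exact K.mul_mem (K.mul_mem k0 (K.inv_mem k1')) k2
  -- `y = x * d'`
  obtain ⟨x, hx, d', hd', hyx⟩ := F.Mn_eq_mul h2 hyR2
  have hd'D : d' ∈ D := by
    rw [← hD2]
    exact Subgroup.mem_inf.2 ⟨(Subgroup.mem_inf.1 hd').2, (Subgroup.mem_inf.1 hd').1⟩
  have hCnorm : ∀ m ∈ Mn R2, ∀ z ∈ Cn R2, m * z * m⁻¹ ∈ Cn R2 := by
    intro m hm z hz
    have := (conj_mem_Cn R2 m z).2 hz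
    rwa [mem_Mn_iff.1 hm] at this
  have hKC : K ≤ Cn R2 := hK2 ▸ c.Kn_le_Cn R2
  -- `y d y⁻¹ d⁻¹ ∈ K`
  have hcomm : ∀ d ∈ D, y * d * y⁻¹ * d⁻¹ ∈ K := by
    intro d hd
    have hmemD : y * d * y⁻¹ * d⁻¹ ∈ D := D.mul_mem (Iy d hd).1 (D.inv_mem hd)
    have hmemC : y * d * y⁻¹ * d⁻¹ ∈ Cn R2 := by
      set e := d' * d * d'⁻¹ with he
      have heD : e ∈ D := D.mul_mem (D.mul_mem hd'D hd) (D.inv_mem hd'D)
      have e1 : y * d * y⁻¹ * d⁻¹ = x * (e * x⁻¹ * e⁻¹) * (d' * d * d'⁻¹ * d⁻¹) := by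
        rw [hyx, he]; group
      rw [e1]
      refine (Cn R2).mul_mem ((Cn R2).mul_mem hx ?_) (hKC (hab d' hd'D d hd))
      exact hCnorm e (hDR2 heD) _ ((Cn R2).inv_mem hx)
    have hmem : y * d * y⁻¹ * d⁻¹ ∈ Dn R2 P ⊓ Cn R2 := by
      refine Subgroup.mem_inf.2 ⟨Subgroup.mem_inf.2 ⟨hDR2 hmemD, hDP hmemD⟩, hmemC⟩
    rw [F.Dn_inf_Cn h2, hK2] at hmem
    exact (Subgroup.mem_inf.1 hmem).1
  -- `D ≤ K`
  have hDK : D ≤ K := by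
    intro d hd
    have hsq : d ^ 2 ∈ K := by
      have e : d ^ 2 = (y * d * y⁻¹ * d⁻¹)⁻¹ * (y * d * y⁻¹ * d) := by
        rw [pow_two]; group
      rw [e]
      exact K.mul_mem (K.inv_mem (hcomm d hd)) (Iy d hd).2
    have hdo : Odd (orderOf d) := Odd.of_dvd_nat hodd (Subgroup.orderOf_dvd_natCard _ hd)
    obtain ⟨k, hk⟩ := hdo
    have : d = (d ^ 2) ^ (k + 1) := by
      rw [← pow_mul, show 2 * (k + 1) = orderOf d + 1 by omega, pow_succ, pow_orderOf_eq_one,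
        one_mul]
    rw [this]
    exact K.pow_mem hsq _
  have hle : Nat.card D ≤ Nat.card K := Nat.card_mono (Set.toFinite _) hDK
  have h3 := F.three_le_nInv P
  have hpos : 0 < Nat.card K := Nat.card_pos
  rw [hcardD] at hle
  nlinarith

end Cfsg.Agent.Helper2.AIC
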