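import Mathlib
import Cfsg.Agent.Lib.Helper23.AICD7Core
import Cfsg.Agent.Lib.Helper24.AICSE
import Cfsg.Agent.Lib.Helper24.AICORB
import Cfsg.Agent.Lib.Helper18.AICFACT
import Cfsg.Agent.Lib.Helper4.AICBAS2
import Cfsg.Agent.Lib.Helper25.AICD2

/-! S2202 piece D7 (helper23): `block_no_three_fix`, exact skeleton signature. -/

set_option autoImplicit false
set_option linter.unusedSectionVars false

namespace Cfsg.Agent.Helper2.AIC

variable {G : Type*} [Group G] [Finite G]

theorem d7_facts (c : Cfg G) : D7Facts G where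
  exists_swap := fun h => c.exists_swap h
  odd_card_Dn := fun h => c.odd_card_Dn h
  fact_odd := fun hodd _ hu hN _ hd => fact_odd hodd hu hN hd
  inv_normalizer_Kn := fun hv hvN _ hvR => inv_normalizer_Kn c hv hvN hvR
  Mn_eq_mul := fun h _ hm => c.Mn_eq_mul h hm
  Dn_inf_Cn := fun h => c.Dn_inf_Cn h
  card_Dn := fun h => c.card_Dn h
  three_le_nInv := fun P => c.three_le_nInv P

/-! ### PIECE D7 -/
theorem block_no_three_fix (c : Cfg G) {P R1 R2 : Sylow 2 G} (h1 : R1 ≠ P) (h2 : R2 ≠ P)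
    (h12 : R1 ≠ R2) (hK1 : Kn R1 = Kn P) (hK2 : Kn R2 = Kn P) (hD : Dn P R1 = Dn P R2) :
    False :=
  d7_core c (d7_facts c) h1 h2 h12 hK1 hK2 hD

end Cfsg.Agent.Helper2.AIC
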