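import Mathlib
import Cfsg.Agent.Lib.Helper2.AICDefs
import Cfsg.Agent.Lib.Helper2.AICDefs2
import Cfsg.Agent.Lib.Helper2.AICGEN
import Cfsg.Agent.Lib.Helper2.AICBAS1
import Cfsg.Agent.Lib.Helper4.AICBAS2
import Cfsg.Agent.Lib.Helper13.AICINV

/-!
# S2202, piece F1A core (helper23): `sq_HQ` with the two lifting facts of piece QLIFT as hypotheses
-/

set_option autoImplicit false
set_option linter.unusedSectionVars false

namespace Cfsg.Agent.Helper2.AIC

variable {G : Type*} [Group G] [Finite G]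

/-- `|ZH N|` is odd when `N = Kn P` -/
theorem f1a_odd_card_ZH (c : Cfg G) {N : Subgroup G} (hK : ∀ P : Sylow 2 G, Kn P = N) :
    Odd (Nat.card (ZH N)) := by
  obtain ⟨P⟩ : Nonempty (Sylow 2 G) := inferInstance
  have h1 : Odd (Nat.card N) := by
    have := c.odd_card_Kn P
    rw [hK P] at this
    exact this
  have h2 : Nat.card (ZH N) ∣ Nat.card N :=
    Subgroup.card_comap_dvd_of_injective N (Subgroup.subtype _) (Subgroup.subtype_injective _)
  exact Odd.of_dvd_nat h1 h2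

/-- in `G`: an element commuting with an involution has its square in `N` -/
theorem f1a_sq_mem (c : Cfg G) {N : Subgroup G} (hK : ∀ P : Sylow 2 G, Kn P = N)
    (hel : ∀ P : Sylow 2 G, ∀ x ∈ P, x ^ 2 = 1) {t x : G} (ht : orderOf t = 2)
    (hx : x * t = t * x) : x ^ 2 ∈ N := by
  obtain ⟨R, hR⟩ := exists_sylow_of_orderOf_two ht
  have hxC : x ∈ Cn R := by
    rw [← c.centralizer_eq hR ht, Subgroup.mem_centralizer_singleton_iff]
    exact hx
  obtain ⟨a, ha, k, hk, hxak⟩ := c.Cn_eq_mul hxC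
  have hcomm : a * k = k * a := c.comm_Cn R a (c.sylow_le_Cn R ha) k (c.Kn_le_Cn R hk)
  have ha2 : a ^ 2 = 1 := hel R a ha
  have e : x ^ 2 = k ^ 2 := by
    rw [hxak, (Commute.mul_pow hcomm 2), ha2, one_mul]
  rw [e, ← hK R]
  exact Subgroup.pow_mem _ hk _

/-- PIECE F1A, with the lifting facts of QLIFT as hypotheses -/
theorem sq_HQ_core (c : Cfg G) {N : Subgroup G} (hK : ∀ P : Sylow 2 G, Kn P = N)
    (hel : ∀ P : Sylow 2 G, ∀ x ∈ P, x ^ 2 = 1)
    (hlift1 : ∀ {tb : HQ N}, orderOf tb = 2 →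
      ∃ t : ↥(Subgroup.centralizer (N : Set G)), orderOf t = 2 ∧ (QuotientGroup.mk t : HQ N) = tb)
    (hlift2 : ∀ {t : ↥(Subgroup.centralizer (N : Set G))}, orderOf t = 2 → ∀ {xb : HQ N},
      xb * (QuotientGroup.mk t : HQ N) = (QuotientGroup.mk t : HQ N) * xb →
      ∃ x : ↥(Subgroup.centralizer (N : Set G)), x * t = t * x ∧
        (QuotientGroup.mk x : HQ N) = xb) :
    ∀ t : HQ N, orderOf t = 2 → ∀ x ∈ Subgroup.centralizer ({t} : Set (HQ N)), x ^ 2 = 1 := by
  intro t ht x hx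
  obtain ⟨t', ht', rfl⟩ := hlift1 ht
  rw [Subgroup.mem_centralizer_singleton_iff] at hx
  obtain ⟨x', hx', rfl⟩ := hlift2 ht' hx
  rw [← QuotientGroup.mk_pow, QuotientGroup.eq_one_iff, mem_ZH]
  have ht2 : orderOf (t' : G) = 2 := by rw [Subgroup.orderOf_coe]; exact ht'
  have hx2 : (x' : G) * (t' : G) = (t' : G) * (x' : G) := by
    have := congrArg (Subgroup.subtype _) hx'
    simpa using this
  have := f1a_sq_mem c hK hel ht2 hx2
  simpa using this

end Cfsg.Agent.Helper2.AIC
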