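import Mathlib
import Cfsg.Agent.Lib.Helper2.AICDefs
import Cfsg.Agent.Lib.Helper2.AICDefs2
import Cfsg.Agent.Lib.Helper1.AICQLIFT
import Cfsg.Agent.Lib.Helper23.AICF1ACore

/-!
# S2202, piece F1A (helper23): `sq_HQ`
-/

set_option autoImplicit false
set_option linter.unusedSectionVars false

namespace Cfsg.Agent.Helper2.AIC

variable {G : Type*} [Group G] [Finite G]

/-- PIECE F1A -/
theorem sq_HQ (c : Cfg G) {N : Subgroup G} (hK : ∀ P : Sylow 2 G, Kn P = N)
    (hel : ∀ P : Sylow 2 G, ∀ x ∈ P, x ^ 2 = 1) :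
    ∀ t : HQ N, orderOf t = 2 → ∀ x ∈ Subgroup.centralizer ({t} : Set (HQ N)), x ^ 2 = 1 := by
  have hodd := f1a_odd_card_ZH c hK
  exact sq_HQ_core c hK hel (fun ht => exists_inv_lift (ZH N) hodd ht)
    (fun ht _ hx => exists_centralizer_lift (ZH N) hodd ht hx)

end Cfsg.Agent.Helper2.AIC
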