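import Mathlib
import Cfsg.Agent.S0948
import Cfsg.Agent.S4479
import Cfsg.Agent.Lib.Helper24.GlaubPGroup
import Cfsg.Agent.Lib.Helper5.PrimeTIg

/-!
# The residual configuration of S4016 / S4018 (helper23)

A perfect finite group with a Klein four Sylow 2-subgroup `S`, one class of involutions,
`|C_G(t)| = 4 w`, `|C_G(S)| = 4` has order at least `16 w ^ 3`
(Brauer's order formula S4479 on top of S0948).
-/

set_option autoImplicit false

namespace Cfsg.Agent.Helper23.V4R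

open Cfsg

/-- a perfect group of order `4 g₀`, `g₀` odd, has no normal subgroup of order `g₀` -/
theorem no_normal_compl {G : Type*} [Group G] [Finite G] (hperf : commutator G = ⊤) (g₀ : ℕ)
    (hG : Nat.card G = 4 * g₀) : ¬ ∃ N : Subgroup G, N.Normal ∧ Nat.card N = g₀ := by
  rintro ⟨N, hN, hcard⟩
  have hpos : 0 < Nat.card G := Nat.card_pos
  have hg0 : 0 < g₀ := by omega
  have hidx : Nat.card (G ⧸ N) = 2 ^ 2 := by
    have h1 := Subgroup.card_eq_card_quotient_mul_card_subgroup N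
    rw [hG, hcard] at h1
    have : Nat.card (G ⧸ N) = 4 := Nat.eq_of_mul_eq_mul_right hg0 h1.symm
    rw [this]; norm_num
  have : Fact (Nat.Prime 2) := ⟨Nat.prime_two⟩
  have hcomm := IsPGroup.isMulCommutative_of_card_eq_prime_sq (p := 2) hidx
  have hle : commutator G ≤ N := by
    rw [← Subgroup.Normal.quotient_commutative_iff_commutator_le]
    exact hcomm
  rw [hperf] at hle
  have htop : N = ⊤ := top_le_iff.mp hle
  rw [htop, Subgroup.card_top, hG] at hcard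
  omega

/-- the lower bound for the product of the three degree quotients -/
theorem alpha_bound (x2 x3 x4 e : ℚ) (h2 : 5 ≤ x2) (h3 : (e = 1 ∧ 5 ≤ x3) ∨ (e = -1 ∧ 3 ≤ x3))
    (h4 : 3 ≤ x4) :
    0 < (x2 + 1) * (x3 + e) * (x4 + (-1)) ∧
      25 * ((x2 + 1) * (x3 + e) * (x4 + (-1))) ≤ 36 * (x2 * x3 * x4) := by
  have a1 : 0 < x2 + 1 := by linarith
  have a2 : 5 * (x2 + 1) ≤ 6 * x2 := by linarith
  have b1 : 0 < x3 + e := by
    rcases h3 with ⟨he, h⟩ | ⟨he, h⟩ <;> rw [he] <;> linarith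
  have b2 : 5 * (x3 + e) ≤ 6 * x3 := by
    rcases h3 with ⟨he, h⟩ | ⟨he, h⟩ <;> rw [he] <;> linarith
  have c1 : 0 < x4 + (-1) := by linarith
  have c2 : x4 + (-1) ≤ x4 := by linarith
  refine ⟨mul_pos (mul_pos a1 b1) c1, ?_⟩
  have d1 : (5 * (x2 + 1)) * (5 * (x3 + e)) ≤ (6 * x2) * (6 * x3) :=
    mul_le_mul a2 b2 (by linarith) (by linarith)
  have d2 : ((5 * (x2 + 1)) * (5 * (x3 + e))) * (x4 + (-1)) ≤ ((6 * x2) * (6 * x3)) * x4 :=
    mul_le_mul d1 c2 c1.le (by nlinarith)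
  nlinarith [d2]

theorem v4_residual {G : Type*} [Group G] [Finite G] (hperf : commutator G = ⊤) (S : Sylow 2 G)
    (hS : IsKleinFour (S : Subgroup G))
    (hone : ∀ s t : G, orderOf s = 2 → orderOf t = 2 → IsConj s t)
    (t : G) (ht : t ∈ (S : Subgroup G)) (hto : orderOf t = 2) (w : ℕ)
    (hC : Nat.card (Subgroup.centralizer ({t} : Set G)) = 4 * w)
    (hCS : Nat.card (Subgroup.centralizer ((S : Subgroup G) : Set G)) = 4)
    (hlt : Nat.card G < 16 * w ^ 3) : False := by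
  have : Fact (Nat.Prime 2) := ⟨Nat.prime_two⟩
  obtain ⟨M, hM⟩ := Cfsg.Agent.Helper24.Glaub.exists_isPModular Nat.prime_two
  obtain ⟨ζ₂, ζ₃, ζ₄, ε, hε, hne2, hne3, h23, h24, h34, hB, hval, hd2, hd3, hd4, -⟩ :=
    Cfsg.Agent.S0948.result M hM S hS hone
  obtain ⟨v2, v3, v4⟩ := hval t hto
  have hne4 : (ζ₄ : G → ℂ) ≠ (fun _ => 1) := by
    intro h
    have := congrFun h t
    rw [v4] at this
    norm_num at this
  -- the order
  have hcardS : Nat.card (S : Subgroup G) = 4 := hS.card_four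
  have hG : Nat.card G = 4 * (S : Subgroup G).index := by
    rw [← hcardS]; exact ((S : Subgroup G).card_mul_index).symm
  have hodd : Odd (S : Subgroup G).index := by
    rw [← Nat.not_even_iff_odd, even_iff_two_dvd]
    exact S.not_dvd_index
  have hnc := no_normal_compl hperf _ hG
  have hform := Cfsg.Agent.S4479.result M hM _ hodd hG hnc S t ht hto ζ₂ ζ₃ ζ₄ 1 ε (-1) hB
    ⟨hne2, hne3, hne4, h23, h24, h34⟩ ⟨Or.inl rfl, hε, Or.inr rfl⟩
    ⟨by rw [v2]; norm_num, v3, by rw [v4]; norm_num⟩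
  rw [hC, hCS] at hform
  -- the degrees
  set x2 : ℕ := Cfsg.charDegree (ζ₂ : G → ℂ) with hx2
  set x3 : ℕ := Cfsg.charDegree (ζ₃ : G → ℂ) with hx3
  set x4 : ℕ := Cfsg.charDegree (ζ₄ : G → ℂ) with hx4
  have hx2ne : x2 ≠ 1 := fun h => hne2 (Cfsg.Agent.Helper5.PrimeTI.linear_trivial hperf ζ₂.2 h)
  have hx3ne : x3 ≠ 1 := fun h => hne3 (Cfsg.Agent.Helper5.PrimeTI.linear_trivial hperf ζ₃.2 h)
  have b2 : 5 ≤ x2 := by
    obtain ⟨k, hk⟩ := hd2
    omega
  have b4 : 3 ≤ x4 := by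
    obtain ⟨k, hk⟩ := hd4
    omega
  have b3 : ((ε : ℚ) = 1 ∧ (5 : ℚ) ≤ x3) ∨ ((ε : ℚ) = -1 ∧ (3 : ℚ) ≤ x3) := by
    obtain ⟨k, hk⟩ := hd3
    rcases hε with he | he
    · left
      subst he
      refine ⟨by norm_num, ?_⟩
      have : 5 ≤ x3 := by omega
      exact_mod_cast this
    · right
      subst he
      refine ⟨by norm_num, ?_⟩
      have : 3 ≤ x3 := by omega
      exact_mod_cast this
  obtain ⟨hBpos, hAB⟩ := alpha_bound (x2 : ℚ) (x3 : ℚ) (x4 : ℚ) (ε : ℚ) (by exact_mod_cast b2) b3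
    (by exact_mod_cast b4)
  have hltQ : (Nat.card G : ℚ) < 16 * (w : ℚ) ^ 3 := by exact_mod_cast hlt
  have hw : (0 : ℚ) ≤ (w : ℚ) ^ 3 := by positivity
  push_cast at hform
  set A : ℚ := (x2 : ℚ) * x3 * x4 with hA
  set B : ℚ := ((x2 : ℚ) + 1) * (x3 + ε) * (x4 + (-1)) with hBdef
  have hform2 : (Nat.card G : ℚ) * B = 32 * (w : ℚ) ^ 3 * A := by
    rw [hform]
    field_simp
    ring
  nlinarith [hform2, hAB, hBpos, hltQ, hw, mul_pos hBpos hBpos]

end Cfsg.Agent.Helper23.V4R
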