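import Mathlib

/-!
# S3999, PIECE SL25: `SL(2,5)` has order `120` and exactly `24` elements of order `5` (helper23)
-/

set_option autoImplicit false

namespace Cfsg.Agent.Helper2.OT

namespace SL25

theorem card_fintype : Fintype.card (Matrix.SpecialLinearGroup (Fin 2) (ZMod 5)) = 120 := by
  decide +kernel

theorem card_filter :
    (Finset.univ.filter fun A : Matrix.SpecialLinearGroup (Fin 2) (ZMod 5) =>
      A ^ 5 = 1 ∧ A ≠ 1).card = 24 := by
  decide +kernel

end SL25

/-- PIECE SL25 (a). -/
theorem sl25_card_order_five :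
    Nat.card {A : Matrix.SpecialLinearGroup (Fin 2) (ZMod 5) // orderOf A = 5} = 24 := by
  classical
  have hiff : ∀ A : Matrix.SpecialLinearGroup (Fin 2) (ZMod 5),
      orderOf A = 5 ↔ (A ^ 5 = 1 ∧ A ≠ 1) := by
    intro A
    haveI : Fact (Nat.Prime 5) := ⟨by norm_num⟩
    exact orderOf_eq_prime_iff
  rw [Nat.card_congr (Equiv.subtypeEquivRight hiff), Nat.card_eq_fintype_card,
    Fintype.card_subtype]
  convert SL25.card_filter

/-- PIECE SL25 (b). -/
theorem sl25_card : Nat.card (Matrix.SpecialLinearGroup (Fin 2) (ZMod 5)) = 120 := by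
  rw [Nat.card_eq_fintype_card]
  convert SL25.card_fintype

end Cfsg.Agent.Helper2.OT
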