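import Mathlib

/-!
# S3999, PIECE HALL: normal Sylow subgroups for all primes of a Hall number `k` give a normal subgroup of order `k`
(helper23)
-/

set_option autoImplicit false

namespace Cfsg.Agent.Helper2.OT

namespace HALL

/-- the order of the join of two subgroups with trivial intersection, one of them normal -/
theorem card_sup_of_inf_eq_bot {G : Type*} [Group G] (H K : Subgroup G) [K.Normal]
    (h : H ⊓ K = ⊥) : Nat.card (H ⊔ K : Subgroup G) = Nat.card H * Nat.card K := by
  have h1 := Subgroup.relIndex_mul_relIndex (⊥ : Subgroup G) K (H ⊔ K) bot_le le_sup_right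
  rw [Subgroup.relIndex_bot_left, Subgroup.relIndex_bot_left, Subgroup.relIndex_sup_right,
    ← Subgroup.inf_relIndex_right, inf_comm, h, Subgroup.relIndex_bot_left] at h1
  rw [← h1, mul_comm]

/-- the inductive statement -/
theorem exists_normal_prod {G : Type*} [Group G] [Finite G] (S : Finset ℕ)
    (hS : ∀ p ∈ S, p.Prime)
    (h : ∀ (p : ℕ) [Fact p.Prime], p ∈ S → ∀ Q : Sylow p G, (Q : Subgroup G).Normal) :
    ∃ N : Subgroup G, N.Normal ∧ Nat.card N = ∏ p ∈ S, p ^ (Nat.card G).factorization p := by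
  classical
  induction S using Finset.induction_on with
  | empty => exact ⟨⊥, inferInstance, by simp⟩
  | insert q S hq ih =>
    obtain ⟨N, hN, hNc⟩ := ih (fun p hp => hS p (Finset.mem_insert_of_mem hp))
      (fun p _ hp Q => h p (Finset.mem_insert_of_mem hp) Q)
    have hqp : q.Prime := hS q (Finset.mem_insert_self q S)
    haveI : Fact q.Prime := ⟨hqp⟩
    obtain ⟨Q⟩ : Nonempty (Sylow q G) := inferInstance
    haveI hQn : (Q : Subgroup G).Normal := h q (Finset.mem_insert_self q S) Q
    haveI := hN
    have hQc : Nat.card (Q : Subgroup G) = q ^ (Nat.card G).factorization q :=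
      Sylow.card_eq_multiplicity Q
    have hcop : Nat.Coprime (Nat.card N) (Nat.card (Q : Subgroup G)) := by
      rw [hNc, hQc]
      apply Nat.Coprime.prod_left
      intro p hp
      apply Nat.Coprime.pow
      have hpp : p.Prime := hS p (Finset.mem_insert_of_mem hp)
      rw [Nat.coprime_primes hpp hqp]
      rintro rfl
      exact hq hp
    refine ⟨N ⊔ (Q : Subgroup G), inferInstance, ?_⟩
    rw [card_sup_of_inf_eq_bot N (Q : Subgroup G) (Subgroup.inf_eq_bot_of_coprime hcop), hNc, hQc,
      Finset.prod_insert hq, mul_comm]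

end HALL

/-- PIECE HALL. -/
theorem exists_normal_hall {G : Type*} [Group G] [Finite G] (k : ℕ) (hk : k ∣ Nat.card G)
    (hcop : Nat.Coprime k (Nat.card G / k))
    (h : ∀ (p : ℕ) [Fact p.Prime], p ∣ k → ∀ Q : Sylow p G, (Q : Subgroup G).Normal) :
    ∃ N : Subgroup G, N.Normal ∧ Nat.card N = k := by
  classical
  have hG0 : Nat.card G ≠ 0 := Nat.card_pos.ne'
  have hk0 : k ≠ 0 := fun h0 => hG0 (by rw [h0] at hk; exact Nat.eq_zero_of_zero_dvd hk)
  obtain ⟨N, hN, hNc⟩ := HALL.exists_normal_prod (G := G) k.primeFactors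
    (fun p hp => Nat.prime_of_mem_primeFactors hp)
    (fun p _ hp Q => h p (Nat.dvd_of_mem_primeFactors hp) Q)
  refine ⟨N, hN, ?_⟩
  rw [hNc]
  have hprod : ∏ p ∈ k.primeFactors, p ^ (Nat.card G).factorization p =
      ∏ p ∈ k.primeFactors, p ^ k.factorization p := by
    apply Finset.prod_congr rfl
    intro p hp
    have hpp : p.Prime := Nat.prime_of_mem_primeFactors hp
    have hpk : p ∣ k := Nat.dvd_of_mem_primeFactors hp
    obtain ⟨m, hm⟩ := hk
    have hm0 : m ≠ 0 := by rintro rfl; simp at hm; exact hG0 hm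
    have hdiv : Nat.card G / k = m := by
      rw [hm]; exact Nat.mul_div_cancel_left m (Nat.pos_of_ne_zero hk0)
    rw [hdiv] at hcop
    have hpm : ¬ p ∣ m := fun hpm => by
      have := Nat.Coprime.eq_one_of_dvd (Nat.Coprime.coprime_dvd_left hpk hcop) hpm
      exact hpp.one_lt.ne' this
    rw [hm, Nat.factorization_mul hk0 hm0, Finsupp.add_apply,
      Nat.factorization_eq_zero_of_not_dvd hpm, add_zero]
  rw [hprod]
  exact Nat.factorization_prod_pow_eq_self hk0

end Cfsg.Agent.Helper2.OT
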