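import Mathlib
import Cfsg.Agent.Lib.Helper2.TIHDefs
import Cfsg.Agent.S4117

/-!
# S4151, PIECE QACT: the conjugation action of `Q` on `H` and S4117, translated to subgroups of `G` (helper23)
-/

set_option autoImplicit false
set_option linter.unusedSectionVars false
set_option linter.unusedVariables false
set_option linter.style.haveILetI false

namespace Cfsg.Agent.Helper2.TIH

open Cfsg

universe u

namespace QACT

variable {G : Type*} [Group G]

/-- the conjugation action of `Q ≤ N_G(H)` on `H` -/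
@[reducible] def conjAction (H Q : Subgroup G) (hQ : Q ≤ Subgroup.normalizer (H : Set G)) :
    MulDistribMulAction Q H where
  smul q h := ⟨(q : G) * (h : G) * (q : G)⁻¹, (Subgroup.mem_normalizer_iff.1 (hQ q.2) (h : G)).1 h.2⟩
  one_smul h := by
    apply Subtype.ext
    show ((1 : Q) : G) * (h : G) * ((1 : Q) : G)⁻¹ = (h : G)
    simp
  mul_smul q r h := by
    apply Subtype.ext
    show ((q * r : Q) : G) * (h : G) * ((q * r : Q) : G)⁻¹ =
      (q : G) * ((r : G) * (h : G) * (r : G)⁻¹) * (q : G)⁻¹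
    rw [Subgroup.coe_mul]; group
  smul_mul q h k := by
    apply Subtype.ext
    show (q : G) * ((h * k : H) : G) * (q : G)⁻¹ =
      ((q : G) * (h : G) * (q : G)⁻¹) * ((q : G) * (k : G) * (q : G)⁻¹)
    rw [Subgroup.coe_mul]; group
  smul_one q := by
    apply Subtype.ext
    show (q : G) * ((1 : H) : G) * (q : G)⁻¹ = ((1 : H) : G)
    simp

theorem card_sup_of_inf_eq_bot {N : Type*} [Group N] (A B : Subgroup N) [B.Normal]
    (h : A ⊓ B = ⊥) : Nat.card (A ⊔ B : Subgroup N) = Nat.card A * Nat.card B := by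
  have h1 := Subgroup.relIndex_mul_relIndex (⊥ : Subgroup N) B (A ⊔ B) bot_le le_sup_right
  rw [Subgroup.relIndex_bot_left, Subgroup.relIndex_bot_left, Subgroup.relIndex_sup_right,
    ← Subgroup.inf_relIndex_right, inf_comm, h, Subgroup.relIndex_bot_left] at h1
  rw [← h1, mul_comm]

theorem mem_normalizer_of_conj {N : Type*} [Group N] (K : Subgroup N) (g : N)
    (h1 : ∀ x ∈ K, g * x * g⁻¹ ∈ K) (h2 : ∀ x ∈ K, g⁻¹ * x * g ∈ K) :
    g ∈ Subgroup.normalizer (K : Set N) := by
  rw [Subgroup.mem_normalizer_iff]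
  intro x
  constructor
  · exact h1 x
  · intro hx
    have := h2 _ hx
    have e : g⁻¹ * (g * x * g⁻¹) * g = x := by group
    rwa [e] at this

end QACT

/-- PIECE QACT. -/
theorem exists_commutator_subgroup {G : Type*} [Group G] [Finite G] (H Q : Subgroup G)
    (hQ : Q ≤ Subgroup.normalizer (H : Set G)) (hcop : (Nat.card Q).Coprime (Nat.card H))
    (hcyc : ∀ (p : ℕ) [Fact p.Prime] (P : Sylow p H), IsCyclic (P : Subgroup H)) :
    ∃ K : Subgroup G, K ≤ H ∧ H ≤ Subgroup.normalizer (K : Set G) ∧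
      Q ≤ Subgroup.normalizer (K : Set G) ∧ (∀ h ∈ H, ∀ q ∈ Q, h * q * h⁻¹ * q⁻¹ ∈ K) ∧
      K ⊔ (H ⊓ Subgroup.centralizer (Q : Set G)) = H ∧
      (Nat.card K).Coprime (Nat.card ↥(H ⊓ Subgroup.centralizer (Q : Set G))) ∧
      (Nat.card ↥(H ⊓ Subgroup.centralizer (Q : Set G))).Coprime
        ((H ⊓ Subgroup.centralizer (Q : Set G)).relIndex H) := by
  classical
  letI : MulDistribMulAction Q H := QACT.conjAction H Q hQ
  have hsmul : ∀ (q : Q) (h : H), ((q • h : H) : G) = (q : G) * (h : G) * (q : G)⁻¹ := fun _ _ => rfl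
  obtain ⟨hHall, -, hnorm, hint, hsup⟩ := Cfsg.Agent.S4117.result (G := H) (A := Q) hcop hcyc
  set K₀ : Subgroup H := Subgroup.closure {y : H | ∃ (a : Q) (g : H), y = g⁻¹ * a • g} with hK₀
  set C : Subgroup G := H ⊓ Subgroup.centralizer (Q : Set G) with hC
  set C' : Subgroup H := C.subgroupOf H with hC'
  haveI := hnorm
  -- the fixed points are `C'`
  have hfix : (MulAction.fixedPoints Q H : Set H) = (C' : Set H) := by
    ext h
    rw [MulAction.mem_fixedPoints, SetLike.mem_coe, hC', Subgroup.mem_subgroupOf, hC,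
      Subgroup.mem_inf, Subgroup.mem_centralizer_iff]
    constructor
    · intro hf
      refine ⟨h.2, ?_⟩
      intro q hq
      have := congrArg Subtype.val (hf ⟨q, hq⟩)
      rw [hsmul] at this
      have e : q * (h : G) = (q * (h : G) * q⁻¹) * q := by group
      rw [e]
      exact congrArg (· * q) this
    · rintro ⟨-, hc⟩ q
      apply Subtype.ext
      rw [hsmul, hc (q : G) q.2]
      group
  rw [hfix] at hHall hint hsup
  rw [Subgroup.closure_eq] at hsup
  -- `K₀ ⊓ C' = ⊥`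
  have hinf : C' ⊓ K₀ = ⊥ := by
    rw [eq_bot_iff]
    intro x hx
    rw [Subgroup.mem_inf] at hx
    have : x ∈ ((K₀ : Set H) ∩ (C' : Set H)) := ⟨hx.2, hx.1⟩
    rw [hint] at this
    rw [Subgroup.mem_bot]
    exact this
  have hcardH : Nat.card C' * Nat.card K₀ = Nat.card H := by
    rw [← QACT.card_sup_of_inf_eq_bot C' K₀ hinf, sup_comm, hsup, Subgroup.card_top]
  have hCle : C ≤ H := inf_le_left
  have hcardC : Nat.card C' = Nat.card C := by
    rw [hC']
    exact Nat.card_congr (Subgroup.subgroupOfEquivOfLe hCle).toEquiv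
  have hK₀inv : ∀ (q : Q), ∀ y ∈ K₀, q • y ∈ K₀ := fun q y hy =>
    Cfsg.Agent.S4117.smul_mem_closure (A := Q) (G := H) q y hy
  set K : Subgroup G := K₀.map H.subtype with hK
  have hcardK : Nat.card K = Nat.card K₀ := by
    rw [hK]
    exact Subgroup.card_map_of_injective (Subgroup.subtype_injective H)
  have hmemK : ∀ y : H, y ∈ K₀ → (y : G) ∈ K := fun y hy => ⟨y, hy, rfl⟩
  refine ⟨K, ?_, ?_, ?_, ?_, ?_, ?_, ?_⟩
  · -- `K ≤ H`
    rw [hK]
    exact Subgroup.map_subtype_le K₀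
  · -- `H ≤ N(K)`
    intro h hh
    apply QACT.mem_normalizer_of_conj
    · rintro x ⟨y, hy, rfl⟩
      exact hmemK (⟨h, hh⟩ * y * ⟨h, hh⟩⁻¹) (hnorm.conj_mem y hy ⟨h, hh⟩)
    · rintro x ⟨y, hy, rfl⟩
      have := hnorm.conj_mem y hy (⟨h, hh⟩⁻¹ : H)
      rw [inv_inv] at this
      exact hmemK _ this
  · -- `Q ≤ N(K)`
    intro q hq
    apply QACT.mem_normalizer_of_conj
    · rintro x ⟨y, hy, rfl⟩
      exact hmemK _ (hK₀inv ⟨q, hq⟩ y hy)
    · rintro x ⟨y, hy, rfl⟩
      have := hmemK _ (hK₀inv (⟨q, hq⟩⁻¹ : Q) y hy)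
      rw [hsmul] at this
      simpa using this
  · -- commutators
    intro h hh q hq
    have hgen : (⟨h, hh⟩⁻¹ : H)⁻¹ * (⟨q, hq⟩ : Q) • (⟨h, hh⟩⁻¹ : H) ∈ K₀ :=
      Subgroup.subset_closure ⟨⟨q, hq⟩, ⟨h, hh⟩⁻¹, rfl⟩
    have := hmemK _ hgen
    rw [Subgroup.coe_mul, hsmul] at this
    simp only [inv_inv, Subgroup.coe_inv, Subgroup.coe_mk] at this
    have e : h * q * h⁻¹ * q⁻¹ = h * (q * h⁻¹ * q⁻¹) := by group
    rw [e]
    exact this
  · -- `K ⊔ C = H`
    have h1 : (K₀ ⊔ C').map H.subtype = H := by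
      rw [hsup, ← MonoidHom.range_eq_map, Subgroup.range_subtype]
    rw [Subgroup.map_sup] at h1
    have h2 : C'.map H.subtype = C := by
      rw [hC', Subgroup.subgroupOf_map_subtype]
      exact inf_eq_left.2 hCle
    rw [h2] at h1
    exact h1
  · -- `(|K|, |C|) = 1`
    rw [hcardK, ← hcardC]
    have hdiv : Nat.card H / Nat.card C' = Nat.card K₀ := by
      rw [← hcardH]
      exact Nat.mul_div_cancel_left _ Nat.card_pos
    have : Nat.card (↥(C' : Set H)) = Nat.card C' := rfl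
    rw [this, hdiv] at hHall
    exact hHall.symm
  · -- `(|C|, |H : C|) = 1`
    have hidx : C.relIndex H = Nat.card H / Nat.card C' := by
      have h3 : C.relIndex H = C'.index := rfl
      rw [h3]
      have := C'.card_mul_index
      rw [← this]
      exact (Nat.mul_div_cancel_left _ Nat.card_pos).symm
    rw [hidx, ← hcardC]
    exact hHall

end Cfsg.Agent.Helper2.TIH
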