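import Mathlib
import Cfsg.Agent.Lib.Helper2.TIHDefs
import Cfsg.Agent.Lib.Helper14.TIHHSYL

/-!
# S4151, PIECE ZGRP: a Frobenius complement with abelian Sylow 2-subgroups has all Sylow subgroups cyclic (helper23)
-/

set_option autoImplicit false

namespace Cfsg.Agent.Helper2.TIH

open Cfsg

universe u

namespace ZGRP

/-- `QuaternionGroup (2^n)` is not commutative for `n ≥ 1` -/
theorem quaternion_not_comm {n : ℕ} (hn : 1 ≤ n) :
    ¬ ∀ x y : QuaternionGroup (2 ^ n), x * y = y * x := by
  intro h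
  have h1 := h (QuaternionGroup.a 1) (QuaternionGroup.xa 0)
  rw [QuaternionGroup.a_mul_xa, QuaternionGroup.xa_mul_a] at h1
  have h2 : ((0 : ZMod (2 * 2 ^ n)) - 1) = 0 + 1 := by
    injection h1
  have h3 : (2 : ZMod (2 * 2 ^ n)) = 0 := by
    have : (0 : ZMod (2 * 2 ^ n)) = 1 + 1 := by
      calc (0 : ZMod (2 * 2 ^ n)) = (0 - 1) + 1 := by ring
        _ = (0 + 1) + 1 := by rw [h2]
        _ = 1 + 1 := by ring
    rw [this]; norm_num
  have h4 : ((2 : ℕ) : ZMod (2 * 2 ^ n)) = 0 := by exact_mod_cast h3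
  rw [ZMod.natCast_eq_zero_iff] at h4
  have h5 : 2 * 2 ^ n ≤ 2 := Nat.le_of_dvd (by norm_num) h4
  have h6 : 2 ^ 1 ≤ 2 ^ n := Nat.pow_le_pow_right (by norm_num) hn
  omega

end ZGRP

/-- PIECE ZGRP. -/
theorem sylow_cyclic_of_model {H : Type*} [Group H] [Finite H] (hF : HasFrobModel.{u} H)
    (h2 : ∀ P : Sylow 2 H, IsMulCommutative (P : Subgroup H))
    (p : ℕ) [Fact p.Prime] (P : Sylow p H) : IsCyclic (P : Subgroup H) := by
  rcases sylow_cyclic_or_quaternion hF p P with hc | ⟨n, ⟨e⟩⟩
  · exact hc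
  · have hpp : p.Prime := Fact.out
    -- `p = 2`
    obtain ⟨k, hk⟩ := (IsPGroup.iff_card.1 P.2)
    have hcard : Nat.card (P : Subgroup H) = 4 * 2 ^ n := by
      rw [Nat.card_congr e.toEquiv, Nat.card_eq_fintype_card, QuaternionGroup.card]
    have h2p : 2 ∣ p ^ k := by
      rw [← hk, hcard]
      exact Dvd.dvd.mul_right (by norm_num) _
    have hp2 : p = 2 := by
      have := (Nat.prime_dvd_prime_iff_eq Nat.prime_two hpp).1 (Nat.prime_two.dvd_of_dvd_pow h2p)
      exact this.symm
    subst hp2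
    have hcomm : ∀ x y : (P : Subgroup H), x * y = y * x := by
      haveI := h2 P
      intro x y
      exact mul_comm' x y
    rcases Nat.eq_zero_or_pos n with h0 | hpos
    · subst h0
      haveI : IsCyclic (QuaternionGroup (2 ^ 0)) := by
        rw [pow_zero]; exact QuaternionGroup.quaternionGroup_one_isCyclic
      exact isCyclic_of_surjective e.symm e.symm.surjective
    · exfalso
      apply ZGRP.quaternion_not_comm hpos
      intro x y
      have := hcomm (e.symm x) (e.symm y)
      rw [← map_mul, ← map_mul] at this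
      exact e.symm.injective this

end Cfsg.Agent.Helper2.TIH
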