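import Mathlib
import Cfsg.Prelude.Def_FusionSystem
import Cfsg.Prelude.Def_FusionComponents
import Cfsg.Agent.Lib.Helper3.PPowDefs
import Cfsg.Agent.Lib.Helper25.Fusion

/-!
# S5113 piece A (helper23): first properties of the subsystem attached to `Park` data
-/

set_option autoImplicit false
set_option linter.unusedSectionVars false

namespace Cfsg.Agent.Helper3.PPow

open Cfsg Cfsg.FusionSystem Cfsg.Agent.Helper25

universe u v w

variable {Ω : Type u} [Group Ω] {S : Subgroup Ω} {p : ℕ} [Fact p.Prime] {F : FusionSystem S}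
  {M : Subgroup Ω} {𝒢 : Type v} [Group 𝒢] {ι : S →* 𝒢} {C : Type w} [CommGroup C] {V : 𝒢 →* C}

/-- PIECE A1. -/
theorem Park.sys_le (h : Park p F M ι V) : h.sys.IsSubsystemOf F := by
  intro P φ hφ
  obtain ⟨hPM, hφM, k, -, hk⟩ := h.mem_sys.1 hφ
  have hPS : P ≤ S := le_trans hPM h.le
  have hφS : ∀ x : P, φ x ∈ S := fun x => h.le (hφM x)
  exact (h.real.2 P hPS φ hφS).2 ⟨k, fun x => hk x (hPS x.2) (hφS x)⟩

/-- the value of `V ∘ ι` is invariant under the maps of `F` -/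
theorem Park.V_map (h : Park p F M ι V) {P : Subgroup Ω} {φ : P →* Ω} (hφ : φ ∈ F.Hom P) (x : P) :
    V (ι ⟨φ x, (F.le_of_mem hφ).2 x⟩) = V (ι ⟨x, (F.le_of_mem hφ).1 x.2⟩) := by
  obtain ⟨hPS, hφS⟩ := F.le_of_mem hφ
  obtain ⟨g, hg⟩ := (h.real.2 P hPS φ hφS).1 hφ
  rw [hg x, map_mul, map_mul, map_inv, mul_comm (V g), mul_assoc, mul_inv_cancel, mul_one]

/-- PIECE A2. The maps of `F` act trivially modulo `M`. -/
theorem Park.focal (h : Park p F M ι V) {P : Subgroup Ω} {φ : P →* Ω} (hφ : φ ∈ F.Hom P) (x : P) :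
    (x : Ω)⁻¹ * φ x ∈ M := by
  obtain ⟨hPS, hφS⟩ := F.le_of_mem hφ
  have hxS : (x : Ω) ∈ S := hPS x.2
  have hmem : (x : Ω)⁻¹ * φ x ∈ S := S.mul_mem (S.inv_mem hxS) (hφS x)
  have key := (h.mem_iff ⟨(x : Ω)⁻¹ * φ x, hmem⟩).1 ?_
  · exact key
  · have e : (⟨(x : Ω)⁻¹ * φ x, hmem⟩ : S) = (⟨x, hxS⟩ : S)⁻¹ * ⟨φ x, hφS x⟩ := rfl
    rw [e, map_mul, map_mul, map_inv, map_inv, h.V_map hφ x, inv_mul_cancel]

theorem Park.mem_iff_map_mem (h : Park p F M ι V) {P : Subgroup Ω} {φ : P →* Ω} (hφ : φ ∈ F.Hom P)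
    (x : P) : (x : Ω) ∈ M ↔ φ x ∈ M := by
  have hf := h.focal hφ x
  constructor
  · intro hx
    have := M.mul_mem hx hf
    rwa [mul_inv_cancel_left] at this
  · intro hx
    have := M.mul_mem hx (M.inv_mem hf)
    rwa [mul_inv_rev, inv_inv, mul_inv_cancel_left] at this

theorem Park.conj_mem (h : Park p F M ι V) {g m : Ω} (hg : g ∈ S) (hm : m ∈ M) : g * m * g⁻¹ ∈ M := by
  have hmS : m ∈ S := h.le hm
  have hmem : g * m * g⁻¹ ∈ S := S.mul_mem (S.mul_mem hg hmS) (S.inv_mem hg)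
  have key := (h.mem_iff ⟨g * m * g⁻¹, hmem⟩).1 ?_
  · exact key
  · have e : (⟨g * m * g⁻¹, hmem⟩ : S) = (⟨g, hg⟩ : S) * ⟨m, hmS⟩ * (⟨g, hg⟩ : S)⁻¹ := rfl
    rw [e, map_mul, map_mul, map_inv, map_mul, map_mul, map_inv, (h.mem_iff ⟨m, hmS⟩).2 hm, mul_one,
      mul_inv_cancel]

theorem Park.stronglyClosed (h : Park p F M ι V) : F.StronglyClosed M := by
  refine ⟨h.le, fun R hRM φ hφ x => ?_⟩
  exact (h.mem_iff_map_mem hφ x).1 (hRM x.2)

theorem Park.hyp_le (h : Park p F M ι V) : F.hyperfocalSubgroup p ≤ M := by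
  unfold FusionSystem.hyperfocalSubgroup
  rw [Subgroup.closure_le]
  rintro y ⟨P, α, x, hPS, -, rfl⟩
  have hα : P.subtype.comp (α : MulAut P).toMonoidHom ∈ F.Hom P :=
    (mem_autGroup_iff F hPS (α : MulAut P)).1 α.2
  exact h.focal hα x

end Cfsg.Agent.Helper3.PPow
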