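import Mathlib
import Cfsg.Prelude.Def_Blocks
import Cfsg.Agent.Lib.Helper24.CharLinear
import Cfsg.Agent.Lib.Helper24.CharComplete
import Cfsg.Agent.Lib.Helper23.Schur
import Cfsg.Agent.Lib.Helper5.IrrOfChar
import Cfsg.Agent.Lib.Helper1.BRBSCAL
import Cfsg.Agent.Lib.Helper21.BHDefs

/-!
# S4504, PIECE SCHUR: the centralizer of a subgroup on which a faithful irreducible character stays irreducible
is central (helper23)
-/

set_option autoImplicit false
set_option linter.unusedSectionVars false
set_option linter.unusedVariables false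
set_option linter.style.haveILetI false

namespace Cfsg.Agent.Helper21.BH

open scoped ComplexConjugate
open Cfsg Cfsg.Agent.Helper24

universe u

section Red

variable {G : Type u} [Group G] [Finite G] (p : ℕ) [Fact p.Prime] (P : Sylow p G)

/-- PIECE SCHUR. -/
theorem centralizer_le_center (χ : G → ℂ) (hχ : IsIrrCharacter G χ)
    (hfaith : ∀ g : G, χ g = χ 1 → g = 1) (L : Subgroup G)
    (hL : IsIrrCharacter L (fun x : L => χ (x : G))) :
    Subgroup.centralizer (L : Set G) ≤ Subgroup.center G := by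
  classical
  haveI : Fintype G := Fintype.ofFinite G
  intro c hc
  have hχ' := hχ
  obtain ⟨n, ρ, hirr, hρ⟩ := hχ
  haveI := hirr
  have hnt : Nontrivial (Fin n → ℂ) := Cfsg.Agent.Helper23.nontrivial_of_isIrreducible ρ
  have hnpos : 0 < n := by
    rcases Nat.eq_zero_or_pos n with h0 | h0
    · subst h0
      exact absurd hnt (not_nontrivial_iff_subsingleton.2 inferInstance)
    · exact h0
  -- the restricted representation
  let ρL : Representation ℂ L (Fin n → ℂ) := ρ.comp L.subtype
  have hρL : ρL.character = fun x : L => χ (x : G) := by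
    funext x; rw [← hρ]; rfl
  haveI : ρL.IsIrreducible :=
    Cfsg.Agent.Helper5.isIrreducible_of_isIrrCharacter ρL (by rw [hρL]; exact hL)
  -- the intertwiner
  let f : Representation.IntertwiningMap ρL ρL :=
    { toLinearMap := ρ c
      isIntertwining' := fun x => by
        show ρ c ∘ₗ ρ (x : G) = ρ (x : G) ∘ₗ ρ c
        rw [← Module.End.mul_eq_comp, ← Module.End.mul_eq_comp, ← map_mul, ← map_mul]
        congr 1
        exact ((Subgroup.mem_centralizer_iff.1 hc) x x.2).symm }
  obtain ⟨c₀, hc₀⟩ := Cfsg.Agent.Helper23.intertwining_eq_smul_id ρL f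
  have hc₀' : ρ c = c₀ • LinearMap.id := hc₀
  -- `c₀` is a root of unity
  have hpow : c₀ ^ orderOf c = 1 := by
    have h1 : ρ (c ^ orderOf c) = 1 := by rw [pow_orderOf_eq_one, map_one]
    rw [map_pow, hc₀', smul_pow] at h1
    have h2 : (LinearMap.id : (Fin n → ℂ) →ₗ[ℂ] (Fin n → ℂ)) ^ orderOf c = LinearMap.id := by
      rw [show (LinearMap.id : (Fin n → ℂ) →ₗ[ℂ] (Fin n → ℂ)) = 1 from rfl, one_pow]
    rw [h2] at h1
    obtain ⟨v, hv⟩ := exists_ne (0 : Fin n → ℂ)
    have h3 := LinearMap.congr_fun h1 v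
    simp only [LinearMap.smul_apply, LinearMap.id_coe, id_eq, Module.End.one_apply] at h3
    have h4 : (c₀ ^ orderOf c - 1) • v = 0 := by rw [sub_smul, h3, one_smul, sub_self]
    rcases smul_eq_zero.1 h4 with h5 | h5
    · exact sub_eq_zero.1 h5
    · exact absurd h5 hv
  have hnorm : ‖c₀‖ = 1 :=
    Complex.norm_eq_one_of_pow_eq_one hpow (orderOf_pos c).ne'
  -- the value of `χ` at `c`
  have hχc : χ c = c₀ * (n : ℂ) := by
    rw [← hρ]
    unfold Representation.character
    rw [hc₀', map_smul, show (LinearMap.id : (Fin n → ℂ) →ₗ[ℂ] (Fin n → ℂ)) = 1 from rfl,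
      LinearMap.trace_one, Module.finrank_fin_fun, smul_eq_mul]
  have hχ1 : χ 1 = (n : ℂ) := by
    rw [← hρ, Representation.char_one, Module.finrank_fin_fun]
  have hd : ‖χ c‖ = (χ 1).re := by
    rw [hχc, hχ1, norm_mul, hnorm, one_mul, Complex.norm_natCast, Complex.natCast_re]
  rw [Subgroup.mem_center_iff]
  intro g
  have h1 := Cfsg.Agent.Helper14.BRB.comm_mem_ker_of_norm_eq hχ' c hd g
  have h2 := hfaith _ h1
  have h3 : c * g = g * c := by
    have : c * g = (c * g * c⁻¹ * g⁻¹) * (g * c) := by group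
    rw [this, h2, one_mul]
  exact h3.symm

end Red

end Cfsg.Agent.Helper21.BH
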