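import Mathlib
import Cfsg.Prelude.Def_Blocks
import Cfsg.Agent.Lib.Helper24.CharLinear
import Cfsg.Agent.Lib.Helper24.CharAlgebra
import Cfsg.Agent.Lib.Helper24.CharOrtho
import Cfsg.Agent.Lib.Helper21.BHDefs

/-!
# S4504, PIECE SMALL: two small lemmas (helper23)
-/

set_option autoImplicit false
set_option linter.unusedSectionVars false
set_option linter.unusedVariables false

namespace Cfsg.Agent.Helper21.BH

open scoped ComplexConjugate
open Cfsg Cfsg.Agent.Helper24

universe u

section Chain

variable {G : Type u} [Group G] [Fintype G] (p : ℕ) [Fact p.Prime]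

variable (P : Sylow p G)

/-- PIECE SMALL (1): a central subgroup of order `p` would be `P`. -/
theorem not_dvd_card_center (hP : Nat.card P = p) (hnn : ¬ (P : Subgroup G).Normal) :
    ¬ p ∣ Nat.card (Subgroup.center G) := by
  intro hdvd
  apply hnn
  have hpp : p.Prime := Fact.out
  obtain ⟨z, hz⟩ := exists_prime_orderOf_dvd_card' (G := Subgroup.center G) p hdvd
  have hzG : orderOf (z : G) = p := by rw [Subgroup.orderOf_coe]; exact hz
  have hcen : ∀ g : G, g * (z : G) = (z : G) * g := fun g => Subgroup.mem_center_iff.1 z.2 g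
  have hpg : IsPGroup p (Subgroup.zpowers (z : G)) := by
    apply IsPGroup.of_card (n := 1)
    rw [Nat.card_zpowers, hzG, pow_one]
  obtain ⟨Q, hQ⟩ := hpg.exists_le_sylow
  obtain ⟨g, hg⟩ := MulAction.exists_smul_eq G Q P
  have hzP : (z : G) ∈ (P : Subgroup G) := by
    rw [← hg]
    have hzQ : (z : G) ∈ (Q : Subgroup G) := hQ (Subgroup.mem_zpowers _)
    have : g * (z : G) * g⁻¹ ∈ ((g • Q : Sylow p G) : Subgroup G) := by
      rw [Sylow.coe_subgroup_smul]
      exact ⟨(z : G), hzQ, rfl⟩
    have e : g * (z : G) * g⁻¹ = (z : G) := by rw [hcen g]; group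
    rwa [e] at this
  have hle : Subgroup.zpowers (z : G) ≤ (P : Subgroup G) := by
    rw [Subgroup.zpowers_le]; exact hzP
  have heq : Subgroup.zpowers (z : G) = (P : Subgroup G) := by
    apply Subgroup.eq_of_le_of_card_ge hle
    rw [Nat.card_zpowers, hzG]
    exact le_of_eq hP
  have hPc : (P : Subgroup G) ≤ Subgroup.center G := by
    rw [← heq, Subgroup.zpowers_le]; exact z.2
  constructor
  intro n hn g
  have hc := Subgroup.mem_center_iff.1 (hPc hn) g
  have e : g * n * g⁻¹ = n := by rw [hc]; group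
  rw [e]; exact hn

/-- PIECE SMALL (2): a faithful linear character makes the group abelian. -/
theorem comm_of_faithful_linear (ζ : IrrCharacter G) (h1 : charDegree (ζ : G → ℂ) = 1)
    (hfaith : ∀ g : G, (ζ : G → ℂ) g = (ζ : G → ℂ) 1 → g = 1) (a b : G) : a * b = b * a := by
  have hc : IsCharacter G (ζ : G → ℂ) := isCharacter_of_isIrrCharacter ζ.2
  have h11 : (ζ : G → ℂ) 1 = 1 := by
    rw [irr_one_eq_charDegree ζ.2, h1, Nat.cast_one]
  have hmul := char_mul_of_degree_one hc h11
  have h2 : (ζ : G → ℂ) (a * b * (b * a)⁻¹) = (ζ : G → ℂ) 1 := by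
    rw [hmul (a * b), hmul a b, mul_comm ((ζ : G → ℂ) a), ← hmul b a, ← hmul, mul_inv_cancel]
  have := hfaith _ h2
  rwa [mul_inv_eq_one] at this

end Chain

end Cfsg.Agent.Helper21.BH
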