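import Mathlib
import Cfsg.Agent.Lib.Helper8.TIG5Defs

/-!
# S1786 Part G, step G5, piece TI-G5-2B: `V ∩ PA = 1`
-/

set_option autoImplicit false

namespace Cfsg.Agent.Helper26.TI

variable {G : Type*} [Group G] {V A P PA U : Subgroup G}

/-- TI-G5-2B.  `V ∩ PA = 1`. -/
theorem g5_V_inf_PA (h : G5Data V A P PA U) (hnt : NoTwist V A PA) :
    ∀ x, x ∈ V → x ∈ PA → x = 1 := by
  intro x hxV hxPA
  have hxA : x ∈ A := by
    apply h.cent_PA x
    · intro a ha
      exact h.VA_comm x hxV a ha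
    · intro y hy
      have h1 : cm y x = 1 := hnt y hy x hxV (h.comm_PA y hy x hxPA)
      have h3 : y * x * y⁻¹ * x⁻¹ = 1 := h1
      calc x * y = (y * x * y⁻¹ * x⁻¹)⁻¹ * (y * x) := by group
        _ = y * x := by rw [h3]; simp
  exact h.VA_inf x hxV hxA

end Cfsg.Agent.Helper26.TI
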