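import Mathlib
import Cfsg.Prelude.Def_Blocks
import Cfsg.Agent.Lib.Helper24.CharLinear
import Cfsg.Agent.Lib.Helper24.CharComplete
import Cfsg.Agent.Lib.Helper24.FrobeniusSchur
import Cfsg.Agent.Lib.Helper24.ITOLAM2NAT
import Cfsg.Agent.Lib.Helper16.ITODefs
import Cfsg.Agent.Lib.Helper23.B2Defs

/-!
# S4705, PIECE SYM2NAT: the symmetric square has natural multiplicities (helper23; clone of Helper24 `ITOLAM2NAT`)
-/

set_option autoImplicit false
set_option linter.unusedSectionVars false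
set_option linter.unusedVariables false

namespace Cfsg.Agent.Helper23.B2

open scoped ComplexConjugate Kronecker
open Cfsg Cfsg.Agent.Helper24 Cfsg.Agent.Helper16.ITO

universe u

variable {G : Type u} [Group G] [Fintype G]

/-- PIECE SYM2NAT. -/
theorem sym2_inner_nat {θ χ : G → ℂ} (hθ : IsCharacter G θ) (hχ : IsIrrCharacter G χ) :
    ∃ s : ℕ, classInner (sym2 θ) χ = (s : ℂ) := by
  classical
  have hχc : IsCharacter G χ := isCharacter_of_isIrrCharacter hχ
  have hinv : ∀ g : G, χ g⁻¹ = conj (χ g) := fun g => irr_inv hχc g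
  obtain ⟨n, ρ, rfl⟩ := hθ
  obtain ⟨m, σ, hσ⟩ := hχc
  set K : G →* Matrix ((Fin n × Fin n) × Fin m) ((Fin n × Fin n) × Fin m) ℂ :=
    LAM2NAT.kronHom (kronSq (repMat ρ)) (LAM2NAT.dualMat (repMat σ)) with hK
  set T : Matrix ((Fin n × Fin n) × Fin m) ((Fin n × Fin n) × Fin m) ℂ :=
    swapMat (Fin n) ⊗ₖ (1 : Matrix (Fin m) (Fin m) ℂ) with hT
  have hKg : ∀ g, K g = (repMat ρ g ⊗ₖ repMat ρ g) ⊗ₖ (repMat σ g⁻¹).transpose := fun g => rfl
  have hTT : T * T = 1 := by
    rw [hT, ← Matrix.mul_kronecker_mul, swapMat_mul_self, Matrix.one_mul,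
      Matrix.one_kronecker_one]
  have hTK : ∀ g, T * K g = K g * T := by
    intro g
    rw [hKg, hT, ← Matrix.mul_kronecker_mul, ← Matrix.mul_kronecker_mul,
      swapMat_mul_kronecker, Matrix.one_mul, Matrix.mul_one]
  obtain ⟨r, s, h1, h2⟩ := exists_nat_add_sub K T hTT hTK
  have htr1 : ∀ g, (K g).trace = ρ.character g ^ 2 * conj (χ g) := by
    intro g
    rw [hKg, Matrix.trace_kronecker, Matrix.trace_kronecker, Matrix.trace_transpose,
      trace_repMat, trace_repMat, hσ, hinv, pow_two]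
  have htr2 : ∀ g, (T * K g).trace = ρ.character (g * g) * conj (χ g) := by
    intro g
    rw [hKg, hT, ← Matrix.mul_kronecker_mul, Matrix.one_mul, Matrix.trace_kronecker,
      Matrix.trace_transpose, trace_swapMat_mul_kronecker, ← map_mul, trace_repMat, trace_repMat,
      hσ, hinv]
  refine ⟨r, ?_⟩
  have hsum : classInner (sym2 ρ.character) χ =
      ((Nat.card G : ℂ)⁻¹ * ∑ g, (K g).trace + (Nat.card G : ℂ)⁻¹ * ∑ g, (T * K g).trace) / 2 := by
    unfold classInner sym2
    rw [← mul_add, ← Finset.sum_add_distrib, mul_div_assoc, Finset.sum_div]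
    congr 1
    apply Finset.sum_congr rfl
    intro g _
    rw [htr1, htr2]
    ring
  rw [hsum, h1, h2]
  ring

end Cfsg.Agent.Helper23.B2
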