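import Mathlib
import Cfsg.Prelude.Def_Local
import Cfsg.Agent.Lib.Helper22.QAutDefs
import Cfsg.Agent.Lib.Helper23.PSolvable

/-!
S4411, PIECE Q1 : `AutSolv p G` passes to `G ⧸ W`, `W` a normal `p`-subgroup.
-/

set_option autoImplicit false
set_option linter.unusedSectionVars false

namespace Cfsg.Agent.Helper22.QAut

open Cfsg Subgroup

variable {G : Type*} [Group G] [Finite G] {p q : ℕ} [Fact p.Prime] [Fact q.Prime]

/-- General transfer: if `f : N →* M` is onto and `f C ≤ D`, then `M ⧸ D` is a quotient of `N ⧸ C`. -/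
theorem isPSolvable_quot_of_surjective {N M : Type*} [Group N] [Group M] {p : ℕ} [Fact p.Prime]
    (f : N →* M) (hf : Function.Surjective f)
    (C : Subgroup N) [C.Normal] (D : Subgroup M) [D.Normal] (hCD : C ≤ D.comap f)
    (h : IsPSolvable p (N ⧸ C)) : IsPSolvable p (M ⧸ D) := by
  refine Cfsg.Agent.Helper23.PSolv.isPSolvable_of_surjective (QuotientGroup.map C D f hCD) ?_ h
  apply QuotientGroup.map_surjective_of_surjective
  intro y
  induction y using QuotientGroup.induction_on with
  | H m =>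
    obtain ⟨x, rfl⟩ := hf m
    exact ⟨x, rfl⟩

/-- Piece Q1. -/
theorem autSolv_quotient (W : Subgroup G) [W.Normal] (hW : IsPGroup p ↥W) (h : AutSolv p G) :
    AutSolv p (G ⧸ W) := by
  intro R hR
  have hsurj := QuotientGroup.mk'_surjective W
  have hRp : IsPGroup p (R.comap (QuotientGroup.mk' W)) :=
    hR.comap_of_ker_isPGroup (QuotientGroup.mk' W) (by rw [QuotientGroup.ker_mk']; exact hW)
  have hsol := h (R.comap (QuotientGroup.mk' W)) hRp
  have hnorm : (normalizer (R : Set (G ⧸ W))).comap (QuotientGroup.mk' W) =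
      normalizer ((R.comap (QuotientGroup.mk' W) : Subgroup G) : Set G) :=
    comap_normalizer_eq_of_surjective R hsurj
  have hmem : ∀ x : G, x ∈ normalizer ((R.comap (QuotientGroup.mk' W) : Subgroup G) : Set G) →
      QuotientGroup.mk' W x ∈ normalizer (R : Set (G ⧸ W)) := by
    intro x hx
    rw [← hnorm] at hx
    exact hx
  let φ : normalizer ((R.comap (QuotientGroup.mk' W) : Subgroup G) : Set G) →*
      normalizer (R : Set (G ⧸ W)) :=
    { toFun := fun x => ⟨QuotientGroup.mk' W x.1, hmem x.1 x.2⟩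
      map_one' := rfl
      map_mul' := fun _ _ => rfl }
  have hφ : Function.Surjective φ := by
    rintro ⟨y, hy⟩
    obtain ⟨x, rfl⟩ := hsurj y
    have hx : x ∈ normalizer ((R.comap (QuotientGroup.mk' W) : Subgroup G) : Set G) := by
      rw [← hnorm]
      exact hy
    exact ⟨⟨x, hx⟩, rfl⟩
  refine isPSolvable_quot_of_surjective φ hφ _ _ ?_ hsol
  intro x hx
  rw [Subgroup.mem_comap, Subgroup.mem_subgroupOf, Subgroup.mem_centralizer_iff]
  rw [Subgroup.mem_subgroupOf, Subgroup.mem_centralizer_iff] at hx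
  intro y hy
  obtain ⟨z, rfl⟩ := hsurj y
  have hz : z ∈ R.comap (QuotientGroup.mk' W) := hy
  have := hx z hz
  show QuotientGroup.mk' W z * QuotientGroup.mk' W x.1 = QuotientGroup.mk' W x.1 * QuotientGroup.mk' W z
  rw [← map_mul, ← map_mul, this]

end Cfsg.Agent.Helper22.QAut
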