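import Mathlib
import Cfsg.Prelude.Def_Local
import Cfsg.Agent.Lib.Helper22.QAutDefs
import Cfsg.Agent.Lib.Helper23.PSolvable
import Cfsg.Agent.Lib.Helper23.QAutQ1

/-!
S4411, PIECE CHAIN : from a `p`-solvable chain of `N_G(H)/C_G(H)` whose order is divisible by `q`,
an `N_G(H)`-invariant section `B/L` above `H C_G(H)` of order prime to `p` and divisible by `q`.
-/

set_option autoImplicit false
set_option linter.unusedSectionVars false

namespace Cfsg.Agent.Helper22.QAut

open Cfsg Subgroup

variable {G : Type*} [Group G] [Finite G] {p q : ℕ} [Fact p.Prime] [Fact q.Prime]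

/-- the image in `G` of a normal subgroup of `N` is normalized by `N` -/
theorem chain_le_normalizer_map_subtype {G : Type*} [Group G] (N : Subgroup G) (M : Subgroup N)
    [M.Normal] : N ≤ normalizer ((M.map N.subtype : Subgroup G) : Set G) := by
  have h1 := le_normalizer_map (H := M) N.subtype
  rw [normalizer_eq_top, ← MonoidHom.range_eq_map, Subgroup.range_subtype] at h1
  exact h1

/-- a prime dividing the index of the bottom of a chain in its top divides one of the steps -/
theorem chain_exists_step {N : Type*} [Group N] {q : ℕ} (hq : q.Prime) {n : ℕ}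
    (K : Fin (n + 1) → Subgroup N) (hmono : Monotone K)
    (h : q ∣ (K 0).relIndex (K (Fin.last n))) :
    ∃ j : Fin n, q ∣ (K j.castSucc).relIndex (K j.succ) := by
  have key : ∀ i : ℕ, ∀ hi : i < n + 1, q ∣ (K 0).relIndex (K ⟨i, hi⟩) →
      ∃ j : Fin n, q ∣ (K j.castSucc).relIndex (K j.succ) := by
    intro i
    induction i with
    | zero =>
      intro hi hdiv
      have : (K 0).relIndex (K ⟨0, hi⟩) = 1 := relIndex_self _
      rw [this] at hdiv
      exact absurd (Nat.dvd_one.1 hdiv) hq.one_lt.ne'
    | succ i ih =>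
      intro hi hdiv
      have hi' : i < n + 1 := by omega
      have h1 : K 0 ≤ K ⟨i, hi'⟩ := hmono (Fin.zero_le _)
      have h2 : K ⟨i, hi'⟩ ≤ K ⟨i + 1, hi⟩ := hmono (by simp [Fin.le_def])
      rw [← relIndex_mul_relIndex _ _ _ h1 h2] at hdiv
      rcases (Nat.Prime.dvd_mul hq).1 hdiv with h | h
      · exact ih hi' h
      · exact ⟨⟨i, by omega⟩, h⟩
  exact key n (Nat.lt_succ_self n) h

/-- Piece CHAIN. -/
theorem exists_chain_step (hpq : p ≠ q) (H : Subgroup G) (hH : IsPGroup p ↥H)
    (hsol : Cfsg.IsPSolvable p (↥(Subgroup.normalizer (H : Set G)) ⧸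
      (Subgroup.centralizer (H : Set G)).subgroupOf (Subgroup.normalizer (H : Set G))))
    (hq : q ∣ ((Subgroup.centralizer (H : Set G)).subgroupOf
      (Subgroup.normalizer (H : Set G))).index) :
    ∃ L B : Subgroup G, H ≤ L ∧ Subgroup.centralizer (H : Set G) ≤ L ∧ L ≤ B ∧
      B ≤ Subgroup.normalizer (H : Set G) ∧
      Subgroup.normalizer (H : Set G) ≤ Subgroup.normalizer (L : Set G) ∧
      Subgroup.normalizer (H : Set G) ≤ Subgroup.normalizer (B : Set G) ∧
      ¬ p ∣ L.relIndex B ∧ q ∣ L.relIndex B := by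
  have hpP : p.Prime := Fact.out
  have hqP : q.Prime := Fact.out
  have hHN : H ≤ normalizer (H : Set G) := le_normalizer
  have hCN : centralizer (H : Set G) ≤ normalizer (H : Set G) := centralizer_le_normalizer _
  -- D = C' ⊔ H' inside N
  have hD : ((centralizer (H : Set G)).subgroupOf (normalizer (H : Set G)) ⊔
      H.subgroupOf (normalizer (H : Set G))).Normal := inferInstance
  have hsolD : IsPSolvable p (↥(normalizer (H : Set G)) ⧸
      ((centralizer (H : Set G)).subgroupOf (normalizer (H : Set G)) ⊔
        H.subgroupOf (normalizer (H : Set G)))) :=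
    isPSolvable_quot_of_surjective (MonoidHom.id _) Function.surjective_id _ _
      (by
        intro x hx
        exact (le_sup_left : _ ≤ (centralizer (H : Set G)).subgroupOf (normalizer (H : Set G)) ⊔
          H.subgroupOf (normalizer (H : Set G))) hx) hsol
  -- q divides the index of D
  have hqD : q ∣ ((centralizer (H : Set G)).subgroupOf (normalizer (H : Set G)) ⊔
      H.subgroupOf (normalizer (H : Set G))).index := by
    have h1 := relIndex_mul_index (le_sup_left :
      (centralizer (H : Set G)).subgroupOf (normalizer (H : Set G)) ≤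
        (centralizer (H : Set G)).subgroupOf (normalizer (H : Set G)) ⊔
        H.subgroupOf (normalizer (H : Set G)))
    rw [← h1] at hq
    rcases (Nat.Prime.dvd_mul hqP).1 hq with h | h
    · exfalso
      rw [relIndex_sup_left] at h
      have h2 : q ∣ Nat.card (H.subgroupOf (normalizer (H : Set G))) :=
        dvd_trans h (relIndex_dvd_card _ _)
      have hH' : IsPGroup p (H.subgroupOf (normalizer (H : Set G))) :=
        hH.comap_of_injective _ (Subgroup.subtype_injective _)
      obtain ⟨m, hm⟩ := IsPGroup.iff_card.1 hH'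
      rw [hm] at h2
      exact hpq ((Nat.prime_dvd_prime_iff_eq hqP hpP).1 (hqP.dvd_of_dvd_pow h2)).symm
    · exact h
  obtain ⟨n, Hc, h0, hn, hmono, hnorm, hfac⟩ := hsolD
  set D := (centralizer (H : Set G)).subgroupOf (normalizer (H : Set G)) ⊔
      H.subgroupOf (normalizer (H : Set G)) with hDdef
  have hsurj := QuotientGroup.mk'_surjective D
  let K : Fin (n + 1) → Subgroup (normalizer (H : Set G)) :=
    fun i => (Hc i).comap (QuotientGroup.mk' D)
  have hK0 : K 0 = D := by
    show (Hc 0).comap (QuotientGroup.mk' D) = D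
    rw [h0, MonoidHom.comap_bot, QuotientGroup.ker_mk']
  have hKn : K (Fin.last n) = ⊤ := by
    show (Hc (Fin.last n)).comap (QuotientGroup.mk' D) = ⊤
    rw [hn, Subgroup.comap_top]
  have hKmono : Monotone K := fun i j hij => Subgroup.comap_mono (hmono hij)
  have hKnorm : ∀ i, (K i).Normal := fun i => (hnorm i).comap _
  have hKrel : ∀ i : Fin n, (K i.castSucc).relIndex (K i.succ) =
      (Hc i.castSucc).relIndex (Hc i.succ) := by
    intro i
    show ((Hc i.castSucc).comap (QuotientGroup.mk' D)).relIndex
      ((Hc i.succ).comap (QuotientGroup.mk' D)) = _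
    rw [relIndex_comap, Subgroup.map_comap_eq_self_of_surjective hsurj]
  have hstep : ∃ j : Fin n, q ∣ (K j.castSucc).relIndex (K j.succ) := by
    apply chain_exists_step hqP K hKmono
    rw [hK0, hKn, relIndex_top_right]
    exact hqD
  obtain ⟨j, hj⟩ := hstep
  have hDle : D ≤ K j.castSucc := hK0.ge.trans (hKmono (Fin.zero_le _))
  have _ := hKnorm j.castSucc
  have _ := hKnorm j.succ
  refine ⟨(K j.castSucc).map (normalizer (H : Set G)).subtype,
    (K j.succ).map (normalizer (H : Set G)).subtype, ?_, ?_, ?_, ?_, ?_, ?_, ?_⟩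
  · intro x hx
    refine ⟨⟨x, hHN hx⟩, hDle ?_, rfl⟩
    apply (le_sup_right : H.subgroupOf (normalizer (H : Set G)) ≤ D)
    rw [mem_subgroupOf]
    exact hx
  · intro x hx
    refine ⟨⟨x, hCN hx⟩, hDle ?_, rfl⟩
    apply (le_sup_left : (centralizer (H : Set G)).subgroupOf (normalizer (H : Set G)) ≤ D)
    rw [mem_subgroupOf]
    exact hx
  · exact Subgroup.map_mono (hKmono (Fin.castSucc_le_succ j))
  · exact Subgroup.map_subtype_le _
  · exact chain_le_normalizer_map_subtype _ _
  · exact chain_le_normalizer_map_subtype _ _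
  · rw [relIndex_map_map_of_injective _ _ (Subgroup.subtype_injective _)]
    have hfj := hfac j
    rw [← hKrel j] at hfj
    rcases hfj with ⟨m, hm⟩ | hcop
    · exfalso
      rw [hm] at hj
      exact hpq ((Nat.prime_dvd_prime_iff_eq hqP hpP).1 (hqP.dvd_of_dvd_pow hj)).symm
    · refine ⟨?_, hj⟩
      intro hpd
      have := Nat.dvd_gcd hpd (dvd_refl p)
      rw [Nat.Coprime] at hcop
      rw [hcop] at this
      exact hpP.one_lt.ne' (Nat.dvd_one.1 this)

end Cfsg.Agent.Helper22.QAut
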