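import Mathlib
import Cfsg.Prelude.Def_Local
import Cfsg.Agent.Lib.Helper22.QAutDefs
import Cfsg.Agent.Lib.Helper23.PSolvable

/-!
S4411, PIECE SUBSOL : `AutSolv p G` passes to subgroups.
-/

set_option autoImplicit false
set_option linter.unusedSectionVars false

namespace Cfsg.Agent.Helper22.QAut

open Cfsg Subgroup

variable {G : Type*} [Group G] [Finite G] {p q : ℕ} [Fact p.Prime] [Fact q.Prime]

/-- General transfer: if `f : N →* M` has `f ⁻¹ D = C`, then `N ⧸ C` embeds in `M ⧸ D`, so
`p`-solvability of `M ⧸ D` gives that of `N ⧸ C`. -/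
theorem isPSolvable_quot_of_comap_eq {N M : Type*} [Group N] [Group M] {p : ℕ} [Fact p.Prime]
    (f : N →* M)
    (C : Subgroup N) [C.Normal] (D : Subgroup M) [D.Normal] (hCD : D.comap f = C)
    (h : IsPSolvable p (M ⧸ D)) : IsPSolvable p (N ⧸ C) := by
  let g : N →* M ⧸ D := (QuotientGroup.mk' D).comp f
  have hker : g.ker = C := by
    ext x
    rw [MonoidHom.mem_ker, ← hCD, Subgroup.mem_comap]
    show ((f x : M) : M ⧸ D) = 1 ↔ _
    rw [QuotientGroup.eq_one_iff]
  have _ : g.ker.Normal := inferInstance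
  let e : N ⧸ C ≃* N ⧸ g.ker := QuotientGroup.quotientMulEquivOfEq hker.symm
  have hinj : Function.Injective ((QuotientGroup.kerLift g).comp e.toMonoidHom) :=
    (QuotientGroup.kerLift_injective g).comp e.injective
  exact Cfsg.Agent.Helper23.PSolv.isPSolvable_of_injective _ hinj h

/-- Piece SUBSOL. -/
theorem autSolv_subgroup (G₁ : Subgroup G) (h : AutSolv p G) : AutSolv p ↥G₁ := by
  intro H hH
  have hH'p : IsPGroup p (H.map G₁.subtype) := hH.map G₁.subtype
  have hsol := h (H.map G₁.subtype) hH'p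
  have hmemH : ∀ x : G₁, (x : G) ∈ H.map G₁.subtype ↔ x ∈ H := by
    intro x
    constructor
    · rintro ⟨y, hy, hyx⟩
      have : y = x := Subtype.ext hyx
      exact this ▸ hy
    · intro hx
      exact ⟨x, hx, rfl⟩
  have hmem : ∀ x : G₁, x ∈ normalizer (H : Set G₁) →
      (x : G) ∈ normalizer ((H.map G₁.subtype : Subgroup G) : Set G) := by
    intro x hx
    have := le_normalizer_map (H := H) G₁.subtype ⟨x, hx, rfl⟩
    exact this
  let φ : normalizer (H : Set G₁) →* normalizer ((H.map G₁.subtype : Subgroup G) : Set G) :=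
    { toFun := fun x => ⟨x.1.1, hmem x.1 x.2⟩
      map_one' := rfl
      map_mul' := fun _ _ => rfl }
  refine isPSolvable_quot_of_comap_eq φ _ _ ?_ hsol
  ext x
  rw [Subgroup.mem_comap, Subgroup.mem_subgroupOf, Subgroup.mem_subgroupOf,
    Subgroup.mem_centralizer_iff, Subgroup.mem_centralizer_iff]
  constructor
  · intro hx y hy
    have := hx (y : G) ((hmemH y).2 hy)
    exact Subtype.ext this
  · intro hx y hy
    obtain ⟨z, hz, rfl⟩ := hy
    have := hx z hz
    exact congrArg Subtype.val this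

end Cfsg.Agent.Helper22.QAut
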