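import Mathlib

/-!
# S2262 piece AO-NUM2 (helper23): `num_graph_field`
-/

set_option autoImplicit false

namespace Cfsg.Agent.Helper17.AO

/-- `2 * e ≤ 4 ^ (e - 1)` for `2 ≤ e` (in the form `2 * (n + 2) ≤ 4 ^ (n + 1)`). -/
theorem ao_num2_two_mul_le_four_pow (n : ℕ) : 2 * (n + 2) ≤ 4 ^ (n + 1) := by
  induction n with
  | zero => norm_num
  | succ n ih =>
    have : 4 ^ (n + 1 + 1) = 4 * 4 ^ (n + 1) := by ring
    omega

/-- `2 * e * y ≤ y ^ e` for `4 ≤ y`, `2 ≤ e`. -/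
theorem ao_num2_mul_le_pow (y e : ℕ) (hy : 4 ≤ y) (he : 2 ≤ e) : 2 * e * y ≤ y ^ e := by
  obtain ⟨n, rfl⟩ : ∃ n, e = n + 2 := ⟨e - 2, by omega⟩
  have h1 : 2 * (n + 2) ≤ y ^ (n + 1) :=
    le_trans (ao_num2_two_mul_le_four_pow n) (Nat.pow_le_pow_left hy _)
  calc 2 * (n + 2) * y ≤ y ^ (n + 1) * y := Nat.mul_le_mul_right _ h1
    _ = y ^ (n + 2) := by ring

/-- base case `d = 3`. -/
theorem ao_num2_base (x e : ℕ) (hx : 2 ≤ x) (he : 2 ≤ e) (hne : ¬(x = 2 ∧ e = 2)) :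
    2 * e * (1 + x + x ^ 2) ≤ 1 + x ^ e + (x ^ e) ^ 2 := by
  have hx3 : 1 + x + x ^ 2 ≤ x ^ 3 := by nlinarith [Nat.mul_le_mul hx hx]
  rcases Nat.lt_or_ge e 3 with h3 | h3
  · have he2 : e = 2 := by omega
    subst he2
    have hx3' : 3 ≤ x := by
      rcases Nat.lt_or_ge x 3 with h | h
      · exfalso; apply hne; constructor <;> omega
      · exact h
    have h9 : 9 ≤ x ^ 2 := by nlinarith
    nlinarith [Nat.mul_le_mul h9 h9]
  · induction e, h3 using Nat.le_induction with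
    | base =>
      have h4 : 4 ≤ x ^ 2 := by nlinarith
      have h8 : 8 ≤ x ^ 3 := by nlinarith
      nlinarith [Nat.mul_le_mul h8 h8]
    | succ n hn ih =>
      have ih' := ih (by omega) (by omega)
      have h1 : x ^ 3 ≤ x ^ n := Nat.pow_le_pow_right (by omega) hn
      have h2 : 2 * x ^ n ≤ x ^ (n + 1) := by
        calc 2 * x ^ n ≤ x * x ^ n := Nat.mul_le_mul_right _ hx
          _ = x ^ (n + 1) := by ring
      have h3 : x ^ n ≤ (x ^ n) ^ 2 := by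
        have : 1 ≤ x ^ n := Nat.one_le_pow _ _ (by omega)
        nlinarith
      have h4 : 4 * (x ^ n) ^ 2 ≤ (x ^ (n + 1)) ^ 2 := by
        calc 4 * (x ^ n) ^ 2 = (2 * x ^ n) ^ 2 := by ring
          _ ≤ (x ^ (n + 1)) ^ 2 := Nat.pow_le_pow_left h2 2
      calc 2 * (n + 1) * (1 + x + x ^ 2) = 2 * n * (1 + x + x ^ 2) + 2 * (1 + x + x ^ 2) := by ring
        _ ≤ (1 + x ^ n + (x ^ n) ^ 2) + 2 * x ^ n := by omega
        _ ≤ 1 + x ^ (n + 1) + (x ^ (n + 1)) ^ 2 := by omega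

/-- the key inequality `2 * e * ∑_{i<d} x^i ≤ ∑_{i<d} (x^e)^i`. -/
theorem ao_num2_sum_le (x e d : ℕ) (hx : 2 ≤ x) (he : 2 ≤ e) (hd : 3 ≤ d)
    (hne : ¬(x = 2 ∧ e = 2 ∧ d = 3)) :
    2 * e * (∑ i ∈ Finset.range d, x ^ i) ≤ ∑ i ∈ Finset.range d, (x ^ e) ^ i := by
  -- step
  have step : ∀ n : ℕ, 2 ≤ n →
      2 * e * (∑ i ∈ Finset.range n, x ^ i) ≤ ∑ i ∈ Finset.range n, (x ^ e) ^ i →
      2 * e * (∑ i ∈ Finset.range (n + 1), x ^ i) ≤
        ∑ i ∈ Finset.range (n + 1), (x ^ e) ^ i := by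
    intro n hn ih
    rw [Finset.sum_range_succ, Finset.sum_range_succ, Nat.mul_add]
    have h4 : 4 ≤ x ^ n := by
      calc 4 = 2 ^ 2 := by norm_num
        _ ≤ x ^ 2 := Nat.pow_le_pow_left hx 2
        _ ≤ x ^ n := Nat.pow_le_pow_right (by omega) hn
    have := ao_num2_mul_le_pow (x ^ n) e h4 he
    have e1 : (x ^ e) ^ n = (x ^ n) ^ e := by rw [← pow_mul, ← pow_mul, Nat.mul_comm]
    rw [e1]
    omega
  by_cases h22 : x = 2 ∧ e = 2
  · obtain ⟨rfl, rfl⟩ := h22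
    have hd4 : 4 ≤ d := by
      rcases Nat.lt_or_ge d 4 with h | h
      · exfalso; apply hne; refine ⟨rfl, rfl, ?_⟩; omega
      · exact h
    induction d, hd4 using Nat.le_induction with
    | base => norm_num [Finset.sum_range_succ]
    | succ n hn ih =>
      exact step n (by omega) (ih (by omega) (by intro h; omega))
  · induction d, hd using Nat.le_induction with
    | base =>
      have := ao_num2_base x e hx he h22
      simpa [Finset.sum_range_succ, add_assoc] using this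
    | succ n hn ih =>
      exact step n (by omega) (ih (by intro h; exact h22 ⟨h.1, h.2.1⟩))

/-- AO-NUM2 -/
theorem num_graph_field (x e d k : ℕ) (hx : 2 ≤ x) (he : 2 ≤ e) (hd : 3 ≤ d)
    (hne : ¬(x = 2 ∧ e = 2 ∧ d = 3)) (hk : (x - 1) * k ≤ x ^ d - 1) :
    (x ^ e - 1) * (2 * (e * k)) ≤ (x ^ e) ^ d - 1 := by
  have hG : (∑ i ∈ Finset.range d, x ^ i) * (x - 1) + 1 = x ^ d := by
    have := geom_sum_mul_add (x - 1) d
    rwa [Nat.sub_add_cancel (by omega : 1 ≤ x)] at this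
  have hxe : 1 ≤ x ^ e := Nat.one_le_pow _ _ (by omega)
  have hH : (∑ i ∈ Finset.range d, (x ^ e) ^ i) * (x ^ e - 1) + 1 = (x ^ e) ^ d := by
    have := geom_sum_mul_add (x ^ e - 1) d
    rwa [Nat.sub_add_cancel hxe] at this
  have hkG : k ≤ ∑ i ∈ Finset.range d, x ^ i := by
    have h1 : (x - 1) * k ≤ (x - 1) * ∑ i ∈ Finset.range d, x ^ i := by
      calc (x - 1) * k ≤ x ^ d - 1 := hk
        _ = (x - 1) * ∑ i ∈ Finset.range d, x ^ i := by
          rw [← hG]; simp [Nat.mul_comm]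
    exact Nat.le_of_mul_le_mul_left h1 (by omega)
  have hS := ao_num2_sum_le x e d hx he hd hne
  calc (x ^ e - 1) * (2 * (e * k)) = (x ^ e - 1) * (2 * e * k) := by rw [Nat.mul_assoc]
    _ ≤ (x ^ e - 1) * (2 * e * ∑ i ∈ Finset.range d, x ^ i) :=
        Nat.mul_le_mul_left _ (Nat.mul_le_mul_left _ hkG)
    _ ≤ (x ^ e - 1) * ∑ i ∈ Finset.range d, (x ^ e) ^ i := Nat.mul_le_mul_left _ hS
    _ = (x ^ e) ^ d - 1 := by
      rw [← hH]; simp [Nat.mul_comm]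

end Cfsg.Agent.Helper17.AO
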