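import Mathlib
import Cfsg.Prelude.Def_Blocks
import Cfsg.Agent.Lib.Helper24.CharLinear
import Cfsg.Agent.Lib.Helper24.CharComplete
import Cfsg.Agent.Lib.Helper18.GaloisConj
import Cfsg.Agent.Lib.Helper16.ITODefs
import Cfsg.Agent.Lib.Helper2.ITOLAM2Core
import Cfsg.Agent.Lib.Helper23.B2Defs
import Cfsg.Agent.Lib.Helper24.B2TW
import Cfsg.Agent.Lib.Helper5.B2LOC
import Cfsg.Agent.Lib.Helper1.B2CRT
import Cfsg.Agent.Lib.Helper18.B2PARS
import Cfsg.Agent.Lib.Helper18.B2LAM
import Cfsg.Agent.Lib.Helper4.B2V1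
import Cfsg.Agent.Lib.Helper4.B2V2
import Cfsg.Agent.Lib.Helper24.B2RAT
import Cfsg.Agent.Lib.Helper1.B2V3
import Cfsg.Agent.Lib.Helper1.B2SUMM
import Cfsg.Agent.Lib.Helper22.B2SYM
import Cfsg.Agent.Lib.Helper22.B2SING
import Cfsg.Agent.Lib.Helper19.B2CNT
import Cfsg.Agent.Lib.Helper26.B2GPERF
import Cfsg.Agent.Lib.Helper16.B2GID
import Cfsg.Agent.Lib.Helper26.B2GLIFT

/-!
# S4705 (Brauer: a faithful irreducible character of degree `p - 2`): ASSEMBLY (helper23)

Paper proof: `plans/S4705_proof.md`.  Pieces by helper1 (CRT, CRT2, CRT3, SUMM, V3), helper4 (V1, V2), helper5 (LOC),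
helper16 (GID), helper18 (PARS, NC, GAL, LAM), helper19 (CNT, COSET), helper22 (SYM, SING), helper24 (TW, OVER, RAT),
helper25 (LOCNUM), helper26 (GPERF, GLIFT), helper23 (SCH, SYM2NAT, definitions, assembly).
-/

set_option autoImplicit false
set_option linter.unusedSectionVars false
set_option linter.unusedVariables false
set_option linter.style.haveILetI false

namespace Cfsg.Agent.Helper23.B2

open scoped ComplexConjugate
open Cfsg Cfsg.Agent.Helper24 Cfsg.Agent.Helper16.ITO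

universe u

theorem sym2_isClassFunction {G : Type u} [Group G] {ζ : G → ℂ} (hζ : IsClassFunction G ζ) :
    IsClassFunction G (sym2 ζ) := by
  intro g h
  have e : h * g * h⁻¹ * (h * g * h⁻¹) = h * (g * g) * h⁻¹ := by group
  simp only [sym2]
  rw [e, hζ g h, hζ (g * g) h]

theorem two_pow_not_dvd {p : ℕ} (hpp : p.Prime) (hp : 5 < p) {n i : ℕ} (h : n = 2 ^ i) : ¬ p ∣ n := by
  intro hd
  rw [h] at hd
  have := (Nat.prime_dvd_prime_iff_eq hpp Nat.prime_two).1 (hpp.dvd_of_dvd_pow hd)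
  omega

/-- ASSEMBLY of the core: the order of `G`, with the local structure. -/
theorem core_card {G : Type u} [Group G] [Fintype G] {p : ℕ} [Fact p.Prime] {P : Sylow p G}
    {ζ : IrrCharacter G} (h : Core p P ζ) (D : BData p P ζ) :
    Nat.card G = p * (p - 1) * (p - 2) * Nat.card (Subgroup.center G) := by
  classical
  have hpp : p.Prime := Fact.out
  letI : Fintype (IrrCharacter G) := irrFintype
  have hp2 : p ≠ 2 := by have := h.hp; omega
  obtain ⟨r, hr⟩ := exists_isR (P := P) hp2 h.cardP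
  obtain ⟨hsup, hFE⟩ := lam_support h D hr
  -- odd elements
  have hodd : ∀ g : G, Odd (orderOf g) → ¬ p ∣ orderOf g → g ∉ Subgroup.center G →
      (ζ : G → ℂ) g = 0 := by
    intro g hgo hgp hgZ
    refine value_odd h.hp (ζ : G → ℂ) ?_ h.cen hgo hgp hgZ
    intro g' hgo' hgp'
    have h1 := hFE g' hgp'
    rw [hr.onOdd g' hgo' hgp'] at h1
    linear_combination -h1
  -- 2-elements
  have hFE2 : ∀ x : G, (∃ i : ℕ, orderOf x = 2 ^ i) →
      (ζ : G → ℂ) (x * x) = (ζ : G → ℂ) x ^ 2 - ((p : ℂ) - 3) * (ζ : G → ℂ) x := by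
    intro x hx
    obtain ⟨i, hi⟩ := hx
    have h1 := hFE x (two_pow_not_dvd hpp h.hp hi)
    rwa [hr.onTwo x ⟨i, hi⟩] at h1
  have htwo : ∀ x : G, (∃ i : ℕ, orderOf x = 2 ^ i) →
      x * x ∈ Subgroup.center G ∧ (x ∉ Subgroup.center G → (ζ : G → ℂ) x = -1) := by
    intro x hx
    exact two_elements h.hp (ζ : G → ℂ) h.deg hFE2 (fun x hx => int_value_two h D hx) h.cen h.two hx
  have hmix : ∀ x y : G, (∃ i : ℕ, orderOf x = 2 ^ i) → x ∉ Subgroup.center G →
      Odd (orderOf y) → ¬ p ∣ orderOf y → y ∉ Subgroup.center G → x * y = y * x →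
      (ζ : G → ℂ) (x * y) = 0 := by
    intro x y hx hxZ hy hyp hyZ hxy
    exact value_mixed h hr hFE hodd htwo hx hxZ hy hyp hyZ hxy
  have hsum := summary h hodd htwo hmix
  have hsym := sym_support h D hr htwo
  have hζcf : IsClassFunction G (ζ : G → ℂ) := isClassFunction_of_isIrrCharacter ζ.2
  have horth : classInner (sym2 (ζ : G → ℂ)) (lam2 (ζ : G → ℂ)) = 0 := by
    rw [parseval_gal hr.cop (sym2_isClassFunction hζcf)
      (Cfsg.Agent.Helper16.ITO.LAM2.lam2_isClassFunction hζcf)]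
    refine Finset.sum_eq_zero fun χ _ => ?_
    by_cases hχ : χ ∈ D.Y
    · rw [hsym χ hχ, zero_mul]
    · have : classInner (lam2 (ζ : G → ℂ)) (gal χ hr.cop : G → ℂ) = 0 := by
        by_contra hne
        exact hχ (hsup χ hne)
      rw [this, map_zero, mul_zero]
  exact card_eq h horth hsum (sum_singular h D)

/-- ASSEMBLY: S4705. -/
theorem main {G : Type u} [Group G] [Finite G] (p : ℕ) [Fact p.Prime] (hp : 5 < p) (P : Sylow p G)
    (hP : Nat.card P = p) (hnn : ¬ (P : Subgroup G).Normal) (ζ : G → ℂ)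
    (hζ : Cfsg.IsIrrCharacter G ζ) (hfaith : ∀ g : G, ζ g = ζ 1 → g = 1)
    (hdeg : Cfsg.charDegree ζ = p - 2) :
    ∃ (a : ℕ) (F : Type) (_ : Field F) (_ : Fintype F), p = 2 ^ a + 1 ∧ Fintype.card F = 2 ^ a ∧
      Nonempty (G ≃* Matrix.SpecialLinearGroup (Fin 2) F × Subgroup.center G) := by
  classical
  haveI : Fintype G := Fintype.ofFinite G
  obtain ⟨ζ₁, h⟩ := exists_core p hp P hP hnn ζ hζ hfaith hdeg
  obtain ⟨D⟩ := exists_bdata h
  have hcard := core_card h D
  have hperf := commutator_sup_center p hp P hP D.cent D.relIndex hcard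
  obtain ⟨a, F, iF, iF', hpa, hFa, ⟨e⟩⟩ := exists_iso_quotient p hp P hP hnn D.cent hcard hperf
  refine ⟨a, F, iF, iF', hpa, hFa, ?_⟩
  have ha : 3 ≤ a := by
    by_contra hlt
    have : a ≤ 2 := by omega
    interval_cases a <;> omega
  have h8 : 2 ^ 3 ≤ 2 ^ a := Nat.pow_le_pow_right (by norm_num) ha
  have hF4 : Fintype.card F ≠ 4 := by rw [hFa]; omega
  have hF9 : Fintype.card F ≠ 9 := by
    rw [hFa]
    intro h9
    have : (2 : ℕ) ∣ 9 := by
      rw [← h9]
      exact dvd_pow_self 2 (by omega)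
    omega
  exact exists_iso_prod hF4 hF9 hperf e

end Cfsg.Agent.Helper23.B2
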