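import Mathlib
import Cfsg.Agent.Lib.Helper5.BGFwK
import Cfsg.Agent.Lib.Helper14.BGUniqM
import Cfsg.Agent.Lib.Helper20.MinInv

/-!
# A Frobenius group acting on a `p`-group with cyclic fixed points (helper23)

`Cfsg.Agent.Helper23.FWS.isCyclic_of_frobenius`: let `p` be an odd prime, `S` a `p`-subgroup of a
finite group `X`, and `U`, `E` subgroups such that `U E` is a Frobenius group (kernel `U` nilpotent,
complement `E` solvable, elementwise form as in helper8's `fw_group`) normalising `S` with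
`|U E|` prime to `p`.  If `C_S(U)` and `C_S(E)` are cyclic and `C_S(U E) ≠ 1`, then `S` is cyclic.
-/

set_option autoImplicit false

namespace Cfsg.Agent.Helper23.FWS

open Subgroup
open scoped commutatorElement

variable {X : Type*} [Group X]

/-! ### generalities -/

/-- the centre of a subgroup, as a subgroup of the ambient group -/
def zS (S : Subgroup X) : Subgroup X := S ⊓ centralizer (S : Set X)

theorem zS_le (S : Subgroup X) : zS S ≤ S := inf_le_left

theorem zS_comm (S : Subgroup X) : ∀ a ∈ zS S, ∀ b ∈ zS S, a * b = b * a := by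
  intro a ha b hb
  have h1 := (mem_centralizer_iff.mp (mem_inf.mp ha).2) b (mem_inf.mp hb).1
  exact h1.symm

theorem mem_zS_comm {S : Subgroup X} {c : X} (hc : c ∈ zS S) {s : X} (hs : s ∈ S) :
    c * s = s * c :=
  ((mem_centralizer_iff.mp (mem_inf.mp hc).2) s hs).symm

theorem conj_mem_of_mem_normalizer {S : Subgroup X} {g : X} (hg : g ∈ normalizer (S : Set X))
    {x : X} (hx : x ∈ S) : g * x * g⁻¹ ∈ S :=
  (mem_normalizer_iff.mp hg x).mp hx

theorem conj_inv_mem_of_mem_normalizer {S : Subgroup X} {g : X}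
    (hg : g ∈ normalizer (S : Set X)) {x : X} (hx : x ∈ S) : g⁻¹ * x * g ∈ S := by
  have := conj_mem_of_mem_normalizer (inv_mem hg) hx
  simpa using this

/-- a subgroup invariant under conjugation by a subgroup is normalised by it -/
theorem le_normalizer_of_conj_mem {Γ W : Subgroup X}
    (h : ∀ g ∈ Γ, ∀ w ∈ W, g * w * g⁻¹ ∈ W) : Γ ≤ normalizer (W : Set X) := by
  intro g hg
  rw [mem_normalizer_iff]
  intro x
  constructor
  · exact h g hg x
  · intro hx
    have := h g⁻¹ (Γ.inv_mem hg) _ hx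
    have h2 : g⁻¹ * (g * x * g⁻¹) * g⁻¹⁻¹ = x := by group
    rwa [h2] at this

theorem normalizer_le_normalizer_zS (S : Subgroup X) :
    normalizer (S : Set X) ≤ normalizer ((zS S : Subgroup X) : Set X) := by
  apply le_normalizer_of_conj_mem
  intro g hg c hc
  refine mem_inf.mpr ⟨conj_mem_of_mem_normalizer hg (zS_le S hc), ?_⟩
  rw [mem_centralizer_iff]
  intro s hs
  have hs' : g⁻¹ * s * g ∈ S := conj_inv_mem_of_mem_normalizer hg hs
  have h1 := mem_zS_comm hc hs'
  calc s * (g * c * g⁻¹) = g * ((g⁻¹ * s * g) * c) * g⁻¹ := by group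
    _ = g * (c * (g⁻¹ * s * g)) * g⁻¹ := by rw [h1]
    _ = g * c * g⁻¹ * s := by group

/-- the second centre of a subgroup, as a subgroup of the ambient group -/
def z2 (S : Subgroup X) : Subgroup X where
  carrier := {x | x ∈ S ∧ ∀ s ∈ S, ⁅x, s⁆ ∈ zS S}
  one_mem' := by
    refine ⟨S.one_mem, ?_⟩
    intro s _
    rw [commutatorElement_one_left]
    exact (zS S).one_mem
  mul_mem' := by
    rintro x y ⟨hx, hx'⟩ ⟨hy, hy'⟩
    refine ⟨S.mul_mem hx hy, ?_⟩
    intro s hs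
    have h1 : ⁅x * y, s⁆ = x * ⁅y, s⁆ * x⁻¹ * ⁅x, s⁆ := by
      simp only [commutatorElement_def]; group
    have h2 : x * ⁅y, s⁆ * x⁻¹ = ⁅y, s⁆ := by
      have := mem_zS_comm (hy' s hs) hx
      rw [← this]; group
    rw [h1, h2]
    exact (zS S).mul_mem (hy' s hs) (hx' s hs)
  inv_mem' := by
    rintro x ⟨hx, hx'⟩
    refine ⟨S.inv_mem hx, ?_⟩
    intro s hs
    have h1 : ⁅x⁻¹, s⁆ = x⁻¹ * ⁅x, s⁆⁻¹ * x := by
      simp only [commutatorElement_def]; group
    have h2 : x⁻¹ * ⁅x, s⁆⁻¹ * x = ⁅x, s⁆⁻¹ := by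
      have := mem_zS_comm ((zS S).inv_mem (hx' s hs)) (S.inv_mem hx)
      rw [← this]; group
    rw [h1, h2]
    exact (zS S).inv_mem (hx' s hs)

theorem mem_z2 {S : Subgroup X} {x : X} : x ∈ z2 S ↔ x ∈ S ∧ ∀ s ∈ S, ⁅x, s⁆ ∈ zS S := Iff.rfl

theorem z2_le (S : Subgroup X) : z2 S ≤ S := fun _ hx => hx.1

theorem normalizer_le_normalizer_z2 (S : Subgroup X) :
    normalizer (S : Set X) ≤ normalizer ((z2 S : Subgroup X) : Set X) := by
  apply le_normalizer_of_conj_mem
  intro g hg x hx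
  refine ⟨conj_mem_of_mem_normalizer hg hx.1, ?_⟩
  intro s hs
  have hs' : g⁻¹ * s * g ∈ S := conj_inv_mem_of_mem_normalizer hg hs
  have h1 : ⁅g * x * g⁻¹, s⁆ = g * ⁅x, g⁻¹ * s * g⁆ * g⁻¹ := by
    simp only [commutatorElement_def]; group
  rw [h1]
  exact conj_mem_of_mem_normalizer (normalizer_le_normalizer_zS S hg) (hx.2 _ hs')


/-! ### normal subgroups of order `p ^ 2` lie in the second centre -/

/-- in a nilpotent group `S`, a nontrivial `S`-invariant subgroup `K` has `[K, S] ≠ K` -/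
theorem commutator_ne_self {S K : Subgroup X} (hnil : Group.IsNilpotent ↥S) (hKS : K ≤ S)
    (hK1 : K ≠ ⊥) : ⁅K, S⁆ ≠ K := by
  intro h
  obtain ⟨c, hc⟩ := (Subgroup.isNilpotent_iff_lowerCentralSeries S).mp hnil
  have key : ∀ k, K ≤ S.lowerCentralSeries k := by
    intro k
    induction k with
    | zero => exact hKS
    | succ k ih =>
      rw [Subgroup.lowerCentralSeries_succ]
      calc K = ⁅K, S⁆ := h.symm
        _ ≤ ⁅S.lowerCentralSeries k, S⁆ := Subgroup.commutator_mono ih le_rfl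
  apply hK1
  rw [eq_bot_iff, ← hc]
  exact key c

variable [Finite X]

theorem card_mul_le_of_lt {p : ℕ} [hp : Fact p.Prime] {H K : Subgroup X} (hK : IsPGroup p ↥K)
    (hHK : H < K) : Nat.card ↥H * p ≤ Nat.card ↥K := by
  obtain ⟨k, hk⟩ := hK.exists_card_eq
  obtain ⟨j, hj⟩ := (hK.to_le hHK.le).exists_card_eq
  have hlt : Nat.card ↥H < Nat.card ↥K := by
    rcases eq_or_lt_of_le (Subgroup.card_le_of_le hHK.le) with h | h
    · exact absurd (Subgroup.eq_of_le_of_card_ge hHK.le h.ge) hHK.ne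
    · exact h
  rw [hk, hj] at hlt ⊢
  have hjk : j < k := (Nat.pow_lt_pow_iff_right hp.out.one_lt).mp hlt
  calc p ^ j * p = p ^ (j + 1) := (pow_succ p j).symm
    _ ≤ p ^ k := Nat.pow_le_pow_right hp.out.pos hjk

/-- a normal subgroup of order `p ^ 2` of a `p`-group lies in the second centre -/
theorem le_z2_of_card_sq {p : ℕ} [hp : Fact p.Prime] {S V : Subgroup X} (hS : IsPGroup p ↥S)
    (hVS : V ≤ S) (hSV : S ≤ normalizer (V : Set X)) (hV : Nat.card ↥V = p ^ 2) :
    V ≤ z2 S := by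
  have hnil : Group.IsNilpotent ↥S := hS.isNilpotent
  have hpp := hp.out
  set W₁ := ⁅V, S⁆ with hW₁
  have hW₁V : W₁ ≤ V := Cfsg.Agent.Helper20.MinInv.comm_le_of_le_normalizer hSV
  have hW₁S : W₁ ≤ S := hW₁V.trans hVS
  set W₂ := ⁅W₁, S⁆ with hW₂
  have hV1 : V ≠ ⊥ := by
    intro h
    rw [h, Subgroup.card_bot] at hV
    have : 1 < p ^ 2 := Nat.one_lt_pow (by norm_num) hpp.one_lt
    omega
  have hW₁lt : W₁ < V := lt_of_le_of_ne hW₁V (commutator_ne_self hnil hVS hV1)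
  have hc1 : Nat.card ↥W₁ * p ≤ p ^ 2 := by
    rw [← hV]; exact card_mul_le_of_lt (hS.to_le hVS) hW₁lt
  have hc1' : Nat.card ↥W₁ ≤ p := by
    have : Nat.card ↥W₁ * p ≤ p * p := by rw [← sq]; exact hc1
    exact Nat.le_of_mul_le_mul_right this hpp.pos
  have hW₂ : W₂ = ⊥ := by
    by_cases h1 : W₁ = ⊥
    · rw [hW₂, h1]; exact Subgroup.commutator_bot_left S
    · have hSW₁ : S ≤ normalizer (W₁ : Set X) := by
        have := Cfsg.Agent.Helper20.MinInv.normalizer_inf_le_normalizer_comm V S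
        exact (le_inf hSV Subgroup.le_normalizer).trans this
      have hW₂W₁ : W₂ ≤ W₁ := Cfsg.Agent.Helper20.MinInv.comm_le_of_le_normalizer hSW₁
      have hlt : W₂ < W₁ := lt_of_le_of_ne hW₂W₁ (commutator_ne_self hnil hW₁S h1)
      have hc2 : Nat.card ↥W₂ * p ≤ Nat.card ↥W₁ := card_mul_le_of_lt (hS.to_le hW₁S) hlt
      have hc3 : Nat.card ↥W₂ * p ≤ 1 * p := by omega
      have hc4 : Nat.card ↥W₂ ≤ 1 := Nat.le_of_mul_le_mul_right hc3 hpp.pos
      exact Subgroup.eq_bot_of_card_le _ hc4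
  have hW₁C : W₁ ≤ centralizer (S : Set X) :=
    Subgroup.commutator_eq_bot_iff_le_centralizer.mp hW₂
  intro v hv
  refine ⟨hVS hv, ?_⟩
  intro s hs
  have h1 : ⁅v, s⁆ ∈ W₁ := Subgroup.commutator_mem_commutator hv hs
  exact mem_inf.mpr ⟨hW₁S h1, hW₁C h1⟩


/-! ### cyclic `p`-groups -/

/-- in a finite cyclic group, an element of order dividing `p` lies in the subgroup generated by
any element of order `p` -/
theorem mem_zpowers_of_isCyclic {C : Type*} [Group C] [Finite C] [IsCyclic C] {p : ℕ}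
    (hp : 0 < p) {x y : C} (hx : orderOf x = p) (hy : y ^ p = 1) : y ∈ zpowers x := by
  classical
  letI := Fintype.ofFinite C
  have h1 : (Finset.univ.filter (fun a : C => a ^ p = 1)).card ≤ p :=
    IsCyclic.card_pow_eq_one_le hp
  have h2 : ((zpowers x : Set C).toFinset) ⊆ Finset.univ.filter (fun a : C => a ^ p = 1) := by
    intro a ha
    rw [Set.mem_toFinset] at ha
    rw [Finset.mem_filter]
    refine ⟨Finset.mem_univ _, ?_⟩
    obtain ⟨k, rfl⟩ := ha
    have : (x ^ k) ^ (p : ℤ) = 1 := by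
      rw [← zpow_mul, mul_comm, zpow_mul, zpow_natCast, ← hx, pow_orderOf_eq_one, one_zpow]
    exact_mod_cast this
  have h3 : ((zpowers x : Set C).toFinset).card = p := by
    rw [Set.toFinset_card, ← Nat.card_eq_fintype_card]
    rw [← hx]; exact Nat.card_zpowers x
  have h4 : (zpowers x : Set C).toFinset = Finset.univ.filter (fun a : C => a ^ p = 1) :=
    Finset.eq_of_subset_of_card_le h2 (by rw [h3]; exact h1)
  have h5 : y ∈ (zpowers x : Set C).toFinset := by
    rw [h4, Finset.mem_filter]; exact ⟨Finset.mem_univ _, hy⟩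
  rwa [Set.mem_toFinset] at h5

/-- a nontrivial `p`-subgroup contains an element of order `p` -/
theorem exists_orderOf_eq_prime {p : ℕ} [hp : Fact p.Prime] {A : Subgroup X} (hA : IsPGroup p ↥A)
    (hA1 : A ≠ ⊥) : ∃ x ∈ A, orderOf x = p := by
  obtain ⟨k, hk⟩ := hA.exists_card_eq
  have hk0 : k ≠ 0 := by
    rintro rfl
    rw [pow_zero] at hk
    exact hA1 (Subgroup.eq_bot_of_card_le _ hk.le)
  have hdvd : p ∣ Nat.card ↥A := by rw [hk]; exact dvd_pow_self p hk0
  obtain ⟨x, hx⟩ := exists_prime_orderOf_dvd_card' p hdvd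
  exact ⟨x, x.2, by rw [← hx]; exact Subgroup.orderOf_coe x⟩

/-- two nontrivial subgroups of a cyclic `p`-group meet nontrivially -/
theorem inf_ne_bot_of_isCyclic {p : ℕ} [hp : Fact p.Prime] {C A B : Subgroup X}
    (hC : IsCyclic ↥C) (hCp : IsPGroup p ↥C) (hA : A ≤ C) (hB : B ≤ C) (hA1 : A ≠ ⊥)
    (hB1 : B ≠ ⊥) : A ⊓ B ≠ ⊥ := by
  obtain ⟨x, hxA, hx⟩ := exists_orderOf_eq_prime (hCp.to_le hA) hA1
  obtain ⟨y, hyB, hy⟩ := exists_orderOf_eq_prime (hCp.to_le hB) hB1
  have := hC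
  have hx' : orderOf (⟨x, hA hxA⟩ : ↥C) = p := by rw [Subgroup.orderOf_mk]; exact hx
  have hy' : (⟨y, hB hyB⟩ : ↥C) ^ p = 1 := by
    apply Subtype.ext
    simp only [Subgroup.coe_pow, Subgroup.coe_one]
    rw [← hy]; exact pow_orderOf_eq_one y
  have h1 := mem_zpowers_of_isCyclic hp.out.pos hx' hy'
  obtain ⟨k, hk⟩ := h1
  have hyx : y = x ^ k := by
    have := congrArg Subtype.val hk
    simpa using this.symm
  have hyA : y ∈ A := by rw [hyx]; exact A.zpow_mem hxA k
  intro h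
  have h2 : y ∈ A ⊓ B := mem_inf.mpr ⟨hyA, hyB⟩
  rw [h, mem_bot] at h2
  rw [h2, orderOf_one] at hy
  exact hp.out.one_lt.ne hy


/-- coprime action on an abelian group: `[W, A] ∩ C(A) = 1` -/
theorem comm_inf_centralizer_eq_bot {W A : Subgroup X}
    (hab : ∀ a ∈ W, ∀ b ∈ W, a * b = b * a) (hA : A ≤ normalizer (W : Set X))
    (hcop : (Nat.card ↥A).Coprime (Nat.card ↥W)) (hsolv : Group.IsSolvable ↥A) :
    ⁅W, A⁆ ⊓ centralizer (A : Set X) = ⊥ := by
  set Q := ⁅W, A⁆ with hQ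
  have hQW : Q ≤ W := Cfsg.Agent.Helper20.MinInv.comm_le_of_le_normalizer hA
  have hAQ : A ≤ normalizer (Q : Set X) :=
    (le_inf hA Subgroup.le_normalizer).trans
      (Cfsg.Agent.Helper20.MinInv.normalizer_inf_le_normalizer_comm W A)
  have hcop' : (Nat.card ↥A).Coprime (Nat.card ↥Q) :=
    Nat.Coprime.coprime_dvd_right (Subgroup.card_dvd_of_le hQW) hcop
  have hQA : ⁅Q, A⁆ = Q := Cfsg.Agent.Helper5.BGFwK.comm_comm_eq_of_coprime W A hA hcop hsolv
  have h1 := Cfsg.Agent.Helper20.MinInv.inf_centralizer_le_commutator Q A hAQ hcop' hQA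
  have h2 : ⁅Q, Q⁆ = ⊥ := by
    rw [eq_bot_iff, Subgroup.commutator_le]
    intro a ha b hb
    rw [mem_bot, commutatorElement_eq_one_iff_mul_comm]
    exact hab a (hQW ha) b (hQW hb)
  rw [eq_bot_iff, ← h2]
  exact h1

/-- class two: the fixed points on `Z₂(S)` of a coprime action centralising `Z(S)`, with abelian
fixed points on `S`, are central in `Z₂(S)` -/
theorem inf_centralizer_le_zS {S A : Subgroup X} (hAS : A ≤ normalizer (S : Set X))
    (hcop : (Nat.card ↥A).Coprime (Nat.card ↥S)) (hsolv : Group.IsSolvable ↥A)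
    (hZA : zS S ≤ centralizer (A : Set X))
    (hab : ∀ a ∈ S ⊓ centralizer (A : Set X), ∀ b ∈ S ⊓ centralizer (A : Set X), a * b = b * a) :
    z2 S ⊓ centralizer (A : Set X) ≤ zS (z2 S) := by
  intro x hx
  obtain ⟨hxB, hxA⟩ := mem_inf.mp hx
  refine mem_inf.mpr ⟨hxB, ?_⟩
  have hAB : A ≤ normalizer ((z2 S : Subgroup X) : Set X) :=
    hAS.trans (normalizer_le_normalizer_z2 S)
  have hcopB : (Nat.card ↥A).Coprime (Nat.card ↥(z2 S)) :=
    Nat.Coprime.coprime_dvd_right (Subgroup.card_dvd_of_le (z2_le S)) hcop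
  have hdec := Cfsg.Agent.Helper17.BG11.comm_sup_cent_coprime (z2 S) A hAB hcopB hsolv
  -- it suffices that both parts commute with `x`
  have hT : z2 S ≤ centralizer ({x} : Set X) := by
    rw [← hdec]
    apply sup_le
    · rw [Subgroup.commutator_le]
      intro y hy a ha
      rw [mem_centralizer_iff]
      intro z hz
      rw [Set.mem_singleton_iff] at hz
      subst hz
      have hyS : y ∈ S := z2_le S hy
      set c := ⁅z, y⁆ with hc
      have hcZ : c ∈ zS S := hxB.2 y hyS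
      have hza : a * z = z * a := (mem_centralizer_iff.mp hxA) a ha
      have hca : a * c = c * a := (mem_centralizer_iff.mp (hZA hcZ)) a ha
      have hzaz : z * a * z⁻¹ = a := by rw [← hza]; group
      have hzyz : z * y * z⁻¹ = c * y := by
        rw [hc, commutatorElement_def]; group
      have hwS : ⁅y, a⁆ ∈ S := by
        have h1 : a * y⁻¹ * a⁻¹ ∈ S := conj_mem_of_mem_normalizer (hAS ha) (S.inv_mem hyS)
        have h2 : ⁅y, a⁆ = y * (a * y⁻¹ * a⁻¹) := by
          rw [commutatorElement_def]; group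
        rw [h2]; exact S.mul_mem hyS h1
      have e1 : z * ⁅y, a⁆ * z⁻¹ =
          (z * y * z⁻¹) * (z * a * z⁻¹) * (z * y * z⁻¹)⁻¹ * (z * a * z⁻¹)⁻¹ := by
        rw [commutatorElement_def]; group
      rw [hzaz, hzyz] at e1
      have hca' : c⁻¹ * a⁻¹ = a⁻¹ * c⁻¹ := by
        rw [← mul_inv_rev, ← mul_inv_rev, hca]
      have e2 : c * y * a * (c * y)⁻¹ * a⁻¹ = c * ⁅y, a⁆ * c⁻¹ := by
        have : c * y * a * (c * y)⁻¹ * a⁻¹ = c * (y * a * y⁻¹) * (c⁻¹ * a⁻¹) := by group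
        rw [this, hca', commutatorElement_def]; group
      have e3 : c * ⁅y, a⁆ * c⁻¹ = ⁅y, a⁆ := by
        rw [mem_zS_comm hcZ hwS]; group
      have e4 : z * ⁅y, a⁆ * z⁻¹ = ⁅y, a⁆ := by rw [e1, e2, e3]
      calc z * ⁅y, a⁆ = (z * ⁅y, a⁆ * z⁻¹) * z := by group
        _ = ⁅y, a⁆ * z := by rw [e4]
    · intro b hb
      rw [mem_centralizer_iff]
      intro z hz
      rw [Set.mem_singleton_iff] at hz
      subst hz
      obtain ⟨hbB, hbA⟩ := mem_inf.mp hb
      exact hab z (mem_inf.mpr ⟨z2_le S hxB, hxA⟩) b (mem_inf.mpr ⟨z2_le S hbB, hbA⟩)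
  rw [mem_centralizer_iff]
  intro b hb
  have := (mem_centralizer_iff.mp (hT hb)) x (Set.mem_singleton x)
  exact this.symm

/-! ### the main lemma -/

/-- the hypotheses of the lemma -/
structure Hyp (p : ℕ) (S U E : Subgroup X) : Prop where
  pS : IsPGroup p ↥S
  Un : ∀ e ∈ E, ∀ u ∈ U, e * u * e⁻¹ ∈ U
  fpf : ∀ e ∈ E, e ≠ 1 → ∀ u ∈ U, e * u = u * e → u = 1
  nil : Group.IsNilpotent ↥U
  solE : Group.IsSolvable ↥E
  norm : U ⊔ E ≤ normalizer (S : Set X)
  cop : (Nat.card ↥S).Coprime (Nat.card ↥(U ⊔ E))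
  cU : IsCyclic ↥(S ⊓ centralizer (U : Set X))
  cE : IsCyclic ↥(S ⊓ centralizer (E : Set X))
  fix : S ⊓ centralizer ((U ⊔ E : Subgroup X) : Set X) ≠ ⊥

namespace Hyp

variable {p : ℕ} [hp : Fact p.Prime] {S U E : Subgroup X} (h : Hyp p S U E)

include h

theorem E_le_normalizer_U : E ≤ normalizer (U : Set X) :=
  le_normalizer_of_conj_mem h.Un

theorem sup_le_normalizer_U : U ⊔ E ≤ normalizer (U : Set X) :=
  sup_le Subgroup.le_normalizer h.E_le_normalizer_U

theorem centralizer_sup_le_U :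
    centralizer ((U ⊔ E : Subgroup X) : Set X) ≤ centralizer (U : Set X) :=
  centralizer_le (SetLike.coe_subset_coe.mpr le_sup_left)

theorem centralizer_sup_le_E :
    centralizer ((U ⊔ E : Subgroup X) : Set X) ≤ centralizer (E : Set X) :=
  centralizer_le (SetLike.coe_subset_coe.mpr le_sup_right)

theorem cop_of_le {W : Subgroup X} (hWS : W ≤ S) :
    (Nat.card ↥W).Coprime (Nat.card ↥(U ⊔ E)) :=
  Nat.Coprime.coprime_dvd_left (Subgroup.card_dvd_of_le hWS) h.cop

theorem copU_of_le {W : Subgroup X} (hWS : W ≤ S) : (Nat.card ↥U).Coprime (Nat.card ↥W) :=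
  (Nat.Coprime.coprime_dvd_right (Subgroup.card_dvd_of_le le_sup_left) (h.cop_of_le hWS)).symm

theorem copE_of_le {W : Subgroup X} (hWS : W ≤ S) : (Nat.card ↥E).Coprime (Nat.card ↥W) :=
  (Nat.Coprime.coprime_dvd_right (Subgroup.card_dvd_of_le le_sup_right) (h.cop_of_le hWS)).symm

/-- the Frobenius-Wielandt formula for an invariant subgroup of `S` -/
theorem fw {W : Subgroup X} (hWS : W ≤ S) (hW : U ⊔ E ≤ normalizer (W : Set X)) :
    Nat.card ↥(W ⊓ centralizer ((U ⊔ E : Subgroup X) : Set X)) ^ Nat.card ↥E * Nat.card ↥W =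
      Nat.card ↥(W ⊓ centralizer (E : Set X)) ^ Nat.card ↥E *
        Nat.card ↥(W ⊓ centralizer (U : Set X)) := by
  have hsolv : Group.IsSolvable ↥W := by
    have : Group.IsNilpotent ↥W := (h.pS.to_le hWS).isNilpotent
    infer_instance
  exact Cfsg.Agent.Helper8.SecRep.fw_group U E h.Un h.fpf h.nil (Nat.card ↥W) W rfl hsolv hW
    (h.cop_of_le hWS)

/-- (1) every nontrivial invariant subgroup of `S` contains a common fixed point -/
theorem inf_centralizer_ne_bot {W : Subgroup X} (hWS : W ≤ S)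
    (hW : U ⊔ E ≤ normalizer (W : Set X)) (hW1 : W ≠ ⊥) :
    W ⊓ centralizer ((U ⊔ E : Subgroup X) : Set X) ≠ ⊥ := by
  intro h0
  have hE0 : W ⊓ centralizer (E : Set X) = ⊥ := by
    by_contra hne
    have := inf_ne_bot_of_isCyclic (p := p) h.cE (h.pS.to_le inf_le_left)
      (inf_le_inf_right _ hWS) (inf_le_inf_left S h.centralizer_sup_le_E) hne h.fix
    apply this
    rw [eq_bot_iff, ← h0]
    intro z hz
    obtain ⟨hz1, hz2⟩ := mem_inf.mp hz
    exact mem_inf.mpr ⟨(mem_inf.mp hz1).1, (mem_inf.mp hz2).2⟩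
  have hU0 : W ⊓ centralizer (U : Set X) = ⊥ := by
    by_contra hne
    have := inf_ne_bot_of_isCyclic (p := p) h.cU (h.pS.to_le inf_le_left)
      (inf_le_inf_right _ hWS) (inf_le_inf_left S h.centralizer_sup_le_U) hne h.fix
    apply this
    rw [eq_bot_iff, ← h0]
    intro z hz
    obtain ⟨hz1, hz2⟩ := mem_inf.mp hz
    exact mem_inf.mpr ⟨(mem_inf.mp hz1).1, (mem_inf.mp hz2).2⟩
  have hfw := h.fw hWS hW
  rw [h0, hE0, hU0] at hfw
  simp only [Subgroup.card_bot, one_pow, one_mul, mul_one] at hfw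
  exact hW1 (Subgroup.eq_bot_of_card_le _ hfw.le)

/-- (2) every abelian invariant subgroup of `S` is centralised by `U E` -/
theorem le_centralizer_of_comm {W : Subgroup X} (hWS : W ≤ S)
    (hW : U ⊔ E ≤ normalizer (W : Set X)) (hab : ∀ a ∈ W, ∀ b ∈ W, a * b = b * a) :
    W ≤ centralizer ((U ⊔ E : Subgroup X) : Set X) := by
  have hUW : U ≤ normalizer (W : Set X) := le_sup_left.trans hW
  have hEW : E ≤ normalizer (W : Set X) := le_sup_right.trans hW
  have hsolU : Group.IsSolvable ↥U := by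
    have := h.nil
    infer_instance
  -- step U
  have hWU : W ≤ centralizer (U : Set X) := by
    rw [← Subgroup.commutator_eq_bot_iff_le_centralizer]
    by_contra hne
    have hWuW : ⁅W, U⁆ ≤ W := Cfsg.Agent.Helper20.MinInv.comm_le_of_le_normalizer hUW
    have hΓ : U ⊔ E ≤ normalizer ((⁅W, U⁆ : Subgroup X) : Set X) :=
      (le_inf hW h.sup_le_normalizer_U).trans
        (Cfsg.Agent.Helper20.MinInv.normalizer_inf_le_normalizer_comm W U)
    have h1 := h.inf_centralizer_ne_bot (hWuW.trans hWS) hΓ hne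
    apply h1
    rw [eq_bot_iff, ← comm_inf_centralizer_eq_bot hab hUW (h.copU_of_le hWS) hsolU]
    exact inf_le_inf_left _ h.centralizer_sup_le_U
  -- step E
  have hWE : W ≤ centralizer (E : Set X) := by
    rw [← Subgroup.commutator_eq_bot_iff_le_centralizer]
    by_contra hne
    have hWeW : ⁅W, E⁆ ≤ W := Cfsg.Agent.Helper20.MinInv.comm_le_of_le_normalizer hEW
    have hU' : U ≤ normalizer ((⁅W, E⁆ : Subgroup X) : Set X) := by
      have h1 : U ≤ centralizer (W : Set X) := Subgroup.le_centralizer_iff.mp hWU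
      have h2 : centralizer (W : Set X) ≤ centralizer ((⁅W, E⁆ : Subgroup X) : Set X) :=
        centralizer_le (SetLike.coe_subset_coe.mpr hWeW)
      exact (h1.trans h2).trans (Subgroup.centralizer_le_normalizer _)
    have hE' : E ≤ normalizer ((⁅W, E⁆ : Subgroup X) : Set X) :=
      (le_inf hEW Subgroup.le_normalizer).trans
        (Cfsg.Agent.Helper20.MinInv.normalizer_inf_le_normalizer_comm W E)
    have h1 := h.inf_centralizer_ne_bot (hWeW.trans hWS) (sup_le hU' hE') hne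
    apply h1
    rw [eq_bot_iff, ← comm_inf_centralizer_eq_bot hab hEW (h.copE_of_le hWS) h.solE]
    exact inf_le_inf_left _ h.centralizer_sup_le_E
  rw [Cfsg.Agent.Helper5.BGFwK.centralizer_sup_eq]
  exact le_inf hWU hWE

theorem comm_of_isCyclic_inf {A : Subgroup X} (hc : IsCyclic ↥(S ⊓ centralizer (A : Set X))) :
    ∀ a ∈ S ⊓ centralizer (A : Set X), ∀ b ∈ S ⊓ centralizer (A : Set X), a * b = b * a := by
  intro a ha b hb
  have := hc
  have h1 := (IsCyclic.commGroup (α := ↥(S ⊓ centralizer (A : Set X)))).mul_comm ⟨a, ha⟩ ⟨b, hb⟩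
  exact congrArg Subtype.val h1

/-- (3) the second centre of `S` is centralised by `U E` -/
theorem z2_le_centralizer : z2 S ≤ centralizer ((U ⊔ E : Subgroup X) : Set X) := by
  have hBS : z2 S ≤ S := z2_le S
  have hΓB : U ⊔ E ≤ normalizer ((z2 S : Subgroup X) : Set X) :=
    h.norm.trans (normalizer_le_normalizer_z2 S)
  have hZ : zS S ≤ centralizer ((U ⊔ E : Subgroup X) : Set X) :=
    h.le_centralizer_of_comm (zS_le S) (h.norm.trans (normalizer_le_normalizer_zS S)) (zS_comm S)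
  have hZB : zS (z2 S) ≤ centralizer ((U ⊔ E : Subgroup X) : Set X) :=
    h.le_centralizer_of_comm ((zS_le _).trans hBS)
      (hΓB.trans (normalizer_le_normalizer_zS _)) (zS_comm _)
  have hsolU : Group.IsSolvable ↥U := by
    have := h.nil
    infer_instance
  have hU : z2 S ⊓ centralizer (U : Set X) ≤ zS (z2 S) :=
    inf_centralizer_le_zS (le_sup_left.trans h.norm) (h.copU_of_le le_rfl) hsolU
      (hZ.trans h.centralizer_sup_le_U) (h.comm_of_isCyclic_inf h.cU)
  have hE : z2 S ⊓ centralizer (E : Set X) ≤ zS (z2 S) :=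
    inf_centralizer_le_zS (le_sup_right.trans h.norm) (h.copE_of_le le_rfl) h.solE
      (hZ.trans h.centralizer_sup_le_E) (h.comm_of_isCyclic_inf h.cE)
  have hZBΓ : zS (z2 S) ≤ z2 S ⊓ centralizer ((U ⊔ E : Subgroup X) : Set X) :=
    le_inf (zS_le _) hZB
  have eΓ : z2 S ⊓ centralizer ((U ⊔ E : Subgroup X) : Set X) = zS (z2 S) :=
    le_antisymm ((inf_le_inf_left _ h.centralizer_sup_le_U).trans hU) hZBΓ
  have eU : z2 S ⊓ centralizer (U : Set X) = zS (z2 S) :=
    le_antisymm hU (hZBΓ.trans (inf_le_inf_left _ h.centralizer_sup_le_U))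
  have eE : z2 S ⊓ centralizer (E : Set X) = zS (z2 S) :=
    le_antisymm hE (hZBΓ.trans (inf_le_inf_left _ h.centralizer_sup_le_E))
  have hfw := h.fw hBS hΓB
  rw [eΓ, eU, eE] at hfw
  have hpos : 0 < Nat.card ↥(zS (z2 S)) ^ Nat.card ↥E := pow_pos Nat.card_pos _
  have hcard : Nat.card ↥(z2 S) = Nat.card ↥(zS (z2 S)) := Nat.eq_of_mul_eq_mul_left hpos hfw
  have hBZ : zS (z2 S) = z2 S := Subgroup.eq_of_le_of_card_ge (zS_le _) hcard.le
  apply h.le_centralizer_of_comm hBS hΓB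
  intro a ha b hb
  rw [← hBZ] at ha hb
  exact zS_comm _ a ha b hb

/-- **Main lemma.**  A `p`-group (`p` odd) acted on coprimely by a Frobenius group `U E` with
cyclic `C_S(U)`, `C_S(E)` and `C_S(U E) ≠ 1` is cyclic. -/
theorem isCyclic (hp2 : p ≠ 2) : IsCyclic ↥S := by
  by_contra hnc
  obtain ⟨V, hVS, hSV, hVe, hVc⟩ :=
    Cfsg.Agent.Helper14.BGUniq.exists_normal_elemAb_sq hp2 h.pS hnc
  have hVB : V ≤ z2 S := le_z2_of_card_sq h.pS hVS hSV hVc
  have hVC : V ≤ S ⊓ centralizer (E : Set X) :=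
    le_inf hVS ((hVB.trans h.z2_le_centralizer).trans h.centralizer_sup_le_E)
  have hVcyc : IsCyclic ↥V := by
    have := h.cE
    exact isCyclic_of_surjective (Subgroup.subgroupOfEquivOfLe hVC)
      (Subgroup.subgroupOfEquivOfLe hVC).surjective
  obtain ⟨g, hg⟩ := hVcyc.exists_generator
  have h1 : orderOf g = Nat.card ↥V := orderOf_eq_card_of_forall_mem_zpowers hg
  have h2 : g ^ p = 1 := Subtype.ext (by simpa using hVe.2 g g.2)
  have h3 : Nat.card ↥V ≤ p := by
    rw [← h1]; exact Nat.le_of_dvd hp.out.pos (orderOf_dvd_of_pow_eq_one h2)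
  rw [hVc] at h3
  have : p * 2 ≤ p * p := Nat.mul_le_mul_left p hp.out.two_le
  have hpos := hp.out.pos
  nlinarith

end Hyp

/-- **Lemma FWS**, unbundled. -/
theorem isCyclic_of_frobenius {p : ℕ} [Fact p.Prime] (hp2 : p ≠ 2) (S U E : Subgroup X)
    (hS : IsPGroup p ↥S)
    (hUn : ∀ e ∈ E, ∀ u ∈ U, e * u * e⁻¹ ∈ U)
    (hfpf : ∀ e ∈ E, e ≠ 1 → ∀ u ∈ U, e * u = u * e → u = 1)
    (hnil : Group.IsNilpotent ↥U) (hsolE : Group.IsSolvable ↥E)
    (hnorm : U ⊔ E ≤ normalizer (S : Set X))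
    (hcop : (Nat.card ↥S).Coprime (Nat.card ↥(U ⊔ E)))
    (hcU : IsCyclic ↥(S ⊓ centralizer (U : Set X)))
    (hcE : IsCyclic ↥(S ⊓ centralizer (E : Set X)))
    (hfix : S ⊓ centralizer ((U ⊔ E : Subgroup X) : Set X) ≠ ⊥) : IsCyclic ↥S :=
  Hyp.isCyclic ⟨hS, hUn, hfpf, hnil, hsolE, hnorm, hcop, hcU, hcE, hfix⟩ hp2

end Cfsg.Agent.Helper23.FWS
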