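import Mathlib
import Cfsg.Agent.Lib.Helper22.BG13F
import Cfsg.Agent.Lib.Helper4.BGSigA
import Cfsg.Agent.Lib.Helper4.BG144A
import Cfsg.Agent.Lib.Helper8.BG149D
import Cfsg.Agent.Lib.Helper1.FpfAction
import Cfsg.Agent.Lib.Helper1.CyclicCriterion
import Cfsg.Agent.Lib.Helper23.FWS
import Cfsg.Agent.Lib.Helper27.BGTyA
import Cfsg.Agent.Lib.Helper14.BGTransG

/-!
# Bender-Glauberman 14.12 (S1376), piece (6): `E₁` is cyclic (helper23)

Setting: `N` a maximal subgroup with standard factorisation `N = K U N_σ`, `U` abelian, `K`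
acting freely on `U`, `M` another maximal subgroup with `N ∩ M = U K`, `U ≤ M_σ`, `M_σ`
nilpotent, `x ∈ U` nontrivial with `C_{N_σ}(x) ≠ 1`, and `E₁` a complement of `M_σ` in `M`
acting freely on `M_σ`.  Then `E₁` is cyclic.
-/

set_option autoImplicit false
set_option linter.style.haveILetI false
set_option linter.unusedSectionVars false
set_option linter.unusedVariables false

namespace Cfsg.Agent.Helper23.BG1376

open Cfsg Subgroup
open scoped commutatorElement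
open Cfsg.Agent.Helper15 (IsSylowIn exists_isSylowIn_ge exists_isSylowIn
  isSylowIn_of_not_dvd_relIndex)

universe u

variable {G : Type u} [Group G]

/-- the `t`-primary part of an abelian subgroup -/
def prim (U : Subgroup G) (hUab : ∀ a ∈ U, ∀ b ∈ U, a * b = b * a) (t : ℕ) : Subgroup G where
  carrier := {u | u ∈ U ∧ ∃ n : ℕ, u ^ (t ^ n) = 1}
  one_mem' := ⟨U.one_mem, 0, one_pow _⟩
  mul_mem' := by
    rintro a b ⟨ha, n, hn⟩ ⟨hb, m, hm⟩
    refine ⟨U.mul_mem ha hb, n + m, ?_⟩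
    have hc : Commute a b := hUab a ha b hb
    rw [hc.mul_pow, pow_add, pow_mul, hn, one_pow, mul_comm (t ^ n), pow_mul, hm, one_pow,
      one_mul]
  inv_mem' := by
    rintro a ⟨ha, n, hn⟩
    exact ⟨U.inv_mem ha, n, by rw [inv_pow, hn, inv_one]⟩

/-- the elements of order dividing `t` of an abelian subgroup -/
def tors (U : Subgroup G) (hUab : ∀ a ∈ U, ∀ b ∈ U, a * b = b * a) (t : ℕ) : Subgroup G where
  carrier := {u | u ∈ U ∧ u ^ t = 1}
  one_mem' := ⟨U.one_mem, one_pow _⟩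
  mul_mem' := by
    rintro a b ⟨ha, hn⟩ ⟨hb, hm⟩
    refine ⟨U.mul_mem ha hb, ?_⟩
    have hc : Commute a b := hUab a ha b hb
    rw [hc.mul_pow, hn, hm, one_mul]
  inv_mem' := by
    rintro a ⟨ha, hn⟩
    exact ⟨U.inv_mem ha, by rw [inv_pow, hn, inv_one]⟩

theorem mem_prim {U : Subgroup G} {hUab : ∀ a ∈ U, ∀ b ∈ U, a * b = b * a} {t : ℕ} {u : G} :
    u ∈ prim U hUab t ↔ u ∈ U ∧ ∃ n : ℕ, u ^ (t ^ n) = 1 := Iff.rfl

theorem mem_tors {U : Subgroup G} {hUab : ∀ a ∈ U, ∀ b ∈ U, a * b = b * a} {t : ℕ} {u : G} :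
    u ∈ tors U hUab t ↔ u ∈ U ∧ u ^ t = 1 := Iff.rfl

theorem prim_le (U : Subgroup G) (hUab : ∀ a ∈ U, ∀ b ∈ U, a * b = b * a) (t : ℕ) :
    prim U hUab t ≤ U := fun _ hu => hu.1

theorem tors_le (U : Subgroup G) (hUab : ∀ a ∈ U, ∀ b ∈ U, a * b = b * a) (t : ℕ) :
    tors U hUab t ≤ U := fun _ hu => hu.1

theorem tors_le_prim (U : Subgroup G) (hUab : ∀ a ∈ U, ∀ b ∈ U, a * b = b * a) (t : ℕ) :
    tors U hUab t ≤ prim U hUab t := fun u hu => ⟨hu.1, 1, by rw [pow_one]; exact hu.2⟩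

theorem isPGroup_prim (U : Subgroup G) (hUab : ∀ a ∈ U, ∀ b ∈ U, a * b = b * a) (t : ℕ) :
    IsPGroup t ↥(prim U hUab t) := by
  rintro ⟨u, hu, n, hn⟩
  exact ⟨n, Subtype.ext (by simpa using hn)⟩

theorem isSylowIn_prim (U : Subgroup G) (hUab : ∀ a ∈ U, ∀ b ∈ U, a * b = b * a) (t : ℕ) :
    IsSylowIn t (prim U hUab t) U := by
  refine ⟨prim_le U hUab t, isPGroup_prim U hUab t, ?_⟩
  intro T' hT' hle hT'U
  refine le_antisymm ?_ hle
  intro u hu
  obtain ⟨n, hn⟩ := hT' ⟨u, hu⟩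
  refine ⟨hT'U hu, n, ?_⟩
  have := congrArg Subtype.val hn
  simpa using this

theorem isElementaryAbelian_tors (U : Subgroup G) (hUab : ∀ a ∈ U, ∀ b ∈ U, a * b = b * a)
    (t : ℕ) : IsElementaryAbelian t (tors U hUab t) :=
  ⟨⟨⟨fun a b => Subtype.ext (hUab a a.2.1 b b.2.1)⟩⟩, fun a ha => ha.2⟩

variable [Finite G]

open Cfsg.Agent.Helper27 in
/-- the primes of `U` do not divide the index of `U` in `N` -/
theorem not_dvd_relIndex_U {N K U : Subgroup G} (hdec : IsSigmaDecomposition N K U)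
    (h50 : IsPiHallOf (sigma N) (sigmaCore N) N) {t : ℕ} [ht : Fact t.Prime]
    (htU : t ∣ Nat.card ↥U) : ¬ t ∣ U.relIndex N := by
  have hcard := BGTy.card_M_eq hdec h50
  have h1 := BGTy.relIndex_mul_card (BGTy.U_le hdec)
  have hrel : U.relIndex N = Nat.card ↥K * Nat.card ↥(sigmaCore N) := by
    apply Nat.eq_of_mul_eq_mul_right (Nat.card_pos (α := ↥U))
    rw [h1, hcard]; ring
  rw [hrel]
  intro hd
  rcases (Nat.Prime.dvd_mul ht.out).mp hd with h | h
  · have hc := BGTy.coprime_K_U hdec h50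
    have := Nat.dvd_gcd h htU
    rw [hc.gcd_eq_one] at this
    exact ht.out.one_lt.ne' (Nat.dvd_one.mp this)
  · have hc := BGTy.coprime_sigmaCore_U hdec h50
    have := Nat.dvd_gcd h htU
    rw [hc.gcd_eq_one] at this
    exact ht.out.one_lt.ne' (Nat.dvd_one.mp this)

open Cfsg.Agent.Helper27 in
/-- the primes of `U` are outside `σ(N) ∪ κ(N)` -/
theorem not_mem_sigma_kappa {N K U : Subgroup G} (hdec : IsSigmaDecomposition N K U)
    (h50 : IsPiHallOf (sigma N) (sigmaCore N) N) {t : ℕ} [ht : Fact t.Prime]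
    (htU : t ∣ Nat.card ↥U) : t ∉ sigma N ∪ kappa N := by
  rintro (h | h)
  · have := h50.2.2 t ht.out h
    rw [BGTy.sigmaCore_relIndex hdec h50] at this
    exact this (Dvd.dvd.mul_right htU _)
  · have := hdec.hall.2.2 t ht.out h
    rw [BGTy.K_relIndex hdec h50] at this
    exact this (Dvd.dvd.mul_right htU _)

/-- S1429 applied to the primes of `U` -/
theorem tors_spec (h1429 : Cfsg.Agent.Helper8.BG149.Hyp1429 G) {N K U : Subgroup G}
    (hN : IsCoatom N) (hdec : IsSigmaDecomposition N K U)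
    (h50 : IsPiHallOf (sigma N) (sigmaCore N) N)
    (hUab : ∀ a ∈ U, ∀ b ∈ U, a * b = b * a) {t : ℕ} [ht : Fact t.Prime]
    (htU : t ∣ Nat.card ↥U) :
    Nat.card ↥(tors U hUab t) ≤ t ^ 2 ∧
      sigmaCore N ⊓ centralizer ((tors U hUab t : Subgroup G) : Set G) = ⊥ := by
  have hUN : U ≤ N := hdec.compl.1
  have hnot := not_mem_sigma_kappa hdec h50 htU
  have htN : t ∣ Nat.card ↥N := htU.trans (Subgroup.card_dvd_of_le hUN)
  have hP1 : ¬ (∀ q : ℕ, q.Prime → q ∣ Nat.card ↥N → q ∉ sigma N → q ∈ kappa N) := by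
    intro h
    exact hnot (Or.inr (h t ht.out htN (fun h' => hnot (Or.inl h'))))
  have hSylU := isSylowIn_prim U hUab t
  have hSyl : IsSylowIn t (prim U hUab t) N := by
    apply isSylowIn_of_not_dvd_relIndex (isPGroup_prim U hUab t) ((prim_le U hUab t).trans hUN)
    rw [← Subgroup.relIndex_mul_relIndex _ _ _ (prim_le U hUab t) hUN]
    intro hd
    rcases (Nat.Prime.dvd_mul ht.out).mp hd with h | h
    · exact hSylU.not_dvd_relIndex h
    · exact not_dvd_relIndex_U hdec h50 htU h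
  have h := h1429 N hN hP1 t htN hnot hSyl.toSylow
  rw [hSyl.map_toSylow] at h
  have hset : {x : G | x ∈ prim U hUab t ∧ x ^ t = 1} = ((tors U hUab t : Subgroup G) : Set G) := by
    ext u
    constructor
    · rintro ⟨h1, h2⟩
      exact ⟨h1.1, h2⟩
    · intro h1
      exact ⟨tors_le_prim U hUab t h1, h1.2⟩
  rw [hset, Subgroup.closure_eq] at h
  exact ⟨h.1, h.2.1⟩

/-- `Ω₁(U_t)` has order exactly `t ^ 2` when some `x ∈ U` of order divisible by `t` has a
nontrivial centralizer in `N_σ` -/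
theorem card_tors_eq (h1429 : Cfsg.Agent.Helper8.BG149.Hyp1429 G) {N K U : Subgroup G}
    (hN : IsCoatom N) (hdec : IsSigmaDecomposition N K U)
    (h50 : IsPiHallOf (sigma N) (sigmaCore N) N)
    (hUab : ∀ a ∈ U, ∀ b ∈ U, a * b = b * a) {x : G} (hxU : x ∈ U)
    (hxN : sigmaCore N ⊓ centralizer ({x} : Set G) ≠ ⊥) {t : ℕ} [ht : Fact t.Prime]
    (htx : t ∣ orderOf x) :
    Nat.card ↥(tors U hUab t) = t ^ 2 := by
  have htU : t ∣ Nat.card ↥U := htx.trans (by
    have := orderOf_dvd_natCard (⟨x, hxU⟩ : ↥U)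
    rwa [Subgroup.orderOf_mk] at this)
  obtain ⟨hle, hcent⟩ := tors_spec h1429 hN hdec h50 hUab htU
  set A := tors U hUab t with hA
  set y := x ^ (orderOf x / t) with hy
  have hyo : orderOf y = t := orderOf_pow_orderOf_div (orderOf_pos x).ne' htx
  have hyU : y ∈ U := U.pow_mem hxU _
  have hyA : y ∈ A := ⟨hyU, by rw [← hyo]; exact pow_orderOf_eq_one y⟩
  have hAp : IsPGroup t ↥A := by
    rintro ⟨a, ha⟩
    exact ⟨1, Subtype.ext (by simpa using ha.2)⟩
  obtain ⟨n, hn⟩ := hAp.exists_card_eq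
  have hn2 : n ≤ 2 := by
    rw [hn] at hle
    exact (Nat.pow_le_pow_iff_right ht.out.one_lt).mp hle
  have hzy : zpowers y ≤ A := (zpowers_le).mpr hyA
  have hcz : Nat.card ↥(zpowers y) = t := by rw [Nat.card_zpowers, hyo]
  have h1n : 1 ≤ n := by
    have hd := Subgroup.card_dvd_of_le hzy
    rw [hcz, hn] at hd
    by_contra h0
    have hn0 : n = 0 := by omega
    rw [hn0, pow_zero] at hd
    exact ht.out.one_lt.ne' (Nat.dvd_one.mp hd)
  have hn12 : n = 1 ∨ n = 2 := by omega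
  rcases hn12 with h1 | h2
  · exfalso
    apply hxN
    rw [eq_bot_iff, ← hcent]
    refine inf_le_inf_left _ ?_
    have hAz : zpowers y = A :=
      Subgroup.eq_of_le_of_card_ge hzy (by rw [hcz, hn, h1, pow_one])
    intro g hg
    rw [Subgroup.mem_centralizer_iff] at hg ⊢
    intro a ha
    rw [SetLike.mem_coe, ← hAz] at ha
    obtain ⟨k, rfl⟩ := Subgroup.mem_zpowers_iff.mp ha
    have hgx : Commute x g := hg x (Set.mem_singleton x)
    exact ((hgx.pow_left _).zpow_left k).eq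
  · rw [hn, h2]

/-- `C_G(Ω₁(U_t)) ≤ U` -/
theorem centralizer_tors_le (h1416 : Cfsg.Agent.Helper22.BG13.Hyp1416 G) {M N U K : Subgroup G}
    (hM : IsCoatom M) (hN : IsCoatom N) (hNM : N ⊓ M = U ⊔ K)
    (hKU : K ≤ normalizer (U : Set G)) (hUab : ∀ a ∈ U, ∀ b ∈ U, a * b = b * a)
    (hUfree : ∀ k ∈ K, k ≠ 1 → U ⊓ centralizer ({k} : Set G) = ⊥)
    (hUM : U ≤ M) (hUN : U ≤ N) {t : ℕ} [ht : Fact t.Prime]
    (hcard : Nat.card ↥(tors U hUab t) = t ^ 2) :
    centralizer ((tors U hUab t : Subgroup G) : Set G) ≤ U := by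
  have hAU := tors_le U hUab t
  have hcM := (h1416 M hM t (tors U hUab t)
    ⟨hAU.trans hUM, isElementaryAbelian_tors U hUab t, hcard⟩).1
  have hcN := (h1416 N hN t (tors U hUab t)
    ⟨hAU.trans hUN, isElementaryAbelian_tors U hUab t, hcard⟩).1
  intro g hg
  have hgNM : g ∈ U ⊔ K := by rw [← hNM]; exact ⟨hcN hg, hcM hg⟩
  obtain ⟨u, hu, k, hk, rfl⟩ := Cfsg.Agent.Helper22.BG13.exists_mul_of_mem_sup hKU hgNM
  have hA1 : ∃ a ∈ tors U hUab t, a ≠ 1 := by
    by_contra hcon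
    push Not at hcon
    have hb : tors U hUab t = ⊥ := (Subgroup.eq_bot_iff_forall _).mpr hcon
    rw [hb, Subgroup.card_bot] at hcard
    have := ht.out.one_lt
    nlinarith
  obtain ⟨a, haA, ha1⟩ := hA1
  by_cases hk1 : k = 1
  · rw [hk1, mul_one]; exact hu
  · exfalso
    apply ha1
    have hmem : a ∈ U ⊓ centralizer ({k} : Set G) := by
      refine Subgroup.mem_inf.mpr ⟨hAU haA, ?_⟩
      rw [Subgroup.mem_centralizer_iff]
      intro h hh
      rw [Set.mem_singleton_iff] at hh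
      subst hh
      rw [Subgroup.mem_centralizer_iff] at hg
      have h1 : a * (u * h) = u * h * a := hg a haA
      have h2 : a * u = u * a := hUab a (hAU haA) u hu
      have h3 : u * (a * h) = u * (h * a) := by
        rw [← mul_assoc, ← h2, mul_assoc, h1, mul_assoc]
      exact (mul_left_cancel h3).symm
    rw [hUfree k hk hk1, Subgroup.mem_bot] at hmem
    exact hmem

/-- subgroups of `U` have `t`-rank at most `2` -/
theorem pRankLE_of_le {U : Subgroup G} (hUab : ∀ a ∈ U, ∀ b ∈ U, a * b = b * a) {t : ℕ}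
    (hle : Nat.card ↥(tors U hUab t) ≤ t ^ 2) {Z : Subgroup G} (hZU : Z ≤ U) :
    PRankLE t 2 ↥Z := by
  intro B hBc hBe
  have h1 : B.map Z.subtype ≤ tors U hUab t := by
    rintro _ ⟨b, hb, rfl⟩
    refine ⟨hZU b.2, ?_⟩
    have h2 := congrArg Subtype.val (hBe b hb)
    simpa using h2
  calc Nat.card ↥B = Nat.card ↥(B.map Z.subtype) :=
        (Subgroup.card_map_of_injective Z.subtype_injective).symm
    _ ≤ Nat.card ↥(tors U hUab t) := Subgroup.card_le_of_le h1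
    _ ≤ t ^ 2 := hle

/-- the centre of a nontrivial `t`-subgroup is nontrivial -/
theorem zS_ne_bot {t : ℕ} [ht : Fact t.Prime] {T : Subgroup G} (hT : IsPGroup t ↥T)
    (hT1 : T ≠ ⊥) : Cfsg.Agent.Helper23.FWS.zS T ≠ ⊥ := by
  haveI : Nontrivial ↥T := (Subgroup.nontrivial_iff_ne_bot T).mpr hT1
  have hcn : Nontrivial ↥(Subgroup.center ↥T) := hT.center_nontrivial
  obtain ⟨z, hz⟩ := exists_ne (1 : ↥(Subgroup.center ↥T))
  intro hbot
  apply hz
  have hmem : ((z : ↥T) : G) ∈ Cfsg.Agent.Helper23.FWS.zS T := by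
    refine Subgroup.mem_inf.mpr ⟨(z : ↥T).2, ?_⟩
    rw [Subgroup.mem_centralizer_iff]
    intro s hs
    have := Subgroup.mem_center_iff.mp z.2 ⟨s, hs⟩
    exact congrArg Subtype.val this
  rw [hbot, Subgroup.mem_bot] at hmem
  exact Subtype.ext (Subtype.ext hmem)

/-- **BG 14.12, step (6)**: a complement `E₁` of `M_σ` in `M` acting freely on `M_σ` is cyclic,
in the configuration `N ∩ M = U K`, `U ≤ M_σ` nilpotent, `C_{N_σ}(x) ≠ 1` for some `x ∈ U`. -/
theorem isCyclic_of_free (hG : IsMinSimpleOddOrder G)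
    (h1416 : Cfsg.Agent.Helper22.BG13.Hyp1416 G)
    (h1429 : Cfsg.Agent.Helper8.BG149.Hyp1429 G) {M N U K E₁ : Subgroup G} {x : G}
    (hM : IsCoatom M) (hN : IsCoatom N) (hNM : N ⊓ M = U ⊔ K)
    (hdec : IsSigmaDecomposition N K U) (h50N : IsPiHallOf (sigma N) (sigmaCore N) N)
    (h50M : IsPiHallOf (sigma M) (sigmaCore M) M)
    (hUab : ∀ a ∈ U, ∀ b ∈ U, a * b = b * a)
    (hUfree : ∀ k ∈ K, k ≠ 1 → U ⊓ centralizer ({k} : Set G) = ⊥)
    (hUσ : U ≤ sigmaCore M) (hnil : Group.IsNilpotent ↥(sigmaCore M))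
    (hxU : x ∈ U) (hx1 : x ≠ 1) (hxN : sigmaCore N ⊓ centralizer ({x} : Set G) ≠ ⊥)
    (hE₁ : IsComplIn E₁ (sigmaCore M) M)
    (hfree : ∀ e ∈ E₁, e ≠ 1 → sigmaCore M ⊓ centralizer ({e} : Set G) = ⊥) :
    IsCyclic ↥E₁ := by
  classical
  have hox : orderOf x ≠ 1 := by rwa [Ne, orderOf_eq_one_iff]
  obtain ⟨t, htp, htx⟩ := Nat.exists_prime_and_dvd hox
  haveI ht : Fact t.Prime := ⟨htp⟩
  have hUN : U ≤ N := hdec.compl.1
  have hσM : sigmaCore M ≤ M := Cfsg.Agent.Helper22.BG13.sigmaCore_le M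
  have hUM : U ≤ M := hUσ.trans hσM
  have hcard := card_tors_eq h1429 hN hdec h50N hUab hxU hxN htx
  have hcU := centralizer_tors_le h1416 hM hN hNM hdec.normal hUab hUfree hUM hUN hcard
  -- the Sylow `t`-subgroup `T` of `M_σ`
  obtain ⟨T, hUtT, hT⟩ :=
    exists_isSylowIn_ge (isPGroup_prim U hUab t) ((prim_le U hUab t).trans hUσ)
  have hMT : M ≤ normalizer (T : Set G) :=
    Cfsg.Agent.Helper22.BG13.le_normalizer_sylow_of_nilpotent_normal
      (Cfsg.Agent.Helper22.BG13.le_normalizer_sigmaCore M) hnil hT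
  have hTp := hT.isPGroup
  have htorsT : tors U hUab t ≤ T := (tors_le_prim U hUab t).trans hUtT
  have hT1 : T ≠ ⊥ := by
    intro hb
    rw [hb, le_bot_iff] at htorsT
    rw [htorsT, Subgroup.card_bot] at hcard
    have := htp.one_lt
    nlinarith
  have hZ1 : Cfsg.Agent.Helper23.FWS.zS T ≠ ⊥ := zS_ne_bot hTp hT1
  have hZU : Cfsg.Agent.Helper23.FWS.zS T ≤ U := by
    refine le_trans ?_ hcU
    intro z hz
    exact Subgroup.centralizer_le (SetLike.coe_subset_coe.mpr htorsT) (Subgroup.mem_inf.mp hz).2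
  have hZp : IsPGroup t ↥(Cfsg.Agent.Helper23.FWS.zS T) :=
    hTp.to_le (Cfsg.Agent.Helper23.FWS.zS_le T)
  have hrank : PRankLE t 2 ↥(Cfsg.Agent.Helper23.FWS.zS T) := pRankLE_of_le hUab hcard.le hZU
  have hE₁M : E₁ ≤ M := hE₁.1
  have hE₁Z : E₁ ≤ normalizer ((Cfsg.Agent.Helper23.FWS.zS T : Subgroup G) : Set G) :=
    (hE₁M.trans hMT).trans (Cfsg.Agent.Helper23.FWS.normalizer_le_normalizer_zS T)
  have hE₁top : E₁ ≠ ⊤ := fun h => hM.1 (top_le_iff.mp (h ▸ hE₁M))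
  have hsol : Group.IsSolvable ↥E₁ := hG.2.2.2 E₁ hE₁top
  have hodd : Odd (Nat.card ↥E₁) := Odd.of_dvd_nat hG.1 (Subgroup.card_subgroup_dvd_card E₁)
  have hcopE : (Nat.card ↥E₁).Coprime (Nat.card ↥(sigmaCore M)) :=
    Cfsg.Agent.Helper4.BG144.complIn_coprime_of_hall hE₁ h50M
  have htU : t ∣ Nat.card ↥U := htx.trans (by
    have := orderOf_dvd_natCard (⟨x, hxU⟩ : ↥U)
    rwa [Subgroup.orderOf_mk] at this)
  have htσ : t ∣ Nat.card ↥(sigmaCore M) := htU.trans (Subgroup.card_dvd_of_le hUσ)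
  have hcop : (Nat.card ↥E₁).Coprime t := Nat.Coprime.coprime_dvd_right htσ hcopE
  have ht2 : t ≠ 2 :=
    Cfsg.Agent.Helper14.BGTrans.prime_ne_two_of_dvd hG
      (htσ.trans (Subgroup.card_subgroup_dvd_card _))
  have hcomm := Cfsg.Agent.Helper4.BGSig.commutator_le_centralizer_of_rank_two ht2 hZp hrank
    hE₁Z hsol hodd hcop
  have hZσ : Cfsg.Agent.Helper23.FWS.zS T ≤ sigmaCore M :=
    (Cfsg.Agent.Helper23.FWS.zS_le T).trans hT.le
  have hcE : ⁅E₁, E₁⁆ ≤ E₁ := by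
    rw [Subgroup.commutator_le]
    intro a ha b hb
    rw [commutatorElement_def]
    exact E₁.mul_mem (E₁.mul_mem (E₁.mul_mem ha hb) (E₁.inv_mem ha)) (E₁.inv_mem hb)
  have hcb : ⁅E₁, E₁⁆ = ⊥ := by
    rw [eq_bot_iff]
    intro e he
    rw [Subgroup.mem_bot]
    by_contra he1
    apply hZ1
    rw [eq_bot_iff, ← hfree e (hcE he) he1]
    refine le_inf hZσ ?_
    intro z hz
    rw [Subgroup.mem_centralizer_iff]
    intro h hh
    rw [Set.mem_singleton_iff] at hh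
    subst hh
    have := Subgroup.mem_centralizer_iff.mp (hcomm he) z hz
    exact this.symm
  have hab : ∀ a ∈ E₁, ∀ b ∈ E₁, a * b = b * a := by
    intro a ha b hb
    have h1 : ⁅a, b⁆ ∈ ⁅E₁, E₁⁆ := Subgroup.commutator_mem_commutator ha hb
    rw [hcb, Subgroup.mem_bot, commutatorElement_eq_one_iff_mul_comm] at h1
    exact h1
  have hσ1 : sigmaCore M ≠ ⊥ := fun h => hZ1 (le_bot_iff.mp (h ▸ hZσ))
  have hE₁σ : E₁ ≤ normalizer ((sigmaCore M : Subgroup G) : Set G) :=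
    hE₁M.trans (Cfsg.Agent.Helper22.BG13.le_normalizer_sigmaCore M)
  apply Cfsg.Agent.Helper1.isCyclic_of_comm_of_unique
  · intro a b
    exact Subtype.ext (hab a a.2 b b.2)
  · intro r hr a b ha hb
    haveI : Fact r.Prime := ⟨hr⟩
    have ha' : orderOf (a : G) = r := by rw [Subgroup.orderOf_coe]; exact ha
    have hb' : orderOf (b : G) = r := by rw [Subgroup.orderOf_coe]; exact hb
    have h1 := Cfsg.Agent.Helper1.mem_zpowers_of_fpf_of_commute (p := r) hE₁σ hσ1 hfree a.2 b.2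
      ha' hb' (hab a a.2 b b.2)
    obtain ⟨k, hk⟩ := Subgroup.mem_zpowers_iff.mp h1
    rw [Subgroup.mem_zpowers_iff]
    exact ⟨k, Subtype.ext (by simpa using hk)⟩

end Cfsg.Agent.Helper23.BG1376
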