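import Mathlib
import Cfsg.Prelude.Def_Blocks
import Cfsg.Agent.Lib.Helper21.BHDefs

/-!
# S4504, PIECE LSETUP: the normal closure `L` of a Sylow `p`-subgroup `P` of order `p` (helper23)
-/

set_option autoImplicit false
set_option linter.unusedSectionVars false
set_option linter.unusedVariables false
set_option linter.style.haveILetI false

namespace Cfsg.Agent.Helper21.BH

open scoped Pointwise
open Cfsg

universe u

section Red

variable {G : Type u} [Group G] [Finite G] (p : ℕ) [Fact p.Prime] (P : Sylow p G)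

local notation "𝓛" => Subgroup.normalClosure ((P : Subgroup G) : Set G)

namespace LSETUP

theorem mem_PL (x : ↥𝓛) : x ∈ ((PL P : Sylow p ↥𝓛) : Subgroup ↥𝓛) ↔ (x : G) ∈ (P : Subgroup G) :=
  Iff.rfl

end LSETUP

/-- PIECE LSETUP (1): the Sylow subgroup of `L = ⟨P^G⟩`. -/
theorem lsetup_card (hP : Nat.card P = p) :
    Nat.card (PL P) = p := by
  have hle : (P : Subgroup G) ≤ 𝓛 := Subgroup.subset_normalClosure
  have e : ((PL P : Sylow p ↥𝓛) : Subgroup ↥𝓛) = (P : Subgroup G).subgroupOf 𝓛 := rfl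
  show Nat.card ((PL P : Sylow p ↥𝓛) : Subgroup ↥𝓛) = p
  rw [e, Nat.card_congr (Subgroup.subgroupOfEquivOfLe hle).toEquiv]
  exact hP

/-- PIECE LSETUP (2): `L = ⟨P^L⟩`. -/
theorem lsetup_closure (hP : Nat.card P = p) :
    Subgroup.normalClosure
      (((PL P) : Subgroup ↥𝓛) : Set ↥𝓛) = ⊤ := by
  set M : Subgroup ↥𝓛 := Subgroup.normalClosure (((PL P) : Subgroup ↥𝓛) : Set ↥𝓛) with hM
  haveI hMn : M.Normal := Subgroup.normalClosure_normal
  haveI hLn : (𝓛).Normal := Subgroup.normalClosure_normal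
  have hPL : (P : Subgroup G) ≤ 𝓛 := Subgroup.subset_normalClosure
  -- every conjugate of an element of `P` lies in the image of `M`
  have key : ∀ a ∈ (P : Subgroup G), ∀ g : G, g * a * g⁻¹ ∈ M.map (𝓛).subtype := by
    intro a ha g
    have hgP : ((g • P : Sylow p G) : Subgroup G) ≤ 𝓛 := by
      intro y hy
      rw [Sylow.coe_subgroup_smul] at hy
      obtain ⟨x, hx, rfl⟩ := hy
      show g * x * g⁻¹ ∈ 𝓛
      exact hLn.conj_mem x (hPL hx) g
    obtain ⟨l, hl⟩ := MulAction.exists_smul_eq (↥𝓛) (PL P) ((g • P : Sylow p G).subtype hgP)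
    have hbP : g * a * g⁻¹ ∈ ((g • P : Sylow p G) : Subgroup G) := by
      rw [Sylow.coe_subgroup_smul]
      exact ⟨a, ha, rfl⟩
    have hb : (⟨g * a * g⁻¹, hgP hbP⟩ : ↥𝓛) ∈
        (((g • P : Sylow p G).subtype hgP : Sylow p ↥𝓛) : Subgroup ↥𝓛) := by
      rw [Sylow.coe_subtype, Subgroup.mem_subgroupOf]
      exact hbP
    rw [← hl, Sylow.coe_subgroup_smul] at hb
    obtain ⟨x, hx, hxe⟩ := hb
    have hxM : x ∈ M := Subgroup.subset_normalClosure hx
    have hlx : l * x * l⁻¹ ∈ M := hMn.conj_mem x hxM l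
    refine ⟨l * x * l⁻¹, hlx, ?_⟩
    have : l * x * l⁻¹ = (⟨g * a * g⁻¹, hgP hbP⟩ : ↥𝓛) := hxe
    rw [this]
    rfl
  have hle : 𝓛 ≤ M.map (𝓛).subtype := by
    unfold Subgroup.normalClosure
    rw [Subgroup.closure_le]
    intro b hb
    rw [Group.mem_conjugatesOfSet_iff] at hb
    obtain ⟨a, ha, hab⟩ := hb
    rw [isConj_iff] at hab
    obtain ⟨g, rfl⟩ := hab
    exact key a ha g
  rw [eq_top_iff]
  intro x _
  obtain ⟨y, hy, hyx⟩ := hle x.2
  have : y = x := Subtype.ext hyx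
  rw [← this]
  exact hy

/-- PIECE LSETUP (3): `L` has no normal subgroup of order `p`. -/
theorem lsetup_nn (hP : Nat.card P = p) (hnn : ∀ K : Subgroup G, K.Normal → Nat.card K ≠ p)
    (K : Subgroup ↥𝓛) (hK : K.Normal) : Nat.card K ≠ p := by
  intro hKp
  have hpp : p.Prime := Fact.out
  have hcardPL : Nat.card ((PL P : Sylow p ↥𝓛) : Subgroup ↥𝓛) = p := lsetup_card p P hP
  have hmult : Nat.card ((PL P : Sylow p ↥𝓛) : Subgroup ↥𝓛) =
      p ^ (Nat.card ↥𝓛).factorization p := Sylow.card_eq_multiplicity (PL P)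
  have hKc : Nat.card K = p ^ (Nat.card ↥𝓛).factorization p := by
    rw [hKp, ← hmult, hcardPL]
  -- `K` is a Sylow subgroup of `L`, conjugate to `PL P`, and normal: they are equal
  obtain ⟨l, hl⟩ := MulAction.exists_smul_eq (↥𝓛) (Sylow.ofCard K hKc) (PL P)
  have hcoe : ((PL P : Sylow p ↥𝓛) : Subgroup ↥𝓛) = K := by
    rw [← hl, Sylow.coe_subgroup_smul, Sylow.coe_ofCard]
    haveI := hK
    exact Subgroup.Normal.conj_smul_eq_self l K
  haveI : (((PL P : Sylow p ↥𝓛) : Subgroup ↥𝓛)).Normal := by rw [hcoe]; exact hK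
  have htop := lsetup_closure p P hP
  have h2 := Subgroup.normalClosure_eq_self ((PL P : Sylow p ↥𝓛) : Subgroup ↥𝓛)
  rw [h2] at htop
  -- so `L` has order `p`
  have hLp : Nat.card ↥𝓛 = p := by
    rw [← Subgroup.card_top (G := ↥𝓛), ← htop]
    exact hcardPL
  exact hnn 𝓛 Subgroup.normalClosure_normal hLp

end Red

end Cfsg.Agent.Helper21.BH
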