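import Mathlib
import Cfsg.Prelude.Def_Blocks
import Cfsg.Agent.Lib.Helper24.CharOrtho
import Cfsg.Agent.Lib.Helper24.CharLinear
import Cfsg.Agent.Lib.Helper24.CharHom
import Cfsg.Agent.Lib.Helper24.CharComplete

/-!
# S0999, piece KER (helper23): a small-degree exceptional character is trivial on `O_{p'}(C_G(P))`
-/

set_option autoImplicit false
set_option linter.unusedSectionVars false
set_option linter.unusedVariables false
set_option linter.style.haveILetI false

namespace Cfsg.Agent.Helper23.BR999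

open Cfsg Cfsg.Agent.Helper24
open scoped ComplexConjugate

section KerAux

variable {G : Type*} [Group G] [Fintype G]

/-- the values of a non-principal irreducible character sum to zero. -/
theorem sum_conj_eq_zero {K : Type*} [Group K] [Fintype K] (ψ : IrrCharacter K)
    (hψ : ψ ≠ principalChar K) : ∑ u : K, conj ((ψ : K → ℂ) u) = 0 := by
  have h := irr_orthogonality' (principalChar K) ψ
  rw [if_neg (fun h' => hψ h'.symm)] at h
  simp only [classInner, principalChar, one_mul] at h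
  have hcard : (Nat.card K : ℂ) ≠ 0 := by exact_mod_cast (Nat.card_pos (α := K)).ne'
  rcases mul_eq_zero.mp h with h0 | h0
  · exact absurd (inv_eq_zero.mp h0) hcard
  · exact h0

/-- generic step: if `χ` is constant on `(H ∖ 1) · Y0` (commuting subgroups), the multiplicity in
`χ|_{Y0}` of a non-principal irreducible character of `Y0` is a multiple of `|H|`. -/
theorem inner_restrict_eq_mul (H Y0 : Subgroup G) [Fintype H] [Fintype Y0]
    (hcomm : ∀ x ∈ H, ∀ u ∈ Y0, x * u = u * x)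
    {χ : G → ℂ} (hχ : IsCharacter G χ) (c : ℂ)
    (hc : ∀ x ∈ H, x ≠ 1 → ∀ u ∈ Y0, χ (x * u) = c)
    (ψ : IrrCharacter Y0) (hψ : ψ ≠ principalChar Y0) :
    ∃ n : ℕ, classInner (fun u : Y0 => χ u) (ψ : Y0 → ℂ) = (Nat.card H : ℂ) * n := by
  classical
  let φ : H × Y0 →* G := MonoidHom.noncommCoprod H.subtype Y0.subtype
    (fun x u => hcomm x.1 x.2 u.1 u.2)
  have hφ : ∀ a : H × Y0, φ a = (a.1 : G) * (a.2 : G) := fun a => rfl
  have hχA : IsCharacter (H × Y0) (χ ∘ φ) := isCharacter_comp φ hχ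
  have hψA : IsIrrCharacter (H × Y0) ((ψ : Y0 → ℂ) ∘ (MonoidHom.snd H Y0)) :=
    isIrrCharacter_comp_of_surjective (MonoidHom.snd H Y0) Prod.snd_surjective ψ.2
  haveI : Fintype (IrrCharacter (H × Y0)) := irrFintype
  obtain ⟨n, hn⟩ := (isCharacter_decomp hχA).1 ⟨_, hψA⟩
  refine ⟨n, ?_⟩
  have hcardH : (Nat.card H : ℂ) ≠ 0 := by exact_mod_cast (Nat.card_pos (α := H)).ne'
  have hcardY : (Nat.card Y0 : ℂ) ≠ 0 := by exact_mod_cast (Nat.card_pos (α := Y0)).ne'
  have hsum : ∑ a : H × Y0, (χ ∘ φ) a * conj (((ψ : Y0 → ℂ) ∘ (MonoidHom.snd H Y0)) a) =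
      ∑ u : Y0, χ u * conj ((ψ : Y0 → ℂ) u) := by
    rw [Fintype.sum_prod_type]
    rw [Finset.sum_eq_single (1 : H)]
    · refine Finset.sum_congr rfl fun u _ => ?_
      simp only [Function.comp_apply, hφ, MonoidHom.coe_snd, Subgroup.coe_one, one_mul]
    · intro x _ hx
      have hx1 : (x : G) ≠ 1 := fun h => hx (Subtype.ext h)
      have : ∀ u : Y0, (χ ∘ φ) (x, u) * conj (((ψ : Y0 → ℂ) ∘ (MonoidHom.snd H Y0)) (x, u)) =
          c * conj ((ψ : Y0 → ℂ) u) := by
        intro u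
        simp only [Function.comp_apply, hφ, MonoidHom.coe_snd]
        rw [hc x.1 x.2 hx1 u.1 u.2]
      rw [Finset.sum_congr rfl fun u _ => this u, ← Finset.mul_sum, sum_conj_eq_zero ψ hψ,
        mul_zero]
    · intro h; exact absurd (Finset.mem_univ _) h
  have hcardA : (Nat.card (H × Y0) : ℂ) = (Nat.card H : ℂ) * (Nat.card Y0 : ℂ) := by
    rw [Nat.card_prod]; push_cast; ring
  simp only [classInner] at hn ⊢
  rw [hsum, hcardA] at hn
  rw [← hn]
  field_simp

end KerAux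

/-- PIECE KER. -/
theorem ker_of_small {G : Type*} [Group G] [Fintype G] (p : ℕ) [Fact p.Prime]
    (P : Sylow p G) (hP : Nat.card P = p)
    (X : Set (IrrCharacter G)) (εX : IrrCharacter G → ℤ) (ε : ℤ) (hε : ε = 1 ∨ ε = -1)
    (hX : ∀ χ ∈ X, (εX χ = 1 ∨ εX χ = -1) ∧ ∀ x : G, x ∈ (P : Subgroup G) → x ≠ 1 →
      ∀ y : G, y ∈ Subgroup.centralizer ((P : Subgroup G) : Set G) → ¬ p ∣ orderOf y →
        (χ : G → ℂ) (x * y) = (εX χ : ℂ))
    (θ : IrrCharacter G)
    (hθ : ∀ g : G, ¬ p ∣ orderOf g →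
      (ε : ℂ) * (θ : G → ℂ) g = ∑ᶠ χ ∈ X, (εX χ : ℂ) * (χ : G → ℂ) g)
    (hdeg : charDegree (θ : G → ℂ) < p)
    (y : G) (hy : y ∈ Subgroup.centralizer ((P : Subgroup G) : Set G)) (hyp : ¬ p ∣ orderOf y) :
    (θ : G → ℂ) y = (θ : G → ℂ) 1 := by
  classical
  have hpp : p.Prime := Fact.out
  set C : Subgroup G := Subgroup.centralizer ((P : Subgroup G) : Set G) with hCdef
  set Y0 : Subgroup G := Subgroup.zpowers y with hY0
  haveI : Fintype Y0 := Fintype.ofFinite _
  haveI : Fintype (P : Subgroup G) := Fintype.ofFinite _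
  haveI : Fintype (IrrCharacter Y0) := irrFintype
  haveI : Finite (IrrCharacter G) := irr_finite'
  have hY0C : Y0 ≤ C := by
    rw [hY0, Subgroup.zpowers_le]; exact hy
  have hY0reg : ∀ u ∈ Y0, ¬ p ∣ orderOf u := by
    intro u hu hdiv
    exact hyp (hdiv.trans (orderOf_dvd_of_mem_zpowers hu))
  have hcomm : ∀ x ∈ (P : Subgroup G), ∀ u ∈ Y0, x * u = u * x := by
    intro x hx u hu
    have := Subgroup.mem_centralizer_iff.mp (hY0C hu) x hx
    exact this
  -- the finite set of X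
  have hXfin : X.Finite := Set.toFinite X
  set S : Finset (IrrCharacter G) := hXfin.toFinset with hS
  have hSmem : ∀ χ, χ ∈ S ↔ χ ∈ X := fun χ => by rw [hS, Set.Finite.mem_toFinset]
  -- multiplicities for χ ∈ X
  have hmult : ∀ (ψ : IrrCharacter Y0), ψ ≠ principalChar Y0 → ∀ χ : IrrCharacter G,
      ∃ n : ℕ, χ ∈ X → classInner (fun u : Y0 => (χ : G → ℂ) u) (ψ : Y0 → ℂ) = (p : ℂ) * n := by
    intro ψ hψ χ
    by_cases hχX : χ ∈ X
    · obtain ⟨n, hn⟩ := inner_restrict_eq_mul (P : Subgroup G) Y0 hcomm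
        (isCharacter_of_isIrrCharacter χ.2) (εX χ : ℂ)
        (fun x hx hx1 u hu => (hX χ hχX).2 x hx hx1 u (hY0C hu) (hY0reg u hu)) ψ hψ
      refine ⟨n, fun _ => ?_⟩
      rw [hn]
      have : (Nat.card (P : Subgroup G) : ℂ) = (p : ℂ) := by
        have := hP
        exact_mod_cast this
      rw [this]
    · exact ⟨0, fun h => absurd h hχX⟩
  -- θ restricted to Y0
  have hθchar : IsCharacter G (θ : G → ℂ) := isCharacter_of_isIrrCharacter θ.2
  have hθres : IsCharacter Y0 (fun u : Y0 => (θ : G → ℂ) u) := isCharacter_restrict Y0 hθchar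
  obtain ⟨hm, hdecomp⟩ := isCharacter_decomp hθres
  choose m hm using hm
  -- the relation on Y0
  have hrel : ∀ u : Y0, (ε : ℂ) * (θ : G → ℂ) u = ∑ χ ∈ S, (εX χ : ℂ) * (χ : G → ℂ) u := by
    intro u
    rw [hθ u (hY0reg u u.2), finsum_mem_eq_finite_toFinset_sum _ hXfin]
  -- p divides m ψ for ψ non-principal
  have hpdvd : ∀ ψ : IrrCharacter Y0, ψ ≠ principalChar Y0 → p ∣ m ψ := by
    intro ψ hψ
    choose n hn using hmult ψ hψ
    have h1 : (ε : ℂ) * classInner (fun u : Y0 => (θ : G → ℂ) u) (ψ : Y0 → ℂ) =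
        ∑ χ ∈ S, (εX χ : ℂ) * classInner (fun u : Y0 => (χ : G → ℂ) u) (ψ : Y0 → ℂ) := by
      rw [← classInner_smul_left]
      have : ((ε : ℂ) • fun u : Y0 => (θ : G → ℂ) u) =
          ∑ χ ∈ S, ((εX χ : ℂ) • fun u : Y0 => (χ : G → ℂ) u) := by
        funext u
        simp only [Pi.smul_apply, smul_eq_mul, Finset.sum_apply]
        exact hrel u
      rw [this, classInner_sum_left]
      refine Finset.sum_congr rfl fun χ _ => ?_
      rw [classInner_smul_left]
    rw [hm ψ] at h1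
    have h2 : ∑ χ ∈ S, (εX χ : ℂ) * classInner (fun u : Y0 => (χ : G → ℂ) u) (ψ : Y0 → ℂ) =
        (((p : ℤ) * ∑ χ ∈ S, εX χ * (n χ : ℤ) : ℤ) : ℂ) := by
      push_cast
      rw [Finset.mul_sum]
      refine Finset.sum_congr rfl fun χ hχ => ?_
      rw [hn χ ((hSmem χ).mp hχ)]
      ring
    rw [h2] at h1
    have h3 : ε * (m ψ : ℤ) = (p : ℤ) * ∑ χ ∈ S, εX χ * (n χ : ℤ) := by
      have : ((ε * (m ψ : ℤ) : ℤ) : ℂ) = (((p : ℤ) * ∑ χ ∈ S, εX χ * (n χ : ℤ) : ℤ) : ℂ) := by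
        rw [← h1]; push_cast; ring
      exact_mod_cast this
    have h4 : (p : ℤ) ∣ (m ψ : ℤ) := by
      rcases hε with h | h
      · rw [h, one_mul] at h3
        exact ⟨_, h3⟩
      · rw [h] at h3
        have : (m ψ : ℤ) = (p : ℤ) * (-∑ χ ∈ S, εX χ * (n χ : ℤ)) := by linarith
        exact ⟨_, this⟩
    exact_mod_cast h4
  -- degree bound: charDegree θ = ∑ m ψ * charDegree ψ
  have hdegsum : charDegree (θ : G → ℂ) = ∑ ψ : IrrCharacter Y0, m ψ * charDegree (ψ : Y0 → ℂ) := by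
    have h1 := congrFun hdecomp 1
    simp only [Finset.sum_apply, Pi.smul_apply, smul_eq_mul, Subgroup.coe_one] at h1
    rw [irr_one_eq_charDegree θ.2] at h1
    have h2 : ∑ ψ : IrrCharacter Y0,
        classInner (fun u : Y0 => (θ : G → ℂ) u) (ψ : Y0 → ℂ) * (ψ : Y0 → ℂ) 1 =
        ((∑ ψ : IrrCharacter Y0, m ψ * charDegree (ψ : Y0 → ℂ) : ℕ) : ℂ) := by
      push_cast
      refine Finset.sum_congr rfl fun ψ _ => ?_
      rw [hm ψ, irr_one_eq_charDegree ψ.2]
    rw [h2] at h1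
    exact_mod_cast h1
  have hmzero : ∀ ψ : IrrCharacter Y0, ψ ≠ principalChar Y0 → m ψ = 0 := by
    intro ψ hψ
    have h1 : m ψ ≤ charDegree (θ : G → ℂ) := by
      rw [hdegsum]
      calc m ψ ≤ m ψ * charDegree (ψ : Y0 → ℂ) :=
            Nat.le_mul_of_pos_right _ (charDegree_pos ψ.2)
        _ ≤ ∑ ψ : IrrCharacter Y0, m ψ * charDegree (ψ : Y0 → ℂ) :=
            Finset.single_le_sum (f := fun ψ : IrrCharacter Y0 => m ψ * charDegree (ψ : Y0 → ℂ))
              (fun _ _ => Nat.zero_le _) (Finset.mem_univ ψ)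
    have h2 : m ψ < p := lt_of_le_of_lt h1 hdeg
    exact Nat.eq_zero_of_dvd_of_lt (hpdvd ψ hψ) h2
  -- conclusion: θ|_Y0 is a multiple of the principal character
  have hval : ∀ u : Y0, (θ : G → ℂ) u = (m (principalChar Y0) : ℂ) := by
    intro u
    have h1 := congrFun hdecomp u
    simp only [Finset.sum_apply, Pi.smul_apply, smul_eq_mul] at h1
    rw [h1, Finset.sum_eq_single (principalChar Y0)]
    · rw [hm]; simp [principalChar]
    · intro ψ _ hψ
      rw [hm ψ, hmzero ψ hψ]; simp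
    · intro h; exact absurd (Finset.mem_univ _) h
  have hy0 : y ∈ Y0 := Subgroup.mem_zpowers y
  have e1 := hval ⟨y, hy0⟩
  have e2 := hval 1
  simp only [Subgroup.coe_one] at e2
  rw [e2]; exact e1

end Cfsg.Agent.Helper23.BR999
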