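import Mathlib
import Cfsg.Agent.Lib.Helper23.BlockResidue
import Cfsg.Agent.Lib.Helper23.BlockConv

/-!
# Reduction of coefficient functions to the modular group algebra (helper23's shared library)

`IsRed M r`: `r : ℂ → F` is a reduction map modulo the local ideal at `M` onto a field `F`
(`isRed_red`: the map `red M` onto `AlgInt ⧸ M` is one).  Working with an abstract field keeps
instance search cheap.

`toFG r a : MonoidAlgebra F G` is the reduction of the coefficient function `a : G → ℂ`.  On
functions with local-integer values it is additive and turns convolution into the product;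
every element of the modular group algebra is such a reduction (`toFG_liftFG`).
-/

set_option autoImplicit false
set_option linter.unusedSectionVars false

namespace Cfsg.Agent.Helper23.Blk

open Cfsg Module

universe u v

/-- `r` is a reduction map modulo the local ideal at `M`, onto the field `F` -/
structure IsRed (M : Ideal AlgInt) {F : Type v} [Field F] (r : ℂ → F) : Prop where
  add : ∀ {z w : ℂ}, MemLocalRing M z → MemLocalRing M w → r (z + w) = r z + r w
  mul : ∀ {z w : ℂ}, MemLocalRing M z → MemLocalRing M w → r (z * w) = r z * r w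
  one : r 1 = 1
  zero_iff : ∀ {z : ℂ}, MemLocalRing M z → (r z = 0 ↔ MemLocalIdeal M z)
  surj : ∀ x : F, ∃ z : ℂ, MemLocalRing M z ∧ r z = x

theorem isRed_red {M : Ideal AlgInt} [hMax : M.IsMaximal] : IsRed M (red M) where
  add := fun hz hw => red_add hz hw
  mul := fun hz hw => red_mul hz hw
  one := red_one
  zero_iff := fun hz => red_eq_zero_iff hz
  surj := exists_red_eq

namespace IsRed

variable {M : Ideal AlgInt} [hMp : M.IsPrime] {F : Type v} [Field F] {r : ℂ → F}
  (hr : IsRed M r)
include hr

theorem zero : r 0 = 0 :=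
  (hr.zero_iff (memLocalRing_zero ne_top)).2 (memLocalIdeal_zero ne_top)

theorem neg {z : ℂ} (hz : MemLocalRing M z) : r (-z) = -r z := by
  have h := hr.add hz (memLocalRing_neg hz)
  rw [add_neg_cancel, hr.zero] at h
  exact (neg_eq_of_add_eq_zero_right h.symm).symm

theorem sub {z w : ℂ} (hz : MemLocalRing M z) (hw : MemLocalRing M w) :
    r (z - w) = r z - r w := by
  rw [sub_eq_add_neg, hr.add hz (memLocalRing_neg hw), hr.neg hw, sub_eq_add_neg]

theorem eq_iff {z w : ℂ} (hz : MemLocalRing M z) (hw : MemLocalRing M w) :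
    r z = r w ↔ MemLocalIdeal M (z - w) := by
  rw [← hr.zero_iff (memLocalRing_sub hz hw), hr.sub hz hw, sub_eq_zero]

theorem sum {ι : Type*} (s : Finset ι) (f : ι → ℂ) (h : ∀ i ∈ s, MemLocalRing M (f i)) :
    r (∑ i ∈ s, f i) = ∑ i ∈ s, r (f i) := by
  classical
  induction s using Finset.induction_on with
  | empty => simpa using hr.zero
  | insert j s hj ih =>
    rw [Finset.sum_insert hj, Finset.sum_insert hj,
      hr.add (h j (Finset.mem_insert_self j s))
        (memLocalRing_sum _ _ fun i hi => h i (Finset.mem_insert_of_mem hi)),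
      ih fun i hi => h i (Finset.mem_insert_of_mem hi)]

/-- a fixed section of the reduction map -/
noncomputable def lift (x : F) : ℂ := (hr.surj x).choose

theorem memLocalRing_lift (x : F) : MemLocalRing M (hr.lift x) := (hr.surj x).choose_spec.1

theorem r_lift (x : F) : r (hr.lift x) = x := (hr.surj x).choose_spec.2

end IsRed

section ToFG

variable {G : Type u} [Group G] [Fintype G] {M : Ideal AlgInt} [hMp : M.IsPrime]
  {F : Type v} [Field F] {r : ℂ → F}

/-- the reduction of a coefficient function, in the modular group algebra -/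
noncomputable def toFG (r : ℂ → F) (a : G → ℂ) : MonoidAlgebra F G :=
  MonoidAlgebra.ofCoeff (Finsupp.equivFunOnFinite.symm fun g => r (a g))

@[simp]
theorem toFG_coeff (a : G → ℂ) (g : G) : (toFG r a).coeff g = r (a g) := rfl

theorem monoidAlgebra_ext {x y : MonoidAlgebra F G} (h : ∀ g, x.coeff g = y.coeff g) : x = y := by
  apply MonoidAlgebra.coeff_injective
  exact Finsupp.ext h

variable (hr : IsRed M r)
include hr

theorem toFG_add {a b : G → ℂ} (ha : ∀ g, MemLocalRing M (a g)) (hb : ∀ g, MemLocalRing M (b g)) :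
    toFG r (a + b) = toFG r a + toFG r b := by
  apply monoidAlgebra_ext
  intro g
  rw [MonoidAlgebra.coeff_add, Finsupp.add_apply, toFG_coeff, toFG_coeff, toFG_coeff,
    Pi.add_apply, hr.add (ha g) (hb g)]

theorem toFG_sub {a b : G → ℂ} (ha : ∀ g, MemLocalRing M (a g)) (hb : ∀ g, MemLocalRing M (b g)) :
    toFG r (a - b) = toFG r a - toFG r b := by
  apply monoidAlgebra_ext
  intro g
  rw [MonoidAlgebra.coeff_sub, Finsupp.sub_apply, toFG_coeff, toFG_coeff, toFG_coeff,
    Pi.sub_apply, hr.sub (ha g) (hb g)]

theorem toFG_smul {c : ℂ} (hc : MemLocalRing M c) {a : G → ℂ} (ha : ∀ g, MemLocalRing M (a g)) :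
    toFG r (c • a) = r c • toFG r a := by
  apply monoidAlgebra_ext
  intro g
  rw [MonoidAlgebra.coeff_smul, Finsupp.smul_apply, toFG_coeff, toFG_coeff, Pi.smul_apply,
    smul_eq_mul, smul_eq_mul, hr.mul hc (ha g)]

theorem toFG_conv {a b : G → ℂ} (ha : ∀ g, MemLocalRing M (a g)) (hb : ∀ g, MemLocalRing M (b g)) :
    toFG r (conv a b) = toFG r a * toFG r b := by
  apply monoidAlgebra_ext
  intro g
  rw [MonoidAlgebra.coeff_mul_apply_left, Finsupp.sum_fintype _ _ (fun _ => zero_mul _),
    toFG_coeff, conv_apply, hr.sum _ _ (fun h _ => memLocalRing_mul (ha h) (hb _))]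
  refine Finset.sum_congr rfl fun h _ => ?_
  rw [hr.mul (ha h) (hb _)]
  rfl

theorem toFG_eq_iff {a b : G → ℂ} (ha : ∀ g, MemLocalRing M (a g))
    (hb : ∀ g, MemLocalRing M (b g)) :
    toFG r a = toFG r b ↔ ∀ g, MemLocalIdeal M (a g - b g) := by
  constructor
  · intro h g
    have := congrArg (fun x => x.coeff g) h
    simp only [toFG_coeff] at this
    exact (hr.eq_iff (ha g) (hb g)).1 this
  · intro h
    apply monoidAlgebra_ext
    intro g
    rw [toFG_coeff, toFG_coeff]
    exact (hr.eq_iff (ha g) (hb g)).2 (h g)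

theorem toFG_eq_zero {a : G → ℂ} (ha : ∀ g, MemLocalIdeal M (a g)) : toFG r a = 0 := by
  apply monoidAlgebra_ext
  intro g
  rw [toFG_coeff, (hr.zero_iff (memLocalRing_of_memLocalIdeal (ha g))).2 (ha g)]
  rfl

open Classical in
theorem toFG_delta : toFG r (fun g : G => if g = 1 then (1 : ℂ) else 0) = 1 := by
  apply monoidAlgebra_ext
  intro g
  rw [toFG_coeff, MonoidAlgebra.one_def, MonoidAlgebra.coeff_single, Finsupp.single_apply]
  by_cases hg : g = 1
  · rw [if_pos hg, if_pos hg.symm, hr.one]
  · rw [if_neg hg, if_neg (Ne.symm hg), hr.zero]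

/-- the canonical lift of an element of the modular group algebra -/
noncomputable def liftFG (x : MonoidAlgebra F G) : G → ℂ := fun g => hr.lift (x.coeff g)

theorem memLocalRing_liftFG (x : MonoidAlgebra F G) (g : G) :
    MemLocalRing M (liftFG hr x g) := hr.memLocalRing_lift _

theorem toFG_liftFG (x : MonoidAlgebra F G) : toFG r (liftFG hr x) = x := by
  apply monoidAlgebra_ext
  intro g
  rw [toFG_coeff]
  exact hr.r_lift _

omit hr in
/-- central elements have class functions as coefficients -/
theorem coeff_conj_of_central {x : MonoidAlgebra F G}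
    (hx : ∀ y : MonoidAlgebra F G, x * y = y * x) (g h : G) :
    x.coeff (h * g * h⁻¹) = x.coeff g := by
  have h1 := congrArg (fun z => z.coeff (h * g)) (hx (MonoidAlgebra.single h 1))
  simp only [MonoidAlgebra.coeff_mul_single_apply, MonoidAlgebra.coeff_single_mul_apply,
    mul_one, one_mul] at h1
  rw [h1]
  congr 1
  group

theorem isClassFunction_liftFG {x : MonoidAlgebra F G}
    (hx : ∀ y : MonoidAlgebra F G, x * y = y * x) :
    IsClassFunction G (liftFG hr x) := by
  intro g h
  unfold liftFG
  rw [coeff_conj_of_central hx]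

omit hr in
/-- elements whose coefficients form a class function are central -/
theorem central_of_coeff_conj {x : MonoidAlgebra F G}
    (hx : ∀ g h : G, x.coeff (h * g * h⁻¹) = x.coeff g) (y : MonoidAlgebra F G) :
    x * y = y * x := by
  apply monoidAlgebra_ext
  intro g
  rw [MonoidAlgebra.coeff_mul_apply_left, MonoidAlgebra.coeff_mul_apply_right,
    Finsupp.sum_fintype _ _ (fun _ => zero_mul _), Finsupp.sum_fintype _ _ (fun _ => mul_zero _)]
  rw [← Equiv.sum_comp (MulAut.conj g).toEquiv]
  refine Finset.sum_congr rfl fun h _ => ?_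
  have e0 : (MulAut.conj g).toEquiv h = g * h * g⁻¹ := rfl
  have e1 : (g * h * g⁻¹)⁻¹ * g = g * h⁻¹ := by group
  rw [e0, e1, hx, mul_comm]

end ToFG

end Cfsg.Agent.Helper23.Blk
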