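import Mathlib
import Cfsg.Agent.Lib.Helper23.BlkRedAlg

/-!
# Dimensions of reductions (helper23's shared library)

`finrank_le_of_lifts`: if every vector of a subspace `W` of `X → F` is the reduction of a vector
with local-integer coordinates lying in the complex subspace `V` of `X → ℂ`, then
`dim_F W ≤ dim_ℂ V`.
-/

set_option autoImplicit false
set_option linter.unusedSectionVars false

namespace Cfsg.Agent.Helper23.Blk

open Cfsg Module

universe u v

section LiftDim

variable {M : Ideal AlgInt} [hMp : M.IsPrime] {F : Type v} [Field F] {r : ℂ → F}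

theorem finrank_le_of_lifts (hr : IsRed M r) {X : Type u} [Fintype X] [DecidableEq X] (n : ℕ) :
    ∀ (V : Submodule ℂ (X → ℂ)) (W : Submodule F (X → F)), finrank ℂ V = n →
      (∀ w ∈ W, ∃ v ∈ V, (∀ x, MemLocalRing M (v x)) ∧ ∀ x, r (v x) = w x) →
      finrank F W ≤ n := by
  induction n using Nat.strong_induction_on with
  | _ n ih =>
    intro V W hV hlift
    by_cases hW : W = ⊥
    · rw [hW, finrank_bot]
      exact Nat.zero_le _
    obtain ⟨w, hwW, hw0⟩ := Submodule.exists_mem_ne_zero_of_ne_bot hW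
    obtain ⟨x₀, hx₀⟩ : ∃ x₀, w x₀ ≠ 0 := by
      by_contra hcon
      push Not at hcon
      exact hw0 (funext hcon)
    obtain ⟨v, hvV, hvR, hvw⟩ := hlift w hwW
    have hu : ¬ MemLocalIdeal M (v x₀) := by
      intro h
      apply hx₀
      rw [← hvw, (hr.zero_iff (hvR x₀)).2 h]
    have hu0 : v x₀ ≠ 0 := by
      intro h
      apply hu
      rw [h]
      exact memLocalIdeal_zero ne_top
    have huinv := memLocalRing_inv (hvR x₀) hu
    let V' : Submodule ℂ (X → ℂ) := V ⊓ LinearMap.ker (LinearMap.proj (R := ℂ) (φ := fun _ : X => ℂ) x₀)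
    let W' : Submodule F (X → F) := W ⊓ LinearMap.ker (LinearMap.proj (R := F) (φ := fun _ : X => F) x₀)
    have hV'lt : V' < V := by
      refine lt_of_le_of_ne inf_le_left fun h => hu0 ?_
      have : v ∈ V' := by rw [h]; exact hvV
      exact this.2
    have hlt := Submodule.finrank_lt_finrank_of_lt hV'lt
    rw [hV] at hlt
    -- the lifting property for `W'`
    have hlift' : ∀ w' ∈ W', ∃ v' ∈ V', (∀ x, MemLocalRing M (v' x)) ∧ ∀ x, r (v' x) = w' x := by
      intro w' hw'
      obtain ⟨v₁, hv₁V, hv₁R, hv₁w⟩ := hlift w' hw'.1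
      have hw'0 : w' x₀ = 0 := hw'.2
      have hc : MemLocalRing M (v₁ x₀ * (v x₀)⁻¹) := memLocalRing_mul (hv₁R x₀) huinv
      have hrc : r (v₁ x₀ * (v x₀)⁻¹) = 0 := by
        rw [hr.mul (hv₁R x₀) huinv, hv₁w, hw'0, zero_mul]
      refine ⟨v₁ - (v₁ x₀ * (v x₀)⁻¹) • v, ⟨V.sub_mem hv₁V (V.smul_mem _ hvV), ?_⟩, ?_, ?_⟩
      · show (v₁ - (v₁ x₀ * (v x₀)⁻¹) • v) x₀ = 0
        rw [Pi.sub_apply, Pi.smul_apply, smul_eq_mul, mul_assoc, inv_mul_cancel₀ hu0, mul_one,
          sub_self]
      · intro x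
        rw [Pi.sub_apply, Pi.smul_apply, smul_eq_mul]
        exact memLocalRing_sub (hv₁R x) (memLocalRing_mul hc (hvR x))
      · intro x
        rw [Pi.sub_apply, Pi.smul_apply, smul_eq_mul,
          hr.sub (hv₁R x) (memLocalRing_mul hc (hvR x)), hr.mul hc (hvR x), hrc, zero_mul,
          sub_zero, hv₁w]
    have h1 := ih (finrank ℂ V') hlt V' W' rfl hlift'
    -- `W = W' ⊔ span {w}`
    have hsup : W ≤ W' ⊔ Submodule.span F {w} := by
      intro w₁ hw₁
      have e : w₁ = (w₁ - (w₁ x₀ * (w x₀)⁻¹) • w) + (w₁ x₀ * (w x₀)⁻¹) • w := by abel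
      rw [e]
      refine Submodule.add_mem _ (Submodule.mem_sup_left ⟨W.sub_mem hw₁ (W.smul_mem _ hwW), ?_⟩)
        (Submodule.mem_sup_right (Submodule.smul_mem _ _ (Submodule.mem_span_singleton_self w)))
      show (w₁ - (w₁ x₀ * (w x₀)⁻¹) • w) x₀ = 0
      rw [Pi.sub_apply, Pi.smul_apply, smul_eq_mul, mul_assoc, inv_mul_cancel₀ hx₀, mul_one,
        sub_self]
    have h2 := Submodule.finrank_mono hsup
    have h3 := Submodule.finrank_add_le_finrank_add_finrank W' (Submodule.span F {w})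
    have h4 : finrank F (Submodule.span F {w}) ≤ 1 := finrank_span_singleton hw0 |>.le
    omega

end LiftDim

end Cfsg.Agent.Helper23.Blk
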