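import Mathlib
import Cfsg.Agent.Lib.Helper23.BlkLiftDim
import Cfsg.Agent.Lib.Helper23.BlockBrauer

/-!
# Dimension of a block ideal of the modular group algebra (helper23's shared library)

For a set `A` of irreducible characters whose idempotent has local-integer coefficients,
`epsFG r A` is the corresponding central idempotent of `MonoidAlgebra F G` and
`dim (epsFG r A * FG) = ∑ χ ∈ A, χ(1)²` (`finrank_range_mulLeft_epsFG`).
-/

set_option autoImplicit false
set_option linter.unusedSectionVars false

namespace Cfsg.Agent.Helper23.Blk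

open Cfsg Module Cfsg.Agent.Helper24
open scoped ComplexConjugate

universe u v

section Proj

variable {G : Type u} [Group G] [Fintype G]

/-- right convolution with `e`, as a linear map -/
noncomputable def convRight (e : G → ℂ) : (G → ℂ) →ₗ[ℂ] (G → ℂ) where
  toFun a := conv a e
  map_add' a b := by
    funext x
    simp only [conv_apply, Pi.add_apply, add_mul, Finset.sum_add_distrib]
  map_smul' c a := by
    funext x
    simp only [conv_apply, Pi.smul_apply, smul_eq_mul, RingHom.id_apply, Finset.mul_sum, mul_assoc]

theorem convRight_apply (e a : G → ℂ) : convRight e a = conv a e := rfl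

theorem trace_convRight [DecidableEq G] (e : G → ℂ) :
    LinearMap.trace ℂ (G → ℂ) (convRight e) = (Nat.card G : ℂ) * e 1 := by
  rw [LinearMap.trace_eq_matrix_trace ℂ (Pi.basisFun ℂ G), Matrix.trace]
  have h1 : ∀ g : G, Matrix.diag (LinearMap.toMatrix (Pi.basisFun ℂ G) (Pi.basisFun ℂ G)
      (convRight e)) g = e 1 := by
    intro g
    rw [Matrix.diag_apply, LinearMap.toMatrix_apply, Pi.basisFun_apply, Pi.basisFun_repr,
      convRight_apply, conv_apply]
    rw [Finset.sum_eq_single g]
    · rw [Pi.single_eq_same, one_mul, inv_mul_cancel]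
    · intro h _ hne
      rw [Pi.single_eq_of_ne hne, zero_mul]
    · intro h
      exact absurd (Finset.mem_univ g) h
  rw [Finset.sum_congr rfl (fun g _ => h1 g), Finset.sum_const, Finset.card_univ,
    nsmul_eq_mul, Nat.card_eq_fintype_card]

theorem finrank_range_convRight [DecidableEq G] {e : G → ℂ} (he : conv e e = e) :
    (finrank ℂ (LinearMap.range (convRight e)) : ℂ) = (Nat.card G : ℂ) * e 1 := by
  have hidem : IsIdempotentElem (convRight e) := by
    apply LinearMap.ext
    intro a
    show convRight e (convRight e a) = convRight e a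
    rw [convRight_apply, convRight_apply, conv_assoc, he]
  have hproj := (LinearMap.isProj_range_iff_isIdempotentElem (convRight e)).2 hidem
  rw [← hproj.trace, trace_convRight]

end Proj

section Eps

variable {G : Type u} [Group G] [Fintype G] [Fintype (IrrCharacter G)]
  {M : Ideal AlgInt} [hMp : M.IsPrime] {F : Type v} [Field F] {r : ℂ → F}

/-- the indicator vector of a set of irreducible characters -/
noncomputable def indVec (A : Set (IrrCharacter G)) [DecidablePred (· ∈ A)] :
    IrrCharacter G → ℂ := fun χ => if χ ∈ A then 1 else 0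

theorem indVec_mul_self (A : Set (IrrCharacter G)) [DecidablePred (· ∈ A)] :
    indVec A * indVec A = indVec A := by
  funext χ
  unfold indVec
  rw [Pi.mul_apply]
  split_ifs <;> simp

theorem indVec_add_compl (A : Set (IrrCharacter G)) [DecidablePred (· ∈ A)] :
    indVec A + indVec Aᶜ = fun _ => (1 : ℂ) := by
  funext χ
  unfold indVec
  rw [Pi.add_apply]
  by_cases h : χ ∈ A
  · rw [if_pos h, if_neg (fun h' => h' h), add_zero]
  · rw [if_neg h, if_pos (Set.mem_compl h), zero_add]

theorem isIntegralVec_indVec_compl {A : Set (IrrCharacter G)} [DecidablePred (· ∈ A)]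
    (hA : IsIntegralVec M (indVec A)) : IsIntegralVec M (indVec Aᶜ) := by
  have h1 : indVec Aᶜ = (fun _ : IrrCharacter G => (1 : ℂ)) - indVec A := by
    rw [← indVec_add_compl A]
    abel
  rw [h1]
  exact isIntegralVec_one.sub hA

theorem synth_indVec_one (A : Set (IrrCharacter G)) [DecidablePred (· ∈ A)] :
    (Nat.card G : ℂ) * synth (indVec A) 1 =
      ((∑ χ : IrrCharacter G, if χ ∈ A then charDegree (χ : G → ℂ) ^ 2 else 0 : ℕ) : ℂ) := by
  unfold synth idemCoeff indVec
  rw [Finset.mul_sum, Nat.cast_sum]
  refine Finset.sum_congr rfl fun χ _ => ?_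
  have hG := card_ne_zero (G := G)
  by_cases h : χ ∈ A
  · rw [if_pos h, if_pos h, irr_one_eq_charDegree χ.2, Complex.conj_natCast]
    push_cast
    field_simp
  · rw [if_neg h, if_neg h]
    simp

/-- the sum of the squares of the degrees in `A` -/
noncomputable def sqSum (A : Set (IrrCharacter G)) [DecidablePred (· ∈ A)] : ℕ :=
  ∑ χ : IrrCharacter G, if χ ∈ A then charDegree (χ : G → ℂ) ^ 2 else 0

theorem sqSum_add_compl (A : Set (IrrCharacter G)) [DecidablePred (· ∈ A)] :
    sqSum A + sqSum Aᶜ = Nat.card G := by
  unfold sqSum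
  rw [← Finset.sum_add_distrib, ← sum_charDegree_sq]
  refine Finset.sum_congr rfl fun χ _ => ?_
  by_cases h : χ ∈ A
  · rw [if_pos h, if_neg (fun h' => h' h), add_zero]
  · rw [if_neg h, if_pos (Set.mem_compl h), zero_add]

/-- the idempotent of `A` in the modular group algebra -/
noncomputable def epsFG (r : ℂ → F) (A : Set (IrrCharacter G)) [DecidablePred (· ∈ A)] :
    MonoidAlgebra F G := toFG r (synth (indVec A))

variable (hr : IsRed M r)
include hr

theorem epsFG_idem {A : Set (IrrCharacter G)} [DecidablePred (· ∈ A)]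
    (hA : IsIntegralVec M (indVec A)) : epsFG r A * epsFG r A = epsFG r A := by
  unfold epsFG
  rw [← toFG_conv hr hA hA, conv_synth, indVec_mul_self]

omit hr hMp in
theorem epsFG_central (A : Set (IrrCharacter G)) [DecidablePred (· ∈ A)]
    (y : MonoidAlgebra F G) : epsFG r A * y = y * epsFG r A := by
  apply central_of_coeff_conj
  intro g h
  unfold epsFG
  rw [toFG_coeff, toFG_coeff, synth_isClassFunction]

theorem epsFG_add_compl {A : Set (IrrCharacter G)} [DecidablePred (· ∈ A)]
    (hA : IsIntegralVec M (indVec A)) : epsFG r A + epsFG r Aᶜ = 1 := by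
  classical
  unfold epsFG
  rw [← toFG_add hr hA (isIntegralVec_indVec_compl hA), ← toFG_delta hr]
  congr 1
  funext g
  rw [Pi.add_apply, ← synth_add, indVec_add_compl, synth_one]

/-- the coefficient map as a linear equivalence -/
noncomputable def coeffEquivFun (F : Type v) [Field F] (G : Type u) [Fintype G] :
    MonoidAlgebra F G ≃ₗ[F] (G → F) :=
  (MonoidAlgebra.coeffLinearEquiv F).trans (Finsupp.linearEquivFunOnFinite F F G)

omit hr hMp in
theorem coeffEquivFun_apply (x : MonoidAlgebra F G) (g : G) :
    coeffEquivFun F G x g = x.coeff g := rfl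

/-- upper bound for the dimension of a block ideal -/
theorem finrank_range_mulLeft_epsFG_le [DecidableEq G] {A : Set (IrrCharacter G)}
    [DecidablePred (· ∈ A)] (hA : IsIntegralVec M (indVec A)) :
    finrank F (LinearMap.range (LinearMap.mulLeft F (epsFG r A))) ≤ sqSum A := by
  let e : G → ℂ := synth (indVec A)
  have he : conv e e = e := by rw [conv_synth, indVec_mul_self]
  let V : Submodule ℂ (G → ℂ) := LinearMap.range (convRight e)
  have hV : finrank ℂ V = sqSum A := by
    have h1 := finrank_range_convRight he
    rw [synth_indVec_one A] at h1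
    exact_mod_cast h1
  let W : Submodule F (G → F) :=
    (LinearMap.range (LinearMap.mulLeft F (epsFG r A))).map (coeffEquivFun F G).toLinearMap
  have hW : finrank F W = finrank F (LinearMap.range (LinearMap.mulLeft F (epsFG r A))) :=
    LinearEquiv.finrank_map_eq (coeffEquivFun F G) _
  rw [← hW]
  apply finrank_le_of_lifts hr (sqSum A) V W hV
  rintro w ⟨_, ⟨x, rfl⟩, rfl⟩
  refine ⟨conv (liftFG hr x) e, ⟨liftFG hr x, rfl⟩, ?_, ?_⟩
  · intro g
    rw [conv_apply]
    exact memLocalRing_sum _ _ fun h _ => memLocalRing_mul (memLocalRing_liftFG hr x h) (hA _)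
  · intro g
    have h1 : epsFG r A * x = toFG r (conv (liftFG hr x) e) := by
      rw [toFG_conv hr (memLocalRing_liftFG hr x) hA, toFG_liftFG, epsFG_central]
      rfl
    show r (conv (liftFG hr x) e g) = coeffEquivFun F G (LinearMap.mulLeft F (epsFG r A) x) g
    rw [coeffEquivFun_apply, LinearMap.mulLeft_apply, h1, toFG_coeff]

/-- **the dimension of a block ideal** -/
theorem finrank_range_mulLeft_epsFG [DecidableEq G] {A : Set (IrrCharacter G)}
    [DecidablePred (· ∈ A)] (hA : IsIntegralVec M (indVec A)) :
    finrank F (LinearMap.range (LinearMap.mulLeft F (epsFG r A))) = sqSum A := by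
  have h1 := finrank_range_mulLeft_epsFG_le hr hA
  have h2 := finrank_range_mulLeft_epsFG_le hr (isIntegralVec_indVec_compl hA)
  have h3 := sqSum_add_compl A
  have htop : (⊤ : Submodule F (MonoidAlgebra F G)) ≤
      LinearMap.range (LinearMap.mulLeft F (epsFG r A)) ⊔
        LinearMap.range (LinearMap.mulLeft F (epsFG r Aᶜ)) := by
    intro x _
    have : x = epsFG r A * x + epsFG r Aᶜ * x := by
      rw [← add_mul, epsFG_add_compl hr hA, one_mul]
    rw [this]
    exact Submodule.add_mem _ (Submodule.mem_sup_left ⟨x, rfl⟩) (Submodule.mem_sup_right ⟨x, rfl⟩)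
  have h4 := Submodule.finrank_mono htop
  have h5 := Submodule.finrank_add_le_finrank_add_finrank
    (LinearMap.range (LinearMap.mulLeft F (epsFG r A)))
    (LinearMap.range (LinearMap.mulLeft F (epsFG r Aᶜ)))
  have h6 : finrank F (⊤ : Submodule F (MonoidAlgebra F G)) = Nat.card G := by
    rw [finrank_top, (coeffEquivFun F G).finrank_eq, Module.finrank_fintype_fun_eq_card,
      Nat.card_eq_fintype_card]
  omega

end Eps

end Cfsg.Agent.Helper23.Blk
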