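import Mathlib

/-!
# Symmetric algebras: centre and commutator space (helper23's shared library)

For a subspace `S` of an algebra, closed under multiplication, on which a symmetrizing form
`lam` is nondegenerate, `dim Z(S) + dim [S,S] = dim S`.
-/

set_option autoImplicit false
set_option linter.unusedSectionVars false

namespace Cfsg.Agent.Helper23.Brandt

open Module

universe u v

section Sym

variable {F : Type u} [Field F] {Λ : Type v} [Ring Λ] [Algebra F Λ]

/-- the elements of `S` commuting with all of `S` -/
def centS (S : Submodule F Λ) : Submodule F Λ where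
  carrier := {a | a ∈ S ∧ ∀ b ∈ S, a * b = b * a}
  add_mem' := by
    rintro a a' ⟨ha, hac⟩ ⟨ha', hac'⟩
    exact ⟨S.add_mem ha ha', fun b hb => by rw [add_mul, mul_add, hac b hb, hac' b hb]⟩
  zero_mem' := ⟨S.zero_mem, fun b _ => by simp⟩
  smul_mem' := by
    rintro c a ⟨ha, hac⟩
    exact ⟨S.smul_mem c ha, fun b hb => by rw [smul_mul_assoc, mul_smul_comm, hac b hb]⟩

theorem mem_centS {S : Submodule F Λ} {a : Λ} :
    a ∈ centS S ↔ a ∈ S ∧ ∀ b ∈ S, a * b = b * a := Iff.rfl

/-- the span of the commutators of elements of `S` -/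
def commS (S : Submodule F Λ) : Submodule F Λ :=
  Submodule.span F {c | ∃ a ∈ S, ∃ b ∈ S, a * b - b * a = c}

theorem commS_le {S : Submodule F Λ} (hS : ∀ a ∈ S, ∀ b ∈ S, a * b ∈ S) : commS S ≤ S := by
  unfold commS
  rw [Submodule.span_le]
  rintro c ⟨a, ha, b, hb, rfl⟩
  exact S.sub_mem (hS a ha b hb) (hS b hb a ha)

theorem centS_le (S : Submodule F Λ) : centS S ≤ S := fun _ h => h.1

variable [FiniteDimensional F Λ]

/-- **symmetric algebras**: `dim Z(S) + dim [S,S] = dim S` -/
theorem finrank_centS_add_commS (lam : Λ →ₗ[F] F) (hlam : ∀ x y : Λ, lam (x * y) = lam (y * x))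
    (S : Submodule F Λ) (hS : ∀ a ∈ S, ∀ b ∈ S, a * b ∈ S)
    (hnd : ∀ x ∈ S, (∀ y ∈ S, lam (x * y) = 0) → x = 0) :
    finrank F (centS S) + finrank F (commS S) = finrank F S := by
  classical
  let B : LinearMap.BilinForm F S :=
    LinearMap.mk₂ F (fun x y : S => lam ((x : Λ) * (y : Λ)))
      (by intro x x' y; simp [add_mul])
      (by intro c x y; simp)
      (by intro x y y'; simp [mul_add])
      (by intro c x y; simp)
  have hB : ∀ x y : S, B x y = lam ((x : Λ) * (y : Λ)) := fun x y => rfl
  have hBnd : B.Nondegenerate := by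
    constructor
    · intro x hx
      apply Subtype.ext
      apply hnd x x.2
      intro y hy
      exact hx ⟨y, hy⟩
    · intro y hy
      apply Subtype.ext
      apply hnd y y.2
      intro x hx
      rw [hlam]
      exact hy ⟨x, hx⟩
  let C' : Submodule F S := (commS S).comap S.subtype
  let Z' : Submodule F S := (centS S).comap S.subtype
  have hC' : finrank F C' = finrank F (commS S) :=
    (Submodule.comapSubtypeEquivOfLe (commS_le hS)).finrank_eq
  have hZ' : finrank F Z' = finrank F (centS S) :=
    (Submodule.comapSubtypeEquivOfLe (centS_le S)).finrank_eq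
  have horth : B.orthogonal C' = Z' := by
    ext x
    rw [LinearMap.BilinForm.mem_orthogonal_iff]
    constructor
    · intro hx
      show (x : Λ) ∈ centS S
      refine ⟨x.2, fun a ha => ?_⟩
      have hxa : (x : Λ) * a - a * (x : Λ) ∈ S :=
        S.sub_mem (hS _ x.2 a ha) (hS a ha _ x.2)
      have h0 : (x : Λ) * a - a * (x : Λ) = 0 := by
        apply hnd _ hxa
        intro b hb
        have hc : a * b - b * a ∈ commS S :=
          Submodule.subset_span ⟨a, ha, b, hb, rfl⟩
        have h1 : B ⟨a * b - b * a, commS_le hS hc⟩ x = 0 := hx ⟨_, commS_le hS hc⟩ hc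
        rw [hB] at h1
        have h2 : lam (((x : Λ) * a - a * (x : Λ)) * b) = lam ((a * b - b * a) * (x : Λ)) := by
          have e1 : lam ((x : Λ) * a * b) = lam (a * b * (x : Λ)) := by
            rw [mul_assoc, hlam]
          have e2 : lam (a * (x : Λ) * b) = lam (b * a * (x : Λ)) := by
            rw [hlam, mul_assoc]
          rw [sub_mul, sub_mul, map_sub, map_sub, e1, e2]
        rw [h2]
        exact h1
      exact sub_eq_zero.1 h0
    · intro hx c hc
      have hxc : (x : Λ) ∈ centS S := hx
      show B c x = 0
      rw [hB]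
      have hc' : (c : Λ) ∈ commS S := hc
      have key : ∀ c ∈ commS S, lam (c * (x : Λ)) = 0 := by
        intro c hc
        induction hc using Submodule.span_induction with
        | mem c hc =>
          obtain ⟨a, ha, b, hb, rfl⟩ := hc
          have e1 : lam (b * a * (x : Λ)) = lam (a * b * (x : Λ)) := by
            rw [mul_assoc b a, hlam, mul_assoc a, hxc.2 b hb, mul_assoc]
          rw [sub_mul, map_sub, e1, sub_self]
        | zero => simp
        | add c c' _ _ h h' => rw [add_mul, map_add, h, h', add_zero]
        | smul r c _ h => rw [smul_mul_assoc, map_smul, h, smul_zero]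
      exact key _ hc'
  have h1 := LinearMap.BilinForm.finrank_orthogonal hBnd C'
  rw [horth, hZ', hC'] at h1
  have h2 : finrank F (commS S) ≤ finrank F S := Submodule.finrank_mono (commS_le hS)
  omega

end Sym

end Cfsg.Agent.Helper23.Brandt
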