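import Mathlib
import Cfsg.Agent.Lib.Helper23.BlkAlgDim
import Cfsg.Agent.Lib.Helper23.BlockNull
import Cfsg.Agent.Lib.Helper23.BrandtSym

/-!
# The centre of a block ideal of the modular group algebra (helper23's shared library)

`finrank_center_epsFG`: the centre of the block ideal of `A` has dimension `|A|`.
`exists_isNilpotent_sub_smul_epsFG`: the centre of a block ideal is local.
-/

set_option autoImplicit false
set_option linter.unusedSectionVars false

namespace Cfsg.Agent.Helper23.Blk

open Cfsg Module Cfsg.Agent.Helper24 Cfsg.Agent.Helper23.Brandt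
open scoped ComplexConjugate

universe u v

section Nil

variable {G : Type u} [Group G] [Fintype G] [Fintype (IrrCharacter G)]
  {M : Ideal AlgInt} [hMp : M.IsPrime]

theorem IsIntegralVec.pow {U : IrrCharacter G → ℂ} (hU : IsIntegralVec M U) (k : ℕ) :
    IsIntegralVec M (U ^ k) := by
  induction k with
  | zero =>
    rw [pow_zero]
    exact isIntegralVec_one
  | succ k ih =>
    rw [pow_succ]
    exact ih.mul hU

/-- an integral central element all of whose central character values lie in the local ideal
is nilpotent modulo the local ideal -/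
theorem isNullVec_pow_of_omega {U : IrrCharacter G → ℂ} (hU : IsIntegralVec M U)
    (hω : ∀ ξ, MemLocalIdeal M (U ξ)) :
    IsNullVec M (U ^ (Fintype.card (IrrCharacter G) + 1)) := by
  classical
  have hone : IsIntegralVec M (1 : IrrCharacter G → ℂ) := isIntegralVec_one
  have hfI : ∀ ξ : IrrCharacter G, IsIntegralVec M (U - U ξ • (1 : IrrCharacter G → ℂ)) :=
    fun ξ => hU.sub (IsIntegralVec.smul (memLocalRing_of_memLocalIdeal (hω ξ)) hone)
  have key : ∀ S : Finset (IrrCharacter G),
      IsNullVec M (U * (∏ ξ ∈ S, (U - U ξ • (1 : IrrCharacter G → ℂ))) - U ^ (S.card + 1)) := by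
    intro S
    induction S using Finset.induction_on with
    | empty =>
      rw [Finset.prod_empty, mul_one, Finset.card_empty, zero_add, pow_one, sub_self]
      exact isNullVec_zero
    | insert j S hj ih =>
      rw [Finset.prod_insert hj, Finset.card_insert_of_notMem hj]
      have e : U * ((U - U j • (1 : IrrCharacter G → ℂ)) *
          ∏ ξ ∈ S, (U - U ξ • (1 : IrrCharacter G → ℂ))) - U ^ (S.card + 1 + 1) =
          (U - U j • (1 : IrrCharacter G → ℂ)) *
            (U * (∏ ξ ∈ S, (U - U ξ • (1 : IrrCharacter G → ℂ))) - U ^ (S.card + 1)) -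
          U j • U ^ (S.card + 1) := by
        funext ψ
        simp only [Pi.mul_apply, Pi.sub_apply, Pi.smul_apply, Pi.one_apply, Pi.pow_apply,
          smul_eq_mul]
        ring
      rw [e]
      exact (IsNullVec.integral_mul (hfI j) ih).sub
        (IsNullVec.smul_integral (hω j) (hU.pow _))
  have h1 := key Finset.univ
  have hprod : (∏ ξ : IrrCharacter G, (U - U ξ • (1 : IrrCharacter G → ℂ))) = 0 := by
    funext ψ
    rw [Finset.prod_apply, Pi.zero_apply]
    apply Finset.prod_eq_zero (Finset.mem_univ ψ)
    simp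
  rw [hprod, mul_zero, zero_sub, Finset.card_univ] at h1
  have := h1.neg
  rwa [neg_neg] at this

end Nil

section Center

variable {G : Type u} [Group G] [Fintype G] [Fintype (IrrCharacter G)]
  {M : Ideal AlgInt} [hMp : M.IsPrime] {F : Type v} [Field F] {r : ℂ → F}

/-- the centre of the block ideal of `A`, as a subspace of the group algebra -/
noncomputable def centerEps (r : ℂ → F) (A : Set (IrrCharacter G)) [DecidablePred (· ∈ A)] :
    Submodule F (MonoidAlgebra F G) :=
  centS (⊤ : Submodule F (MonoidAlgebra F G)) ⊓ LinearMap.range (LinearMap.mulLeft F (epsFG r A))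

/-- the number of elements of `A` -/
noncomputable def cardOf (A : Set (IrrCharacter G)) [DecidablePred (· ∈ A)] : ℕ :=
  ∑ χ : IrrCharacter G, if χ ∈ A then 1 else 0

theorem cardOf_add_compl (A : Set (IrrCharacter G)) [DecidablePred (· ∈ A)] :
    cardOf A + cardOf Aᶜ = Fintype.card (IrrCharacter G) := by
  unfold cardOf
  rw [← Finset.sum_add_distrib, Fintype.card, Finset.card_eq_sum_ones]
  refine Finset.sum_congr rfl fun χ _ => ?_
  by_cases h : χ ∈ A
  · rw [if_pos h, if_neg (fun h' => h' h), add_zero]
  · rw [if_neg h, if_pos (Set.mem_compl h), zero_add]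

variable (hr : IsRed M r)
include hr

/-- an element of the centre of the block ideal of `A` is the reduction of an integral central
element `synth U` with `U` supported on `A` -/
theorem exists_vec_of_mem_centerEps {A : Set (IrrCharacter G)} [DecidablePred (· ∈ A)]
    (hA : IsIntegralVec M (indVec A)) {z : MonoidAlgebra F G} (hz : z ∈ centerEps r A) :
    ∃ u : G → ℂ, IsClassFunction G u ∧ (∀ g, MemLocalRing M (u g)) ∧
      z = toFG r (synth (indVec A * fun χ : IrrCharacter G => omega (χ : G → ℂ) u)) := by
  obtain ⟨hzc, x, hx⟩ := hz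
  have hcen : ∀ y : MonoidAlgebra F G, z * y = y * z := fun y => hzc.2 y Submodule.mem_top
  have hez : epsFG r A * z = z := by
    rw [← hx, LinearMap.mulLeft_apply, ← mul_assoc, epsFG_idem hr hA]
  refine ⟨liftFG hr z, isClassFunction_liftFG hr hcen, memLocalRing_liftFG hr z, ?_⟩
  have h1 : synth (indVec A * fun χ : IrrCharacter G => omega (χ : G → ℂ) (liftFG hr z)) =
      conv (synth (indVec A)) (liftFG hr z) := by
    rw [← conv_synth]
    congr 1
    funext g
    exact synth_omega (isClassFunction_liftFG hr hcen) g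
  rw [h1, toFG_conv hr hA (memLocalRing_liftFG hr z), toFG_liftFG]
  exact hez.symm

theorem finrank_centerEps_le [DecidableEq G] {A : Set (IrrCharacter G)} [DecidablePred (· ∈ A)]
    (hA : IsIntegralVec M (indVec A)) : finrank F (centerEps r A) ≤ cardOf A := by
  classical
  let s : Finset (G → ℂ) :=
    ((Finset.univ : Finset (IrrCharacter G)).filter (fun χ : IrrCharacter G => χ ∈ A)).image
      (fun χ : IrrCharacter G => idemCoeff (χ : G → ℂ))
  let V : Submodule ℂ (G → ℂ) := Submodule.span ℂ (s : Set (G → ℂ))
  have hVle : finrank ℂ V ≤ cardOf A := by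
    refine (finrank_span_finset_le_card s).trans (Finset.card_image_le.trans ?_)
    unfold cardOf
    rw [Finset.card_filter]
  let W : Submodule F (G → F) := (centerEps r A).map (coeffEquivFun F G).toLinearMap
  have hW : finrank F W = finrank F (centerEps r A) :=
    LinearEquiv.finrank_map_eq (coeffEquivFun F G) _
  rw [← hW]
  refine (finrank_le_of_lifts hr (finrank ℂ V) V W rfl ?_).trans hVle
  rintro w ⟨z, hz, rfl⟩
  obtain ⟨u, hu, huR, hzu⟩ := exists_vec_of_mem_centerEps hr hA hz
  refine ⟨synth (indVec A * fun χ : IrrCharacter G => omega (χ : G → ℂ) u), ?_, ?_, ?_⟩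
  · -- membership in the span
    have : synth (indVec A * fun χ : IrrCharacter G => omega (χ : G → ℂ) u) =
        ∑ χ : IrrCharacter G, (indVec A χ * omega (χ : G → ℂ) u) • idemCoeff (χ : G → ℂ) := by
      funext g
      unfold synth
      rw [Finset.sum_apply]
      refine Finset.sum_congr rfl fun χ _ => ?_
      rw [Pi.mul_apply, Pi.smul_apply, smul_eq_mul]
    rw [this]
    refine Submodule.sum_mem _ fun χ _ => ?_
    by_cases hχ : χ ∈ A
    · apply Submodule.smul_mem
      apply Submodule.subset_span
      rw [Finset.mem_coe, Finset.mem_image]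
      exact ⟨χ, Finset.mem_filter.2 ⟨Finset.mem_univ _, hχ⟩, rfl⟩
    · have : indVec A χ = 0 := if_neg hχ
      rw [this, zero_mul, zero_smul]
      exact Submodule.zero_mem _
  · intro g
    rw [← conv_synth]
    rw [conv_apply]
    refine memLocalRing_sum _ _ fun h _ => memLocalRing_mul (hA h) ?_
    rw [synth_omega hu]
    exact huR _
  · intro g
    show _ = coeffEquivFun F G z g
    rw [coeffEquivFun_apply, hzu, toFG_coeff]

/-- the centre of the group algebra has at least as many dimensions as there are classes -/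
theorem card_conjClasses_le_finrank_center [DecidableEq G] :
    Nat.card (ConjClasses G) ≤ finrank F (centS (⊤ : Submodule F (MonoidAlgebra F G))) := by
  classical
  let _ : Fintype (ConjClasses G) := Fintype.ofFinite _
  let ι : (ConjClasses G → F) →ₗ[F] MonoidAlgebra F G :=
    (coeffEquivFun F G).symm.toLinearMap ∘ₗ
      (LinearMap.funLeft F F (ConjClasses.mk : G → ConjClasses G))
  have hι : ∀ f g, (ι f).coeff g = f (ConjClasses.mk g) := by
    intro f g
    rw [← coeffEquivFun_apply]
    show coeffEquivFun F G ((coeffEquivFun F G).symm _) g = _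
    rw [LinearEquiv.apply_symm_apply]
    rfl
  have hinj : Function.Injective ι := by
    intro f f' hff
    funext K
    obtain ⟨g, rfl⟩ := ConjClasses.mk_surjective K
    rw [← hι f g, ← hι f' g, hff]
  have hmem : LinearMap.range ι ≤ centS (⊤ : Submodule F (MonoidAlgebra F G)) := by
    rintro _ ⟨f, rfl⟩
    refine ⟨Submodule.mem_top, fun y _ => ?_⟩
    apply central_of_coeff_conj
    intro g h
    rw [hι, hι]
    congr 1
    rw [ConjClasses.mk_eq_mk_iff_isConj]
    exact (isConj_iff.2 ⟨h, rfl⟩).symm
  have h1 := Submodule.finrank_mono hmem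
  rw [LinearMap.finrank_range_of_inj hinj, Module.finrank_fintype_fun_eq_card] at h1
  rw [Nat.card_eq_fintype_card]
  exact h1

/-- **the centre of the block ideal of `A` has dimension `|A|`** -/
theorem finrank_centerEps [DecidableEq G] {A : Set (IrrCharacter G)} [DecidablePred (· ∈ A)]
    (hA : IsIntegralVec M (indVec A)) : finrank F (centerEps r A) = cardOf A := by
  classical
  have h1 := finrank_centerEps_le hr hA
  have h2 := finrank_centerEps_le hr (isIntegralVec_indVec_compl hA)
  have h3 := cardOf_add_compl A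
  have hle : centS (⊤ : Submodule F (MonoidAlgebra F G)) ≤ centerEps r A ⊔ centerEps r Aᶜ := by
    intro z hz
    have hcen : ∀ y : MonoidAlgebra F G, z * y = y * z := fun y => hz.2 y Submodule.mem_top
    have e : z = epsFG r A * z + epsFG r Aᶜ * z := by
      rw [← add_mul, epsFG_add_compl hr hA, one_mul]
    have hc : ∀ (A' : Set (IrrCharacter G)) [DecidablePred (· ∈ A')],
        epsFG r A' * z ∈ centerEps r A' := by
      intro A' _
      refine ⟨⟨Submodule.mem_top, fun y _ => ?_⟩, ⟨z, rfl⟩⟩
      rw [mul_assoc, hcen y, ← mul_assoc, epsFG_central, mul_assoc]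
    rw [e]
    exact Submodule.add_mem _ (Submodule.mem_sup_left (hc A)) (Submodule.mem_sup_right (hc Aᶜ))
  have h4 := Submodule.finrank_mono hle
  have h5 := Submodule.finrank_add_le_finrank_add_finrank (centerEps r A) (centerEps r Aᶜ)
  have h6 := card_conjClasses_le_finrank_center (F := F) (G := G) hr
  have h7 : Fintype.card (IrrCharacter G) = Nat.card (ConjClasses G) := by
    rw [← Nat.card_eq_fintype_card]
    exact card_irr_eq_card_conjClasses
  omega

theorem toFG_synth_pow {U : IrrCharacter G → ℂ} (hU : IsIntegralVec M U) (m : ℕ) :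
    (toFG r (synth U)) ^ m = toFG r (synth (U ^ m)) := by
  classical
  induction m with
  | zero =>
    rw [pow_zero, pow_zero, synth_one']
    exact (toFG_delta hr).symm
  | succ m ih =>
    rw [pow_succ, pow_succ, ih, ← toFG_conv hr (hU.pow m) hU, conv_synth]

/-- **the centre of a block ideal is local** -/
theorem exists_isNilpotent_sub_smul_epsFG (χ₀ : IrrCharacter G)
    [DecidablePred (· ∈ blockOf M (χ₀ : G → ℂ))] {z : MonoidAlgebra F G}
    (hz : z ∈ centerEps r (blockOf M (χ₀ : G → ℂ))) :
    ∃ c : F, IsNilpotent (z - c • epsFG r (blockOf M (χ₀ : G → ℂ))) := by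
  classical
  have hA : IsIntegralVec M (indVec (blockOf M (χ₀ : G → ℂ))) := isIntegralVec_block χ₀
  obtain ⟨u, hu, huR, hzu⟩ := exists_vec_of_mem_centerEps hr hA hz
  let c₀ : ℂ := omega (χ₀ : G → ℂ) u
  have hc₀ : MemLocalRing M c₀ := memLocalRing_omega χ₀ hu huR
  let U : IrrCharacter G → ℂ :=
    indVec (blockOf M (χ₀ : G → ℂ)) * fun χ : IrrCharacter G => omega (χ : G → ℂ) u
  let U' : IrrCharacter G → ℂ := U - c₀ • indVec (blockOf M (χ₀ : G → ℂ))
  have hUint : IsIntegralVec M U := hA.mul (isIntegralVec_omega hu huR)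
  have hU'int : IsIntegralVec M U' := hUint.sub (IsIntegralVec.smul hc₀ hA)
  have hU'ω : ∀ ξ, MemLocalIdeal M (U' ξ) := by
    intro ξ
    show MemLocalIdeal M (indVec (blockOf M (χ₀ : G → ℂ)) ξ * omega (ξ : G → ℂ) u -
      c₀ * indVec (blockOf M (χ₀ : G → ℂ)) ξ)
    by_cases hξ : ξ ∈ blockOf M (χ₀ : G → ℂ)
    · have h1 : indVec (blockOf M (χ₀ : G → ℂ)) ξ = 1 := if_pos hξ
      rw [h1, one_mul, mul_one]
      exact memLocalIdeal_omega_sub (sameBlock_symm hξ) hu huR
    · have h1 : indVec (blockOf M (χ₀ : G → ℂ)) ξ = 0 := if_neg hξ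
      rw [h1, zero_mul, mul_zero, sub_zero]
      exact memLocalIdeal_zero ne_top
  have hnull := isNullVec_pow_of_omega hU'int hU'ω
  refine ⟨r c₀, Fintype.card (IrrCharacter G) + 1, ?_⟩
  have h1 : z - r c₀ • epsFG r (blockOf M (χ₀ : G → ℂ)) = toFG r (synth U') := by
    have h2 : synth U' = synth U - c₀ • synth (indVec (blockOf M (χ₀ : G → ℂ))) := by
      funext g
      show synth (U - c₀ • indVec (blockOf M (χ₀ : G → ℂ))) g = _
      rw [synth_sub, synth_smul]
      rfl
    have hb : ∀ g, MemLocalRing M ((c₀ • synth (indVec (blockOf M (χ₀ : G → ℂ)))) g) := by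
      intro g
      rw [Pi.smul_apply, smul_eq_mul]
      exact memLocalRing_mul hc₀ (hA g)
    rw [h2, toFG_sub hr (a := synth U) (b := c₀ • synth (indVec (blockOf M (χ₀ : G → ℂ))))
      hUint hb, toFG_smul hr hc₀ hA, hzu]
    rfl
  rw [h1, toFG_synth_pow hr hU'int]
  exact toFG_eq_zero hr hnull

end Center

end Cfsg.Agent.Helper23.Blk
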