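import Mathlib
import Cfsg.Agent.Lib.Helper23.BlockResidue

/-!
# The residue field of the algebraic integers is algebraically closed
(helper23's shared library)
-/

set_option autoImplicit false
set_option linter.unusedSectionVars false

namespace Cfsg.Agent.Helper23.Blk

open Cfsg Polynomial

variable {M : Ideal AlgInt} [hMax : M.IsMaximal]

instance resField_isAlgClosed : IsAlgClosed (AlgInt ⧸ M) := by
  apply IsAlgClosed.of_exists_root
  intro p hp hirr
  have hlift : p ∈ Polynomial.lifts (Ideal.Quotient.mk M) := by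
    rw [Polynomial.mem_lifts]
    exact Polynomial.map_surjective _ Ideal.Quotient.mk_surjective p
  obtain ⟨q, hq, hdeg, hqm⟩ := Polynomial.lifts_and_natDegree_eq_and_monic hlift hp
  have hdeg0 : (q.map (algebraMap AlgInt ℂ)).degree ≠ 0 := by
    rw [Polynomial.degree_map_eq_of_injective (FaithfulSMul.algebraMap_injective AlgInt ℂ)]
    intro h0
    have h1 : q.natDegree = 0 := by
      rw [Polynomial.natDegree, h0]
      rfl
    rw [hdeg] at h1
    exact hirr.natDegree_pos.ne' h1
  obtain ⟨α, hα⟩ := IsAlgClosed.exists_root (q.map (algebraMap AlgInt ℂ)) hdeg0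
  have hαint : IsIntegral AlgInt α := ⟨q, hqm, by
    rw [← Polynomial.eval_map]
    exact hα⟩
  have hαZ : IsIntegral ℤ α := isIntegral_trans α hαint
  let a : AlgInt := ⟨α, hαZ⟩
  have ha : q.eval a = 0 := by
    apply Subtype.ext
    have h1 : ((q.eval a : AlgInt) : ℂ) = (q.map (algebraMap AlgInt ℂ)).eval α := by
      rw [Polynomial.eval_map]
      exact (Polynomial.eval₂_at_apply (algebraMap AlgInt ℂ) a).symm
    rw [h1]
    exact hα
  refine ⟨Ideal.Quotient.mk M a, ?_⟩
  rw [← hq, Polynomial.eval_map, Polynomial.eval₂_at_apply, ha, map_zero]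

end Cfsg.Agent.Helper23.Blk
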