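import Mathlib
import Cfsg.Agent.Lib.Helper23.BrandtSym

/-!
# The quotient of an algebra by a central idempotent (helper23's shared library)

Let `ε` be a central idempotent of the finite-dimensional algebra `𝒜` and `π : 𝒜 → Λ` a
surjective algebra map with kernel `{x | ε x = 0}`.  Then `Λ` has the dimension of `ε 𝒜`, its
centre has the dimension of `Z(𝒜) ∩ ε 𝒜`, symmetrizing forms descend, and locality of the
centre descends.
-/

set_option autoImplicit false
set_option linter.unusedSectionVars false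

namespace Cfsg.Agent.Helper23.Brandt

open Module

universe u v w

section Quot

variable {F : Type u} [Field F] {𝒜 : Type v} [Ring 𝒜] [Algebra F 𝒜]
  {Λ : Type w} [Ring Λ] [Algebra F Λ]
  {ε : 𝒜} (hε : ε * ε = ε) (hc : ∀ x : 𝒜, ε * x = x * ε)
  (π : 𝒜 →ₐ[F] Λ) (hπ : Function.Surjective π) (hker : ∀ x : 𝒜, π x = 0 ↔ ε * x = 0)
include hε hc hπ hker

theorem quot_map_eps_mul (x : 𝒜) : π (ε * x) = π x := by
  have h1 : π (x - ε * x) = 0 := by
    rw [hker, mul_sub, ← mul_assoc, hε, sub_self]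
  rw [map_sub, sub_eq_zero] at h1
  exact h1.symm

theorem quot_map_eps : π ε = 1 := by
  have := quot_map_eps_mul hε hc π hπ hker 1
  rwa [mul_one, map_one] at this

/-- the restriction of `π` to `ε 𝒜` is a linear equivalence -/
noncomputable def quotEquiv : LinearMap.range (LinearMap.mulLeft F ε) ≃ₗ[F] Λ :=
  LinearEquiv.ofBijective
    (π.toLinearMap.domRestrict (LinearMap.range (LinearMap.mulLeft F ε)))
    (by
      constructor
      · rw [← LinearMap.ker_eq_bot, LinearMap.ker_eq_bot']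
        rintro ⟨_, ⟨x, rfl⟩⟩ hx
        apply Subtype.ext
        have h1 : π (ε * x) = 0 := hx
        rw [hker, ← mul_assoc, hε] at h1
        exact h1
      · intro y
        obtain ⟨x, rfl⟩ := hπ y
        exact ⟨⟨ε * x, ⟨x, rfl⟩⟩, quot_map_eps_mul hε hc π hπ hker x⟩)

theorem quotEquiv_apply (x : LinearMap.range (LinearMap.mulLeft F ε)) :
    quotEquiv hε hc π hπ hker x = π (x : 𝒜) := rfl

theorem quotEquiv_symm_apply (x : 𝒜) :
    ((quotEquiv hε hc π hπ hker).symm (π x) : 𝒜) = ε * x := by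
  have h1 : (quotEquiv hε hc π hπ hker).symm (π x) = ⟨ε * x, ⟨x, rfl⟩⟩ := by
    rw [LinearEquiv.symm_apply_eq, quotEquiv_apply]
    exact (quot_map_eps_mul hε hc π hπ hker x).symm
  rw [h1]

theorem finrank_quot [FiniteDimensional F 𝒜] :
    finrank F Λ = finrank F (LinearMap.range (LinearMap.mulLeft F ε)) :=
  (quotEquiv hε hc π hπ hker).finrank_eq.symm

/-- the centre of the quotient -/
theorem finrank_centS_quot [FiniteDimensional F 𝒜] :
    finrank F (centS (⊤ : Submodule F Λ)) =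
      finrank F ↥(centS (⊤ : Submodule F 𝒜) ⊓ LinearMap.range (LinearMap.mulLeft F ε)) := by
  let Z : Submodule F 𝒜 := centS (⊤ : Submodule F 𝒜) ⊓ LinearMap.range (LinearMap.mulLeft F ε)
  let ρ : Z →ₗ[F] Λ := π.toLinearMap.domRestrict Z
  have hρ : ∀ z : Z, ρ z = π (z : 𝒜) := fun z => rfl
  have hinj : Function.Injective ρ := by
    rw [← LinearMap.ker_eq_bot, LinearMap.ker_eq_bot']
    rintro ⟨z, hz1, ⟨x, rfl⟩⟩ hx
    apply Subtype.ext
    have h1 : π (ε * x) = 0 := hx
    rw [hker, ← mul_assoc, hε] at h1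
    exact h1
  have hrange : LinearMap.range ρ = centS (⊤ : Submodule F Λ) := by
    ext y
    rw [LinearMap.mem_range]
    constructor
    · rintro ⟨z, rfl⟩
      refine ⟨Submodule.mem_top, fun b _ => ?_⟩
      obtain ⟨b', rfl⟩ := hπ b
      rw [hρ, ← map_mul, ← map_mul, z.2.1.2 b' Submodule.mem_top]
    · intro hy
      obtain ⟨x, rfl⟩ := hπ y
      have hzc : ε * x ∈ centS (⊤ : Submodule F 𝒜) := by
        refine ⟨Submodule.mem_top, fun b _ => ?_⟩
        have h1 : π (x * b - b * x) = 0 := by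
          rw [map_sub, map_mul, map_mul, hy.2 (π b) Submodule.mem_top, sub_self]
        rw [hker, mul_sub, sub_eq_zero] at h1
        rw [mul_assoc, h1, ← mul_assoc, hc b, mul_assoc]
      refine ⟨⟨ε * x, hzc, ⟨x, rfl⟩⟩, ?_⟩
      rw [hρ]
      exact quot_map_eps_mul hε hc π hπ hker x
  rw [← hrange, LinearMap.finrank_range_of_inj hinj]

/-- symmetrizing forms descend to the quotient -/
theorem exists_form_quot (lam : 𝒜 →ₗ[F] F) (hlam : ∀ x y : 𝒜, lam (x * y) = lam (y * x))
    (hnd : ∀ x : 𝒜, (∀ y : 𝒜, lam (x * y) = 0) → x = 0) :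
    ∃ lam' : Λ →ₗ[F] F, (∀ x y : Λ, lam' (x * y) = lam' (y * x)) ∧
      ∀ x : Λ, (∀ y : Λ, lam' (x * y) = 0) → x = 0 := by
  let lam' : Λ →ₗ[F] F :=
    lam ∘ₗ (LinearMap.range (LinearMap.mulLeft F ε)).subtype ∘ₗ
      (quotEquiv hε hc π hπ hker).symm.toLinearMap
  have hlam' : ∀ x : 𝒜, lam' (π x) = lam (ε * x) := by
    intro x
    show lam ((quotEquiv hε hc π hπ hker).symm (π x) : 𝒜) = _
    rw [quotEquiv_symm_apply]
  refine ⟨lam', ?_, ?_⟩
  · intro x y
    obtain ⟨x', rfl⟩ := hπ x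
    obtain ⟨y', rfl⟩ := hπ y
    rw [← map_mul, ← map_mul, hlam', hlam']
    calc lam (ε * (x' * y')) = lam (ε * x' * y') := by rw [mul_assoc]
      _ = lam (y' * (ε * x')) := hlam _ _
      _ = lam (ε * (y' * x')) := by rw [← mul_assoc, ← hc y', mul_assoc]
  · intro x hx
    obtain ⟨x', rfl⟩ := hπ x
    rw [hker]
    apply hnd
    intro y
    have := hx (π y)
    rw [← map_mul, hlam', ← mul_assoc] at this
    exact this

/-- locality of the centre descends to the quotient -/
theorem local_centS_quot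
    (hloc : ∀ z ∈ centS (⊤ : Submodule F 𝒜) ⊓ LinearMap.range (LinearMap.mulLeft F ε),
      ∃ c : F, IsNilpotent (z - c • ε)) :
    ∀ z ∈ centS (⊤ : Submodule F Λ), ∃ c : F, IsNilpotent (z - algebraMap F Λ c) := by
  intro y hy
  obtain ⟨x, rfl⟩ := hπ y
  have hzc : ε * x ∈ centS (⊤ : Submodule F 𝒜) := by
    refine ⟨Submodule.mem_top, fun b _ => ?_⟩
    have h1 : π (x * b - b * x) = 0 := by
      rw [map_sub, map_mul, map_mul, hy.2 (π b) Submodule.mem_top, sub_self]
    rw [hker, mul_sub, sub_eq_zero] at h1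
    rw [mul_assoc, h1, ← mul_assoc, hc b, mul_assoc]
  obtain ⟨c, m, hm⟩ := hloc (ε * x) ⟨hzc, ⟨x, rfl⟩⟩
  refine ⟨c, m, ?_⟩
  have h2 := congrArg π hm
  rw [map_pow, map_sub, map_smul, quot_map_eps hε hc π hπ hker,
    quot_map_eps_mul hε hc π hπ hker, map_zero] at h2
  rw [Algebra.algebraMap_eq_smul_one]
  exact h2

end Quot

end Cfsg.Agent.Helper23.Brandt
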