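import Mathlib
import Cfsg.Agent.Lib.Helper23.BrandtSym

/-!
# The corner algebra `e Λ e` of a full idempotent (helper23's shared library)

If `1 ∈ Λ e Λ` then `z ↦ z e` identifies the centre of `Λ` with the centre of `e Λ e`.
-/

set_option autoImplicit false
set_option linter.unusedSectionVars false

namespace Cfsg.Agent.Helper23.Brandt

open Module

universe u v

section Corner

variable {F : Type u} [Field F] {Λ : Type v} [Ring Λ] [Algebra F Λ]

/-- the corner `e Λ e` as a subspace -/
def cornerS (e : Λ) : Submodule F Λ where
  carrier := {x | e * x * e = x}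
  add_mem' := by
    intro a b ha hb
    show e * (a + b) * e = a + b
    rw [mul_add, add_mul, ha, hb]
  zero_mem' := by
    show e * 0 * e = 0
    simp
  smul_mem' := by
    intro c a ha
    show e * (c • a) * e = c • a
    rw [mul_smul_comm, smul_mul_assoc, ha]

theorem mem_cornerS {e x : Λ} : x ∈ cornerS (F := F) e ↔ e * x * e = x := Iff.rfl

variable {e : Λ} (he : IsIdempotentElem e)
include he

theorem cornerS_left {x : Λ} (hx : x ∈ cornerS (F := F) e) : e * x = x := by
  have h := mem_cornerS.1 hx
  calc e * x = e * (e * x * e) := by rw [h]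
    _ = e * e * x * e := by simp only [mul_assoc]
    _ = x := by rw [he.eq, h]

theorem cornerS_right {x : Λ} (hx : x ∈ cornerS (F := F) e) : x * e = x := by
  have h := mem_cornerS.1 hx
  calc x * e = e * x * e * e := by rw [h]
    _ = e * x * (e * e) := by simp only [mul_assoc]
    _ = x := by rw [he.eq, h]

theorem mul_mem_cornerS (y : Λ) : e * y * e ∈ cornerS (F := F) e := by
  show e * (e * y * e) * e = e * y * e
  calc e * (e * y * e) * e = e * e * y * (e * e) := by simp only [mul_assoc]
    _ = e * y * e := by rw [he.eq]

theorem self_mem_cornerS : e ∈ cornerS (F := F) e := by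
  show e * e * e = e
  rw [he.eq, he.eq]

theorem cornerS_mul_mem {a b : Λ} (ha : a ∈ cornerS (F := F) e) (hb : b ∈ cornerS (F := F) e) :
    a * b ∈ cornerS (F := F) e := by
  show e * (a * b) * e = a * b
  rw [← mul_assoc, cornerS_left he ha, mul_assoc, cornerS_right he hb]

theorem cornerS_nondeg (lam : Λ →ₗ[F] F) (hlam : ∀ x y : Λ, lam (x * y) = lam (y * x))
    (hnd : ∀ x : Λ, (∀ y : Λ, lam (x * y) = 0) → x = 0) :
    ∀ x ∈ cornerS (F := F) e, (∀ y ∈ cornerS (F := F) e, lam (x * y) = 0) → x = 0 := by
  intro x hx h
  apply hnd
  intro y
  have h1 := h (e * y * e) (mul_mem_cornerS he y)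
  have h2 : x * (e * y * e) = x * y * e := by
    rw [← mul_assoc, ← mul_assoc, cornerS_right he hx]
  rw [h2, hlam, ← mul_assoc, cornerS_left he hx] at h1
  exact h1

/-- the centre of `Λ` and the centre of the corner of a full idempotent have equal dimension -/
theorem finrank_centS_cornerS [FiniteDimensional F Λ] {ι : Type*} [Fintype ι] (xs ys : ι → Λ)
    (hfull : ∑ i, xs i * e * ys i = 1) :
    finrank F (centS (cornerS (F := F) e)) = finrank F (centS (⊤ : Submodule F Λ)) := by
  classical
  let g : centS (⊤ : Submodule F Λ) →ₗ[F] Λ :=
    (LinearMap.mulRight F e).domRestrict (centS (⊤ : Submodule F Λ))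
  have hg : ∀ z : centS (⊤ : Submodule F Λ), g z = (z : Λ) * e := fun z => rfl
  have hcen : ∀ z ∈ centS (⊤ : Submodule F Λ), ∀ b : Λ, z * b = b * z :=
    fun z hz b => hz.2 b Submodule.mem_top
  have hginj : Function.Injective g := by
    rw [← LinearMap.ker_eq_bot, LinearMap.ker_eq_bot']
    intro z hz
    rw [hg] at hz
    apply Subtype.ext
    show (z : Λ) = 0
    calc (z : Λ) = (z : Λ) * ∑ i, xs i * e * ys i := by rw [hfull, mul_one]
      _ = ∑ i, xs i * ((z : Λ) * e) * ys i := by
          rw [Finset.mul_sum]
          refine Finset.sum_congr rfl fun i _ => ?_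
          rw [← mul_assoc, ← mul_assoc, hcen z z.2 (xs i)]
          simp only [mul_assoc]
      _ = 0 := by simp [hz]
  have hrange : LinearMap.range g = centS (cornerS (F := F) e) := by
    ext a
    rw [LinearMap.mem_range]
    constructor
    · rintro ⟨z, rfl⟩
      rw [hg]
      have hz := hcen z z.2
      refine ⟨?_, fun b hb => ?_⟩
      · show e * ((z : Λ) * e) * e = (z : Λ) * e
        rw [← mul_assoc, ← hz e, mul_assoc, mul_assoc, he.eq, he.eq]
      · have e1 : (z : Λ) * e * b = b * (z : Λ) := by
          rw [mul_assoc, cornerS_left he hb, hz b]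
        have e2 : b * ((z : Λ) * e) = b * (z : Λ) := by
          rw [hz e, ← mul_assoc, cornerS_right he hb]
        rw [e1, e2]
    · intro ha
      have haA := ha.1
      have hac := ha.2
      let zh : Λ := ∑ i, xs i * a * ys i
      have hzh : zh ∈ centS (⊤ : Submodule F Λ) := by
        refine ⟨Submodule.mem_top, fun r _ => ?_⟩
        have hterm : ∀ i j, xs j * e * ys j * r * (xs i * a * ys i) =
            xs j * a * ys j * r * (xs i * e * ys i) := by
          intro i j
          have hb : e * (ys j * r * xs i) * e ∈ cornerS (F := F) e := mul_mem_cornerS he _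
          have h1 := hac _ hb
          calc xs j * e * ys j * r * (xs i * a * ys i)
              = xs j * (e * (ys j * r * xs i) * e * a) * ys i := by
                conv_rhs => rw [mul_assoc (e * (ys j * r * xs i)) e a, cornerS_left he haA]
                simp only [mul_assoc]
            _ = xs j * (a * (e * (ys j * r * xs i) * e)) * ys i := by rw [h1]
            _ = xs j * a * ys j * r * (xs i * e * ys i) := by
                conv_lhs => rw [← mul_assoc a, ← mul_assoc a, cornerS_right he haA]
                simp only [mul_assoc]
        calc zh * r = (∑ j, xs j * a * ys j) * r * ∑ i, xs i * e * ys i := by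
              rw [hfull, mul_one]
          _ = ∑ j, ∑ i, xs j * a * ys j * r * (xs i * e * ys i) := by
              rw [Finset.sum_mul, Finset.sum_mul]
              refine Finset.sum_congr rfl fun j _ => ?_
              rw [Finset.mul_sum]
          _ = ∑ j, ∑ i, xs j * e * ys j * r * (xs i * a * ys i) := by
              refine Finset.sum_congr rfl fun j _ => Finset.sum_congr rfl fun i _ => ?_
              exact (hterm i j).symm
          _ = (∑ j, xs j * e * ys j) * r * ∑ i, xs i * a * ys i := by
              rw [Finset.sum_mul, Finset.sum_mul]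
              refine Finset.sum_congr rfl fun j _ => ?_
              rw [Finset.mul_sum]
          _ = r * zh := by rw [hfull, one_mul]
      refine ⟨⟨zh, hzh⟩, ?_⟩
      rw [hg]
      show zh * e = a
      have hz := hcen zh hzh
      have h1 : zh * e = e * zh * e := by
        rw [← hz e, mul_assoc, he.eq]
      have hterm : ∀ i, e * (xs i * a * ys i) * e = a * (e * (xs i * e * ys i) * e) := by
        intro i
        have hb : e * xs i * e ∈ cornerS (F := F) e := mul_mem_cornerS he _
        have h2 := hac _ hb
        calc e * (xs i * a * ys i) * e = (e * xs i * e * a) * ys i * e := by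
              conv_rhs => rw [mul_assoc (e * xs i) e a, cornerS_left he haA]
              simp only [mul_assoc]
          _ = (a * (e * xs i * e)) * ys i * e := by rw [h2]
          _ = a * (e * (xs i * e * ys i) * e) := by simp only [mul_assoc]
      rw [h1]
      calc e * zh * e = ∑ i, e * (xs i * a * ys i) * e := by
            rw [Finset.mul_sum, Finset.sum_mul]
        _ = ∑ i, a * (e * (xs i * e * ys i) * e) := Finset.sum_congr rfl fun i _ => hterm i
        _ = a * (e * (∑ i, xs i * e * ys i) * e) := by
            rw [Finset.mul_sum, Finset.sum_mul, Finset.mul_sum]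
        _ = a := by rw [hfull, mul_one, he.eq, cornerS_right he haA]
  rw [← hrange, LinearMap.finrank_range_of_inj hginj]

end Corner

end Cfsg.Agent.Helper23.Brandt
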