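import Mathlib
import Cfsg.Agent.Lib.Helper23.BrandtSym
import Cfsg.Agent.Lib.Helper23.BrandtCorner

/-!
# A local symmetric corner with two-dimensional centre has dimension two
(helper23's shared library)
-/

set_option autoImplicit false
set_option linter.unusedSectionVars false

namespace Cfsg.Agent.Helper23.Brandt

open Module

universe u v

section Local

variable {F : Type u} [Field F] {Λ : Type v} [Ring Λ] [Algebra F Λ]
variable {n : ℕ} [NeZero n] (φ : Λ →ₐ[F] Matrix (Fin n) (Fin n) F)

/-- the radical of the corner -/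
def radS (e : Λ) : Submodule F Λ := cornerS (F := F) e ⊓ LinearMap.ker φ.toLinearMap

theorem mem_radS {e x : Λ} : x ∈ radS φ e ↔ x ∈ cornerS (F := F) e ∧ φ x = 0 := by
  unfold radS
  rw [Submodule.mem_inf, LinearMap.mem_ker]
  rfl

variable {N : ℕ} (hN : ∀ L : List Λ, L.length = N → (∀ x ∈ L, φ x = 0) → L.prod = 0)
include hN

/-- Nakayama for the nilpotent radical -/
theorem eq_bot_of_radS_mul_eq (e : Λ) (Y : Submodule F Λ) (hY : radS φ e * Y = Y) : Y = ⊥ := by
  classical
  have key : ∀ k : ℕ, Y ≤ Submodule.span F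
      {z | ∃ L : List Λ, L.length = k ∧ (∀ x ∈ L, φ x = 0) ∧ ∃ y ∈ Y, L.prod * y = z} := by
    intro k
    induction k with
    | zero =>
      intro y hy
      exact Submodule.subset_span ⟨[], rfl, by simp, y, hy, by simp⟩
    | succ k ih =>
      calc Y = radS φ e * Y := hY.symm
        _ ≤ radS φ e * Submodule.span F
            {z | ∃ L : List Λ, L.length = k ∧ (∀ x ∈ L, φ x = 0) ∧ ∃ y ∈ Y, L.prod * y = z} :=
            mul_le_mul' le_rfl ih
        _ ≤ _ := by
            rw [Submodule.mul_le]
            intro x hx z hz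
            induction hz using Submodule.span_induction with
            | mem z hz =>
              obtain ⟨L, hL, hLφ, y, hy, rfl⟩ := hz
              refine Submodule.subset_span ⟨x :: L, by simp [hL], ?_, y, hy, ?_⟩
              · intro w hw
                rcases List.mem_cons.1 hw with hw | hw
                · rw [hw]; exact (mem_radS φ).1 hx |>.2
                · exact hLφ w hw
              · rw [List.prod_cons, mul_assoc]
            | zero => rw [mul_zero]; exact Submodule.zero_mem _
            | add z z' _ _ h h' => rw [mul_add]; exact Submodule.add_mem _ h h'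
            | smul c z _ h => rw [mul_smul_comm]; exact Submodule.smul_mem _ c h
  rw [eq_bot_iff]
  refine (key N).trans ?_
  rw [Submodule.span_le]
  rintro z ⟨L, hL, hLφ, y, _, rfl⟩
  rw [hN L hL hLφ, zero_mul]
  exact Submodule.zero_mem _

variable {e : Λ} (he : IsIdempotentElem e) (hφe : φ e = Matrix.single 0 0 1)
include he hφe

omit hN in
theorem exists_sub_smul_mem_radS {a : Λ} (ha : a ∈ cornerS (F := F) e) :
    ∃ c : F, a - c • e ∈ radS φ e := by
  refine ⟨φ a 0 0, (mem_radS φ).2 ⟨Submodule.sub_mem _ ha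
    (Submodule.smul_mem _ _ (self_mem_cornerS he)), ?_⟩⟩
  have h1 : φ a = Matrix.single 0 0 (φ a 0 0) := by
    conv_lhs => rw [← mem_cornerS.1 ha, map_mul, map_mul, hφe, Matrix.single_mul_mul_single]
    simp
  rw [map_sub, map_smul, hφe, Matrix.smul_single, smul_eq_mul, mul_one, ← h1, sub_self]

omit hN in
theorem radS_mul_le : radS φ e * radS φ e ≤ radS φ e := by
  rw [Submodule.mul_le]
  intro x hx y hy
  rw [mem_radS] at hx hy ⊢
  exact ⟨cornerS_mul_mem he hx.1 hy.1, by rw [map_mul, hx.2, zero_mul]⟩

omit hN in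
theorem comm_eq_of_sub_mem {a b x y : Λ} (ha : a ∈ cornerS (F := F) e)
    (hb : b ∈ cornerS (F := F) e) {c c' : F} (hx : a - c • e = x) (hy : b - c' • e = y) :
    a * b - b * a = x * y - y * x := by
  have hxA : x ∈ cornerS (F := F) e := by
    rw [← hx]
    exact Submodule.sub_mem _ ha (Submodule.smul_mem _ _ (self_mem_cornerS he))
  have hyA : y ∈ cornerS (F := F) e := by
    rw [← hy]
    exact Submodule.sub_mem _ hb (Submodule.smul_mem _ _ (self_mem_cornerS he))
  have hex := cornerS_left he hxA
  have hxe := cornerS_right he hxA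
  have hey := cornerS_left he hyA
  have hye := cornerS_right he hyA
  have ha' : a = x + c • e := by rw [← hx]; abel
  have hb' : b = y + c' • e := by rw [← hy]; abel
  rw [ha', hb']
  simp only [add_mul, mul_add, smul_mul_assoc, mul_smul_comm, hex, hxe, hey, hye, he.eq]
  module

omit hN in
theorem commS_le_radS_mul : commS (cornerS (F := F) e) ≤ radS φ e * radS φ e := by
  unfold commS
  rw [Submodule.span_le]
  rintro z ⟨a, ha, b, hb, rfl⟩
  obtain ⟨c, hc⟩ := exists_sub_smul_mem_radS φ he hφe ha
  obtain ⟨c', hc'⟩ := exists_sub_smul_mem_radS φ he hφe hb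
  rw [SetLike.mem_coe, comm_eq_of_sub_mem φ he hφe ha hb rfl rfl]
  exact Submodule.sub_mem _ (Submodule.mul_mem_mul hc hc') (Submodule.mul_mem_mul hc' hc)

variable [FiniteDimensional F Λ]

omit hN in
theorem finrank_cornerS_eq : finrank F (cornerS (F := F) e) = 1 + finrank F (radS φ e) := by
  have he0 : e ≠ 0 := by
    intro h
    rw [h, map_zero] at hφe
    have := congrFun (congrFun hφe 0) 0
    simp at this
  have hsup : Submodule.span F {e} ⊔ radS φ e = cornerS (F := F) e := by
    apply le_antisymm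
    · apply sup_le
      · rw [Submodule.span_singleton_le_iff_mem]
        exact self_mem_cornerS he
      · exact inf_le_left
    · intro a ha
      obtain ⟨c, hc⟩ := exists_sub_smul_mem_radS φ he hφe ha
      have : a = c • e + (a - c • e) := by abel
      rw [this]
      exact Submodule.add_mem _ (Submodule.mem_sup_left
        (Submodule.smul_mem _ _ (Submodule.mem_span_singleton_self e)))
        (Submodule.mem_sup_right hc)
  have hinf : Submodule.span F {e} ⊓ radS φ e = ⊥ := by
    rw [eq_bot_iff]
    rintro x ⟨hx1, hx2⟩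
    obtain ⟨c, rfl⟩ := Submodule.mem_span_singleton.1 hx1
    have h1 := ((mem_radS φ).1 hx2).2
    rw [map_smul, hφe, Matrix.smul_single, smul_eq_mul, mul_one] at h1
    have := congrFun (congrFun h1 0) 0
    simp at this
    rw [this, zero_smul]
    exact Submodule.zero_mem _
  have h1 := Submodule.finrank_sup_add_finrank_inf_eq (Submodule.span F {e}) (radS φ e)
  rw [hsup, hinf, finrank_bot, finrank_span_singleton he0] at h1
  omega

/-- **the corner has dimension two** -/
theorem finrank_cornerS_eq_two (lam : Λ →ₗ[F] F) (hlam : ∀ x y : Λ, lam (x * y) = lam (y * x))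
    (hnd : ∀ x : Λ, (∀ y : Λ, lam (x * y) = 0) → x = 0)
    (hZ : finrank F (centS (cornerS (F := F) e)) = 2) :
    finrank F (cornerS (F := F) e) = 2 := by
  classical
  have hsym := finrank_centS_add_commS lam hlam (cornerS (F := F) e) (fun a ha b hb => cornerS_mul_mem he ha hb)
    (cornerS_nondeg he lam hlam hnd)
  rw [hZ] at hsym
  have hdim := finrank_cornerS_eq φ he hφe
  have hcomm := commS_le_radS_mul φ he hφe
  have hXX := radS_mul_le φ he hφe
  have h1 := Submodule.finrank_mono hcomm
  have h2 := Submodule.finrank_mono hXX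
  -- r₁ ≥ 1
  have hr1 : 1 ≤ finrank F (radS φ e) := by omega
  have hXne : (radS φ e) ≠ ⊥ := by
    intro h
    rw [h, finrank_bot] at hr1
    omega
  have hXXne : (radS φ e) * (radS φ e) ≠ (radS φ e) := fun h => hXne (eq_bot_of_radS_mul_eq φ hN e (radS φ e) h)
  have hlt : (radS φ e) * (radS φ e) < (radS φ e) := lt_of_le_of_ne hXX hXXne
  have h3 := Submodule.finrank_lt_finrank_of_lt hlt
  by_contra hne
  have hr2 : 1 ≤ finrank F ↥((radS φ e) * (radS φ e)) := by omega
  have hceq : commS (cornerS (F := F) e) = (radS φ e) * (radS φ e) := Submodule.eq_of_le_of_finrank_eq hcomm (by omega)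
  obtain ⟨t, htX, htXX⟩ := SetLike.exists_of_lt hlt
  have hsup_le : Submodule.span F {t} ⊔ (radS φ e) * (radS φ e) ≤ (radS φ e) :=
    sup_le ((Submodule.span_singleton_le_iff_mem _ _).2 htX) hXX
  have hlt2 : (radS φ e) * (radS φ e) < Submodule.span F {t} ⊔ (radS φ e) * (radS φ e) := by
    refine lt_of_le_of_ne le_sup_right fun h => htXX ?_
    rw [h]
    exact Submodule.mem_sup_left (Submodule.mem_span_singleton_self t)
  have h4 := Submodule.finrank_lt_finrank_of_lt hlt2
  have h5 := Submodule.finrank_mono hsup_le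
  have hsup : Submodule.span F {t} ⊔ (radS φ e) * (radS φ e) = (radS φ e) :=
    Submodule.eq_of_le_of_finrank_eq hsup_le (by omega)
  -- (radS φ e) * ((radS φ e) * (radS φ e)) ≤ (radS φ e) * (radS φ e)
  have hX3 : (radS φ e) * ((radS φ e) * (radS φ e)) ≤ (radS φ e) * (radS φ e) := mul_le_mul' le_rfl hXX
  have hdecomp : ∀ x ∈ (radS φ e), ∃ α : F, ∃ y ∈ (radS φ e) * (radS φ e), x = α • t + y := by
    intro x hx
    rw [← hsup] at hx
    obtain ⟨s, hs, y, hy, rfl⟩ := Submodule.mem_sup.1 hx
    obtain ⟨α, rfl⟩ := Submodule.mem_span_singleton.1 hs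
    exact ⟨α, y, hy, rfl⟩
  have hcomm3 : commS (cornerS (F := F) e) ≤ (radS φ e) * ((radS φ e) * (radS φ e)) := by
    unfold commS
    rw [Submodule.span_le]
    rintro z ⟨a, ha, b, hb, rfl⟩
    obtain ⟨c, hc⟩ := exists_sub_smul_mem_radS φ he hφe ha
    obtain ⟨c', hc'⟩ := exists_sub_smul_mem_radS φ he hφe hb
    rw [SetLike.mem_coe, comm_eq_of_sub_mem φ he hφe ha hb rfl rfl]
    obtain ⟨α, y, hy, hxe⟩ := hdecomp _ hc
    obtain ⟨α', y', hy', hxe'⟩ := hdecomp _ hc'
    rw [hxe, hxe']
    have e1 : (α • t + y) * (α' • t + y') - (α' • t + y') * (α • t + y) =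
        α • (t * y' - y' * t) + α' • (y * t - t * y) + (y * y' - y' * y) := by
      simp only [add_mul, mul_add, smul_mul_assoc, mul_smul_comm]
      module
    rw [e1]
    have m1 : t * y' ∈ (radS φ e) * ((radS φ e) * (radS φ e)) := Submodule.mul_mem_mul htX hy'
    have m2 : y' * t ∈ (radS φ e) * ((radS φ e) * (radS φ e)) := by
      rw [← mul_assoc]
      exact Submodule.mul_mem_mul hy' htX
    have m3 : y * t ∈ (radS φ e) * ((radS φ e) * (radS φ e)) := by
      rw [← mul_assoc]
      exact Submodule.mul_mem_mul hy htX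
    have m4 : t * y ∈ (radS φ e) * ((radS φ e) * (radS φ e)) := Submodule.mul_mem_mul htX hy
    have hle4 : (radS φ e) * (radS φ e) * ((radS φ e) * (radS φ e)) ≤ (radS φ e) * ((radS φ e) * (radS φ e)) := by
      rw [mul_assoc]
      exact mul_le_mul' le_rfl hX3
    have m5 : y * y' ∈ (radS φ e) * ((radS φ e) * (radS φ e)) := hle4 (Submodule.mul_mem_mul hy hy')
    have m6 : y' * y ∈ (radS φ e) * ((radS φ e) * (radS φ e)) := hle4 (Submodule.mul_mem_mul hy' hy)
    exact Submodule.add_mem _ (Submodule.add_mem _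
      (Submodule.smul_mem _ _ (Submodule.sub_mem _ m1 m2))
      (Submodule.smul_mem _ _ (Submodule.sub_mem _ m3 m4))) (Submodule.sub_mem _ m5 m6)
  have hX3eq : (radS φ e) * ((radS φ e) * (radS φ e)) = (radS φ e) * (radS φ e) := le_antisymm hX3 (hceq ▸ hcomm3)
  have := eq_bot_of_radS_mul_eq φ hN e ((radS φ e) * (radS φ e)) hX3eq
  rw [this, finrank_bot] at hr2
  omega

end Local

end Cfsg.Agent.Helper23.Brandt
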