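import Mathlib

/-!
# Modules over an algebra with a matrix quotient (helper23's shared library)

Let `φ : Λ → Mat_n(F)` be a surjective algebra map whose kernel is nilpotent and let `e` be an
idempotent lifting the matrix unit `E₀₀`.  Then every finite-dimensional `Λ`-module `V`
satisfies `dim V = n * dim (e V)`.
-/

set_option autoImplicit false
set_option linter.unusedSectionVars false

namespace Cfsg.Agent.Helper23.Brandt

open Module

universe u v w

section Layer

variable {F : Type u} [Field F] {Λ : Type v} [Ring Λ] [Algebra F Λ]
variable {n : ℕ} [NeZero n] (φ : Λ →ₐ[F] Matrix (Fin n) (Fin n) F)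

/-- the `e`-part of a module, as a subspace -/
noncomputable def ePart (e : Λ) (V : Type w) [AddCommGroup V] [Module Λ V] [Module F V]
    [IsScalarTower F Λ V] : Submodule F V :=
  LinearMap.range (Algebra.lsmul F F V e)

theorem mem_ePart {e : Λ} {V : Type w} [AddCommGroup V] [Module Λ V] [Module F V]
    [IsScalarTower F Λ V] {v : V} : v ∈ ePart (F := F) e V ↔ ∃ x : V, e • x = v := by
  unfold ePart
  rw [LinearMap.mem_range]
  rfl

/-- a module killed by the kernel of `φ` is `n` copies of its `e`-part -/
theorem finrank_of_ker_smul (hφ : Function.Surjective φ) {e : Λ}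
    (he : φ e = Matrix.single 0 0 1)
    (V : Type w) [AddCommGroup V] [Module Λ V] [Module F V] [IsScalarTower F Λ V]
    [Module.Finite F V] (hV : ∀ a : Λ, φ a = 0 → ∀ v : V, a • v = 0) :
    finrank F V = n * finrank F (ePart (F := F) e V) := by
  classical
  have heq : ∀ a b : Λ, φ a = φ b → ∀ v : V, a • v = b • v := by
    intro a b hab v
    have h1 : (a - b) • v = 0 := hV _ (by rw [map_sub, hab, sub_self]) v
    rw [sub_smul, sub_eq_zero] at h1
    exact h1
  have hu : ∀ i : Fin n, ∃ a : Λ, φ a = Matrix.single i 0 1 := fun i => hφ _
  have hw : ∀ i : Fin n, ∃ a : Λ, φ a = Matrix.single 0 i 1 := fun i => hφ _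
  choose u hu using hu
  choose w hw using hw
  let E := ePart (F := F) e V
  have hmemE : ∀ i (v : V), e • w i • v ∈ E := fun i v => mem_ePart.2 ⟨w i • v, rfl⟩
  let toF : V →ₗ[F] (Fin n → E) :=
    { toFun := fun v i => ⟨e • w i • v, hmemE i v⟩
      map_add' := by
        intro v v'
        funext i
        apply Subtype.ext
        simp [smul_add]
      map_smul' := by
        intro c v
        funext i
        apply Subtype.ext
        simp only [RingHom.id_apply, Pi.smul_apply, Submodule.coe_smul]
        rw [smul_comm (w i) c v, smul_comm e c] }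
  let invF : (Fin n → E) →ₗ[F] V :=
    { toFun := fun f => ∑ i, u i • (f i : V)
      map_add' := by
        intro f f'
        simp [smul_add, Finset.sum_add_distrib]
      map_smul' := by
        intro c f
        simp only [RingHom.id_apply, Pi.smul_apply, Submodule.coe_smul, Finset.smul_sum]
        refine Finset.sum_congr rfl fun i _ => ?_
        rw [smul_comm] }
  have hleft : ∀ v : V, invF (toF v) = v := by
    intro v
    show ∑ i, u i • (e • w i • v) = v
    have h1 : ∀ i, u i • (e • w i • v) = (u i * e * w i) • v := by
      intro i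
      rw [mul_smul, mul_smul]
    rw [Finset.sum_congr rfl (fun i _ => h1 i), ← Finset.sum_smul]
    have h2 : φ (∑ i, u i * e * w i) = φ 1 := by
      rw [map_sum, map_one]
      have : ∀ i, φ (u i * e * w i) = Matrix.single i i 1 := by
        intro i
        rw [map_mul, map_mul, hu, he, hw, Matrix.single_mul_single_same,
          Matrix.single_mul_single_same]
        simp
      rw [Finset.sum_congr rfl (fun i _ => this i)]
      exact Matrix.sum_single_one
    rw [heq _ _ h2 v, one_smul]
  have hright : ∀ f : Fin n → E, toF (invF f) = f := by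
    intro f
    funext i
    apply Subtype.ext
    show e • w i • ∑ j, u j • (f j : V) = (f i : V)
    rw [Finset.smul_sum, Finset.smul_sum]
    have h1 : ∀ j, e • w i • u j • (f j : V) = if i = j then (f j : V) else 0 := by
      intro j
      obtain ⟨x, hx⟩ := mem_ePart.1 (f j).2
      rw [← hx, ← mul_smul, ← mul_smul, ← mul_smul]
      by_cases hij : i = j
      · subst hij
        rw [if_pos rfl]
        apply heq
        rw [map_mul, map_mul, map_mul, he, hw, hu, Matrix.single_mul_single_same,
          Matrix.single_mul_single_same, Matrix.single_mul_single_same]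
        simp
      · rw [if_neg hij]
        have : φ (e * w i * u j * e) = 0 := by
          rw [map_mul, map_mul, map_mul, he, hw, hu,
            Matrix.single_mul_single_same, Matrix.single_mul_single_of_ne (h := hij), zero_mul]
        rw [hV _ this]
    rw [Finset.sum_congr rfl (fun j _ => h1 j), Finset.sum_ite_eq, if_pos (Finset.mem_univ _)]
  let eqv : V ≃ₗ[F] (Fin n → E) :=
    { toF with
      invFun := invF
      left_inv := hleft
      right_inv := hright }
  rw [eqv.finrank_eq, Module.finrank_pi_fintype]
  simp only [Finset.sum_const, Finset.card_univ, Fintype.card_fin, smul_eq_mul]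
  rfl

/-- the `e`-part is exact -/
theorem finrank_ePart_add {e : Λ} (he : IsIdempotentElem e)
    (V : Type w) [AddCommGroup V] [Module Λ V] [Module F V] [IsScalarTower F Λ V]
    [Module.Finite F V] (W : Submodule Λ V) :
    finrank F (ePart (F := F) e V) =
      finrank F (ePart (F := F) e W) + finrank F (ePart (F := F) e (V ⧸ W)) := by
  classical
  let A := ePart (F := F) e V
  let f : A →ₗ[F] V ⧸ W := (W.mkQ.restrictScalars F).comp A.subtype
  have hrange : LinearMap.range f = ePart (F := F) e (V ⧸ W) := by
    ext q
    rw [LinearMap.mem_range, mem_ePart]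
    constructor
    · rintro ⟨⟨v, hv⟩, rfl⟩
      obtain ⟨x, rfl⟩ := mem_ePart.1 hv
      exact ⟨W.mkQ x, rfl⟩
    · rintro ⟨y, rfl⟩
      obtain ⟨x, rfl⟩ := W.mkQ_surjective y
      exact ⟨⟨e • x, mem_ePart.2 ⟨x, rfl⟩⟩, rfl⟩
  have hgmem : ∀ x : ePart (F := F) e W, ((x : W) : V) ∈ A := by
    intro x
    obtain ⟨y, hy⟩ := mem_ePart.1 x.2
    refine mem_ePart.2 ⟨(y : V), ?_⟩
    rw [← hy]
    rfl
  let g : ePart (F := F) e W →ₗ[F] A :=
    LinearMap.codRestrict A ((W.subtype.restrictScalars F).comp (ePart (F := F) e W).subtype)
      hgmem
  have hginj : Function.Injective g := by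
    intro x y hxy
    have h1 : ((x : W) : V) = ((y : W) : V) := congrArg (fun z : A => (z : V)) hxy
    exact Subtype.ext (Subtype.ext h1)
  have hker : LinearMap.range g = LinearMap.ker f := by
    ext a
    rw [LinearMap.mem_range, LinearMap.mem_ker]
    constructor
    · rintro ⟨x, rfl⟩
      show W.mkQ ((x : W) : V) = 0
      rw [Submodule.mkQ_apply, Submodule.Quotient.mk_eq_zero]
      exact (x : W).2
    · intro ha
      have haW : (a : V) ∈ W := by
        have : W.mkQ (a : V) = 0 := ha
        rwa [Submodule.mkQ_apply, Submodule.Quotient.mk_eq_zero] at this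
      obtain ⟨x, hx⟩ := mem_ePart.1 a.2
      have hea : e • (a : V) = (a : V) := by
        rw [← hx, ← mul_smul, he.eq]
      refine ⟨⟨⟨(a : V), haW⟩, mem_ePart.2 ⟨⟨(a : V), haW⟩, Subtype.ext hea⟩⟩, ?_⟩
      exact Subtype.ext rfl
  have h1 := LinearMap.finrank_range_add_finrank_ker f
  rw [hrange, ← hker, LinearMap.finrank_range_of_inj hginj] at h1
  have h2 : finrank F A = finrank F (ePart (F := F) e V) := rfl
  rw [h2] at h1
  omega

/-- dimension of a submodule plus dimension of the quotient -/
theorem finrank_sub_add_quot (V : Type w) [AddCommGroup V] [Module Λ V] [Module F V]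
    [IsScalarTower F Λ V] [Module.Finite F V] (W : Submodule Λ V) :
    finrank F V = finrank F W + finrank F (V ⧸ W) := by
  let q : V →ₗ[F] V ⧸ W := W.mkQ.restrictScalars F
  let ι : W →ₗ[F] V := W.subtype.restrictScalars F
  have hq : LinearMap.range q = ⊤ := by
    rw [LinearMap.range_eq_top]
    exact W.mkQ_surjective
  have hι : Function.Injective ι := W.injective_subtype
  have hker : LinearMap.range ι = LinearMap.ker q := by
    ext v
    rw [LinearMap.mem_range, LinearMap.mem_ker]
    constructor
    · rintro ⟨x, rfl⟩
      show W.mkQ (x : V) = 0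
      rw [Submodule.mkQ_apply, Submodule.Quotient.mk_eq_zero]
      exact x.2
    · intro hv
      have : W.mkQ v = 0 := hv
      rw [Submodule.mkQ_apply, Submodule.Quotient.mk_eq_zero] at this
      exact ⟨⟨v, this⟩, rfl⟩
  have h1 := LinearMap.finrank_range_add_finrank_ker q
  rw [hq, finrank_top, ← hker, LinearMap.finrank_range_of_inj hι] at h1
  omega

/-- the kernel of `φ` kills `V` in `k` steps -/
def KillsDepth (k : ℕ) (V : Type w) [AddCommGroup V] [Module Λ V] : Prop :=
  ∀ l : List Λ, l.length = k → (∀ x ∈ l, φ x = 0) → ∀ v : V, l.prod • v = 0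

/-- **the dimension formula**: `dim V = n * dim (e V)` -/
theorem finrank_eq_mul_ePart (hφ : Function.Surjective φ) {e : Λ} (he : IsIdempotentElem e)
    (hφe : φ e = Matrix.single 0 0 1) (k : ℕ) :
    ∀ (V : Type w) [AddCommGroup V] [Module Λ V] [Module F V] [IsScalarTower F Λ V]
      [Module.Finite F V], KillsDepth φ k V →
      finrank F V = n * finrank F (ePart (F := F) e V) := by
  induction k with
  | zero =>
    intro V _ _ _ _ _ hk
    have hV : ∀ v : V, v = 0 := by
      intro v
      have := hk [] rfl (by simp) v
      simpa using this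
    have : Subsingleton V := ⟨fun a b => by rw [hV a, hV b]⟩
    rw [finrank_zero_of_subsingleton, finrank_zero_of_subsingleton, mul_zero]
  | succ k ih =>
    intro V _ _ _ _ _ hk
    let W : Submodule Λ V := Submodule.span Λ {w | ∃ (a : Λ) (v : V), φ a = 0 ∧ a • v = w}
    have hW : KillsDepth φ k W := by
      intro l hl hlφ w
      have key : ∀ w ∈ W, ∀ r : Λ, l.prod • r • w = 0 := by
        intro w hw
        induction hw using Submodule.span_induction with
        | mem w hw =>
          obtain ⟨a, v, ha, rfl⟩ := hw
          intro r
          have h1 : (l ++ [r * a]).prod • v = 0 := by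
            apply hk
            · simp [hl]
            · intro x hx
              rcases List.mem_append.1 hx with hx | hx
              · exact hlφ x hx
              · rw [List.mem_singleton] at hx
                rw [hx, map_mul, ha, mul_zero]
          rw [List.prod_append, List.prod_singleton, mul_smul, mul_smul] at h1
          exact h1
        | zero => intro r; simp
        | add x y _ _ hx hy =>
          intro r
          rw [smul_add, smul_add, hx r, hy r, add_zero]
        | smul c x _ hx =>
          intro r
          rw [← mul_smul r c x]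
          exact hx (r * c)
      apply Subtype.ext
      have := key (w : V) w.2 1
      rw [one_smul] at this
      exact this
    have hQ : ∀ a : Λ, φ a = 0 → ∀ q : V ⧸ W, a • q = 0 := by
      intro a ha q
      obtain ⟨v, rfl⟩ := W.mkQ_surjective q
      rw [← map_smul, Submodule.mkQ_apply, Submodule.Quotient.mk_eq_zero]
      exact Submodule.subset_span ⟨a, v, ha, rfl⟩
    haveI : Module.Finite F W :=
      Module.Finite.of_injective (W.subtype.restrictScalars F) W.injective_subtype
    have h1 := ih W hW
    have h2 := finrank_of_ker_smul φ hφ hφe (V ⧸ W) hQ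
    have h3 := finrank_sub_add_quot (F := F) V W
    have h4 := finrank_ePart_add (F := F) he V W
    rw [h3, h1, h2, h4]
    ring

end Layer

end Cfsg.Agent.Helper23.Brandt
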