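import Mathlib

/-!
# A finite-dimensional algebra over an algebraically closed field modulo its radical
(helper23's shared library)

`exists_pi_matrix_quotient`: a surjection onto a product of matrix algebras whose kernel is
nilpotent in the strong sense that every product of `N` elements of the kernel vanishes.
-/

set_option autoImplicit false
set_option linter.unusedSectionVars false

namespace Cfsg.Agent.Helper23.Brandt

open Module

universe u v

section WA

variable {F : Type u} [Field F] [IsAlgClosed F] {Λ : Type v} [Ring Λ] [Algebra F Λ]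
  [FiniteDimensional F Λ]

theorem list_prod_mem_pow {R : Type*} [Ring R] (I : Ideal R) [I.IsTwoSided] :
    ∀ l : List R, (∀ x ∈ l, x ∈ I) → l.prod ∈ I ^ l.length := by
  intro l
  induction l with
  | nil =>
    intro _
    rw [List.length_nil, Submodule.pow_zero, Ideal.one_eq_top]
    exact Submodule.mem_top
  | cons a l ih =>
    intro h
    rw [List.prod_cons, List.length_cons, Ideal.IsTwoSided.pow_succ]
    exact Ideal.mul_mem_mul (h a (List.mem_cons_self))
      (ih fun x hx => h x (List.mem_cons_of_mem a hx))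

/-- Wedderburn–Artin modulo the radical, in elementary form -/
theorem exists_pi_matrix_quotient :
    ∃ (l : ℕ) (d : Fin l → ℕ) (_ : ∀ i, NeZero (d i))
      (ψ : Λ →ₐ[F] (Π i, Matrix (Fin (d i)) (Fin (d i)) F)) (N : ℕ),
      Function.Surjective ψ ∧
      ∀ L : List Λ, L.length = N → (∀ x ∈ L, ψ x = 0) → L.prod = 0 := by
  have : IsArtinianRing Λ := IsArtinianRing.of_finite F Λ
  let J : Ideal Λ := Ring.jacobson Λ
  have : FiniteDimensional F (Λ ⧸ J) :=
    Module.Finite.of_surjective (Ideal.Quotient.mkₐ F J).toLinearMap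
      (Ideal.Quotient.mkₐ_surjective F J)
  obtain ⟨l, d, hd, ⟨eqv⟩⟩ :=
    IsSemisimpleRing.exists_algEquiv_pi_matrix_of_isAlgClosed F (Λ ⧸ J)
  obtain ⟨N, hN⟩ := (IsSemiprimaryRing.isNilpotent (R := Λ))
  refine ⟨l, d, hd, (eqv : (Λ ⧸ J) →ₐ[F] _).comp (Ideal.Quotient.mkₐ F J), N, ?_, ?_⟩
  · intro y
    obtain ⟨q, hq⟩ := eqv.surjective y
    obtain ⟨x, hx⟩ := Ideal.Quotient.mkₐ_surjective F J q
    refine ⟨x, ?_⟩
    show eqv (Ideal.Quotient.mkₐ F J x) = y
    rw [hx, hq]
  · intro L hL hLψ
    have h1 : ∀ x ∈ L, x ∈ J := by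
      intro x hx
      have h2 := hLψ x hx
      have h3 : eqv (Ideal.Quotient.mkₐ F J x) = 0 := h2
      rw [map_eq_zero_iff eqv eqv.injective] at h3
      exact Ideal.Quotient.eq_zero_iff_mem.1 h3
    have h4 := list_prod_mem_pow J L h1
    rw [hL, hN] at h4
    exact h4

end WA

end Cfsg.Agent.Helper23.Brandt
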