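import Mathlib
import Cfsg.Agent.Lib.Helper23.BrandtSym
import Cfsg.Agent.Lib.Helper23.BrandtWA

/-!
# A symmetric algebra with local two-dimensional centre has a unique simple module
(helper23's shared library)
-/

set_option autoImplicit false
set_option linter.unusedSectionVars false

namespace Cfsg.Agent.Helper23.Brandt

open Module

universe u v

section One

variable {F : Type u} [Field F] [IsAlgClosed F] {Λ : Type v} [Ring Λ] [Algebra F Λ]
  [FiniteDimensional F Λ]

theorem lam_commS_eq_zero (lam : Λ →ₗ[F] F) (hlam : ∀ x y : Λ, lam (x * y) = lam (y * x))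
    (S : Submodule F Λ) : ∀ c ∈ commS S, lam c = 0 := by
  intro c hc
  induction hc using Submodule.span_induction with
  | mem c hc =>
    obtain ⟨a, _, b, _, rfl⟩ := hc
    rw [map_sub, hlam, sub_self]
  | zero => simp
  | add c c' _ _ h h' => rw [map_add, h, h', add_zero]
  | smul r c _ h => rw [map_smul, h, smul_zero]

/-- the radical quotient is a single matrix algebra -/
theorem exists_matrix_quotient (lam : Λ →ₗ[F] F)
    (hlam : ∀ x y : Λ, lam (x * y) = lam (y * x))
    (hnd : ∀ x : Λ, (∀ y : Λ, lam (x * y) = 0) → x = 0)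
    (hdim : finrank F (centS (⊤ : Submodule F Λ)) = 2)
    (hloc : ∀ z ∈ centS (⊤ : Submodule F Λ), ∃ c : F, IsNilpotent (z - algebraMap F Λ c)) :
    ∃ (n : ℕ) (_ : NeZero n) (φ : Λ →ₐ[F] Matrix (Fin n) (Fin n) F) (N : ℕ),
      Function.Surjective φ ∧
      ∀ L : List Λ, L.length = N → (∀ x ∈ L, φ x = 0) → L.prod = 0 := by
  classical
  obtain ⟨l, d, hd, ψ, N, hψ, hN⟩ := exists_pi_matrix_quotient (F := F) (Λ := Λ)
  have : ∀ i, NeZero (d i) := hd
  -- the trace map
  let τ : Λ →ₗ[F] (Fin l → F) :=
    LinearMap.pi fun i => (Matrix.traceLinearMap (Fin (d i)) F F) ∘ₗ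
      (LinearMap.proj i) ∘ₗ ψ.toLinearMap
  have hτ : ∀ x i, τ x i = Matrix.trace (ψ x i) := fun x i => rfl
  have hτsurj : LinearMap.range τ = ⊤ := by
    rw [LinearMap.range_eq_top]
    intro c
    obtain ⟨x, hx⟩ := hψ (fun i => Matrix.single 0 0 (c i))
    refine ⟨x, ?_⟩
    funext i
    rw [hτ, hx, Matrix.trace_single_eq_same]
  have hcomm_le : commS (⊤ : Submodule F Λ) ≤ LinearMap.ker τ := by
    unfold commS
    rw [Submodule.span_le]
    rintro c ⟨a, _, b, _, rfl⟩
    rw [SetLike.mem_coe, LinearMap.mem_ker]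
    funext i
    rw [hτ, map_sub, map_mul, map_mul, Pi.sub_apply, Pi.mul_apply, Pi.mul_apply,
      Matrix.trace_sub, Matrix.trace_mul_comm, sub_self]
    rfl
  have hrn := LinearMap.finrank_range_add_finrank_ker τ
  rw [hτsurj, finrank_top, Module.finrank_fin_fun] at hrn
  have hsym := finrank_centS_add_commS lam hlam (⊤ : Submodule F Λ)
    (fun _ _ _ _ => Submodule.mem_top) (fun x _ hx => hnd x fun y => hx y Submodule.mem_top)
  rw [hdim, finrank_top] at hsym
  have hle := Submodule.finrank_mono hcomm_le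
  have hl2 : l ≤ 2 := by omega
  have hl0 : l ≠ 0 := by
    rintro rfl
    have h1 : ψ 1 = 0 := Subsingleton.elim _ _
    have h2 := hN (List.replicate N 1) (by simp) (by
      intro x hx
      rw [List.eq_of_mem_replicate hx]
      exact h1)
    rw [List.prod_replicate, one_pow] at h2
    have : Subsingleton Λ := subsingleton_of_zero_eq_one h2.symm
    have h3 : finrank F (centS (⊤ : Submodule F Λ)) = 0 := finrank_zero_of_subsingleton
    omega
  have hl2' : l ≠ 2 := by
    rintro rfl
    have hceq : commS (⊤ : Submodule F Λ) = LinearMap.ker τ :=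
      Submodule.eq_of_le_of_finrank_eq hcomm_le (by omega)
    have hinj : ∀ x : Λ, ψ x = 0 → x = 0 := by
      intro x hx
      apply hnd
      intro y
      apply lam_commS_eq_zero lam hlam ⊤
      rw [hceq, LinearMap.mem_ker]
      funext i
      rw [hτ, map_mul, hx, zero_mul]
      simp
    have hinj' : Function.Injective ψ := by
      intro x y hxy
      have := hinj (x - y) (by rw [map_sub, hxy, sub_self])
      exact sub_eq_zero.1 this
    obtain ⟨ε, hε⟩ := hψ (Pi.single 0 1)
    have hεc : ε ∈ centS (⊤ : Submodule F Λ) := by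
      refine ⟨Submodule.mem_top, fun b _ => ?_⟩
      apply hinj'
      rw [map_mul, map_mul, hε]
      funext i
      rw [Pi.mul_apply, Pi.mul_apply]
      by_cases hi : i = 0
      · subst hi
        rw [Pi.single_eq_same, one_mul, mul_one]
      · rw [Pi.single_eq_of_ne hi, zero_mul, mul_zero]
    obtain ⟨c, m, hm⟩ := hloc ε hεc
    have h1 := congrArg ψ hm
    rw [map_pow, map_sub, hε, map_zero, AlgHom.commutes] at h1
    have h10 := congrFun h1 0
    have h11 := congrFun h1 1
    rw [Pi.pow_apply, Pi.sub_apply, Pi.single_eq_same, Pi.algebraMap_apply, Pi.zero_apply] at h10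
    rw [Pi.pow_apply, Pi.sub_apply, Pi.single_eq_of_ne (by decide), Pi.algebraMap_apply,
      Pi.zero_apply, zero_sub] at h11
    have hc1 : (1 - c) ^ m = 0 := by
      have : algebraMap F (Matrix (Fin (d 0)) (Fin (d 0)) F) ((1 - c) ^ m) = 0 := by
        rw [map_pow, map_sub, map_one]
        exact h10
      exact (map_eq_zero_iff _ (FaithfulSMul.algebraMap_injective F _)).1 this
    have hc0 : (-c) ^ m = 0 := by
      have : algebraMap F (Matrix (Fin (d 1)) (Fin (d 1)) F) ((-c) ^ m) = 0 := by
        rw [map_pow, map_neg]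
        exact h11
      exact (map_eq_zero_iff _ (FaithfulSMul.algebraMap_injective F _)).1 this
    have e1 : 1 - c = 0 := by
      rcases Nat.eq_zero_or_pos m with h | h
      · subst h; simp at hc1
      · exact (pow_eq_zero_iff (Nat.pos_iff_ne_zero.1 h)).1 hc1
    have e0 : -c = 0 := by
      rcases Nat.eq_zero_or_pos m with h | h
      · subst h; simp at hc0
      · exact (pow_eq_zero_iff (Nat.pos_iff_ne_zero.1 h)).1 hc0
    have : c = 0 := neg_eq_zero.1 e0
    rw [this, sub_zero] at e1
    exact one_ne_zero e1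
  have hl1 : l = 1 := by omega
  subst hl1
  refine ⟨d 0, hd 0, (Pi.evalAlgHom F (fun i : Fin 1 => Matrix (Fin (d i)) (Fin (d i)) F) 0).comp ψ,
    N, ?_, ?_⟩
  · intro y
    obtain ⟨x, hx⟩ := hψ (fun i => by
      have : i = 0 := Subsingleton.elim _ _
      exact this ▸ y)
    refine ⟨x, ?_⟩
    show ψ x 0 = y
    rw [hx]
  · intro L hL hLφ
    apply hN L hL
    intro x hx
    funext i
    have hi : i = 0 := Subsingleton.elim _ _
    subst hi
    exact hLφ x hx

end One

end Cfsg.Agent.Helper23.Brandt
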