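import Mathlib
import Cfsg.Agent.Lib.Helper23.BrandtMod
import Cfsg.Agent.Lib.Helper23.BrandtOne
import Cfsg.Agent.Lib.Helper23.BrandtLocal

/-!
# Brandt's structure theorem (helper23's shared library)

A finite-dimensional symmetric algebra over an algebraically closed field whose centre is local
of dimension two has dimension `2 n²` (it is a full matrix algebra over the dual numbers).
-/

set_option autoImplicit false
set_option linter.unusedSectionVars false

namespace Cfsg.Agent.Helper23.Brandt

open Module

universe u v

section Main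

variable {F : Type u} [Field F] {Λ : Type v} [Ring Λ] [Algebra F Λ] [FiniteDimensional F Λ]

/-- the orthogonal space of `W` for a symmetrizing form has complementary dimension -/
theorem finrank_orth_add (lam : Λ →ₗ[F] F) (hlam : ∀ x y : Λ, lam (x * y) = lam (y * x))
    (hnd : ∀ x : Λ, (∀ y : Λ, lam (x * y) = 0) → x = 0) (W K : Submodule F Λ)
    (hK : ∀ x, x ∈ K ↔ ∀ w ∈ W, lam (w * x) = 0) :
    finrank F K + finrank F W = finrank F Λ := by
  let B : LinearMap.BilinForm F Λ :=
    LinearMap.mk₂ F (fun x y : Λ => lam (x * y))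
      (by intro x x' y; simp [add_mul])
      (by intro c x y; simp)
      (by intro x y y'; simp [mul_add])
      (by intro c x y; simp)
  have hB : ∀ x y : Λ, B x y = lam (x * y) := fun x y => rfl
  have hBnd : B.Nondegenerate := by
    constructor
    · intro x hx
      exact hnd x hx
    · intro y hy
      apply hnd y
      intro x
      rw [hlam]
      exact hy x
  have horth : B.orthogonal W = K := by
    ext x
    rw [LinearMap.BilinForm.mem_orthogonal_iff, hK]
    rfl
  have h1 := LinearMap.BilinForm.finrank_orthogonal hBnd W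
  rw [horth] at h1
  have h2 : finrank F W ≤ finrank F Λ := Submodule.finrank_le W
  omega

variable [IsAlgClosed F]

/-- **Brandt's structure theorem**, dimension form -/
theorem finrank_eq_two_mul_sq (lam : Λ →ₗ[F] F)
    (hlam : ∀ x y : Λ, lam (x * y) = lam (y * x))
    (hnd : ∀ x : Λ, (∀ y : Λ, lam (x * y) = 0) → x = 0)
    (hdim : finrank F (centS (⊤ : Submodule F Λ)) = 2)
    (hloc : ∀ z ∈ centS (⊤ : Submodule F Λ), ∃ c : F, IsNilpotent (z - algebraMap F Λ c)) :
    ∃ n : ℕ, finrank F Λ = 2 * n ^ 2 := by
  classical
  obtain ⟨n, hn, φ, N, hφ, hN⟩ := exists_matrix_quotient lam hlam hnd hdim hloc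
  have hnil : ∀ x ∈ RingHom.ker (φ : Λ →+* Matrix (Fin n) (Fin n) F), IsNilpotent x := by
    intro x hx
    refine ⟨N, ?_⟩
    have := hN (List.replicate N x) (by simp) (by
      intro y hy
      rw [List.eq_of_mem_replicate hy]
      exact hx)
    rwa [List.prod_replicate] at this
  obtain ⟨e, he, hφe⟩ := exists_isIdempotentElem_eq_of_ker_isNilpotent
    (φ : Λ →+* Matrix (Fin n) (Fin n) F) hnil (Matrix.single 0 0 1) (hφ _)
    (by
      show Matrix.single (0 : Fin n) 0 (1 : F) * Matrix.single 0 0 1 = Matrix.single 0 0 1
      rw [Matrix.single_mul_single_same, mul_one])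
  have hφe' : φ e = Matrix.single 0 0 1 := hφe
  -- fullness
  have hu : ∀ i : Fin n, ∃ a : Λ, φ a = Matrix.single i 0 1 := fun i => hφ _
  have hw : ∀ i : Fin n, ∃ a : Λ, φ a = Matrix.single 0 i 1 := fun i => hφ _
  choose u hu using hu
  choose w hw using hw
  have hs : φ (∑ i, u i * e * w i) = 1 := by
    rw [map_sum]
    have : ∀ i, φ (u i * e * w i) = Matrix.single i i 1 := by
      intro i
      rw [map_mul, map_mul, hu, hφe', hw, Matrix.single_mul_single_same,
        Matrix.single_mul_single_same]
      simp
    rw [Finset.sum_congr rfl (fun i _ => this i)]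
    exact Matrix.sum_single_one
  have hunit : IsUnit (∑ i, u i * e * w i) := by
    have h1 : IsNilpotent (1 - ∑ i, u i * e * w i) :=
      hnil _ (by rw [RingHom.mem_ker]; show φ _ = 0; rw [map_sub, map_one, hs, sub_self])
    have h2 := h1.isUnit_one_sub
    rwa [sub_sub_cancel] at h2
  obtain ⟨s', hs'⟩ := hunit.exists_left_inv
  have hfull : ∑ i, (s' * u i) * e * w i = 1 := by
    rw [← hs', Finset.mul_sum]
    refine Finset.sum_congr rfl fun i _ => ?_
    simp only [mul_assoc]
  -- the corner
  have hZ : finrank F (centS (cornerS (F := F) e)) = 2 := by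
    rw [finrank_centS_cornerS he (fun i => s' * u i) w hfull, hdim]
  have hA := finrank_cornerS_eq_two φ hN he hφe' lam hlam hnd hZ
  -- the dimension formula for `Λ`
  have hkΛ : KillsDepth φ N Λ := by
    intro L hL hLφ v
    rw [hN L hL hLφ, zero_smul]
  have h1 := finrank_eq_mul_ePart (F := F) φ hφ he hφe' N Λ hkΛ
  -- the left ideal `Λ e`
  let Le : Submodule Λ Λ := Ideal.span {e}
  have hmemLe : ∀ x : Λ, x ∈ Le ↔ ∃ a, a * e = x := fun x => Ideal.mem_span_singleton'
  have hkLe : KillsDepth φ N Le := by
    intro L hL hLφ v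
    rw [hN L hL hLφ, zero_smul]
  have : Module.Finite F Le :=
    Module.Finite.of_injective (Le.subtype.restrictScalars F) Le.injective_subtype
  have h2 := finrank_eq_mul_ePart (F := F) φ hφ he hφe' N Le hkLe
  -- `e (Λ e)` is the corner
  have h3 : finrank F (ePart (F := F) e Le) = finrank F (cornerS (F := F) e) := by
    let ι : ePart (F := F) e Le →ₗ[F] Λ :=
      (Le.subtype.restrictScalars F).comp (ePart (F := F) e Le).subtype
    have hι : Function.Injective ι := by
      intro x y hxy
      exact Subtype.ext (Subtype.ext hxy)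
    have hr : LinearMap.range ι = cornerS (F := F) e := by
      ext x
      rw [LinearMap.mem_range, mem_cornerS (F := F)]
      constructor
      · rintro ⟨y, rfl⟩
        obtain ⟨z, hz⟩ := mem_ePart.1 y.2
        obtain ⟨a, ha⟩ := (hmemLe _).1 z.2
        have h5 : ι y = e * (a * e) := by
          show ((y : Le) : Λ) = _
          rw [← hz, ha]
          rfl
        rw [h5]
        simp only [mul_assoc, he.eq]
        rw [← mul_assoc e e, he.eq]
      · intro hx
        have hxLe : x ∈ Le := (hmemLe x).2 ⟨e * x, hx⟩
        refine ⟨⟨⟨x, hxLe⟩, mem_ePart.2 ⟨⟨x, hxLe⟩, ?_⟩⟩, rfl⟩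
        apply Subtype.ext
        show e * x = x
        exact cornerS_left (F := F) he ((mem_cornerS (F := F)).2 hx)
    rw [← hr, LinearMap.finrank_range_of_inj hι]
  -- `dim Λ e = dim e Λ`
  have h4 : finrank F Le = finrank F (ePart (F := F) e Λ) := by
    let W : Submodule F Λ := LinearMap.range (LinearMap.mulRight F e)
    let K : Submodule F Λ := LinearMap.ker (LinearMap.mulLeft F e)
    have hW : finrank F Le = finrank F W := by
      let ι : Le →ₗ[F] Λ := Le.subtype.restrictScalars F
      have hι : Function.Injective ι := Le.injective_subtype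
      have hr : LinearMap.range ι = W := by
        ext x
        rw [LinearMap.mem_range, LinearMap.mem_range]
        constructor
        · rintro ⟨y, rfl⟩
          obtain ⟨a, ha⟩ := (hmemLe _).1 y.2
          exact ⟨a, ha⟩
        · rintro ⟨a, rfl⟩
          exact ⟨⟨a * e, (hmemLe _).2 ⟨a, rfl⟩⟩, rfl⟩
      rw [← hr, LinearMap.finrank_range_of_inj hι]
    have hKW := finrank_orth_add lam hlam hnd W K (by
      intro x
      rw [LinearMap.mem_ker, LinearMap.mulLeft_apply]
      constructor
      · rintro hx _ ⟨a, rfl⟩
        rw [LinearMap.mulRight_apply, mul_assoc, hx, mul_zero, map_zero]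
      · intro hx
        apply hnd
        intro y
        rw [hlam, ← mul_assoc]
        exact hx _ ⟨y, rfl⟩)
    have hrn := LinearMap.finrank_range_add_finrank_ker (LinearMap.mulLeft F e)
    have hR : LinearMap.range (LinearMap.mulLeft F e) = ePart (F := F) e Λ := by
      ext x
      rw [LinearMap.mem_range, mem_ePart]
      rfl
    rw [hR] at hrn
    rw [hW]
    have : finrank F K = finrank F (LinearMap.ker (LinearMap.mulLeft F e)) := rfl
    omega
  refine ⟨n, ?_⟩
  rw [h1, ← h4, h2, h3, hA]
  ring

end Main

end Cfsg.Agent.Helper23.Brandt
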