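import Mathlib
import Cfsg.Agent.Lib.Helper23.BlkAlgCenter
import Cfsg.Agent.Lib.Helper23.BlkQuotAlg
import Cfsg.Agent.Lib.Helper23.BrandtMain

/-!
# Brandt's theorem, algebra side (helper23's shared library)

`exists_sqSum_eq_two_mul_sq`: a block with exactly two irreducible characters has
`∑ χ(1)² = 2 n²` for some `n` (its block algebra over an algebraically closed residue field is
a matrix algebra over the dual numbers).
-/

set_option autoImplicit false
set_option linter.unusedSectionVars false

namespace Cfsg.Agent.Helper23.Blk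

open Cfsg Module Cfsg.Agent.Helper24 Cfsg.Agent.Helper23.Brandt

universe u v

section Form

variable {G : Type u} [Group G] [Fintype G] {F : Type v} [Field F]

/-- the symmetrizing form of the group algebra: the coefficient of the identity -/
noncomputable def coeffOne (F : Type v) [Field F] (G : Type u) [Group G] [Fintype G] :
    MonoidAlgebra F G →ₗ[F] F :=
  (LinearMap.proj (1 : G)) ∘ₗ (coeffEquivFun F G).toLinearMap

theorem coeffOne_apply (x : MonoidAlgebra F G) : coeffOne F G x = x.coeff 1 := rfl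

theorem coeffOne_mul_comm (x y : MonoidAlgebra F G) :
    coeffOne F G (x * y) = coeffOne F G (y * x) := by
  rw [coeffOne_apply, coeffOne_apply, MonoidAlgebra.coeff_mul_apply_left,
    MonoidAlgebra.coeff_mul_apply_right, Finsupp.sum_fintype _ _ (fun _ => zero_mul _),
    Finsupp.sum_fintype _ _ (fun _ => mul_zero _)]
  refine Finset.sum_congr rfl fun h _ => ?_
  rw [mul_one, one_mul, mul_comm]

theorem coeffOne_nondeg (x : MonoidAlgebra F G)
    (hx : ∀ y : MonoidAlgebra F G, coeffOne F G (x * y) = 0) : x = 0 := by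
  apply monoidAlgebra_ext
  intro g
  have h1 := hx (MonoidAlgebra.single g⁻¹ 1)
  rw [coeffOne_apply, MonoidAlgebra.coeff_mul_single_apply, inv_inv, one_mul, mul_one] at h1
  rw [h1]
  rfl

end Form

section Main

variable {G : Type u} [Group G] [Fintype G] [Fintype (IrrCharacter G)]
  {M : Ideal AlgInt} [hMp : M.IsPrime] {F : Type v} [Field F] [IsAlgClosed F] {r : ℂ → F}

theorem exists_sqSum_eq_two_mul_sq (hr : IsRed M r) (χ₀ : IrrCharacter G)
    [DecidablePred (· ∈ blockOf M (χ₀ : G → ℂ))]
    (hcard : cardOf (blockOf M (χ₀ : G → ℂ)) = 2) :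
    ∃ n : ℕ, sqSum (blockOf M (χ₀ : G → ℂ)) = 2 * n ^ 2 := by
  classical
  have hA : IsIntegralVec M (indVec (blockOf M (χ₀ : G → ℂ))) := isIntegralVec_block χ₀
  let ε : MonoidAlgebra F G := epsFG r (blockOf M (χ₀ : G → ℂ))
  have hε : ε * ε = ε := epsFG_idem hr hA
  have hc : ∀ x : MonoidAlgebra F G, ε * x = x * ε := epsFG_central _
  let I : Ideal (MonoidAlgebra F G) := Ideal.span {1 - ε}
  have hImem : ∀ x : MonoidAlgebra F G, x ∈ I ↔ ε * x = 0 := by
    intro x
    rw [Ideal.mem_span_singleton']
    constructor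
    · rintro ⟨a, rfl⟩
      rw [← mul_assoc, hc a, mul_assoc, mul_sub, mul_one, hε, sub_self, mul_zero]
    · intro hx
      refine ⟨x, ?_⟩
      rw [mul_sub, mul_one, ← hc x, hx, sub_zero]
  have : I.IsTwoSided := ⟨by
    intro a b ha
    rw [hImem] at ha ⊢
    rw [← mul_assoc, ha, zero_mul]⟩
  let π : MonoidAlgebra F G →ₐ[F] (MonoidAlgebra F G ⧸ I) := Ideal.Quotient.mkₐ F I
  have hπ : Function.Surjective π := Ideal.Quotient.mkₐ_surjective F I
  have hker : ∀ x : MonoidAlgebra F G, π x = 0 ↔ ε * x = 0 := by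
    intro x
    rw [← hImem]
    exact Ideal.Quotient.eq_zero_iff_mem
  have : FiniteDimensional F (MonoidAlgebra F G) := Module.Finite.equiv (coeffEquivFun F G).symm
  have : FiniteDimensional F (MonoidAlgebra F G ⧸ I) :=
    Module.Finite.of_surjective π.toLinearMap hπ
  obtain ⟨lam', hlam', hnd'⟩ := exists_form_quot hε hc π hπ hker (coeffOne F G)
    coeffOne_mul_comm coeffOne_nondeg
  have hdim : finrank F (centS (⊤ : Submodule F (MonoidAlgebra F G ⧸ I))) = 2 := by
    rw [finrank_centS_quot hε hc π hπ hker]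
    have := finrank_centerEps (F := F) hr hA
    rw [hcard] at this
    exact this
  have hloc := local_centS_quot hε hc π hπ hker
    (fun z hz => exists_isNilpotent_sub_smul_epsFG hr χ₀ hz)
  obtain ⟨n, hn⟩ := finrank_eq_two_mul_sq lam' hlam' hnd' hdim hloc
  refine ⟨n, ?_⟩
  rw [← hn, finrank_quot hε hc π hπ hker]
  exact (finrank_range_mulLeft_epsFG hr hA).symm

end Main

end Cfsg.Agent.Helper23.Blk
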