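import Mathlib

/-!
# Two arithmetic lemmas for blocks with two characters (helper23's shared library)
-/

set_option autoImplicit false

namespace Cfsg.Agent.Helper23.Blk

/-- `2 a² u = b² w` is impossible for odd `u`, `w` and nonzero `a`, `b` -/
theorem two_mul_sq_mul_odd_ne {a b u w : ℕ} (hu : Odd u) (hw : Odd w) (ha : a ≠ 0) (hb : b ≠ 0) :
    2 * a ^ 2 * u ≠ b ^ 2 * w := by
  intro h
  have : Fact (Nat.Prime 2) := ⟨Nat.prime_two⟩
  have hu0 : u ≠ 0 := by
    rintro rfl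
    exact absurd hu (by decide)
  have hw0 : w ≠ 0 := by
    rintro rfl
    exact absurd hw (by decide)
  have hvu : padicValNat 2 u = 0 :=
    padicValNat.eq_zero_of_not_dvd (fun hd => (Nat.not_even_iff_odd.2 hu) (even_iff_two_dvd.2 hd))
  have hvw : padicValNat 2 w = 0 :=
    padicValNat.eq_zero_of_not_dvd (fun hd => (Nat.not_even_iff_odd.2 hw) (even_iff_two_dvd.2 hd))
  have h1 : padicValNat 2 (2 * a ^ 2 * u) = 1 + 2 * padicValNat 2 a := by
    rw [padicValNat.mul (by positivity) hu0, padicValNat.mul (by norm_num) (by positivity),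
      padicValNat.pow a 2, hvu, padicValNat_self, add_zero]
  have h2 : padicValNat 2 (b ^ 2 * w) = 2 * padicValNat 2 b := by
    rw [padicValNat.mul (by positivity) hw0, padicValNat.pow b 2, hvw, add_zero]
  rw [h] at h1
  omega

/-- `a² + b² = 2^d a` with `a` odd and `d ≥ 1` forces `d = 1` -/
theorem eq_one_of_sq_add_sq {a b : ℤ} {d : ℕ} (hd : 1 ≤ d) (ha : Odd a)
    (h : a ^ 2 + b ^ 2 = 2 ^ d * a) : d = 1 := by
  by_contra hd1
  have hd2 : 2 ≤ d := by omega
  obtain ⟨t, ht⟩ : ∃ t : ℤ, (2 : ℤ) ^ d = 4 * t := by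
    refine ⟨2 ^ (d - 2), ?_⟩
    have : d = 2 + (d - 2) := by omega
    conv_lhs => rw [this, pow_add]
    norm_num
  rw [ht] at h
  obtain ⟨k, rfl⟩ := ha
  obtain ⟨j, hj⟩ := Int.even_mul_succ_self k
  have ha2 : (2 * k + 1) ^ 2 = 8 * j + 1 := by
    have : (2 * k + 1) ^ 2 = 4 * (k * (k + 1)) + 1 := by ring
    rw [this, hj]
    ring
  rcases Int.even_or_odd b with hb | hb
  · obtain ⟨l, rfl⟩ := hb
    have hb2 : (l + l) ^ 2 = 4 * (l * l) := by ring
    rw [ha2, hb2] at h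
    have h' : 8 * j + 1 + 4 * (l * l) = 4 * (t * (2 * k + 1)) := by linarith
    omega
  · obtain ⟨l, rfl⟩ := hb
    obtain ⟨j', hj'⟩ := Int.even_mul_succ_self l
    have hb2 : (2 * l + 1) ^ 2 = 8 * j' + 1 := by
      have : (2 * l + 1) ^ 2 = 4 * (l * (l + 1)) + 1 := by ring
      rw [this, hj']
      ring
    rw [ha2, hb2] at h
    have h' : 8 * j + 1 + (8 * j' + 1) = 4 * (t * (2 * k + 1)) := by linarith
    omega

end Cfsg.Agent.Helper23.Blk
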