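import Mathlib
import Cfsg.Agent.Lib.Helper23.BlockRows
import Cfsg.Agent.Lib.Helper23.BlockDim
import Cfsg.Agent.Lib.Helper23.BlkAlgCenter

/-!
# Blocks with exactly two irreducible characters: the character side
(helper23's shared library)

For a block `B = {χ, μ}` the integers `x = n(χ,χ)`, `y = n(χ,μ)`, `x₂ = n(μ,μ)` satisfy
`x + x₂ = p^a`, `(χ(1)² + μ(1)²) x = p^a χ(1)²` and `(χ(1)² + μ(1)²) x₂ = p^a μ(1)²`.
-/

set_option autoImplicit false
set_option linter.unusedSectionVars false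

namespace Cfsg.Agent.Helper23.Blk

open Cfsg Cfsg.Agent.Helper24 Cfsg.Agent.Helper18
open scoped ComplexConjugate

universe u

section Two

variable {G : Type u} [Group G] [Fintype G] [Fintype (IrrCharacter G)]
  {M : Ideal AlgInt} {p : ℕ} [Fact p.Prime]

omit [Fact p.Prime] in
theorem sum_irr_pair {α : Type*} [AddCommMonoid α] {χ μ : IrrCharacter G} (hne : χ ≠ μ)
    (f : IrrCharacter G → α) (h : ∀ ψ, ψ ≠ χ → ψ ≠ μ → f ψ = 0) :
    ∑ ψ : IrrCharacter G, f ψ = f χ + f μ := by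
  classical
  rw [← Finset.sum_pair hne]
  symm
  apply Finset.sum_subset (Finset.subset_univ _)
  intro ψ _ hψ
  rw [Finset.mem_insert, Finset.mem_singleton, not_or] at hψ
  exact h ψ hψ.1 hψ.2

omit [Fact p.Prime] in
theorem sqSum_pair {χ μ : IrrCharacter G} (hne : χ ≠ μ) (B : Set (IrrCharacter G))
    [DecidablePred (· ∈ B)] (hB : B = {χ, μ}) :
    sqSum B = charDegree (χ : G → ℂ) ^ 2 + charDegree (μ : G → ℂ) ^ 2 := by
  unfold sqSum
  rw [sum_irr_pair hne]
  · have h1 : χ ∈ B := by rw [hB]; exact Set.mem_insert _ _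
    have h2 : μ ∈ B := by rw [hB]; exact Set.mem_insert_of_mem _ rfl
    rw [if_pos h1, if_pos h2]
  · intro ψ h1 h2
    rw [if_neg]
    rw [hB]
    intro h
    rcases h with h | h
    · exact h1 h
    · exact h2 h

omit [Fact p.Prime] in
theorem cardOf_pair {χ μ : IrrCharacter G} (hne : χ ≠ μ) (B : Set (IrrCharacter G))
    [DecidablePred (· ∈ B)] (hB : B = {χ, μ}) : cardOf B = 2 := by
  unfold cardOf
  rw [sum_irr_pair hne]
  · have h1 : χ ∈ B := by rw [hB]; exact Set.mem_insert _ _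
    have h2 : μ ∈ B := by rw [hB]; exact Set.mem_insert_of_mem _ rfl
    rw [if_pos h1, if_pos h2]
  · intro ψ h1 h2
    rw [if_neg]
    rw [hB]
    intro h
    rcases h with h | h
    · exact h1 h
    · exact h2 h

/-- the row of `ξ` at a `p`-singular element -/
theorem row_singular (hM : IsPModular p M) {B : Set (IrrCharacter G)} (hB : IsPBlock M B)
    {χ μ : IrrCharacter G} (hne : χ ≠ μ) (hBeq : B = {χ, μ}) {ξ : IrrCharacter G} (hξ : ξ ∈ B)
    {g : G} (hg : p ∣ orderOf g) :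
    (nInt p ξ χ : ℂ) * (χ : G → ℂ) g + (nInt p ξ μ : ℂ) * (μ : G → ℂ) g = 0 := by
  have hcf : IsClassFunction G (((p ^ (Nat.card G).factorization p : ℕ) : ℂ) •
      pRegularPart p (ξ : G → ℂ)) := by
    intro g h
    rw [Pi.smul_apply, Pi.smul_apply,
      isClassFunction_pRegularPart p (isClassFunction_of_isIrrCharacter ξ.2) g h]
  have h1 := congrFun (classFunction_expansion hcf) g
  rw [Pi.smul_apply, pRegularPart_of_dvd p _ hg, smul_zero, Finset.sum_apply] at h1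
  rw [sum_irr_pair hne] at h1
  · rw [Pi.smul_apply, Pi.smul_apply, nInt_spec, nInt_spec, smul_eq_mul, smul_eq_mul] at h1
    exact h1.symm
  · intro ψ h1 h2
    have hψ : ψ ∉ B := by
      rw [hBeq]
      intro h
      rcases h with h | h
      · exact h1 h
      · exact h2 h
    rw [nInt_spec, nInt_eq_zero hM hB hξ hψ, Int.cast_zero, zero_smul]
    rfl

omit [Fact p.Prime] in
theorem blockReg_pair {χ μ : IrrCharacter G} (hne : χ ≠ μ) {B : Set (IrrCharacter G)}
    (hBeq : B = {χ, μ}) (g : G) :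
    blockReg B g = (χ : G → ℂ) 1 * (χ : G → ℂ) g + (μ : G → ℂ) 1 * (μ : G → ℂ) g := by
  classical
  unfold blockReg
  rw [sum_irr_pair hne]
  · have h1 : χ ∈ B := by rw [hBeq]; exact Set.mem_insert _ _
    have h2 : μ ∈ B := by rw [hBeq]; exact Set.mem_insert_of_mem _ rfl
    rw [if_pos h1, if_pos h2]
  · intro ψ h1 h2
    rw [if_neg]
    rw [hBeq]
    intro h
    rcases h with h | h
    · exact h1 h
    · exact h2 h

/-- a member of a block with two characters does not vanish on all `p`-singular elements -/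
theorem exists_singular_ne_zero (hM : IsPModular p M) {B : Set (IrrCharacter G)}
    (hB : IsPBlock M B) {χ μ : IrrCharacter G} (hne : χ ≠ μ) (hBeq : B = {χ, μ}) :
    ∃ g : G, p ∣ orderOf g ∧ (χ : G → ℂ) g ≠ 0 := by
  have hMp : M.IsPrime := hM.2.1.isPrime
  by_contra hcon
  push Not at hcon
  have h1 := not_dvd_card_div_degree_of_vanish (p := p) χ.2 hcon
  have h2 := (not_dvd_iff_blockOf_eq_singleton hM χ).1 h1
  obtain ⟨χ₀, hχ₀⟩ := hB
  have hχB : χ ∈ B := by rw [hBeq]; exact Set.mem_insert _ _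
  have hμB : μ ∈ B := by rw [hBeq]; exact Set.mem_insert_of_mem _ rfl
  have h3 : blockOf M (χ : G → ℂ) = B := by
    rw [hχ₀] at hχB ⊢
    exact blockOf_eq_of_mem hχB
  rw [h2] at h3
  rw [← h3] at hμB
  exact hne (Set.mem_singleton_iff.1 hμB).symm

/-- the relations between the rows of a block with two characters -/
theorem two_chars_relations (hM : IsPModular p M) {B : Set (IrrCharacter G)} (hB : IsPBlock M B)
    {χ μ : IrrCharacter G} (hne : χ ≠ μ) (hBeq : B = {χ, μ}) :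
    nInt p χ χ + nInt p μ μ = ((p ^ (Nat.card G).factorization p : ℕ) : ℤ) ∧
    ((charDegree (χ : G → ℂ) : ℤ) ^ 2 + (charDegree (μ : G → ℂ) : ℤ) ^ 2) * nInt p χ χ =
      ((p ^ (Nat.card G).factorization p : ℕ) : ℤ) * (charDegree (χ : G → ℂ) : ℤ) ^ 2 ∧
    ((charDegree (χ : G → ℂ) : ℤ) ^ 2 + (charDegree (μ : G → ℂ) : ℤ) ^ 2) * nInt p μ μ =
      ((p ^ (Nat.card G).factorization p : ℕ) : ℤ) * (charDegree (μ : G → ℂ) : ℤ) ^ 2 := by
  have hχB : χ ∈ B := by rw [hBeq]; exact Set.mem_insert _ _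
  have hμB : μ ∈ B := by rw [hBeq]; exact Set.mem_insert_of_mem _ rfl
  obtain ⟨g, hg, hχg⟩ := exists_singular_ne_zero hM hB hne hBeq
  have hr1 := row_singular hM hB hne hBeq hχB hg
  have hr2 := row_singular hM hB hne hBeq hμB hg
  have hreg := blockReg_eq_zero hM hB hg
  rw [blockReg_pair hne hBeq, irr_one_eq_charDegree χ.2, irr_one_eq_charDegree μ.2] at hreg
  rw [nInt_symm μ χ] at hr2
  -- the notation
  have hoff : ∀ ξ ∈ B, ∀ ψ, ψ ≠ χ → ψ ≠ μ → (nInt p ξ ψ) ^ 2 = 0 := by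
    intro ξ hξ ψ h1 h2
    have hψ : ψ ∉ B := by
      rw [hBeq]
      intro h
      rcases h with h | h
      · exact h1 h
      · exact h2 h
    rw [nInt_eq_zero hM hB hξ hψ]
    ring
  have hp1 := sum_nInt_sq (p := p) χ
  rw [sum_irr_pair hne _ (hoff χ hχB)] at hp1
  have hp2 := sum_nInt_sq (p := p) μ
  rw [sum_irr_pair hne _ (hoff μ hμB), nInt_symm μ χ] at hp2
  -- proportionality
  have hq1 : nInt p χ χ * (charDegree (μ : G → ℂ) : ℤ) =
      nInt p χ μ * (charDegree (χ : G → ℂ) : ℤ) := by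
    have h : ((nInt p χ χ * (charDegree (μ : G → ℂ) : ℤ) -
        nInt p χ μ * (charDegree (χ : G → ℂ) : ℤ) : ℤ) : ℂ) * (χ : G → ℂ) g = 0 := by
      push_cast
      linear_combination ((charDegree (μ : G → ℂ) : ℕ) : ℂ) * hr1 - (nInt p χ μ : ℂ) * hreg
    rcases mul_eq_zero.1 h with h | h
    · have := Int.cast_eq_zero.1 h
      exact sub_eq_zero.1 this
    · exact absurd h hχg
  have hq2 : nInt p χ μ * (charDegree (μ : G → ℂ) : ℤ) =
      nInt p μ μ * (charDegree (χ : G → ℂ) : ℤ) := by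
    have h : ((nInt p χ μ * (charDegree (μ : G → ℂ) : ℤ) -
        nInt p μ μ * (charDegree (χ : G → ℂ) : ℤ) : ℤ) : ℂ) * (χ : G → ℂ) g = 0 := by
      push_cast
      linear_combination ((charDegree (μ : G → ℂ) : ℕ) : ℂ) * hr2 - (nInt p μ μ : ℂ) * hreg
    rcases mul_eq_zero.1 h with h | h
    · have := Int.cast_eq_zero.1 h
      exact sub_eq_zero.1 this
    · exact absurd h hχg
  have hx0 := nInt_self_ne_zero (p := p) χ
  have hx20 := nInt_self_ne_zero (p := p) μ
  have hn1 : (charDegree (χ : G → ℂ) : ℤ) ≠ 0 := by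
    exact_mod_cast charDegree_ne_zero χ
  have hn2 : (charDegree (μ : G → ℂ) : ℤ) ≠ 0 := by
    exact_mod_cast charDegree_ne_zero μ
  have e2 : ((charDegree (χ : G → ℂ) : ℤ) ^ 2 + (charDegree (μ : G → ℂ) : ℤ) ^ 2) * nInt p χ χ =
      ((p ^ (Nat.card G).factorization p : ℕ) : ℤ) * (charDegree (χ : G → ℂ) : ℤ) ^ 2 := by
    apply mul_right_cancel₀ hx0
    linear_combination (nInt p χ χ * (charDegree (μ : G → ℂ) : ℤ) +
      nInt p χ μ * (charDegree (χ : G → ℂ) : ℤ)) * hq1 +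
      (charDegree (χ : G → ℂ) : ℤ) ^ 2 * hp1
  have e3 : ((charDegree (χ : G → ℂ) : ℤ) ^ 2 + (charDegree (μ : G → ℂ) : ℤ) ^ 2) * nInt p μ μ =
      ((p ^ (Nat.card G).factorization p : ℕ) : ℤ) * (charDegree (μ : G → ℂ) : ℤ) ^ 2 := by
    apply mul_right_cancel₀ hx20
    linear_combination (-(nInt p χ μ * (charDegree (μ : G → ℂ) : ℤ)) -
      nInt p μ μ * (charDegree (χ : G → ℂ) : ℤ)) * hq2 +
      (charDegree (μ : G → ℂ) : ℤ) ^ 2 * hp2
  refine ⟨?_, e2, e3⟩
  have hS : ((charDegree (χ : G → ℂ) : ℤ) ^ 2 + (charDegree (μ : G → ℂ) : ℤ) ^ 2) ≠ 0 := by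
    have := sq_nonneg (charDegree (μ : G → ℂ) : ℤ)
    have h2 : 0 < (charDegree (χ : G → ℂ) : ℤ) ^ 2 := by positivity
    omega
  apply mul_left_cancel₀ hS
  linear_combination e2 + e3

end Two

end Cfsg.Agent.Helper23.Blk
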