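import Mathlib
import Cfsg.Agent.Lib.Helper23.BlockContribBessel
import Cfsg.Agent.Lib.Helper18.PairAct
import Cfsg.Agent.Lib.Helper23.BlockDefectGroup2

/-!
# Summing the diagonal contributions over a family of subsections (helper23's shared library)

`sum_contribIdx_self_le`: for a family of subsections `(u, a_u)`, `u ∈ S`, in which every
subsection has at most `e` conjugates, the diagonal contributions `m^{(u, a_u)}_{χχ}` of an
irreducible character `χ` add up to at most `e`.
-/

set_option autoImplicit false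
set_option linter.unusedSectionVars false
set_option linter.style.haveILetI false

namespace Cfsg.Agent.Helper23.Blk

open Cfsg Cfsg.Agent.Helper24 Cfsg.Agent.Helper18 Cfsg.Agent.Helper18.PairRel
open scoped ComplexConjugate

universe u

section SecSum

variable {G : Type u} [Group G] [Fintype G] {M : Ideal AlgInt} {p : ℕ}

theorem blockSq_singleton [Fintype (IrrCharacter G)] (χ : IrrCharacter G) (g : G) :
    blockSq ({χ} : Set (IrrCharacter G)) g = ((‖(χ : G → ℂ) g‖ ^ 2 : ℝ) : ℂ) := by
  classical
  unfold blockSq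
  rw [Finset.sum_eq_single χ]
  · rw [Set.indicator_of_mem (Set.mem_singleton χ), Complex.mul_conj']
    push_cast
    rfl
  · intro ζ _ hζ
    rw [Set.indicator_of_notMem]
    exact fun h => hζ h
  · intro h
    exact absurd (Finset.mem_univ _) h

theorem sum_secSum_singleton [Fintype (IrrCharacter G)] (hp : p.Prime) (χ : IrrCharacter G) :
    ∑ z : G, secSum p ({χ} : Set (IrrCharacter G)) z = (Nat.card G : ℂ) := by
  rw [sum_secSum hp, sum_blockSq]
  have : Nat.card (({χ} : Set (IrrCharacter G))) = 1 := by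
    rw [Nat.card_eq_fintype_card]
    simp
  rw [this, Nat.cast_one, mul_one]

/-- the truncated norm of a translate, through the section sum -/
theorem card_mul_pNorm_shift [Fintype (IrrCharacter G)] {z : G}
    (hz : ∃ k : ℕ, orderOf z = p ^ k) (H : Subgroup G) [Fintype H]
    (hH : H = Subgroup.centralizer ({z} : Set G)) (χ : IrrCharacter G) :
    (Nat.card H : ℂ) * ((pNorm p (fun c : H => (χ : G → ℂ) (z * (c : G))) : ℝ) : ℂ) =
      secSum p ({χ} : Set (IrrCharacter G)) z := by
  classical
  subst hH
  have hC0 : (Nat.card (Subgroup.centralizer ({z} : Set G)) : ℂ) ≠ 0 := by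
    exact_mod_cast (Nat.card_pos (α := Subgroup.centralizer ({z} : Set G))).ne'
  unfold pNorm
  push_cast
  rw [← mul_assoc, mul_inv_cancel₀ hC0, one_mul, secSum_eq_sum_centralizer _ hz]
  apply Finset.sum_congr rfl
  intro y _
  split_ifs
  · rfl
  · rw [blockSq_singleton]

theorem secSum_singleton_re_nonneg [Fintype (IrrCharacter G)] (χ : IrrCharacter G) (z : G) :
    0 ≤ (secSum p ({χ} : Set (IrrCharacter G)) z).re := by
  classical
  unfold secSum
  rw [Complex.re_sum]
  apply Finset.sum_nonneg
  intro g _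
  split_ifs
  · rw [blockSq_singleton, Complex.ofReal_re]
    positivity
  · simp

theorem secSum_singleton_im [Fintype (IrrCharacter G)] (χ : IrrCharacter G) (z : G) :
    (secSum p ({χ} : Set (IrrCharacter G)) z).im = 0 := by
  classical
  unfold secSum
  rw [Complex.im_sum]
  apply Finset.sum_eq_zero
  intro g _
  split_ifs
  · rw [blockSq_singleton, Complex.ofReal_im]
  · simp

end SecSum

section PerClass

variable {G : Type u} [Group G] [Fintype G] {M : Ideal AlgInt} {p : ℕ}

open Classical in
set_option maxHeartbeats 1600000 in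
/-- the subsections of the family lying over one conjugacy class of `p`-elements -/
theorem card_mul_sum_filter_isConj_le (hM : IsPModular p M) [Fintype (IrrCharacter G)]
    (χ : IrrCharacter G) (S : Finset G) (a : G → BrauerPairIdx G) (e : ℕ)
    (hS : ∀ u ∈ S, ∃ k : ℕ, orderOf u = p ^ k)
    (ha1 : ∀ u ∈ S, (a u).1 = Subgroup.zpowers u)
    (ha2 : ∀ u ∈ S, IsPBlock M (a u).2)
    (hfus : ∀ u₀ ∈ S, (S.filter
      (fun u => ∃ x : G, x * u * x⁻¹ = u₀ ∧ conjPair x (a u) = a u₀)).card ≤ e) (z : G) :
    (Nat.card (Subgroup.centralizer ({z} : Set G)) : ℝ) *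
      ∑ u ∈ S.filter (fun u => IsConj u z),
        (contribIdx p u (a u) (χ : G → ℂ) (χ : G → ℂ)).re ≤
    e * (secSum p ({χ} : Set (IrrCharacter G)) z).re := by
  classical
  by_cases hz : ∃ k : ℕ, orderOf z = p ^ k
  swap
  · have hempty : S.filter (fun u => IsConj u z) = ∅ := by
      rw [Finset.filter_eq_empty_iff]
      intro u hu hc
      apply hz
      obtain ⟨k, hk⟩ := hS u hu
      refine ⟨k, ?_⟩
      rw [← hk]
      obtain ⟨c, hc'⟩ := isConj_iff.1 hc
      rw [← hc']
      exact MulEquiv.orderOf_eq (MulAut.conj c) u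
    rw [hempty, Finset.sum_empty, mul_zero]
    exact mul_nonneg (Nat.cast_nonneg e) (secSum_singleton_re_nonneg χ z)
  · set Q : Subgroup G := Subgroup.zpowers z with hQ
    haveI : Fintype (Subgroup.centralizer (Q : Set G)) := Fintype.ofFinite _
    have hH : Subgroup.centralizer (Q : Set G) = Subgroup.centralizer ({z} : Set G) :=
      centralizer_zpowers z
    have hzH : ∀ h ∈ Subgroup.centralizer (Q : Set G), z * h = h * z := by
      intro h hh
      rw [hH] at hh
      exact Subgroup.mem_centralizer_iff.1 hh z (Set.mem_singleton z)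
    have hex : ∀ u : G, ∃ x : G, IsConj u z → x * u * x⁻¹ = z := by
      intro u
      by_cases hc : IsConj u z
      · obtain ⟨c, hc'⟩ := isConj_iff.1 hc
        exact ⟨c, fun _ => hc'⟩
      · exact ⟨1, fun h => absurd h hc⟩
    choose xf hxf using hex
    set a' : G → BrauerPairIdx G := fun u => conjPair (xf u) (a u) with ha'
    set φ : G → Set (IrrCharacter (Subgroup.centralizer (Q : Set G))) :=
      fun u => pairBlock Q (a' u) with hφ
    have h1 : ∀ u ∈ S.filter (fun u => IsConj u z), (a' u).1 = Q := by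
      intro u hu
      rw [Finset.mem_filter] at hu
      show ((a u).1).map (MulAut.conj (xf u)).toMonoidHom = Q
      rw [ha1 u hu.1, MonoidHom.map_zpowers, hQ]
      congr 1
      exact hxf u hu.2
    have h2 : ∀ u ∈ S.filter (fun u => IsConj u z), a' u = ⟨Q, φ u⟩ :=
      fun u hu => eq_mk_pairBlock (h1 u hu)
    have h3 : ∀ u ∈ S.filter (fun u => IsConj u z), IsPBlock M (φ u) := by
      intro u hu
      have h4 : IsPBlock M (a' u).2 :=
        isPBlock_conjBlock _ _ (ha2 u (Finset.mem_filter.1 hu).1)
      have h5 : ∀ b : BrauerPairIdx G, b = a' u → IsPBlock M b.2 := by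
        intro b hb
        rw [hb]
        exact h4
      exact h5 ⟨Q, φ u⟩ (h2 u hu).symm
    have hχcf : IsClassFunction G (χ : G → ℂ) := isClassFunction_of_isIrrCharacter χ.2
    set g : Set (IrrCharacter (Subgroup.centralizer (Q : Set G))) → ℝ :=
      fun f => pNorm p (etaPart (Subgroup.centralizer (Q : Set G)) z f (χ : G → ℂ)) with hg
    have h4 : ∀ u ∈ S.filter (fun u => IsConj u z),
        (contribIdx p u (a u) (χ : G → ℂ) (χ : G → ℂ)).re = g (φ u) := by
      intro u hu
      have hc := (Finset.mem_filter.1 hu).2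
      have h5 := contribIdx_conjPair (p := p) (xf u) u (a u) hχcf hχcf
      rw [hxf u hc] at h5
      rw [← h5]
      show (contribIdx p z (a' u) _ _).re = _
      rw [h2 u hu, contribIdx_mk, contrib_self_eq_pNorm, Complex.ofReal_re]
    rw [Finset.sum_congr rfl h4]
    have h5 : ∑ u ∈ S.filter (fun u => IsConj u z), g (φ u) ≤
        e * ∑ f ∈ (S.filter (fun u => IsConj u z)).image φ, g f := by
      rw [Finset.sum_comp g φ, Finset.mul_sum]
      apply Finset.sum_le_sum
      intro f hf
      rw [nsmul_eq_mul]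
      apply mul_le_mul_of_nonneg_right _ (pNorm_nonneg _)
      obtain ⟨u₀, hu₀, rfl⟩ := Finset.mem_image.1 hf
      have hu₀S := (Finset.mem_filter.1 hu₀).1
      have hsub : (S.filter (fun u => IsConj u z)).filter (fun u => φ u = φ u₀) ⊆
          S.filter (fun u => ∃ x : G, x * u * x⁻¹ = u₀ ∧ conjPair x (a u) = a u₀) := by
        intro u hu
        rw [Finset.mem_filter] at hu
        obtain ⟨huz, hφu⟩ := hu
        have huS := (Finset.mem_filter.1 huz).1
        rw [Finset.mem_filter]
        refine ⟨huS, (xf u₀)⁻¹ * xf u, ?_, ?_⟩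
        · have e1 := hxf u (Finset.mem_filter.1 huz).2
          have e2 := hxf u₀ (Finset.mem_filter.1 hu₀).2
          calc (xf u₀)⁻¹ * xf u * u * ((xf u₀)⁻¹ * xf u)⁻¹
              = (xf u₀)⁻¹ * (xf u * u * (xf u)⁻¹) * xf u₀ := by group
            _ = (xf u₀)⁻¹ * (xf u₀ * u₀ * (xf u₀)⁻¹) * xf u₀ := by rw [e1, e2]
            _ = u₀ := by group
        · have e3 : a' u = a' u₀ := by rw [h2 u huz, h2 u₀ hu₀, hφu]
          rw [conjPair_mul]
          show conjPair (xf u₀)⁻¹ (a' u) = a u₀
          rw [e3]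
          show conjPair (xf u₀)⁻¹ (conjPair (xf u₀) (a u₀)) = a u₀
          rw [← conjPair_mul, inv_mul_cancel, conjPair_one]
      exact_mod_cast (Finset.card_le_card hsub).trans (hfus u₀ hu₀S)
    have h6 := sum_pNorm_etaPart_le hM (Subgroup.centralizer (Q : Set G)) hzH
      ((S.filter (fun u => IsConj u z)).image φ) (by
        intro f hf
        obtain ⟨u, hu, rfl⟩ := Finset.mem_image.1 hf
        exact h3 u hu) hχcf
    have h7 := card_mul_pNorm_shift hz (Subgroup.centralizer (Q : Set G)) hH χ
    have h8 : (Nat.card (Subgroup.centralizer (Q : Set G)) : ℝ) *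
        pNorm p (fun c : Subgroup.centralizer (Q : Set G) => (χ : G → ℂ) (z * (c : G))) =
        (secSum p ({χ} : Set (IrrCharacter G)) z).re := by
      have := congrArg Complex.re h7
      rw [← Complex.ofReal_natCast, ← Complex.ofReal_mul, Complex.ofReal_re] at this
      exact this
    rw [← h8, ← hH]
    have hpos : (0 : ℝ) ≤ (Nat.card (Subgroup.centralizer (Q : Set G)) : ℝ) := Nat.cast_nonneg _
    calc (Nat.card (Subgroup.centralizer (Q : Set G)) : ℝ) *
          ∑ u ∈ S.filter (fun u => IsConj u z), g (φ u)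
        ≤ (Nat.card (Subgroup.centralizer (Q : Set G)) : ℝ) *
          (e * ∑ f ∈ (S.filter (fun u => IsConj u z)).image φ, g f) :=
          mul_le_mul_of_nonneg_left h5 hpos
      _ ≤ (Nat.card (Subgroup.centralizer (Q : Set G)) : ℝ) *
          (e * pNorm p (fun c : Subgroup.centralizer (Q : Set G) =>
            (χ : G → ℂ) (z * (c : G)))) := by
          apply mul_le_mul_of_nonneg_left _ hpos
          exact mul_le_mul_of_nonneg_left h6 (Nat.cast_nonneg e)
      _ = _ := by ring

end PerClass

section Global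

variable {G : Type u} [Group G] [Fintype G] {M : Ideal AlgInt} {p : ℕ}

open Classical in
theorem sum_card_centralizer_isConj (u : G) :
    ∑ z ∈ Finset.univ.filter (fun z => IsConj u z),
      (Nat.card (Subgroup.centralizer ({z} : Set G)) : ℝ) = Nat.card G := by
  have h1 := sum_isConj_eq u (fun z => (Nat.card (Subgroup.centralizer ({z} : Set G)) : ℂ))
    (by
      intro t z
      beta_reduce
      rw [card_centralizer_conj])
  have hC0 : (Nat.card (Subgroup.centralizer ({u} : Set G)) : ℂ) ≠ 0 := by
    exact_mod_cast (Nat.card_pos (α := Subgroup.centralizer ({u} : Set G))).ne'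
  rw [mul_comm (Nat.card G : ℂ)] at h1
  have h2 := mul_left_cancel₀ hC0 h1
  exact_mod_cast h2

open Classical in
set_option maxHeartbeats 800000 in
/-- **the diagonal contributions of a family of subsections with bounded fusion** -/
theorem sum_contribIdx_self_le (hM : IsPModular p M)
    (χ : IrrCharacter G) (S : Finset G) (a : G → BrauerPairIdx G) (e : ℕ)
    (hS : ∀ u ∈ S, ∃ k : ℕ, orderOf u = p ^ k)
    (ha1 : ∀ u ∈ S, (a u).1 = Subgroup.zpowers u)
    (ha2 : ∀ u ∈ S, IsPBlock M (a u).2)
    (hfus : ∀ u₀ ∈ S, (S.filter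
      (fun u => ∃ x : G, x * u * x⁻¹ = u₀ ∧ conjPair x (a u) = a u₀)).card ≤ e) :
    ∑ u ∈ S, (contribIdx p u (a u) (χ : G → ℂ) (χ : G → ℂ)).re ≤ e := by
  letI : Fintype (IrrCharacter G) := irrFintype
  have hp : p.Prime := hM.1
  set m : G → ℝ := fun u => (contribIdx p u (a u) (χ : G → ℂ) (χ : G → ℂ)).re with hm
  have h2 : (Nat.card G : ℝ) * ∑ u ∈ S, m u =
      ∑ z : G, (Nat.card (Subgroup.centralizer ({z} : Set G)) : ℝ) *
        ∑ u ∈ S.filter (fun u => IsConj u z), m u := by
    rw [Finset.mul_sum]
    simp_rw [Finset.mul_sum, Finset.sum_filter]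
    rw [Finset.sum_comm]
    apply Finset.sum_congr rfl
    intro u _
    rw [← sum_card_centralizer_isConj u, Finset.sum_mul, Finset.sum_filter]
  have h3 : ∑ z : G, (Nat.card (Subgroup.centralizer ({z} : Set G)) : ℝ) *
        ∑ u ∈ S.filter (fun u => IsConj u z), m u ≤
      ∑ z : G, (e : ℝ) * (secSum p ({χ} : Set (IrrCharacter G)) z).re :=
    Finset.sum_le_sum (fun z _ => card_mul_sum_filter_isConj_le hM χ S a e hS ha1 ha2 hfus z)
  have h4 : ∑ z : G, (e : ℝ) * (secSum p ({χ} : Set (IrrCharacter G)) z).re =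
      e * Nat.card G := by
    rw [← Finset.mul_sum, ← Complex.re_sum, sum_secSum_singleton hp χ]
    simp
  have hG : (0 : ℝ) < Nat.card G := by exact_mod_cast (Nat.card_pos (α := G))
  have h5 : (Nat.card G : ℝ) * ∑ u ∈ S, m u ≤ (Nat.card G : ℝ) * e := by
    rw [h2, mul_comm (Nat.card G : ℝ) (e : ℝ), ← h4]
    exact h3
  exact le_of_mul_le_mul_left h5 hG

end Global

end Cfsg.Agent.Helper23.Blk
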