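import Mathlib
import Cfsg.Agent.Lib.Helper18.PairAct

/-!
# Fusion of central subpairs of a maximal Brauer pair (helper23's shared library)

`frattini_pairs_central`: if `(Q, f)` and `(Q', f')` lie below `(P, e)`, with `P` a defect group
and `Q, Q'` central in `P`, and `x` carries `(Q, f)` to `(Q', f')`, then some `c ∈ C_G(Q')` makes
`c x` fix `(P, e)`.
-/

set_option autoImplicit false
set_option linter.unusedSectionVars false
set_option linter.style.haveILetI false

namespace Cfsg.Agent.Helper23.Blk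

open Cfsg Cfsg.Agent.Helper24 Cfsg.Agent.Helper18 Cfsg.Agent.Helper18.PairRel

universe u

section Fusion

variable {G : Type u} [Group G] [Fintype G] {M : Ideal AlgInt} {p : ℕ}

set_option maxHeartbeats 1600000 in
/-- **Frattini argument for two central subpairs of a maximal pair.** -/
theorem frattini_pairs_central (hM : IsPModular p M) [Fact p.Prime] {B : Set (IrrCharacter G)}
    {P Q Q' : Subgroup G}
    {e : Set (IrrCharacter (Subgroup.centralizer (P : Set G)))}
    {f : Set (IrrCharacter (Subgroup.centralizer (Q : Set G)))}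
    {f' : Set (IrrCharacter (Subgroup.centralizer (Q' : Set G)))}
    (hBe : IsBrauerPairOf p M B P e) (hPD : IsDefectGroup p M B P)
    (hQc : ∀ q ∈ Q, ∀ w ∈ P, q * w = w * q)
    (hQ'c : ∀ q ∈ Q', ∀ w ∈ P, q * w = w * q)
    (hle : SubpairLE p M Q f P e) (hle' : SubpairLE p M Q' f' P e) {x : G}
    (hx : conjPair x ⟨Q, f⟩ = (⟨Q', f'⟩ : BrauerPairIdx G)) :
    ∃ c ∈ Subgroup.centralizer (Q' : Set G),
      conjPair (c * x) ⟨P, e⟩ = (⟨P, e⟩ : BrauerPairIdx G) := by
  classical
  haveI hMp : M.IsPrime := hM.2.1.isPrime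
  haveI : Fintype (Subgroup.centralizer (Q' : Set G)) := Fintype.ofFinite _
  have hB : IsPBlock M B := hBe.2.1
  have hPe : IsBrauerPair p M P e := hBe.1
  have hQ'f' : IsBrauerPair p M Q' f' := chain_isBrauerPair hle' hPe
  have hf' : IsPBlock M f' := hQ'f'.2
  have hQQ' : Q.map (MulAut.conj x).toMonoidHom = Q' := congrArg Sigma.fst hx
  have hPH : P ≤ Subgroup.centralizer (Q' : Set G) := by
    intro w hw
    rw [Subgroup.mem_centralizer_iff]
    intro q hq
    exact hQ'c q hq w hw
  have hle₂ : SubpairLE p M Q' f' (P.map (MulAut.conj x).toMonoidHom) (conjBlock P x e) := by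
    have h1 := subpairLE_conj (p := p) (M := M) x hle
    unfold SubpairLE at h1 ⊢
    have h2 : (⟨Q.map (MulAut.conj x).toMonoidHom, conjBlock Q x f⟩ : BrauerPairIdx G) =
        ⟨Q', f'⟩ := hx
    rw [h2] at h1
    exact h1
  have hP₂H : P.map (MulAut.conj x).toMonoidHom ≤ Subgroup.centralizer (Q' : Set G) := by
    rintro _ ⟨w, hw, rfl⟩
    rw [Subgroup.mem_centralizer_iff]
    intro q hq
    rw [SetLike.mem_coe, ← hQQ'] at hq
    obtain ⟨q', hq', rfl⟩ := hq
    simp only [MulEquiv.coe_toMonoidHom, MulAut.conj_apply]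
    have h1 := hQc q' hq' w hw
    calc x * q' * x⁻¹ * (x * w * x⁻¹) = x * (q' * w) * x⁻¹ := by group
      _ = x * (w * q') * x⁻¹ := by rw [h1]
      _ = x * w * x⁻¹ * (x * q' * x⁻¹) := by group
  have hD₁ := isDefectGroup_rel hM hBe hPD hle' hPH
  have hD₂ := isDefectGroup_rel hM (isBrauerPairOf_conj x hBe) (isDefectGroup_conj hM hB hPD x)
    hle₂ hP₂H
  obtain ⟨c, hc⟩ := isDefectGroup_conj_of hM hf' hD₁ hD₂
  have hcP : (P.map (MulAut.conj x).toMonoidHom).map (MulAut.conj (c : G)).toMonoidHom = P := by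
    ext g
    constructor
    · rintro ⟨q, hq, rfl⟩
      have h1 : (MulAut.conj c).toMonoidHom (⟨q, hP₂H hq⟩ : Subgroup.centralizer (Q' : Set G)) ∈
          P.subgroupOf (Subgroup.centralizer (Q' : Set G)) := by
        rw [← hc]
        refine ⟨_, ?_, rfl⟩
        show (⟨q, hP₂H hq⟩ : Subgroup.centralizer (Q' : Set G)) ∈
          (P.map (MulAut.conj x).toMonoidHom).subgroupOf (Subgroup.centralizer (Q' : Set G))
        rw [Subgroup.mem_subgroupOf]
        exact hq
      rw [Subgroup.mem_subgroupOf] at h1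
      exact h1
    · intro hg
      have h1 : (⟨g, hPH hg⟩ : Subgroup.centralizer (Q' : Set G)) ∈
          P.subgroupOf (Subgroup.centralizer (Q' : Set G)) := by
        rw [Subgroup.mem_subgroupOf]
        exact hg
      rw [← hc] at h1
      obtain ⟨q', hq', hq'e⟩ := h1
      rw [SetLike.mem_coe, Subgroup.mem_subgroupOf] at hq'
      refine ⟨(q' : G), hq', ?_⟩
      have h2 := congrArg Subtype.val hq'e
      exact h2
  have hzP : P.map (MulAut.conj ((c : G) * x)).toMonoidHom = P := by
    rw [map_conj_mul]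
    exact hcP
  have hzN : (c : G) * x ∈ Subgroup.normalizer (P : Set G) := mem_normalizer_of_map_conj_eq hzP
  have hcQ : conjPair (c : G) ⟨Q', f'⟩ = (⟨Q', f'⟩ : BrauerPairIdx G) :=
    conjPair_eq_self_of_stabilizes hM hf' (Subgroup.centralizer_le_normalizer _ c.2)
      (stabilizesBlock_of_mem _ f' c.2)
  have hzQ : conjPair ((c : G) * x) ⟨Q, f⟩ = (⟨Q', f'⟩ : BrauerPairIdx G) := by
    rw [conjPair_mul, hx, hcQ]
  have hze := conjPair_normalizer hzN e
  have hle'' : SubpairLE p M Q' f' P (conjIrr (Subgroup.centralizer (P : Set G)) ((c : G) * x)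
      (normalizer_le_normalizer_centralizer P hzN) '' e) := by
    have h1 := subpairLE_conj (p := p) (M := M) ((c : G) * x) hle
    unfold SubpairLE at h1 ⊢
    have h2 : Relation.ReflTransGen (NormalSubpairRel p M) (conjPair ((c : G) * x) ⟨Q, f⟩)
        (conjPair ((c : G) * x) ⟨P, e⟩) := h1
    rw [hzQ, hze] at h2
    exact h2
  have hPN : P ≤ Subgroup.normalizer (Q' : Set G) :=
    hPH.trans (Subgroup.centralizer_le_normalizer _)
  have he' := isPBlock_image_conjIrr (Subgroup.centralizer (P : Set G))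
    (normalizer_le_normalizer_centralizer P hzN) hPe.2
  have hsub := isNormalSubpair_of_chain hM hPe hle' hPN
  have hsub' := isNormalSubpair_of_chain hM ⟨hPe.1, he'⟩ hle'' hPN
  obtain ⟨n, hnH, hnP, hne⟩ := exists_conj_rel hM hsub hsub' hPH hD₁
  have hna : conjPair n ⟨P, e⟩ = (⟨P, conjIrr (Subgroup.centralizer (P : Set G)) ((c : G) * x)
      (normalizer_le_normalizer_centralizer P hzN) '' e⟩ : BrauerPairIdx G) := by
    rw [conjPair_normalizer hnP, hne]
  refine ⟨n⁻¹ * (c : G), Subgroup.mul_mem _ (Subgroup.inv_mem _ hnH) c.2, ?_⟩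
  have h5 : n⁻¹ * (c : G) * x = n⁻¹ * ((c : G) * x) := by group
  rw [h5, conjPair_mul, hze, ← hna, ← conjPair_mul, inv_mul_cancel, conjPair_one]

end Fusion

end Cfsg.Agent.Helper23.Blk
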