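import Mathlib
import Cfsg.Agent.Lib.Helper23.BlockContribSum
import Cfsg.Agent.Lib.Helper23.BlockMajorFusion
import Cfsg.Agent.Lib.Helper23.BlockMajorGalois
import Cfsg.Agent.Lib.Helper23.BlockConj3
import Cfsg.Agent.Lib.Helper23.BlockPairs6

/-!
# Brauer's bound for heights through the centre of the defect group (helper23's shared library)

`pow_height_mul_card_center_le`: for a block `B` with maximal pair `(D, e_D)` and inertial group
`T = N_G(D, e_D)`, every `χ ∈ B` satisfies `|Z(D)| p^{h(χ)} ≤ p^d |T : D C_G(D)|`.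
-/

set_option autoImplicit false
set_option linter.unusedSectionVars false
set_option linter.style.haveILetI false

namespace Cfsg.Agent.Helper23.Blk

open Cfsg Cfsg.Agent.Helper24 Cfsg.Agent.Helper18 Cfsg.Agent.Helper18.PairRel
open scoped ComplexConjugate

universe u

section Orbit

variable {G : Type u} [Group G] [Fintype G]

open Classical in
/-- the number of `T`-conjugates of `u₀` is at most `|T : H ∩ T|` when `H ∩ T` centralizes `u₀` -/
theorem card_filter_conj_le_relIndex (T H : Subgroup G) (u₀ : G)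
    (hH : H ⊓ T ≤ Subgroup.centralizer ({u₀} : Set G)) (S : Finset G) :
    (S.filter (fun u => ∃ t ∈ T, t * u * t⁻¹ = u₀)).card ≤ H.relIndex T := by
  haveI : Fintype (T ⧸ H.subgroupOf T) := Fintype.ofFinite _
  have hex : ∀ u : G, ∃ t : T, (∃ t ∈ T, t * u * t⁻¹ = u₀) → (t : G) * u * (t : G)⁻¹ = u₀ := by
    intro u
    by_cases h : ∃ t ∈ T, t * u * t⁻¹ = u₀
    · obtain ⟨t, ht, htu⟩ := h
      exact ⟨⟨t, ht⟩, fun _ => htu⟩
    · exact ⟨1, fun h' => absurd h' h⟩
  choose tf htf using hex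
  have hcard : H.relIndex T = (Finset.univ : Finset (T ⧸ H.subgroupOf T)).card := by
    rw [Finset.card_univ, ← Nat.card_eq_fintype_card]
    rfl
  rw [hcard]
  apply Finset.card_le_card_of_injOn (fun u => (QuotientGroup.mk (tf u)⁻¹ : T ⧸ H.subgroupOf T))
  · intro u _
    exact Finset.mem_univ _
  · intro u hu v hv huv
    rw [Finset.mem_coe, Finset.mem_filter] at hu hv
    have hu' := htf u hu.2
    have hv' := htf v hv.2
    have h1 : ((tf u)⁻¹)⁻¹ * (tf v)⁻¹ ∈ H.subgroupOf T := QuotientGroup.eq.1 huv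
    rw [inv_inv, Subgroup.mem_subgroupOf] at h1
    have h2 : ((tf u * (tf v)⁻¹ : T) : G) ∈ H ⊓ T := ⟨h1, (tf u * (tf v)⁻¹).2⟩
    have h3 := Subgroup.mem_centralizer_iff.1 (hH h2) u₀ (Set.mem_singleton u₀)
    push_cast at h3
    have e1 : u = (tf u : G)⁻¹ * u₀ * (tf u : G) := by rw [← hu']; group
    have e2 : v = (tf v : G)⁻¹ * u₀ * (tf v : G) := by rw [← hv']; group
    rw [e1, e2]
    calc (tf u : G)⁻¹ * u₀ * (tf u : G)
        = (tf u : G)⁻¹ * (u₀ * ((tf u : G) * (tf v : G)⁻¹)) * (tf v : G) := by group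
      _ = (tf u : G)⁻¹ * (((tf u : G) * (tf v : G)⁻¹) * u₀) * (tf v : G) := by rw [h3]
      _ = (tf v : G)⁻¹ * u₀ * (tf v : G) := by group

end Orbit

section Pairs

variable {G : Type u} [Group G] [Fintype G] {M : Ideal AlgInt} {p : ℕ}

theorem zpowers_commute {u : G} {D : Subgroup G} (huc : ∀ w ∈ D, u * w = w * u) :
    ∀ q ∈ Subgroup.zpowers u, ∀ w ∈ D, q * w = w * q := by
  intro q hq w hw
  obtain ⟨n, rfl⟩ := Subgroup.mem_zpowers_iff.1 hq
  have hc : Commute u w := huc w hw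
  exact hc.zpow_left n

/-- a family of subpairs `(⟨u⟩, f_u)` of `(D, e_D)` -/
theorem exists_pair_family (hM : IsPModular p M) [Fact p.Prime] {D : Subgroup G}
    {eD : Set (IrrCharacter (Subgroup.centralizer (D : Set G)))} (hPe : IsBrauerPair p M D eD) :
    ∃ a : G → BrauerPairIdx G, ∀ u ∈ D,
      ∃ f : Set (IrrCharacter (Subgroup.centralizer ((Subgroup.zpowers u : Subgroup G) : Set G))),
        a u = ⟨Subgroup.zpowers u, f⟩ ∧ IsPBlock M f ∧
          SubpairLE p M (Subgroup.zpowers u) f D eD := by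
  classical
  have hex : ∀ u : G, ∃ b : BrauerPairIdx G, u ∈ D →
      ∃ f : Set (IrrCharacter (Subgroup.centralizer ((Subgroup.zpowers u : Subgroup G) : Set G))),
        b = ⟨Subgroup.zpowers u, f⟩ ∧ IsPBlock M f ∧
          SubpairLE p M (Subgroup.zpowers u) f D eD := by
    intro u
    by_cases hu : u ∈ D
    · have hle : Subgroup.zpowers u ≤ D := (Subgroup.zpowers_le).2 hu
      obtain ⟨f, hf, hfle⟩ := exists_subpairLE hM _ D (Subgroup.zpowers u) eD hPe hle rfl
      exact ⟨⟨Subgroup.zpowers u, f⟩, fun _ => ⟨f, rfl, hf, hfle⟩⟩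
    · exact ⟨⟨⊥, ∅⟩, fun h => absurd h hu⟩
  choose a ha using hex
  exact ⟨a, ha⟩

theorem pair_eq_of_subpairLE (hM : IsPModular p M) [Fact p.Prime] {D : Subgroup G}
    {eD : Set (IrrCharacter (Subgroup.centralizer (D : Set G)))} (hPe : IsBrauerPair p M D eD)
    {Q Q' : Subgroup G} (h : Q = Q')
    {f : Set (IrrCharacter (Subgroup.centralizer (Q : Set G)))}
    {f' : Set (IrrCharacter (Subgroup.centralizer (Q' : Set G)))}
    (hf : SubpairLE p M Q f D eD) (hf' : SubpairLE p M Q' f' D eD) :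
    (⟨Q, f⟩ : BrauerPairIdx G) = ⟨Q', f'⟩ := by
  subst h
  rw [subpairLE_unique hM _ D Q eD hPe rfl f f' hf hf']

theorem isInducedBlock_of_omega_gen (hM : IsPModular p M) {B : Set (IrrCharacter G)}
    (hB : IsPBlock M B) {u : G} (hu : ∃ k : ℕ, orderOf u = p ^ k) (K : Subgroup G)
    (hK : K = Subgroup.centralizer ({u} : Set G)) (e : Set (IrrCharacter K))
    (he : IsPBlock M e)
    (hom : ∀ ξ ∈ e, MemLocalIdeal M
      ((∑ᶠ x : K, blockCoeff B x * (ξ : K → ℂ) x / (ξ : K → ℂ) 1) - 1)) :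
    IsInducedBlock M K e B := by
  subst hK
  letI : Fintype (Subgroup.centralizer ({u} : Set G)) := Fintype.ofFinite _
  exact isInducedBlock_of_omega hM hu hB he (by
    intro ξ hξ
    have h1 := hom ξ hξ
    rw [finsum_eq_sum_of_fintype, ← Finset.sum_div] at h1
    exact h1)

/-- the subsections `(u, f_u)`, `u ∈ Z(D)`, are major -/
theorem major_of_subpairLE_center (hM : IsPModular p M) [Fact p.Prime]
    {B : Set (IrrCharacter G)} {D : Subgroup G}
    {eD : Set (IrrCharacter (Subgroup.centralizer (D : Set G)))}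
    (hBe : IsBrauerPairOf p M B D eD) (hPD : IsDefectGroup p M B D) {u : G} (huD : u ∈ D)
    (huc : ∀ w ∈ D, u * w = w * u)
    {f : Set (IrrCharacter (Subgroup.centralizer ((Subgroup.zpowers u : Subgroup G) : Set G)))}
    (hle : SubpairLE p M (Subgroup.zpowers u) f D eD) :
    IsInducedBlock M (Subgroup.centralizer ((Subgroup.zpowers u : Subgroup G) : Set G)) f B ∧
      blockDefect p f = blockDefect p B := by
  classical
  have hp : p.Prime := hM.1
  have hB : IsPBlock M B := hBe.2.1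
  have hBf := isBrauerPairOf_of_subpairLE_down hM hle hBe
  have hf : IsPBlock M f := hBf.1.2
  have hDp : IsPGroup p D := isPGroup_of_isDefectGroup hM hPD
  have hu : ∃ k : ℕ, orderOf u = p ^ k := by
    obtain ⟨k, hk⟩ := (IsPGroup.iff_orderOf.1 hDp) ⟨u, huD⟩
    exact ⟨k, by rw [← hk, Subgroup.orderOf_mk]⟩
  have hind := isInducedBlock_of_omega_gen hM hB hu _ (centralizer_zpowers u) f hf hBf.2.2
  refine ⟨hind, ?_⟩
  have hPH : D ≤ Subgroup.centralizer ((Subgroup.zpowers u : Subgroup G) : Set G) := by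
    intro w hw
    rw [Subgroup.mem_centralizer_iff]
    intro q hq
    exact zpowers_commute huc q hq w hw
  have hD₁ := isDefectGroup_rel hM hBe hPD hle hPH
  have h1 := card_defectGroup hM hf hD₁
  have h2 := card_defectGroup hM hB hPD
  have h3 : Nat.card (D.subgroupOf
      (Subgroup.centralizer ((Subgroup.zpowers u : Subgroup G) : Set G))) = Nat.card D :=
    Nat.card_congr (Subgroup.subgroupOfEquivOfLe hPH).toEquiv
  rw [h3, h2] at h1
  exact (Nat.pow_right_injective hp.two_le h1).symm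

open Classical in
/-- the number of `u ∈ Z(D)` whose subsection is conjugate to a given one is at most the
inertial index -/
theorem card_fusion_le (hM : IsPModular p M) [Fact p.Prime] {B : Set (IrrCharacter G)}
    {D : Subgroup G} {eD : Set (IrrCharacter (Subgroup.centralizer (D : Set G)))}
    (hBe : IsBrauerPairOf p M B D eD) (hPD : IsDefectGroup p M B D) (T : Subgroup G)
    (hTe : ∀ g : G, g ∈ T ↔ g ∈ Subgroup.normalizer (D : Set G) ∧
      StabilizesBlock (Subgroup.centralizer (D : Set G)) eD g)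
    (H : Subgroup G) (hH : H = D ⊔ Subgroup.centralizer (D : Set G))
    (a : G → BrauerPairIdx G)
    (ha : ∀ u ∈ D,
      ∃ f : Set (IrrCharacter (Subgroup.centralizer ((Subgroup.zpowers u : Subgroup G) : Set G))),
        a u = ⟨Subgroup.zpowers u, f⟩ ∧ IsPBlock M f ∧
          SubpairLE p M (Subgroup.zpowers u) f D eD)
    (S : Finset G) (hS : ∀ u ∈ S, u ∈ D ∧ ∀ w ∈ D, u * w = w * u) (u₀ : G) (hu₀ : u₀ ∈ S) :
    (S.filter (fun u => ∃ x : G, x * u * x⁻¹ = u₀ ∧ conjPair x (a u) = a u₀)).card ≤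
      H.relIndex T := by
  have hsub : S.filter (fun u => ∃ x : G, x * u * x⁻¹ = u₀ ∧ conjPair x (a u) = a u₀) ⊆
      S.filter (fun u => ∃ t ∈ T, t * u * t⁻¹ = u₀) := by
    intro u hu
    rw [Finset.mem_filter] at hu ⊢
    obtain ⟨huS, x, hxu, hxa⟩ := hu
    refine ⟨huS, ?_⟩
    obtain ⟨f, haf, -, hle⟩ := ha u (hS u huS).1
    obtain ⟨f₀, haf₀, -, hle₀⟩ := ha u₀ (hS u₀ hu₀).1
    rw [haf, haf₀] at hxa
    obtain ⟨c, hc, hcx⟩ := frattini_pairs_central hM hBe hPD
      (zpowers_commute (hS u huS).2) (zpowers_commute (hS u₀ hu₀).2) hle hle₀ hxa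
    obtain ⟨hN, hst⟩ := stabilizes_of_conjPair_eq_self hcx
    refine ⟨c * x, (hTe _).2 ⟨hN, hst⟩, ?_⟩
    have hcu : u₀ * c = c * u₀ :=
      Subgroup.mem_centralizer_iff.1 hc u₀ (Subgroup.mem_zpowers u₀)
    calc c * x * u * (c * x)⁻¹ = c * (x * u * x⁻¹) * c⁻¹ := by group
      _ = c * u₀ * c⁻¹ := by rw [hxu]
      _ = u₀ * c * c⁻¹ := by rw [hcu]
      _ = u₀ := by group
  refine (Finset.card_le_card hsub).trans ?_
  apply card_filter_conj_le_relIndex
  refine inf_le_left.trans ?_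
  rw [hH]
  apply sup_le
  · intro w hw
    rw [Subgroup.mem_centralizer_iff]
    intro h hh
    rw [Set.mem_singleton_iff] at hh
    rw [hh]
    exact (hS u₀ hu₀).2 w hw
  · apply Subgroup.centralizer_le
    intro h hh
    rw [Set.mem_singleton_iff] at hh
    rw [hh]
    exact (hS u₀ hu₀).1

end Pairs

section Main

variable {G : Type u} [Group G] [Fintype G] {M : Ideal AlgInt} {p : ℕ}

theorem zpowers_pow_eq_of_coprime {K : Type*} [Group K] {g : K} {k : ℕ}
    (hk : Nat.Coprime k (orderOf g)) : Subgroup.zpowers (g ^ k) = Subgroup.zpowers g := by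
  obtain ⟨m, hm⟩ := exists_pow_eq_self_of_coprime hk
  apply le_antisymm
  · rw [Subgroup.zpowers_le]
    exact Subgroup.pow_mem _ (Subgroup.mem_zpowers g) k
  · rw [Subgroup.zpowers_le]
    have h1 : (g ^ k) ^ m ∈ Subgroup.zpowers (g ^ k) :=
      Subgroup.pow_mem _ (Subgroup.mem_zpowers (g ^ k)) m
    rwa [hm] at h1

open Classical in
set_option maxHeartbeats 3200000 in
/-- **Brauer's bound**: `|Z(D)| p^{h(χ)} ≤ p^d e(B)`. -/
theorem card_center_mul_pow_height_le (hM : IsPModular p M) [Fact p.Prime]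
    {B : Set (IrrCharacter G)} {D : Subgroup G}
    {eD : Set (IrrCharacter (Subgroup.centralizer (D : Set G)))}
    (hBe : IsBrauerPairOf p M B D eD) (hPD : IsDefectGroup p M B D) (T : Subgroup G)
    (hTe : ∀ g : G, g ∈ T ↔ g ∈ Subgroup.normalizer (D : Set G) ∧
      StabilizesBlock (Subgroup.centralizer (D : Set G)) eD g)
    (H : Subgroup G) (hH : H = D ⊔ Subgroup.centralizer (D : Set G))
    {χ : IrrCharacter G} (hχ : χ ∈ B) :
    Nat.card (Subgroup.center D) * p ^ blockHeight p B (χ : G → ℂ) ≤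
      p ^ blockDefect p B * H.relIndex T := by
  haveI hMp : M.IsPrime := hM.2.1.isPrime
  have hp : p.Prime := hM.1
  have hB : IsPBlock M B := hBe.2.1
  have hPe : IsBrauerPair p M D eD := hBe.1
  obtain ⟨ψ₀, hψ₀, hmin⟩ := exists_min_degree (p := p) (block_nonempty hM hB)
  have hh : blockHeight p B (ψ₀ : G → ℂ) = 0 := by
    rw [blockHeight_eq_sub_minVal]
    apply Nat.sub_eq_zero_of_le
    apply le_csInf
    · exact ⟨_, ψ₀, hψ₀, rfl⟩
    · rintro _ ⟨ψ, hψ, rfl⟩
      exact hmin ψ hψ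
  have hcardD : Nat.card D = p ^ blockDefect p B := card_defectGroup hM hB hPD
  set Z : Subgroup G := (Subgroup.center D).map D.subtype with hZ
  have hZD : ∀ u ∈ Z, u ∈ D ∧ ∀ w ∈ D, u * w = w * u := by
    rintro _ ⟨z, hz, rfl⟩
    refine ⟨z.2, fun w hw => ?_⟩
    have h1 := Subgroup.mem_center_iff.1 hz ⟨w, hw⟩
    have h2 := congrArg Subtype.val h1
    push_cast at h2
    exact h2.symm
  have hZleD : Z ≤ D := Subgroup.map_subtype_le _
  have hcardZ : Nat.card Z = Nat.card (Subgroup.center D) :=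
    Subgroup.card_map_of_injective (Subgroup.subtype_injective D)
  set S : Finset G := Finset.univ.filter (· ∈ Z) with hSdef
  have hSmem : ∀ u, u ∈ S ↔ u ∈ Z := by
    intro u
    simp [hSdef]
  obtain ⟨a, ha⟩ := exists_pair_family hM hPe
  have hDp : IsPGroup p D := isPGroup_of_isDefectGroup hM hPD
  have hSp : ∀ u ∈ S, ∃ k : ℕ, orderOf u = p ^ k := by
    intro u hu
    obtain ⟨k, hk⟩ := (IsPGroup.iff_orderOf.1 hDp) ⟨u, (hZD u ((hSmem u).1 hu)).1⟩
    exact ⟨k, by rw [← hk, Subgroup.orderOf_mk]⟩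
  have ha1 : ∀ u ∈ S, (a u).1 = Subgroup.zpowers u := by
    intro u hu
    obtain ⟨f, hf, -, -⟩ := ha u (hZD u ((hSmem u).1 hu)).1
    rw [hf]
  have ha2 : ∀ u ∈ S, IsPBlock M (a u).2 := by
    intro u hu
    obtain ⟨f, hf, hfb, -⟩ := ha u (hZD u ((hSmem u).1 hu)).1
    rw [hf]
    exact hfb
  have hfus : ∀ u₀ ∈ S, (S.filter
      (fun u => ∃ x : G, x * u * x⁻¹ = u₀ ∧ conjPair x (a u) = a u₀)).card ≤ H.relIndex T :=
    fun u₀ hu₀ => card_fusion_le hM hBe hPD T hTe H hH a ha S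
      (fun u hu => hZD u ((hSmem u).1 hu)) u₀ hu₀
  have hsum1 := sum_contribIdx_self_le hM ψ₀ S a (H.relIndex T) hSp ha1 ha2 hfus
  have hsum2 := sum_contribIdx_self_le hM χ S a (H.relIndex T) hSp ha1 ha2 hfus
  have hnorm : ∀ u ∈ S, ‖contribIdx p u (a u) (ψ₀ : G → ℂ) (χ : G → ℂ)‖ ≤
      ((contribIdx p u (a u) (ψ₀ : G → ℂ) (ψ₀ : G → ℂ)).re +
        (contribIdx p u (a u) (χ : G → ℂ) (χ : G → ℂ)).re) / 2 := by
    intro u hu
    obtain ⟨f, hf, -, -⟩ := ha u (hZD u ((hSmem u).1 hu)).1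
    haveI : Fintype (Subgroup.centralizer ((Subgroup.zpowers u : Subgroup G) : Set G)) :=
      Fintype.ofFinite _
    rw [hf, contribIdx_mk, contribIdx_mk, contribIdx_mk, contrib_self_eq_pNorm,
      contrib_self_eq_pNorm, Complex.ofReal_re, Complex.ofReal_re]
    exact norm_contrib_le _ _ _ _ _
  have hsum : ∑ u ∈ S, ‖contribIdx p u (a u) (ψ₀ : G → ℂ) (χ : G → ℂ)‖ ≤
      (H.relIndex T : ℝ) := by
    calc ∑ u ∈ S, ‖contribIdx p u (a u) (ψ₀ : G → ℂ) (χ : G → ℂ)‖
        ≤ ∑ u ∈ S, ((contribIdx p u (a u) (ψ₀ : G → ℂ) (ψ₀ : G → ℂ)).re +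
          (contribIdx p u (a u) (χ : G → ℂ) (χ : G → ℂ)).re) / 2 := Finset.sum_le_sum hnorm
      _ = (∑ u ∈ S, (contribIdx p u (a u) (ψ₀ : G → ℂ) (ψ₀ : G → ℂ)).re +
          ∑ u ∈ S, (contribIdx p u (a u) (χ : G → ℂ) (χ : G → ℂ)).re) / 2 := by
          rw [← Finset.sum_div, Finset.sum_add_distrib]
      _ ≤ (H.relIndex T : ℝ) := by linarith
  set J := (Finset.range (p ^ blockDefect p B)).filter
    (fun k => Nat.Coprime k (p ^ blockDefect p B)) with hJ
  have hgal : ∀ u ∈ S, (J.card : ℝ) * (p : ℝ) ^ blockHeight p B (χ : G → ℂ) ≤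
      ∑ k ∈ J, (p : ℝ) ^ blockDefect p B *
        ‖contribIdx p (u ^ k) (a (u ^ k)) (ψ₀ : G → ℂ) (χ : G → ℂ)‖ := by
    intro u hu
    obtain ⟨huD, huc⟩ := hZD u ((hSmem u).1 hu)
    obtain ⟨f, hf, hfb, hle⟩ := ha u huD
    haveI : Fintype (Subgroup.centralizer ((Subgroup.zpowers u : Subgroup G) : Set G)) :=
      Fintype.ofFinite _
    obtain ⟨hind, hdef⟩ := major_of_subpairLE_center hM hBe hPD huD huc hle
    have hord : orderOf u ∣ p ^ blockDefect p B := by
      rw [← hcardD]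
      have := orderOf_dvd_natCard (⟨u, huD⟩ : D)
      rwa [Subgroup.orderOf_mk] at this
    have key := card_mul_pow_le_sum_norm_contrib hM hord hind hdef hψ₀ hχ hh
    refine key.trans (le_of_eq ?_)
    apply Finset.sum_congr rfl
    intro k hk
    have hkc : Nat.Coprime k (orderOf u) :=
      Nat.Coprime.coprime_dvd_right hord (Finset.mem_filter.1 hk).2
    have hukD : u ^ k ∈ D := Subgroup.pow_mem _ huD k
    obtain ⟨f', hf', -, hle'⟩ := ha (u ^ k) hukD
    have hpair : a (u ^ k) = a u := by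
      rw [hf', hf]
      exact pair_eq_of_subpairLE hM hPe (zpowers_pow_eq_of_coprime hkc) hle' hle
    rw [hpair, hf, contribIdx_mk]
  have hreindex : ∀ k ∈ J,
      ∑ u ∈ S, ‖contribIdx p (u ^ k) (a (u ^ k)) (ψ₀ : G → ℂ) (χ : G → ℂ)‖ =
      ∑ u ∈ S, ‖contribIdx p u (a u) (ψ₀ : G → ℂ) (χ : G → ℂ)‖ := by
    intro k hk
    have hcop : (Nat.card Z).Coprime k := by
      have h1 : Nat.card Z ∣ p ^ blockDefect p B := by
        rw [← hcardD]
        exact Subgroup.card_dvd_of_le hZleD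
      exact (Nat.Coprime.coprime_dvd_right h1 (Finset.mem_filter.1 hk).2).symm
    rw [Finset.sum_subtype S hSmem, Finset.sum_subtype S hSmem]
    exact Fintype.sum_equiv (powCoprime hcop) _ _ (fun u => rfl)
  have hJpos : 0 < J.card := by
    rw [Finset.card_pos]
    have hn : 0 < p ^ blockDefect p B := pow_pos hp.pos _
    by_cases h1 : p ^ blockDefect p B = 1
    · refine ⟨0, Finset.mem_filter.2 ⟨Finset.mem_range.2 hn, ?_⟩⟩
      rw [h1]
      exact Nat.coprime_one_right 0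
    · refine ⟨1, Finset.mem_filter.2 ⟨Finset.mem_range.2 (by omega), Nat.coprime_one_left _⟩⟩
  have h1 : (S.card : ℝ) * ((J.card : ℝ) * (p : ℝ) ^ blockHeight p B (χ : G → ℂ)) ≤
      ∑ u ∈ S, ∑ k ∈ J, (p : ℝ) ^ blockDefect p B *
        ‖contribIdx p (u ^ k) (a (u ^ k)) (ψ₀ : G → ℂ) (χ : G → ℂ)‖ := by
    rw [← nsmul_eq_mul, ← Finset.sum_const]
    exact Finset.sum_le_sum hgal
  have h2 : ∑ u ∈ S, ∑ k ∈ J, (p : ℝ) ^ blockDefect p B *
        ‖contribIdx p (u ^ k) (a (u ^ k)) (ψ₀ : G → ℂ) (χ : G → ℂ)‖ =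
      (J.card : ℝ) * ((p : ℝ) ^ blockDefect p B *
        ∑ u ∈ S, ‖contribIdx p u (a u) (ψ₀ : G → ℂ) (χ : G → ℂ)‖) := by
    rw [Finset.sum_comm]
    simp_rw [← Finset.mul_sum]
    rw [Finset.sum_congr rfl (fun k hk => by rw [hreindex k hk]), Finset.sum_const, nsmul_eq_mul]
    ring
  have hScard : S.card = Nat.card Z := by
    rw [Nat.card_eq_fintype_card, Fintype.card_subtype]
  have hJr : (0 : ℝ) < (J.card : ℝ) := by exact_mod_cast hJpos
  have hpd : (0 : ℝ) < (p : ℝ) ^ blockDefect p B := by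
    have : (0 : ℝ) < (p : ℝ) := by exact_mod_cast hp.pos
    positivity
  have h3 : (J.card : ℝ) * ((Nat.card Z : ℝ) * (p : ℝ) ^ blockHeight p B (χ : G → ℂ)) ≤
      (J.card : ℝ) * ((p : ℝ) ^ blockDefect p B * (H.relIndex T : ℝ)) := by
    calc (J.card : ℝ) * ((Nat.card Z : ℝ) * (p : ℝ) ^ blockHeight p B (χ : G → ℂ))
        = (S.card : ℝ) * ((J.card : ℝ) * (p : ℝ) ^ blockHeight p B (χ : G → ℂ)) := by
          rw [hScard]
          ring
      _ ≤ _ := h1
      _ = _ := h2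
      _ ≤ _ := by
          apply mul_le_mul_of_nonneg_left _ hJr.le
          exact mul_le_mul_of_nonneg_left hsum hpd.le
  have h4 := le_of_mul_le_mul_left h3 hJr
  rw [← hcardZ]
  exact_mod_cast h4

end Main

end Cfsg.Agent.Helper23.Blk
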