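import Mathlib
import Cfsg.Agent.Lib.Helper23.BlockFR3
import Cfsg.Agent.Lib.Helper23.BlockConj2
import Cfsg.Agent.Lib.Helper23.BlockDefectGroup2

/-!
# Existence of Brauer pairs on a defect group (helper23's shared library)

`exists_isBrauerPairOf_of_isDefectGroup`: a block `B` with defect group `D` has a Brauer pair
`(D, e)` without proper normal superpairs.
-/

set_option autoImplicit false
set_option linter.unusedSectionVars false
set_option linter.style.haveILetI false

namespace Cfsg.Agent.Helper23.Blk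

open Cfsg Cfsg.Agent.Helper24

universe u

section PairExists

variable {G : Type u} [Group G] [Fintype G] {M : Ideal AlgInt} {p : ℕ}

theorem centralizer_bot_eq_top : Subgroup.centralizer (((⊥ : Subgroup G)) : Set G) = ⊤ := by
  rw [Subgroup.centralizer_eq_top_iff_subset]
  intro g hg
  have : g = 1 := by simpa using hg
  rw [this]
  exact Subgroup.one_mem _

/-- the isomorphism `C_G(1) ≃* G` -/
noncomputable def centBotEquiv : Subgroup.centralizer (((⊥ : Subgroup G)) : Set G) ≃* G :=
  (MulEquiv.subgroupCongr centralizer_bot_eq_top).trans Subgroup.topEquiv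

theorem centBotEquiv_apply (x : Subgroup.centralizer (((⊥ : Subgroup G)) : Set G)) :
    centBotEquiv x = (x : G) := rfl

/-- every block has a Brauer pair on the trivial subgroup -/
theorem exists_isBrauerPairOf_bot (hM : IsPModular p M) {B : Set (IrrCharacter G)}
    (hB : IsPBlock M B) :
    ∃ e : Set (IrrCharacter (Subgroup.centralizer (((⊥ : Subgroup G)) : Set G))),
      IsBrauerPairOf p M B ⊥ e := by
  classical
  haveI hMp : M.IsPrime := hM.2.1.isPrime
  haveI : Fact p.Prime := ⟨hM.1⟩
  letI : Fintype (IrrCharacter G) := irrFintype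
  haveI : Fintype (Subgroup.centralizer (((⊥ : Subgroup G)) : Set G)) := Fintype.ofFinite _
  obtain ⟨χ, hχ⟩ := block_nonempty hM hB
  have hBχ : B = blockOf M (χ : G → ℂ) := by
    obtain ⟨χ₀, rfl⟩ := hB
    exact (blockOf_eq_of_mem hχ).symm
  refine ⟨irrComp centBotEquiv '' B, ⟨IsPGroup.of_bot, isPBlock_image_irrComp _ hB⟩, hB, ?_⟩
  rintro _ ⟨ψ, hψ, rfl⟩
  have h1 : brauerOmega (⊥ : Subgroup G) (blockCoeff B)
      (irrComp centBotEquiv ψ : Subgroup.centralizer (((⊥ : Subgroup G)) : Set G) → ℂ) =
      omega (ψ : G → ℂ) (blockCoeff B) := by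
    unfold brauerOmega omega
    rw [finsum_eq_sum_of_fintype, Finset.sum_div]
    rw [← Equiv.sum_comp (centBotEquiv (G := G)).toEquiv]
    apply Finset.sum_congr rfl
    intro x _
    rw [irrComp_apply, irrComp_apply, map_one]
    rfl
  rw [h1, omega_blockCoeff, if_pos hψ, sub_self]
  exact memLocalIdeal_zero ne_top

/-- **a block with defect group `D` has a Brauer pair on `D`** -/
theorem exists_isBrauerPairOf_of_isDefectGroup (hM : IsPModular p M) [Fact p.Prime]
    {B : Set (IrrCharacter G)} (hB : IsPBlock M B) {D : Subgroup G}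
    (hD : IsDefectGroup p M B D) :
    ∃ e : Set (IrrCharacter (Subgroup.centralizer (D : Set G))), IsBrauerPairOf p M B D e := by
  obtain ⟨e₀, he₀⟩ := exists_isBrauerPairOf_bot (p := p) hM hB
  obtain ⟨R, g, hle, hmax⟩ := exists_maximal_above (p := p) (M := M) _ (⊥ : Subgroup G) e₀ rfl
  have hBR : IsBrauerPairOf p M B R g :=
    isBrauerPairOf_of_subpairLE hM (a := ⟨⊥, e₀⟩) (b := ⟨R, g⟩) hle he₀
  have hRD : IsDefectGroup p M B R := isDefectGroup_of_no_proper_superpair hM hBR hmax
  obtain ⟨c, rfl⟩ := isDefectGroup_conj_of hM hB hD hRD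
  exact ⟨_, isBrauerPairOf_conj c hBR⟩

end PairExists

end Cfsg.Agent.Helper23.Blk
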