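import Mathlib
import Cfsg.Agent.Lib.Helper23.BlockMajorHeight
import Cfsg.Agent.Lib.Helper23.BlockPairExists
import Cfsg.Agent.Lib.Helper18.PairRel2
import Cfsg.Agent.Lib.Helper18.PairAct

/-!
# Fusion of subsections into a maximal Brauer pair (helper23's shared library)

Every `B`-subsection `(z, b)` is conjugate to a subsection `(u, f_u)` with
`(⟨u⟩, f_u) ≤ (P, c)`, for a maximal `B`-Brauer pair `(P, c)`.
-/

set_option autoImplicit false
set_option linter.unusedSectionVars false
set_option linter.style.haveILetI false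

namespace Cfsg.Agent.Helper23.Blk

open Cfsg Cfsg.Agent.Helper24 Cfsg.Agent.Helper18 Cfsg.Agent.Helper18.PairRel

universe u

section Fusion

variable {G : Type u} [Group G] [Fintype G] {M : Ideal AlgInt} {p : ℕ}

theorem isMaximalBrauerPair_of_isDefectGroup (hM : IsPModular p M) [Fact p.Prime]
    {B : Set (IrrCharacter G)} {P : Subgroup G}
    {c : Set (IrrCharacter (Subgroup.centralizer (P : Set G)))}
    (hBe : IsBrauerPairOf p M B P c) (hPD : IsDefectGroup p M B P) :
    IsMaximalBrauerPair p M B P c := by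
  refine ⟨hBe, ?_⟩
  intro R g hRg hle
  have hcard := card_le_of_subConj (subConj_of_isBrauerPairOf hM hRg hPD)
  exact (Subgroup.eq_of_le_of_card_ge (chain_le hle) hcard).symm

/-- a pair below `(D, e_D)` is determined by its subgroup -/
theorem pair_eq_of_reflTransGen (hM : IsPModular p M) [Fact p.Prime] {D : Subgroup G}
    {eD : Set (IrrCharacter (Subgroup.centralizer (D : Set G)))} (hPe : IsBrauerPair p M D eD)
    {a : BrauerPairIdx G} {Q : Subgroup G} (h : a.1 = Q)
    {f : Set (IrrCharacter (Subgroup.centralizer (Q : Set G)))}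
    (ha : Relation.ReflTransGen (NormalSubpairRel p M) a ⟨D, eD⟩)
    (hf : SubpairLE p M Q f D eD) : a = ⟨Q, f⟩ := by
  obtain ⟨Q', f'⟩ := a
  simp only at h
  subst h
  exact pair_eq_of_subpairLE hM hPe rfl ha hf

/-- conjugation by an element fixing `(P, c)` preserves the pairs below `(P, c)` -/
theorem reflTransGen_conjPair_of_fix {a : BrauerPairIdx G} {P : Subgroup G}
    {c : Set (IrrCharacter (Subgroup.centralizer (P : Set G)))} {t : G}
    (ht : conjPair t ⟨P, c⟩ = (⟨P, c⟩ : BrauerPairIdx G))
    (h : Relation.ReflTransGen (NormalSubpairRel p M) a ⟨P, c⟩) :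
    Relation.ReflTransGen (NormalSubpairRel p M) (conjPair t a) ⟨P, c⟩ := by
  have h1 : Relation.ReflTransGen (NormalSubpairRel p M) (conjPair t a)
      (conjPair t ⟨P, c⟩) :=
    Relation.ReflTransGen.lift (p := NormalSubpairRel p M) (conjPair t)
      (fun _ _ hab => isNormalSubpair_conj t hab) _ _ h
  rwa [ht] at h1

/-- **every `B`-subsection is conjugate below a maximal `B`-pair** -/
theorem exists_conj_reflTransGen_of_isInducedBlock (hM : IsPModular p M) [Fact p.Prime]
    {B : Set (IrrCharacter G)} {P : Subgroup G}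
    {c : Set (IrrCharacter (Subgroup.centralizer (P : Set G)))}
    (hBe : IsBrauerPairOf p M B P c) (hPD : IsDefectGroup p M B P) {z : G}
    (hz : ∃ k : ℕ, orderOf z = p ^ k)
    {b : Set (IrrCharacter (Subgroup.centralizer ((Subgroup.zpowers z : Subgroup G) : Set G)))}
    (hb : IsInducedBlock M (Subgroup.centralizer ((Subgroup.zpowers z : Subgroup G) : Set G)) b B) :
    ∃ x : G, Relation.ReflTransGen (NormalSubpairRel p M)
      (conjPair x ⟨Subgroup.zpowers z, b⟩) ⟨P, c⟩ := by
  have hmax := isMaximalBrauerPair_of_isDefectGroup hM hBe hPD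
  have hQf : IsBrauerPairOf p M B (Subgroup.zpowers z) b :=
    isBrauerPairOf_of_isInducedBlock hM (isPGroup_zpowers hz) hb
  obtain ⟨x, hx⟩ := exists_conj_subpairLE_of_maximal hM hmax hQf
  exact ⟨x, hx⟩

theorem map_conj_zpowers (x z : G) :
    (Subgroup.zpowers z).map (MulAut.conj x).toMonoidHom = Subgroup.zpowers (x * z * x⁻¹) := by
  rw [MonoidHom.map_zpowers]
  rfl

/-- a `p`-element with a `B`-subsection is conjugate into the defect group -/
theorem exists_conj_mem_of_isInducedBlock (hM : IsPModular p M) [Fact p.Prime]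
    {B : Set (IrrCharacter G)} {P : Subgroup G}
    {c : Set (IrrCharacter (Subgroup.centralizer (P : Set G)))}
    (hBe : IsBrauerPairOf p M B P c) (hPD : IsDefectGroup p M B P) {z : G}
    (hz : ∃ k : ℕ, orderOf z = p ^ k) (K : Subgroup G)
    (hK : K = Subgroup.centralizer ((Subgroup.zpowers z : Subgroup G) : Set G))
    {b : Set (IrrCharacter K)} (hb : IsInducedBlock M K b B) : ∃ x : G, x * z * x⁻¹ ∈ P := by
  subst hK
  obtain ⟨x, hx⟩ := exists_conj_reflTransGen_of_isInducedBlock hM hBe hPD hz hb
  refine ⟨x, ?_⟩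
  have h1 : (Subgroup.zpowers z).map (MulAut.conj x).toMonoidHom ≤ P := chain_le hx
  rw [map_conj_zpowers] at h1
  exact h1 (Subgroup.mem_zpowers _)

end Fusion

end Cfsg.Agent.Helper23.Blk
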