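import Mathlib
import Cfsg.Prelude.Def_BlockFusion
import Cfsg.Agent.Lib.Helper23.BlockFusion1
import Cfsg.Agent.Lib.Helper23.BlockPairFusion

/-!
# Construction of the fusion system of a block on a maximal Brauer pair
(helper23's shared library)
-/

set_option autoImplicit false
set_option linter.unusedSectionVars false
set_option linter.style.haveILetI false

namespace Cfsg.Agent.Helper23.Blk

open Cfsg Cfsg.Agent.Helper24 Cfsg.Agent.Helper18 Cfsg.Agent.Helper18.PairRel

universe u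

section Construct

variable {G : Type u} [Group G] [Fintype G] {M : Ideal AlgInt} {p : ℕ}

/-- elements of `P` fix the pair `(P, e)` -/
theorem conjPair_self_of_mem (hM : IsPModular p M) {P : Subgroup G}
    {e : Set (IrrCharacter (Subgroup.centralizer (P : Set G)))} (he : IsPBlock M e) {g : G}
    (hg : g ∈ P) : conjPair g ⟨P, e⟩ = (⟨P, e⟩ : BrauerPairIdx G) :=
  conjPair_eq_self_of_stabilizes hM he (Subgroup.le_normalizer hg)
    (stabilizesBlock_of_commute P e hg)

/-- below `(P, e)`, the pair on a smaller subgroup lies below the pair on a bigger one -/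
theorem subpairLE_of_le (hM : IsPModular p M) [Fact p.Prime] {P Q Q' : Subgroup G}
    {e : Set (IrrCharacter (Subgroup.centralizer (P : Set G)))}
    {f : Set (IrrCharacter (Subgroup.centralizer (Q : Set G)))}
    {f' : Set (IrrCharacter (Subgroup.centralizer (Q' : Set G)))}
    (hPe : IsBrauerPair p M P e)
    (hle : SubpairLE p M Q f P e) (hle' : SubpairLE p M Q' f' P e) (hQQ' : Q ≤ Q') :
    SubpairLE p M Q f Q' f' := by
  have hQ'f' : IsBrauerPair p M Q' f' := chain_isBrauerPair hle' hPe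
  obtain ⟨f₁, hf₁, hle₁⟩ := exists_subpairLE hM _ Q' Q f' hQ'f' hQQ' rfl
  have h2 : SubpairLE p M Q f₁ P e := Relation.ReflTransGen.trans hle₁ hle'
  have h3 : f₁ = f := subpairLE_unique hM _ P Q e hPe rfl f₁ f h2 hle
  rwa [h3] at hle₁

theorem reflTransGen_conjPair (x : G) {a b : BrauerPairIdx G}
    (h : Relation.ReflTransGen (NormalSubpairRel p M) a b) :
    Relation.ReflTransGen (NormalSubpairRel p M) (conjPair x a) (conjPair x b) :=
  Relation.ReflTransGen.lift (p := NormalSubpairRel p M) (conjPair x)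
    (fun _ _ hab => isNormalSubpair_conj x hab) _ _ h

/-- the maps of the fusion system of a block with source `Q` -/
def blockFusionHom (p : ℕ) (M : Ideal AlgInt) (P : Subgroup G)
    (e : Set (IrrCharacter (Subgroup.centralizer (P : Set G)))) (Q : Subgroup G) :
    Set (Q →* G) :=
  {φ | Q ≤ P ∧ ∃ g : G, (∀ u : Q, φ u = g * (u : G) * g⁻¹) ∧
    Q.map (MulAut.conj g).toMonoidHom ≤ P ∧
    ∃ f : Set (IrrCharacter (Subgroup.centralizer (Q : Set G))),
      SubpairLE p M Q f P e ∧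
        SubpairLE p M (Q.map (MulAut.conj g).toMonoidHom) (conjBlock Q g f) P e}

theorem range_eq_map_conj {Q : Subgroup G} {φ : Q →* G} {g : G}
    (hφg : ∀ u : Q, φ u = g * (u : G) * g⁻¹) :
    φ.range = Q.map (MulAut.conj g).toMonoidHom := by
  ext y
  constructor
  · rintro ⟨u, rfl⟩
    exact ⟨(u : G), u.2, (hφg u).symm⟩
  · rintro ⟨u, hu, rfl⟩
    exact ⟨⟨u, hu⟩, hφg ⟨u, hu⟩⟩

theorem blockFusionHom_conj (hM : IsPModular p M) [Fact p.Prime] {P : Subgroup G}
    {e : Set (IrrCharacter (Subgroup.centralizer (P : Set G)))} (hPe : IsBrauerPair p M P e)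
    {Q : Subgroup G} {g : G} (hQP : Q ≤ P) (hg : g ∈ P) :
    conjHom Q g ∈ blockFusionHom p M P e Q := by
  obtain ⟨f, hf, hle⟩ := exists_subpairLE hM _ P Q e hPe hQP rfl
  have h1 : Relation.ReflTransGen (NormalSubpairRel p M) (conjPair g ⟨Q, f⟩)
      (conjPair g ⟨P, e⟩) := reflTransGen_conjPair g hle
  rw [conjPair_self_of_mem hM hPe.2 hg] at h1
  exact ⟨hQP, g, fun u => rfl, chain_le h1, f, hle, h1⟩

theorem blockFusionHom_comp (hM : IsPModular p M) [Fact p.Prime] {P : Subgroup G}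
    {e : Set (IrrCharacter (Subgroup.centralizer (P : Set G)))} (hPe : IsBrauerPair p M P e)
    {Q Q' : Subgroup G} {φ : Q →* G} {ψ : Q' →* G}
    (hφ : φ ∈ blockFusionHom p M P e Q) (hψ : ψ ∈ blockFusionHom p M P e Q')
    (h : ∀ x : Q, φ x ∈ Q') :
    ψ.comp (φ.codRestrict Q' h) ∈ blockFusionHom p M P e Q := by
  obtain ⟨hQP, g, hφg, hgP, f, hle, hleg⟩ := hφ
  obtain ⟨hQ'P, k, hψk, hkP, f', hle', hlek⟩ := hψ
  have hgQ' : Q.map (MulAut.conj g).toMonoidHom ≤ Q' := by
    rintro _ ⟨u, hu, rfl⟩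
    have h1 := h ⟨u, hu⟩
    rw [hφg] at h1
    exact h1
  have h1 : Relation.ReflTransGen (NormalSubpairRel p M) (conjPair g ⟨Q, f⟩) ⟨Q', f'⟩ :=
    subpairLE_of_le hM hPe hleg hle' hgQ'
  have h2 : Relation.ReflTransGen (NormalSubpairRel p M) (conjPair k (conjPair g ⟨Q, f⟩))
      (conjPair k ⟨Q', f'⟩) := reflTransGen_conjPair k h1
  have h3 : Relation.ReflTransGen (NormalSubpairRel p M) (conjPair (k * g) ⟨Q, f⟩) ⟨P, e⟩ := by
    rw [conjPair_mul]
    exact Relation.ReflTransGen.trans h2 hlek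
  refine ⟨hQP, k * g, ?_, chain_le h3, f, hle, h3⟩
  intro u
  show ψ (φ.codRestrict Q' h u) = k * g * (u : G) * (k * g)⁻¹
  rw [hψk]
  show k * φ u * k⁻¹ = _
  rw [hφg, mul_inv_rev]
  simp only [mul_assoc]

theorem blockFusionHom_inv (hM : IsPModular p M) [Fact p.Prime] {P : Subgroup G}
    {e : Set (IrrCharacter (Subgroup.centralizer (P : Set G)))}
    {Q : Subgroup G} {φ : Q →* G}
    (hφ : φ ∈ blockFusionHom p M P e Q) :
    ∃ ψ ∈ blockFusionHom p M P e φ.range, ∀ x : Q, ψ ⟨φ x, ⟨x, rfl⟩⟩ = (x : G) := by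
  obtain ⟨hQP, g, hφg, hgP, f, hle, hleg⟩ := hφ
  have hr : φ.range = Q.map (MulAut.conj g).toMonoidHom := range_eq_map_conj hφg
  have aux : ∀ R : Subgroup G, R = Q.map (MulAut.conj g).toMonoidHom →
      ∃ f' : Set (IrrCharacter (Subgroup.centralizer (R : Set G))),
        SubpairLE p M R f' P e ∧
        SubpairLE p M (R.map (MulAut.conj g⁻¹).toMonoidHom) (conjBlock R g⁻¹ f') P e := by
    rintro R rfl
    refine ⟨conjBlock Q g f, hleg, ?_⟩
    show Relation.ReflTransGen (NormalSubpairRel p M) (conjPair g⁻¹ (conjPair g ⟨Q, f⟩)) ⟨P, e⟩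
    rw [← conjPair_mul, inv_mul_cancel, conjPair_one]
    exact hle
  obtain ⟨f', hle', hleg'⟩ := aux φ.range hr
  refine ⟨conjHom φ.range g⁻¹, ⟨hr ▸ hgP, g⁻¹, fun u => rfl, chain_le hleg', f', hle', hleg'⟩, ?_⟩
  intro x
  show g⁻¹ * φ x * g⁻¹⁻¹ = x
  rw [hφg, inv_inv]
  simp only [mul_assoc, inv_mul_cancel, mul_one, inv_mul_cancel_left]

/-- **the fusion system of a block on a maximal Brauer pair** -/
def blockFusionSystem (hM : IsPModular p M) [Fact p.Prime] {P : Subgroup G}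
    {e : Set (IrrCharacter (Subgroup.centralizer (P : Set G)))} (hPe : IsBrauerPair p M P e) :
    FusionSystem P where
  Hom Q := blockFusionHom p M P e Q
  le_of_mem := by
    rintro Q φ ⟨hQP, g, hφg, hgP, -⟩
    refine ⟨hQP, fun x => ?_⟩
    rw [hφg]
    exact hgP ⟨(x : G), x.2, rfl⟩
  injective_of_mem := by
    rintro Q φ ⟨-, g, hg, -⟩ a b hab
    have h : g * (a : G) * g⁻¹ = g * (b : G) * g⁻¹ := ((hg a).symm.trans hab).trans (hg b)
    exact Subtype.ext (mul_left_cancel (mul_right_cancel h))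
  conj_mem := fun hQP hg => blockFusionHom_conj hM hPe hQP hg
  comp_mem := fun hφ hψ h => blockFusionHom_comp hM hPe hφ hψ h
  inv_mem := fun hφ => blockFusionHom_inv hM hφ

theorem isBlockFusionSystemOn_blockFusionSystem (hM : IsPModular p M) [Fact p.Prime]
    {B : Set (IrrCharacter G)} {P : Subgroup G}
    {e : Set (IrrCharacter (Subgroup.centralizer (P : Set G)))}
    (hmax : IsMaximalBrauerPair p M B P e) :
    IsBlockFusionSystemOn p M B P e (blockFusionSystem hM hmax.1.1) :=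
  ⟨hmax, fun _ _ => Iff.rfl⟩

end Construct

end Cfsg.Agent.Helper23.Blk
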