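import Mathlib
import Cfsg.Agent.Lib.Helper18.PairRel2
import Cfsg.Agent.Lib.Helper23.BlockFusionSys

/-!
# Brauer pairs of a subgroup `H ≥ Q C_G(Q)` versus Brauer pairs of `G` between `Q` and `H`
(helper23's shared library)
-/

set_option autoImplicit false
set_option linter.unusedSectionVars false
set_option linter.style.haveILetI false

namespace Cfsg.Agent.Helper23.Blk

open Cfsg Cfsg.Agent.Helper24 Cfsg.Agent.Helper18 Cfsg.Agent.Helper18.PairRel

universe u

section RelDefs

variable {G : Type u} [Group G]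

/-- the set of characters of `C_H(R ∩ H)` corresponding to a set of characters of `C_G(R)` -/
def relBlock (H R : Subgroup G) (g : Set (IrrCharacter (Subgroup.centralizer (R : Set G)))) :
    Set (IrrCharacter (Subgroup.centralizer ((R.subgroupOf H : Subgroup H) : Set H))) :=
  {ξ' | ∃ ξ ∈ g, ∀ (c' : Subgroup.centralizer ((R.subgroupOf H : Subgroup H) : Set H))
      (c : Subgroup.centralizer (R : Set G)), ((c' : H) : G) = (c : G) →
        (ξ' : _ → ℂ) c' = (ξ : Subgroup.centralizer (R : Set G) → ℂ) c}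

/-- the pair of `H` corresponding to a pair of `G` -/
def relPair (H : Subgroup G) (a : BrauerPairIdx G) : BrauerPairIdx H :=
  ⟨a.1.subgroupOf H, relBlock H a.1 a.2⟩

theorem relBlock_eq_image (H R : Subgroup G) (hRH : R ≤ H)
    (hCH : Subgroup.centralizer (R : Set G) ≤ H)
    (g : Set (IrrCharacter (Subgroup.centralizer (R : Set G)))) :
    relBlock H R g = irrComp (relCentEquiv H R hRH hCH) '' g := by
  ext ξ'
  constructor
  · rintro ⟨ξ, hξ, h⟩
    refine ⟨ξ, hξ, ?_⟩
    apply Subtype.ext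
    funext c'
    rw [irrComp_apply]
    symm
    apply h
    rw [relCentEquiv_coe]
  · rintro ⟨ξ, hξ, rfl⟩
    refine ⟨ξ, hξ, ?_⟩
    intro c' c hcc
    rw [irrComp_apply]
    have h1 : relCentEquiv H R hRH hCH c' = c := by
      apply Subtype.ext
      rw [relCentEquiv_coe, hcc]
    rw [h1]

/-- transport of the Brauer map, for a general coefficient function -/
theorem brauerOmega_rel' (H P : Subgroup G) (hPH : P ≤ H)
    (hCH : Subgroup.centralizer (P : Set G) ≤ H) (β : G → ℂ)
    (ξ : Subgroup.centralizer (P : Set G) → ℂ) :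
    brauerOmega (P.subgroupOf H) (fun h : H => β (h : G))
      (fun c => ξ (relCentEquiv H P hPH hCH c)) = brauerOmega P β ξ := by
  unfold brauerOmega
  rw [← finsum_comp_equiv (relCentEquiv H P hPH hCH).toEquiv]
  apply finsum_congr
  intro c
  show β ((c : H) : G) * ξ (relCentEquiv H P hPH hCH c) / ξ (relCentEquiv H P hPH hCH 1) =
    β ((relCentEquiv H P hPH hCH c : Subgroup.centralizer (P : Set G)) : G) *
      ξ (relCentEquiv H P hPH hCH c) / ξ 1
  rw [map_one, relCentEquiv_coe]

theorem subgroupOf_le_subgroupOf_iff {H R₁ R₂ : Subgroup G} (h₁ : R₁ ≤ H) :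
    R₁.subgroupOf H ≤ R₂.subgroupOf H ↔ R₁ ≤ R₂ := by
  constructor
  · intro h x hx
    have h1 : (⟨x, h₁ hx⟩ : H) ∈ R₁.subgroupOf H := by
      rw [Subgroup.mem_subgroupOf]
      exact hx
    have h2 := h h1
    rw [Subgroup.mem_subgroupOf] at h2
    exact h2
  · intro h x hx
    rw [Subgroup.mem_subgroupOf] at hx ⊢
    exact h hx

theorem subgroupOf_le_normalizer_iff {H R₁ R₂ : Subgroup G} (h₁ : R₁ ≤ H) (h₂ : R₂ ≤ H) :
    R₂.subgroupOf H ≤ Subgroup.normalizer ((R₁.subgroupOf H : Subgroup H) : Set H) ↔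
      R₂ ≤ Subgroup.normalizer (R₁ : Set G) := by
  constructor
  · intro h x hx
    have h1 : (⟨x, h₂ hx⟩ : H) ∈ R₂.subgroupOf H := by
      rw [Subgroup.mem_subgroupOf]
      exact hx
    have h2 := h h1
    rw [mem_normalizer_subgroupOf_iff H R₁ h₁] at h2
    exact h2
  · intro h x hx
    rw [Subgroup.mem_subgroupOf] at hx
    rw [mem_normalizer_subgroupOf_iff H R₁ h₁]
    exact h hx

end RelDefs

section RelNormal

variable {G : Type u} [Group G] [Fintype G] {M : Ideal AlgInt} {p : ℕ}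

theorem subgroupBlockCoeff_relBlock (H R : Subgroup G) (hRH : R ≤ H)
    (hCH : Subgroup.centralizer (R : Set G) ≤ H)
    (g : Set (IrrCharacter (Subgroup.centralizer (R : Set G)))) :
    subgroupBlockCoeff (Subgroup.centralizer ((R.subgroupOf H : Subgroup H) : Set H))
      (relBlock H R g) =
      fun h : H => subgroupBlockCoeff (Subgroup.centralizer (R : Set G)) g (h : G) := by
  classical
  haveI : Fintype H := Fintype.ofFinite _
  funext h
  rw [relBlock_eq_image H R hRH hCH]
  unfold subgroupBlockCoeff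
  by_cases hh : h ∈ Subgroup.centralizer ((R.subgroupOf H : Subgroup H) : Set H)
  · have hh' : (h : G) ∈ Subgroup.centralizer (R : Set G) :=
      (mem_centralizer_subgroupOf_iff H R hRH h).1 hh
    rw [dif_pos hh, dif_pos hh', blockCoeff_image_irrComp]
    rfl
  · have hh' : (h : G) ∉ Subgroup.centralizer (R : Set G) :=
      fun h' => hh ((mem_centralizer_subgroupOf_iff H R hRH h).2 h')
    rw [dif_neg hh, dif_neg hh']

theorem isPBlock_relBlock_iff (H R : Subgroup G) (hRH : R ≤ H)
    (hCH : Subgroup.centralizer (R : Set G) ≤ H)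
    (g : Set (IrrCharacter (Subgroup.centralizer (R : Set G)))) :
    IsPBlock M (relBlock H R g) ↔ IsPBlock M g := by
  rw [relBlock_eq_image H R hRH hCH]
  constructor
  · intro h
    have h1 := isPBlock_image_irrComp (M := M) (relCentEquiv H R hRH hCH).symm h
    rw [Set.image_image] at h1
    have h2 : (fun χ => irrComp (relCentEquiv H R hRH hCH).symm
        (irrComp (relCentEquiv H R hRH hCH) χ)) = id := by
      funext χ
      exact irrComp_symm_irrComp _ χ
    rw [h2, Set.image_id] at h1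
    exact h1
  · intro h
    exact isPBlock_image_irrComp _ h

theorem isPGroup_subgroupOf_iff {H R : Subgroup G} (hRH : R ≤ H) :
    IsPGroup p (R.subgroupOf H) ↔ IsPGroup p R := by
  constructor
  · intro h
    have h1 := h.map H.subtype
    rwa [Subgroup.map_subgroupOf_eq_of_le hRH] at h1
  · intro h
    exact h.comap_subtype

theorem isBrauerPair_rel_iff (H R : Subgroup G) (hRH : R ≤ H)
    (hCH : Subgroup.centralizer (R : Set G) ≤ H)
    (g : Set (IrrCharacter (Subgroup.centralizer (R : Set G)))) :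
    IsBrauerPair p M (R.subgroupOf H) (relBlock H R g) ↔ IsBrauerPair p M R g := by
  unfold IsBrauerPair
  rw [isPGroup_subgroupOf_iff hRH, isPBlock_relBlock_iff H R hRH hCH]

/-- **normal inclusion of pairs, in `H` and in `G`** -/
theorem isNormalSubpair_rel_iff (H : Subgroup G) {R₁ R₂ : Subgroup G}
    (h₁ : R₁ ≤ H) (h₂ : R₂ ≤ H) (hC₁ : Subgroup.centralizer (R₁ : Set G) ≤ H)
    (hC₂ : Subgroup.centralizer (R₂ : Set G) ≤ H)
    (g₁ : Set (IrrCharacter (Subgroup.centralizer (R₁ : Set G))))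
    (g₂ : Set (IrrCharacter (Subgroup.centralizer (R₂ : Set G)))) :
    IsNormalSubpair p M (R₁.subgroupOf H) (relBlock H R₁ g₁) (R₂.subgroupOf H)
      (relBlock H R₂ g₂) ↔ IsNormalSubpair p M R₁ g₁ R₂ g₂ := by
  classical
  haveI : Fintype H := Fintype.ofFinite _
  unfold IsNormalSubpair
  rw [isBrauerPair_rel_iff H R₁ h₁ hC₁, isBrauerPair_rel_iff H R₂ h₂ hC₂,
    subgroupOf_le_subgroupOf_iff h₁, subgroupOf_le_normalizer_iff h₁ h₂,
    subgroupBlockCoeff_relBlock H R₁ h₁ hC₁]
  have hst : ∀ x : H, (x : G) ∈ Subgroup.normalizer (R₁ : Set G) →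
      (StabilizesBlock (Subgroup.centralizer ((R₁.subgroupOf H : Subgroup H) : Set H))
        (relBlock H R₁ g₁) x ↔
      StabilizesBlock (Subgroup.centralizer (R₁ : Set G)) g₁ (x : G)) := by
    intro x hx
    rw [relBlock_eq_image H R₁ h₁ hC₁]
    apply stabilizesBlock_rel_iff H R₁ h₁ hC₁ x
    · apply normalizer_le_normalizer_centralizer
      rw [mem_normalizer_subgroupOf_iff H R₁ h₁]
      exact hx
    · exact normalizer_le_normalizer_centralizer R₁ hx
  have hbr : (∀ ξ ∈ relBlock H R₂ g₂, MemLocalIdeal M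
      (brauerOmega (R₂.subgroupOf H)
        (fun h : H => subgroupBlockCoeff (Subgroup.centralizer (R₁ : Set G)) g₁ (h : G))
        (ξ : _ → ℂ) - 1)) ↔
      ∀ ξ ∈ g₂, MemLocalIdeal M
        (brauerOmega R₂ (subgroupBlockCoeff (Subgroup.centralizer (R₁ : Set G)) g₁)
          (ξ : Subgroup.centralizer (R₂ : Set G) → ℂ) - 1) := by
    rw [relBlock_eq_image H R₂ h₂ hC₂]
    constructor
    · intro h ξ hξ
      have h1 := h _ ⟨ξ, hξ, rfl⟩
      rw [← brauerOmega_rel' H R₂ h₂ hC₂]
      exact h1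
    · rintro h _ ⟨ξ, hξ, rfl⟩
      have h1 := h ξ hξ
      rw [← brauerOmega_rel' H R₂ h₂ hC₂] at h1
      exact h1
  rw [hbr]
  constructor
  · rintro ⟨ha, hb, hle, hn, hs, hb'⟩
    refine ⟨ha, hb, hle, hn, ?_, hb'⟩
    intro x hx
    have h1 := hs ⟨x, h₂ hx⟩ (by
      rw [Subgroup.mem_subgroupOf]
      exact hx)
    exact (hst ⟨x, h₂ hx⟩ (hn hx)).1 h1
  · rintro ⟨ha, hb, hle, hn, hs, hb'⟩
    refine ⟨ha, hb, hle, hn, ?_, hb'⟩
    intro x hx
    rw [Subgroup.mem_subgroupOf] at hx
    exact (hst x (hn hx)).2 (hs x hx)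

end RelNormal

section RelConj

variable {G : Type u} [Group G] [Fintype G] {M : Ideal AlgInt} {p : ℕ}

theorem extSet_relBlock (H R : Subgroup G) [Fintype H] (hRH : R ≤ H)
    (hCH : Subgroup.centralizer (R : Set G) ≤ H)
    (g : Set (IrrCharacter (Subgroup.centralizer (R : Set G)))) :
    extSet (R.subgroupOf H) (relBlock H R g) =
      (fun (φ : G → ℂ) (k : H) => φ (k : G)) '' extSet R g := by
  rw [relBlock_eq_image H R hRH hCH]
  unfold extSet
  rw [Set.image_image, Set.image_image]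
  apply Set.image_congr
  intro ξ _
  funext k
  by_cases hk : k ∈ Subgroup.centralizer ((R.subgroupOf H : Subgroup H) : Set H)
  · have hk' : (k : G) ∈ Subgroup.centralizer (R : Set G) :=
      (mem_centralizer_subgroupOf_iff H R hRH k).1 hk
    rw [ext0_of_mem _ _ hk, ext0_of_mem _ _ hk', irrComp_apply]
    rfl
  · have hk' : (k : G) ∉ Subgroup.centralizer (R : Set G) :=
      fun h' => hk ((mem_centralizer_subgroupOf_iff H R hRH k).2 h')
    rw [ext0_of_not_mem _ _ hk, ext0_of_not_mem _ _ hk']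

theorem map_conj_le_of_mem {H R : Subgroup G} (hRH : R ≤ H) {h : G} (hh : h ∈ H) :
    R.map (MulAut.conj h).toMonoidHom ≤ H := by
  rintro _ ⟨r, hr, rfl⟩
  exact H.mul_mem (H.mul_mem hh (hRH hr)) (H.inv_mem hh)

theorem centralizer_map_conj_le_of_mem {H R : Subgroup G}
    (hCH : Subgroup.centralizer (R : Set G) ≤ H) {h : G} (hh : h ∈ H) :
    Subgroup.centralizer ((R.map (MulAut.conj h).toMonoidHom : Subgroup G) : Set G) ≤ H := by
  intro c hc
  rw [mem_centralizer_map_conj_iff] at hc
  have h1 := hCH hc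
  have h2 : c = h * (h⁻¹ * c * h) * h⁻¹ := by group
  rw [h2]
  exact H.mul_mem (H.mul_mem hh h1) (H.inv_mem hh)

theorem subgroupOf_map_conj (H R : Subgroup G) (hRH : R ≤ H) (h : H) :
    (R.subgroupOf H).map (MulAut.conj h).toMonoidHom =
      (R.map (MulAut.conj (h : G)).toMonoidHom).subgroupOf H := by
  ext k
  rw [Subgroup.mem_subgroupOf]
  constructor
  · rintro ⟨r, hr, rfl⟩
    rw [SetLike.mem_coe, Subgroup.mem_subgroupOf] at hr
    exact ⟨(r : G), hr, rfl⟩
  · rintro ⟨r, hr, hrk⟩
    refine ⟨⟨r, hRH hr⟩, ?_, ?_⟩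
    · rw [SetLike.mem_coe, Subgroup.mem_subgroupOf]
      exact hr
    · apply Subtype.ext
      exact hrk

/-- **conjugation of pairs inside `H` and inside `G` correspond** -/
theorem relPair_conjPair (H : Subgroup G) {R : Subgroup G} (hRH : R ≤ H)
    (hCH : Subgroup.centralizer (R : Set G) ≤ H)
    (g : Set (IrrCharacter (Subgroup.centralizer (R : Set G)))) (h : H) :
    conjPair h (relPair H ⟨R, g⟩) = relPair H (conjPair (h : G) ⟨R, g⟩) := by
  classical
  haveI : Fintype H := Fintype.ofFinite _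
  unfold conjPair relPair
  apply pair_ext (subgroupOf_map_conj H R hRH h)
  rw [extSet_conjBlock, extSet_relBlock H R hRH hCH,
    extSet_relBlock H _ (map_conj_le_of_mem hRH h.2) (centralizer_map_conj_le_of_mem hCH h.2),
    extSet_conjBlock, Set.image_image, Set.image_image]
  rfl

end RelConj

section RelLift

variable {G : Type u} [Group G] [Fintype G] {M : Ideal AlgInt} {p : ℕ}

theorem relBlock_image_symm (H R : Subgroup G) (hRH : R ≤ H)
    (hCH : Subgroup.centralizer (R : Set G) ≤ H)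
    (g' : Set (IrrCharacter (Subgroup.centralizer ((R.subgroupOf H : Subgroup H) : Set H)))) :
    relBlock H R (irrComp (relCentEquiv H R hRH hCH).symm '' g') = g' := by
  rw [relBlock_eq_image H R hRH hCH, Set.image_image]
  have h2 : (fun χ => irrComp (relCentEquiv H R hRH hCH)
      (irrComp (relCentEquiv H R hRH hCH).symm χ)) = id := by
    funext χ
    exact irrComp_irrComp_symm _ χ
  rw [h2, Set.image_id]

/-- one normal step above a relative pair lifts to `G` -/
theorem exists_lift_of_normalSubpairRel (H : Subgroup G) {b : BrauerPairIdx G} (hbH : b.1 ≤ H)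
    (hCb : Subgroup.centralizer (b.1 : Set G) ≤ H) {c' : BrauerPairIdx H}
    (h : NormalSubpairRel p M (relPair H b) c') :
    ∃ c : BrauerPairIdx G, c.1 ≤ H ∧ relPair H c = c' ∧ NormalSubpairRel p M b c := by
  obtain ⟨R₁, g₁⟩ := b
  obtain ⟨R', g'⟩ := c'
  have general : ∀ (R : Subgroup G) (hRH : R ≤ H)
      (g'' : Set (IrrCharacter (Subgroup.centralizer ((R.subgroupOf H : Subgroup H) : Set H)))),
      NormalSubpairRel p M (relPair H ⟨R₁, g₁⟩) ⟨R.subgroupOf H, g''⟩ →
      ∃ c : BrauerPairIdx G, c.1 ≤ H ∧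
        relPair H c = (⟨R.subgroupOf H, g''⟩ : BrauerPairIdx H) ∧
        NormalSubpairRel p M ⟨R₁, g₁⟩ c := by
    intro R hRH g'' hn
    have hle : R₁ ≤ R := (subgroupOf_le_subgroupOf_iff hbH).1 hn.2.2.1
    have hCR : Subgroup.centralizer (R : Set G) ≤ H :=
      (Subgroup.centralizer_le hle).trans hCb
    refine ⟨⟨R, irrComp (relCentEquiv H R hRH hCR).symm '' g''⟩, hRH, ?_, ?_⟩
    · unfold relPair
      rw [relBlock_image_symm H R hRH hCR]
    · have hn' : IsNormalSubpair p M (R₁.subgroupOf H) (relBlock H R₁ g₁) (R.subgroupOf H)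
          (relBlock H R (irrComp (relCentEquiv H R hRH hCR).symm '' g'')) := by
        rw [relBlock_image_symm H R hRH hCR]
        exact hn
      exact (isNormalSubpair_rel_iff H hbH hRH hCb hCR _ _).1 hn'
  have key : ∀ R'' : Subgroup H, R'' = (R'.map H.subtype).subgroupOf H →
      ∀ g'' : Set (IrrCharacter (Subgroup.centralizer (R'' : Set H))),
      NormalSubpairRel p M (relPair H ⟨R₁, g₁⟩) ⟨R'', g''⟩ →
      ∃ c : BrauerPairIdx G, c.1 ≤ H ∧ relPair H c = (⟨R'', g''⟩ : BrauerPairIdx H) ∧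
        NormalSubpairRel p M ⟨R₁, g₁⟩ c := by
    rintro _ rfl g'' hn
    exact general (R'.map H.subtype) (Subgroup.map_subtype_le _) g'' hn
  exact key R' (Subgroup.comap_map_eq_self_of_injective H.subtype_injective R').symm g' h

/-- **chains above a relative pair lift to `G`** -/
theorem exists_lift_of_reflTransGen (H : Subgroup G) {a : BrauerPairIdx G} (haH : a.1 ≤ H)
    (hCa : Subgroup.centralizer (a.1 : Set G) ≤ H) {b' : BrauerPairIdx H}
    (h : Relation.ReflTransGen (NormalSubpairRel p M) (relPair H a) b') :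
    ∃ b : BrauerPairIdx G, b.1 ≤ H ∧ a.1 ≤ b.1 ∧ relPair H b = b' ∧
      Relation.ReflTransGen (NormalSubpairRel p M) a b := by
  induction h with
  | refl => exact ⟨a, haH, le_rfl, rfl, Relation.ReflTransGen.refl⟩
  | tail _ hstep ih =>
    obtain ⟨b, hbH, hab, rfl, hchain⟩ := ih
    have hCb : Subgroup.centralizer (b.1 : Set G) ≤ H := (Subgroup.centralizer_le hab).trans hCa
    obtain ⟨c, hcH, rfl, hbc⟩ := exists_lift_of_normalSubpairRel H hbH hCb hstep
    exact ⟨c, hcH, hab.trans hbc.2.2.1, rfl, Relation.ReflTransGen.tail hchain hbc⟩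

theorem relPair_injective (H : Subgroup G) {b b' : BrauerPairIdx G} (hb : b.1 ≤ H)
    (hb' : b'.1 ≤ H) (hC : Subgroup.centralizer (b.1 : Set G) ≤ H)
    (h : relPair H b = relPair H b') : b = b' := by
  obtain ⟨R, g⟩ := b
  obtain ⟨R', g'⟩ := b'
  have h1 : R.subgroupOf H = R'.subgroupOf H := congrArg Sigma.fst h
  simp only at hb hb' hC
  have h2 : R = R' := by
    rw [← Subgroup.map_subgroupOf_eq_of_le hb, ← Subgroup.map_subgroupOf_eq_of_le hb', h1]
  subst h2
  unfold relPair at h
  have h3 : relBlock H R g = relBlock H R g' := eq_of_heq (Sigma.mk.inj h).2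
  rw [relBlock_eq_image H R hb hC, relBlock_eq_image H R hb hC] at h3
  rw [(Set.image_injective.2 (irrComp_injective _)) h3]

end RelLift

section RelBlock

variable {G : Type u} [Group G] [Fintype G] {M : Ideal AlgInt} {p : ℕ}

/-- **the idempotent of a block `f` of `C_G(Q)` is a block idempotent of any subgroup `H` with
`Q C_G(Q) ≤ H ≤ N_G(Q, f)`** -/
theorem exists_block_of_sub (hM : IsPModular p M) {Q : Subgroup G} (hQ : IsPGroup p Q)
    {f : Set (IrrCharacter (Subgroup.centralizer (Q : Set G)))} (hf : IsPBlock M f)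
    (H : Subgroup G) (hQH : Q ≤ H) (hCH : Subgroup.centralizer (Q : Set G) ≤ H)
    (hHT : ∀ y ∈ H, y ∈ Subgroup.normalizer (Q : Set G) ∧
      StabilizesBlock (Subgroup.centralizer (Q : Set G)) f y) :
    ∃ F : Set (IrrCharacter H), IsPBlock M F ∧
      ∀ t : H, blockCoeff F t =
        subgroupBlockCoeff (Subgroup.centralizer (Q : Set G)) f (t : G) := by
  classical
  haveI hMp : M.IsPrime := hM.2.1.isPrime
  have hne : f.Nonempty := block_nonempty hM hf
  have hHNQ : H ≤ Subgroup.normalizer (Q : Set G) := fun x hx => (hHT x hx).1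
  have hHN : H ≤ Subgroup.normalizer
      ((Subgroup.centralizer (Q : Set G) : Subgroup G) : Set G) :=
    fun x hx => (hHT x hx).2.1
  have hsupp : ∀ B' : Set (IrrCharacter H), IsPBlock M B' → ∀ t : H,
      (t : G) ∉ Subgroup.centralizer (Q : Set G) → blockCoeff B' t = 0 :=
    fun B' hB' t ht =>
      blockCoeff_eq_zero_of_not_mem_centralizer' hM Q H hQ hQH hHNQ hB' t ht
  obtain ⟨E, hE, hEc⟩ := exists_block_orbitSum _ H hHN hM hCH hsupp hf
  have hstable : ∀ x : H, conjIrr _ (x : G) (hHN x.2) '' f = f :=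
    fun x => image_conjIrr_eq_of_stabilizes _ hf hne (hHT x x.2).2
  refine ⟨E, hE, ?_⟩
  intro t
  rw [hEc t, orbitSum_of_stable _ H hHN hstable, subgroupBlockCoeff_eq_ext0]

/-- `(Q, f)` read in `H` is a Brauer pair of the block of `H` with the idempotent of `f` -/
theorem isBrauerPairOf_relPair_self (hM : IsPModular p M) {Q : Subgroup G} (hQ : IsPGroup p Q)
    {f : Set (IrrCharacter (Subgroup.centralizer (Q : Set G)))} (hf : IsPBlock M f)
    (H : Subgroup G) (hQH : Q ≤ H) (hCH : Subgroup.centralizer (Q : Set G) ≤ H)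
    {F : Set (IrrCharacter H)} (hF : IsPBlock M F)
    (hFc : ∀ t : H, blockCoeff F t =
      subgroupBlockCoeff (Subgroup.centralizer (Q : Set G)) f (t : G)) :
    IsBrauerPairOf p M F (Q.subgroupOf H) (relBlock H Q f) := by
  refine ⟨(isBrauerPair_rel_iff H Q hQH hCH f).2 ⟨hQ, hf⟩, hF, ?_⟩
  rw [relBlock_eq_image H Q hQH hCH]
  rintro _ ⟨ξ, hξ, rfl⟩
  have h1 := (isNormalSubpair_refl hM ⟨hQ, hf⟩).2.2.2.2.2 ξ hξ
  rw [← brauerOmega_rel' H Q hQH hCH] at h1
  have h2 : blockCoeff F = fun h : H =>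
      subgroupBlockCoeff (Subgroup.centralizer (Q : Set G)) f (h : G) := funext hFc
  rw [h2]
  exact h1

end RelBlock

end Cfsg.Agent.Helper23.Blk
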