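import Mathlib
import Cfsg.Agent.Lib.Helper23.PairRelH
import Cfsg.Agent.Lib.Helper18.BlockFong
import Cfsg.Agent.Lib.Helper25.FusionSat
import Cfsg.Agent.Lib.Helper25.FusionSylow2

/-!
# The fusion system of a block is saturated (helper23's shared library)
-/

set_option autoImplicit false
set_option linter.unusedSectionVars false
set_option linter.style.haveILetI false

namespace Cfsg.Agent.Helper23.Blk

open Cfsg Cfsg.Agent.Helper24 Cfsg.Agent.Helper18 Cfsg.Agent.Helper18.PairRel
  Cfsg.Agent.Helper25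
open scoped Pointwise

universe u

section KeyLemma

variable {G : Type u} [Group G] [Fintype G] {M : Ideal AlgInt} {p : ℕ}

/-- **Key lemma for receptivity.**  If `Q` is fully normalized, `(Q, f) ≤ (P, e)`, and
`(Q, f) ⊴ (X, e')` with `X ≤ N_P(Q) C_G(Q)`, then some `C_G(Q)`-conjugate of `(X, e')` lies below
`(P, e)`. -/
theorem exists_centralizer_conj_subpairLE (hM : IsPModular p M) [Fact p.Prime]
    {B : Set (IrrCharacter G)} {P : Subgroup G}
    {e : Set (IrrCharacter (Subgroup.centralizer (P : Set G)))} {F : FusionSystem P}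
    (hF : IsBlockFusionSystemOn p M B P e F) {Q : Subgroup G}
    {f : Set (IrrCharacter (Subgroup.centralizer (Q : Set G)))}
    (hle : SubpairLE p M Q f P e) (hFN : F.IsFullyNormalized Q) {X : Subgroup G}
    {e' : Set (IrrCharacter (Subgroup.centralizer (X : Set G)))}
    (hsub : IsNormalSubpair p M Q f X e')
    (hX : X ≤ (P ⊓ Subgroup.normalizer (Q : Set G)) ⊔ Subgroup.centralizer (Q : Set G)) :
    ∃ c ∈ Subgroup.centralizer (Q : Set G),
      SubpairLE p M (X.map (MulAut.conj c).toMonoidHom) (conjBlock X c e') P e := by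
  classical
  haveI hMp : M.IsPrime := hM.2.1.isPrime
  have hmax := hF.1
  have hPe : IsBrauerPair p M P e := hmax.1.1
  have hQP : Q ≤ P := chain_le hle
  obtain ⟨hQ, hf⟩ := chain_isBrauerPair hle hPe
  set N : Subgroup G := P ⊓ Subgroup.normalizer (Q : Set G) with hN
  have hQN : Q ≤ N := le_inf hQP Subgroup.le_normalizer
  have hNP : N ≤ P := inf_le_left
  have hNN : N ≤ Subgroup.normalizer (Q : Set G) := inf_le_right
  obtain ⟨eN, hsubN, hleN⟩ := exists_normal_middle hM hPe hle hQN hNP hNN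
  have heN : IsPBlock M eN := hsubN.2.1.2
  set H : Subgroup G := N ⊔ Subgroup.centralizer (Q : Set G) with hH
  have hNH : N ≤ H := le_sup_left
  have hCH : Subgroup.centralizer (Q : Set G) ≤ H := le_sup_right
  have hQH : Q ≤ H := hQN.trans hNH
  have hXH : X ≤ H := hX
  have hHstab : H ≤ pairStab Q f := by
    apply sup_le
    · intro x hx
      exact (mem_pairStab_iff hM hf x).2 ⟨hNN hx, hsubN.2.2.2.2.1 x hx⟩
    · intro c hc
      exact (mem_pairStab_iff hM hf c).2
        ⟨Subgroup.centralizer_le_normalizer _ hc, stabilizesBlock_of_mem _ f hc⟩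
  have hHT : ∀ y ∈ H, y ∈ Subgroup.normalizer (Q : Set G) ∧
      StabilizesBlock (Subgroup.centralizer (Q : Set G)) f y :=
    fun y hy => (mem_pairStab_iff hM hf y).1 (hHstab hy)
  have hHNQ : H ≤ Subgroup.normalizer (Q : Set G) := fun y hy => (hHT y hy).1
  haveI : Fintype H := Fintype.ofFinite _
  obtain ⟨FH, hFH, hFHc⟩ := exists_block_of_sub hM hQ hf H hQH hCH hHT
  have hBq := isBrauerPairOf_relPair_self hM hQ hf H hQH hCH hFH hFHc
  have hCN : Subgroup.centralizer (N : Set G) ≤ H := (Subgroup.centralizer_le hQN).trans hCH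
  have hCX : Subgroup.centralizer (X : Set G) ≤ H :=
    (Subgroup.centralizer_le hsub.2.2.1).trans hCH
  have hsubN' := (isNormalSubpair_rel_iff H hQH hNH hCH hCN f eN).2 hsubN
  have hsubX' := (isNormalSubpair_rel_iff H hQH hXH hCH hCX f e').2 hsub
  have hBn : IsBrauerPairOf p M FH (N.subgroupOf H) (relBlock H N eN) :=
    isBrauerPairOf_of_isNormalSubpair hM hsubN' hBq
  have hBx : IsBrauerPairOf p M FH (X.subgroupOf H) (relBlock H X e') :=
    isBrauerPairOf_of_isNormalSubpair hM hsubX' hBq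
  have hBQ : IsBrauerPairOf p M B Q f := isBrauerPairOf_of_subpairLE_down hM hle hmax.1
  -- maximality of the pair on `N_P(Q)` inside `H`
  have hmaxN : IsMaximalBrauerPair p M FH (N.subgroupOf H) (relBlock H N eN) := by
    refine ⟨hBn, ?_⟩
    intro R' g' _ hle'
    have hle'' : Relation.ReflTransGen (NormalSubpairRel p M) (relPair H ⟨N, eN⟩) ⟨R', g'⟩ :=
      hle'
    obtain ⟨b, hbH, hNb, hbeq, hchain⟩ := exists_lift_of_reflTransGen H hNH hCN hle''
    have hstepN : NormalSubpairRel p M ⟨Q, f⟩ ⟨N, eN⟩ := hsubN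
    have hchainQ : Relation.ReflTransGen (NormalSubpairRel p M) ⟨Q, f⟩ b :=
      Relation.ReflTransGen.head hstepN hchain
    have hBb : IsBrauerPairOf p M B b.1 b.2 := isBrauerPairOf_of_subpairLE hM hchainQ hBQ
    obtain ⟨x, hx⟩ := exists_conj_subpairLE_of_maximal hM hmax hBb
    have hchainx : Relation.ReflTransGen (NormalSubpairRel p M) (conjPair x ⟨Q, f⟩)
        (conjPair x b) := reflTransGen_conjPair x hchainQ
    have hlex : SubpairLE p M (Q.map (MulAut.conj x).toMonoidHom) (conjBlock Q x f) P e :=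
      Relation.ReflTransGen.trans hchainx hx
    have hconj := isConj_of_subpairLE_conj hF hle hlex
    have hc1 := hFN.2 _ hconj
    unfold FusionSystem.normalizerIn at hc1
    have hbN : b.1 ≤ Subgroup.normalizer (Q : Set G) := hbH.trans hHNQ
    have hle2 : b.1.map (MulAut.conj x).toMonoidHom ≤
        P ⊓ Subgroup.normalizer ((Q.map (MulAut.conj x).toMonoidHom : Subgroup G) : Set G) :=
      le_inf (chain_le hx) (map_conj_le_normalizer x hbN)
    have hc2 := Subgroup.card_le_of_le hle2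
    have hc3 : Nat.card (b.1.map (MulAut.conj x).toMonoidHom) = Nat.card b.1 :=
      Subgroup.card_map_of_injective (MulAut.conj x).injective
    have hb1 : N = b.1 := Subgroup.eq_of_le_of_card_ge hNb (by rw [hN]; omega)
    have h5 : b.1.subgroupOf H = R' := congrArg Sigma.fst hbeq
    rw [← h5, ← hb1]
  obtain ⟨h, hh⟩ := exists_conj_subpairLE_of_maximal hM hmaxN hBx
  have hh' : Relation.ReflTransGen (NormalSubpairRel p M) (conjPair h (relPair H ⟨X, e'⟩))
      (relPair H ⟨N, eN⟩) := hh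
  rw [relPair_conjPair H hXH hCX e' h] at hh'
  obtain ⟨b, hbH, -, hbeq, hchain⟩ := exists_lift_of_reflTransGen H
    (map_conj_le_of_mem hXH h.2) (centralizer_map_conj_le_of_mem hCX h.2) hh'
  have hbN : (⟨N, eN⟩ : BrauerPairIdx G) = b := relPair_injective H hNH hbH hCN hbeq.symm
  rw [← hbN] at hchain
  -- decompose `h = n c`
  have hNnC : N ≤ Subgroup.normalizer
      ((Subgroup.centralizer (Q : Set G) : Subgroup G) : Set G) :=
    fun x hx => normalizer_le_normalizer_centralizer Q (hNN hx)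
  have hmem : (h : G) ∈ ((N ⊔ Subgroup.centralizer (Q : Set G) : Subgroup G) : Set G) := h.2
  rw [Subgroup.coe_mul_of_left_le_normalizer_right N _ hNnC] at hmem
  obtain ⟨n, hn, c, hc, hnc⟩ := hmem
  refine ⟨c, hc, ?_⟩
  have h1 : Relation.ReflTransGen (NormalSubpairRel p M) (conjPair n (conjPair c ⟨X, e'⟩))
      ⟨N, eN⟩ := by
    rw [← conjPair_mul]
    have : n * c = (h : G) := hnc
    rw [this]
    exact hchain
  have h2 := reflTransGen_conjPair (p := p) (M := M) n⁻¹ h1
  rw [← conjPair_mul, inv_mul_cancel, conjPair_one,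
    conjPair_self_of_mem hM heN (N.inv_mem hn)] at h2
  exact Relation.ReflTransGen.trans h2 hleN

end KeyLemma

section Receptive

variable {G : Type u} [Group G] [Fintype G] {M : Ideal AlgInt} {p : ℕ}

/-- the image of the extender of a conjugation map lies in `N_P(k R k⁻¹) C_G(k R k⁻¹)` -/
theorem map_conj_extender_le {P R : Subgroup G} {φ : R →* G} {k : G}
    (hφk : ∀ u : R, φ u = k * (u : G) * k⁻¹) :
    (FusionSystem.extender P R φ).map (MulAut.conj k).toMonoidHom ≤
      (P ⊓ Subgroup.normalizer ((R.map (MulAut.conj k).toMonoidHom : Subgroup G) : Set G)) ⊔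
        Subgroup.centralizer ((R.map (MulAut.conj k).toMonoidHom : Subgroup G) : Set G) := by
  rintro _ ⟨x, hx, rfl⟩
  obtain ⟨hxP, hxN, h, hhP, hh⟩ := (mem_extender_iff φ x).mp hx
  simp only [MulEquiv.coe_toMonoidHom, MulAut.conj_apply]
  have hconj : ∀ y ∈ R, k * (x * y * x⁻¹) * k⁻¹ = h * (k * y * k⁻¹) * h⁻¹ := by
    intro y hy
    have hxy : x * y * x⁻¹ ∈ R := (Subgroup.mem_normalizer_iff.mp hxN y).mp hy
    have h1 := hh ⟨y, hy⟩ hxy
    rw [hφk, hφk] at h1
    exact h1
  have hxinv : x⁻¹ ∈ Subgroup.normalizer (R : Set G) := Subgroup.inv_mem _ hxN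
  have hhN : h ∈ Subgroup.normalizer
      ((R.map (MulAut.conj k).toMonoidHom : Subgroup G) : Set G) := by
    rw [Subgroup.mem_normalizer_iff]
    intro z
    constructor
    · rintro ⟨y, hy, rfl⟩
      simp only [MulEquiv.coe_toMonoidHom, MulAut.conj_apply]
      rw [← hconj y hy]
      exact ⟨x * y * x⁻¹, (Subgroup.mem_normalizer_iff.mp hxN y).mp hy, rfl⟩
    · rintro ⟨y', hy', hy'e⟩
      simp only [MulEquiv.coe_toMonoidHom, MulAut.conj_apply] at hy'e
      have hy : x⁻¹ * y' * x ∈ R := by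
        have h1 := (Subgroup.mem_normalizer_iff.mp hxinv y').mp hy'
        rw [inv_inv] at h1
        exact h1
      refine ⟨x⁻¹ * y' * x, hy, ?_⟩
      simp only [MulEquiv.coe_toMonoidHom, MulAut.conj_apply]
      have h2 := hconj _ hy
      have e1 : x * (x⁻¹ * y' * x) * x⁻¹ = y' := by group
      rw [e1, hy'e] at h2
      have h3 : h⁻¹ * (h * z * h⁻¹) * h = h⁻¹ * (h * (k * (x⁻¹ * y' * x) * k⁻¹) * h⁻¹) * h := by
        rw [h2]
      have e2 : h⁻¹ * (h * z * h⁻¹) * h = z := by group
      have e3 : h⁻¹ * (h * (k * (x⁻¹ * y' * x) * k⁻¹) * h⁻¹) * h =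
          k * (x⁻¹ * y' * x) * k⁻¹ := by group
      rw [e2, e3] at h3
      exact h3.symm
  have hc : h⁻¹ * (k * x * k⁻¹) ∈ Subgroup.centralizer
      ((R.map (MulAut.conj k).toMonoidHom : Subgroup G) : Set G) := by
    rw [Subgroup.mem_centralizer_iff]
    rintro _ ⟨y, hy, rfl⟩
    simp only [MulEquiv.coe_toMonoidHom, MulAut.conj_apply]
    have h1 := hconj y hy
    calc k * y * k⁻¹ * (h⁻¹ * (k * x * k⁻¹))
        = h⁻¹ * (h * (k * y * k⁻¹) * h⁻¹) * (k * x * k⁻¹) := by group
      _ = h⁻¹ * (k * (x * y * x⁻¹) * k⁻¹) * (k * x * k⁻¹) := by rw [h1]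
      _ = h⁻¹ * (k * x * k⁻¹) * (k * y * k⁻¹) := by group
  have e4 : k * x * k⁻¹ = h * (h⁻¹ * (k * x * k⁻¹)) := by group
  rw [e4]
  exact Subgroup.mul_mem _ (Subgroup.mem_sup_left ⟨hhP, hhN⟩) (Subgroup.mem_sup_right hc)

/-- **fully normalized subgroups are receptive** in the fusion system of a block -/
theorem isReceptive_of_isFullyNormalized (hM : IsPModular p M) [Fact p.Prime]
    {B : Set (IrrCharacter G)} {P : Subgroup G}
    {e : Set (IrrCharacter (Subgroup.centralizer (P : Set G)))} {F : FusionSystem P}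
    (hF : IsBlockFusionSystemOn p M B P e F) {Q : Subgroup G}
    {f : Set (IrrCharacter (Subgroup.centralizer (Q : Set G)))}
    (hle : SubpairLE p M Q f P e) (hFN : F.IsFullyNormalized Q) : F.IsReceptive Q := by
  classical
  have hmax := hF.1
  have hPe : IsBrauerPair p M P e := hmax.1.1
  have hQP : Q ≤ P := chain_le hle
  refine ⟨hQP, ?_⟩
  intro R φ hφ hrange
  obtain ⟨hRP, k, hφk, hkP, fR, hleR, hlek⟩ := (hF.2 R φ).1 hφ
  have hQk : Q = R.map (MulAut.conj k).toMonoidHom := by
    rw [← hrange]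
    exact range_eq_map_conj hφk
  subst hQk
  have hff : conjBlock R k fR = f := subpairLE_unique hM _ P _ e hPe rfl _ f hlek hle
  subst hff
  have hNφP : FusionSystem.extender P R φ ≤ P := extender_le P φ
  have hRNφ : R ≤ FusionSystem.extender P R φ := le_extender F hφ
  have hNφN : FusionSystem.extender P R φ ≤ Subgroup.normalizer (R : Set G) :=
    fun x hx => ((mem_extender_iff φ x).1 hx).2.1
  obtain ⟨eφ, hsubφ, hleφ⟩ := exists_normal_middle hM hPe hleR hRNφ hNφP hNφN
  have hsubk := isNormalSubpair_conj (p := p) (M := M) k hsubφ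
  obtain ⟨c, hc, hlec⟩ := exists_centralizer_conj_subpairLE hM hF hle hFN hsubk
    (map_conj_extender_le hφk)
  have hlec' : Relation.ReflTransGen (NormalSubpairRel p M)
      (conjPair (c * k) ⟨FusionSystem.extender P R φ, eφ⟩) ⟨P, e⟩ := by
    rw [conjPair_mul]
    exact hlec
  refine ⟨conjHom (FusionSystem.extender P R φ) (c * k), (hF.2 _ _).2
    ⟨hNφP, c * k, fun u => rfl, chain_le hlec', eφ, hleφ, hlec'⟩, ?_⟩
  intro x hxR hxN
  rw [hφk]
  show c * k * x * (c * k)⁻¹ = k * x * k⁻¹
  have hq : k * x * k⁻¹ ∈ R.map (MulAut.conj k).toMonoidHom := ⟨x, hxR, rfl⟩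
  have h1 := (Subgroup.mem_centralizer_iff.mp hc) _ hq
  calc c * k * x * (c * k)⁻¹ = c * (k * x * k⁻¹) * c⁻¹ := by group
    _ = (k * x * k⁻¹) * c * c⁻¹ := by rw [← h1]
    _ = k * x * k⁻¹ := by group

end Receptive

section FongIndex

variable {G : Type u} [Group G] [Fintype G] {M : Ideal AlgInt} {p : ℕ}

/-- index bookkeeping: for `N` normal and `D ≤ C`, the index `|NC : ND|` divides `|C : D|` -/
theorem relIndex_sup_dvd_relIndex (N D C : Subgroup G) [N.Normal] (hDC : D ≤ C) :
    (N ⊔ D).relIndex (N ⊔ C) ∣ D.relIndex C := by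
  have h1 := Subgroup.relIndex_mul_relIndex N (N ⊔ D) (N ⊔ C) le_sup_left
    (sup_le_sup_left hDC N)
  have h2 : N.relIndex (N ⊔ D) = (N ⊓ D).relIndex D := by
    rw [Subgroup.relIndex_sup_left, Subgroup.inf_relIndex_right]
  have h3 : N.relIndex (N ⊔ C) = (N ⊓ C).relIndex C := by
    rw [Subgroup.relIndex_sup_left, Subgroup.inf_relIndex_right]
  have h4 := Subgroup.relIndex_mul_relIndex (N ⊓ D) D C inf_le_right hDC
  have h5 := Subgroup.relIndex_mul_relIndex (N ⊓ D) (N ⊓ C) C (inf_le_inf_left N hDC)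
    inf_le_right
  rw [h2, h3] at h1
  have hb : (N ⊓ D).relIndex D ≠ 0 := by
    unfold Subgroup.relIndex
    exact Subgroup.index_ne_zero_of_finite
  refine ⟨(N ⊓ D).relIndex (N ⊓ C), ?_⟩
  apply Nat.eq_of_mul_eq_mul_left (Nat.pos_of_ne_zero hb)
  rw [h4, ← h5, ← h1]
  ring

/-- **Fong's lemma, index form**: if the block `B` of `G` has the idempotent of the stable
block `c` of the normal subgroup `N` and `D` is a defect group of `B`, then `p` does not divide
`|G : N D|`. -/
theorem not_dvd_index_sup_defectGroup (N : Subgroup G) [hN : N.Normal] (hM : IsPModular p M)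
    [Fact p.Prime] {c : Set (IrrCharacter N)} (hc : IsPBlock M c)
    (hst : ∀ x : G, StabilizesBlock N c x) {B : Set (IrrCharacter G)} (hB : IsPBlock M B)
    (hBc : ∀ g : G, blockCoeff B g = subgroupBlockCoeff N c g) {D : Subgroup G}
    (hD : IsDefectGroup p M B D) : ¬ p ∣ (N ⊔ D).index := by
  classical
  haveI : Fintype N := Fintype.ofFinite _
  obtain ⟨y, hycls, hSyl⟩ := hD
  set C : Subgroup G := Subgroup.centralizer ({y} : Set G) with hC
  obtain ⟨Syl, hDeq⟩ := hSyl
  have hDC : D ≤ C := by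
    rw [hDeq]
    exact Subgroup.map_subtype_le _
  obtain ⟨hyN, -, hind⟩ := Cfsg.Agent.Helper18.fong_defectClass N hM hc hst hB hBc hycls
  set S : Subgroup G := Cfsg.Agent.Helper18.fongStab N (⟨y, hyN⟩ : N) with hS
  have hSle : S ≤ N ⊔ C := by
    intro g hg
    rw [hS, Cfsg.Agent.Helper18.mem_fongStab_iff, isConj_iff] at hg
    obtain ⟨n, hn⟩ := hg
    have h1 : (n : G) * g * y * ((n : G) * g)⁻¹ = y := by
      have h2 := congrArg Subtype.val hn
      push_cast at h2
      calc (n : G) * g * y * ((n : G) * g)⁻¹ = (n : G) * (g * y * g⁻¹) * (n : G)⁻¹ := by group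
        _ = y := h2
    have h3 : (n : G) * g ∈ C := by
      rw [hC, Subgroup.mem_centralizer_singleton_iff]
      calc (n : G) * g * y = (n : G) * g * y * ((n : G) * g)⁻¹ * ((n : G) * g) := by group
        _ = y * ((n : G) * g) := by rw [h1]
    have h4 : g = (n : G)⁻¹ * ((n : G) * g) := by group
    rw [h4]
    exact Subgroup.mul_mem _ (Subgroup.mem_sup_left (Subgroup.inv_mem _ n.2))
      (Subgroup.mem_sup_right h3)
  have hNS : N ≤ S := Cfsg.Agent.Helper18.le_fongStab N _
  have hCS : C ≤ S := by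
    intro c' hc'
    rw [hS, Cfsg.Agent.Helper18.mem_fongStab_iff]
    rw [hC, Subgroup.mem_centralizer_singleton_iff] at hc'
    have h1 : (⟨c' * y * c'⁻¹, hN.conj_mem y hyN c'⟩ : N) = ⟨y, hyN⟩ := by
      apply Subtype.ext
      show c' * y * c'⁻¹ = y
      rw [hc', mul_inv_cancel_right]
    rw [h1]
  have h1 : ¬ p ∣ D.relIndex C := by
    have h2 : D.subgroupOf C = (Syl : Subgroup C) := by
      rw [hDeq]
      ext c'
      rw [Subgroup.mem_subgroupOf]
      constructor
      · rintro ⟨c'', hc'', hcc⟩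
        have : c'' = c' := Subtype.ext hcc
        rw [← this]
        exact hc''
      · intro hc'
        exact ⟨c', hc', rfl⟩
    show ¬ p ∣ (D.subgroupOf C).index
    rw [h2]
    exact Syl.not_dvd_index
  have hNDS : N ⊔ D ≤ S := sup_le hNS (hDC.trans hCS)
  have h2 : ¬ p ∣ (N ⊔ D).relIndex (N ⊔ C) :=
    fun hdvd => h1 (dvd_trans hdvd (relIndex_sup_dvd_relIndex N D C hDC))
  have h3 : ¬ p ∣ (N ⊔ D).relIndex S := by
    intro hdvd
    apply h2
    rw [← Subgroup.relIndex_mul_relIndex (N ⊔ D) S (N ⊔ C) hNDS hSle]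
    exact Dvd.dvd.mul_right hdvd _
  rw [← Subgroup.relIndex_mul_index hNDS]
  intro hdvd
  rcases (Nat.Prime.dvd_mul hM.1).1 hdvd with h | h
  · exact h3 h
  · exact hind h

end FongIndex

section Automized

/-- a `p`-subgroup of the finite group `K` whose index in `K` is prime to `p` is Sylow in `K` -/
theorem isSylowIn_of_not_dvd_relIndex {A : Type*} [Group A] {p : ℕ} [Fact p.Prime]
    {H K : Subgroup A} [Finite K] (hHK : H ≤ K) (hH : IsPGroup p H)
    (hidx : ¬ p ∣ H.relIndex K) : IsSylowIn p H K := by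
  refine ⟨hHK, hH, ?_⟩
  intro L hLK hL hHL
  haveI : Finite L := Finite.of_injective (Subgroup.inclusion hLK)
    (Subgroup.inclusion_injective hLK)
  obtain ⟨n, hn⟩ := hL.exists_card_eq
  have h1 : H.relIndex L ∣ p ^ n := hn ▸ Subgroup.relIndex_dvd_card H L
  obtain ⟨m, -, hm⟩ := (Nat.dvd_prime_pow (Fact.out : p.Prime)).1 h1
  have h2 : H.relIndex L ∣ H.relIndex K :=
    Dvd.intro _ (Subgroup.relIndex_mul_relIndex H L K hHL hLK)
  have hm0 : m = 0 := by
    by_contra hne
    apply hidx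
    refine dvd_trans ?_ h2
    rw [hm]
    exact dvd_pow_self p hne
  rw [hm0, pow_zero] at hm
  exact le_antisymm (Subgroup.relIndex_eq_one.1 hm) hHL

variable {G : Type u} [Group G] [Fintype G] {M : Ideal AlgInt} {p : ℕ}

/-- **`Q` is fully automized** when `N_P(Q)` is a defect group of the block of the stabilizer
of `(Q, f)` -/
theorem isFullyAutomized_of_isDefectGroup (hM : IsPModular p M) [Fact p.Prime]
    {B : Set (IrrCharacter G)} {P : Subgroup G}
    {e : Set (IrrCharacter (Subgroup.centralizer (P : Set G)))} {F : FusionSystem P}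
    (hF : IsBlockFusionSystemOn p M B P e F) {Q : Subgroup G}
    {f : Set (IrrCharacter (Subgroup.centralizer (Q : Set G)))}
    (hle : SubpairLE p M Q f P e) (T : Subgroup G)
    (hT : ∀ y : G, y ∈ T ↔ y ∈ Subgroup.normalizer (Q : Set G) ∧
      StabilizesBlock (Subgroup.centralizer (Q : Set G)) f y)
    {FT : Set (IrrCharacter T)} (hFT : IsPBlock M FT)
    (hFTc : ∀ t : T, blockCoeff FT t =
      subgroupBlockCoeff (Subgroup.centralizer (Q : Set G)) f (t : G))
    (hD : IsDefectGroup p M FT ((P ⊓ Subgroup.normalizer (Q : Set G)).subgroupOf T)) :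
    F.IsFullyAutomized p Q := by
  classical
  haveI hMp : M.IsPrime := hM.2.1.isPrime
  haveI : Fintype T := Fintype.ofFinite _
  haveI : Fintype (Subgroup.centralizer (Q : Set G)) := Fintype.ofFinite _
  have hmax := hF.1
  have hPe : IsBrauerPair p M P e := hmax.1.1
  have hQP : Q ≤ P := chain_le hle
  obtain ⟨hQ, hf⟩ := chain_isBrauerPair hle hPe
  have hCT : Subgroup.centralizer (Q : Set G) ≤ T := fun c hc =>
    (hT c).2 ⟨Subgroup.centralizer_le_normalizer _ hc, stabilizesBlock_of_mem _ f hc⟩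
  have hTNQ : T ≤ Subgroup.normalizer (Q : Set G) := fun x hx => ((hT x).1 hx).1
  have hTNC : T ≤ Subgroup.normalizer
      ((Subgroup.centralizer (Q : Set G) : Subgroup G) : Set G) :=
    fun x hx => ((hT x).1 hx).2.1
  obtain ⟨hST, -⟩ := normalizer_le_defectGroup_of_subpairLE hM hPe hle T hT hFT hFTc
  -- Fong's lemma in the group `T`
  set N' : Subgroup T := (Subgroup.centralizer (Q : Set G)).subgroupOf T with hN'
  haveI hN'n : N'.Normal := Subgroup.normal_subgroupOf_of_le_normalizer hTNC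
  haveI : Fintype N' := Fintype.ofFinite _
  set σ : N' ≃* Subgroup.centralizer (Q : Set G) := Subgroup.subgroupOfEquivOfLe hCT with hσ
  have hσc : ∀ k : N', ((σ k : Subgroup.centralizer (Q : Set G)) : G) = ((k : T) : G) :=
    fun k => rfl
  set c' : Set (IrrCharacter N') := irrComp σ '' f with hc'
  have hc'b : IsPBlock M c' := isPBlock_image_irrComp σ hf
  have hst : ∀ t : T, StabilizesBlock N' c' t := by
    intro t
    refine ⟨(Subgroup.normalizer_eq_top_iff.mpr hN'n) ▸ Subgroup.mem_top t, ?_⟩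
    rintro _ ⟨χ, hχ, rfl⟩
    obtain ⟨χ₂, hχ₂, hconj⟩ := ((hT (t : G)).1 t.2).2.2 χ hχ
    refine ⟨irrComp σ χ₂, ⟨χ₂, hχ₂, rfl⟩, ?_⟩
    intro k k' hk
    rw [irrComp_apply, irrComp_apply]
    apply hconj
    rw [hσc, hσc, hk]
    push_cast
    rfl
  have hBc : ∀ t : T, blockCoeff FT t = subgroupBlockCoeff N' c' t := by
    intro t
    rw [hFTc t]
    unfold subgroupBlockCoeff
    by_cases ht : (t : G) ∈ Subgroup.centralizer (Q : Set G)
    · have ht' : t ∈ N' := by
        rw [hN', Subgroup.mem_subgroupOf]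
        exact ht
      rw [dif_pos ht, dif_pos ht', hc', blockCoeff_image_irrComp]
      rfl
    · have ht' : t ∉ N' := by
        rw [hN', Subgroup.mem_subgroupOf]
        exact ht
      rw [dif_neg ht, dif_neg ht']
  have hidx := not_dvd_index_sup_defectGroup N' hM hc'b hst hFT hBc hD
  -- the conjugation homomorphism `T → Aut(Q)`
  set κ : T →* MulAut Q := Q.normalizerMonoidHom.comp (Subgroup.inclusion hTNQ) with hκdef
  have hκ : ∀ (t : T) (x : Q), ((κ t x : Q) : G) = (t : G) * (x : G) * (t : G)⁻¹ :=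
    fun t x => rfl
  have hker : κ.ker = N' := by
    ext t
    rw [MonoidHom.mem_ker, hN', Subgroup.mem_subgroupOf, Subgroup.mem_centralizer_iff]
    constructor
    · intro h x hx
      have h1 : ((κ t ⟨x, hx⟩ : Q) : G) = x := by
        rw [h]
        rfl
      rw [hκ] at h1
      calc x * (t : G) = (t : G) * x * (t : G)⁻¹ * (t : G) := by rw [h1]
        _ = (t : G) * x := by group
    · intro h
      ext x
      rw [hκ]
      have h1 := h (x : G) x.2
      calc (t : G) * (x : G) * (t : G)⁻¹ = (x : G) * (t : G) * (t : G)⁻¹ := by rw [h1]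
        _ = ((1 : MulAut Q) x : Q) := by
          rw [mul_inv_cancel_right]
          rfl
  have hrange : F.autGroup Q = κ.range := by
    ext α
    rw [mem_autGroup_iff F hQP, hF.2]
    constructor
    · rintro ⟨-, g, hg, hgP, f₁, hle₁, hleg⟩
      have hff : f₁ = f := subpairLE_unique hM _ P Q e hPe rfl f₁ f hle₁ hle
      subst hff
      have hg' : ∀ x : Q, ((α x : Q) : G) = g * (x : G) * g⁻¹ := fun x => hg x
      have hgN : g ∈ Subgroup.normalizer (Q : Set G) := mem_normalizer_of_aut α hg'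
      have hfix : conjPair g ⟨Q, f₁⟩ = (⟨Q, f₁⟩ : BrauerPairIdx G) :=
        pair_eq_of_reflTransGen hM hPe (map_conj_eq_of_mem_normalizer hgN) hleg hle
      have hgT : g ∈ T := (hT g).2 (stabilizes_of_conjPair_eq_self hfix)
      refine ⟨⟨g, hgT⟩, ?_⟩
      ext x
      rw [hκ]
      exact (hg' x).symm
    · rintro ⟨t, rfl⟩
      have hfix : conjPair (t : G) ⟨Q, f⟩ = (⟨Q, f⟩ : BrauerPairIdx G) :=
        conjPair_eq_self_of_stabilizes hM hf ((hT t).1 t.2).1 ((hT t).1 t.2).2
      have hle' : Relation.ReflTransGen (NormalSubpairRel p M) (conjPair (t : G) ⟨Q, f⟩)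
          ⟨P, e⟩ := by
        rw [hfix]
        exact hle
      exact ⟨hQP, (t : G), fun u => rfl, chain_le hle', f, hle, hle'⟩
  have hmapD : autInducedBy P Q =
      ((P ⊓ Subgroup.normalizer (Q : Set G)).subgroupOf T).map κ := by
    ext α
    rw [mem_autInducedBy_iff]
    constructor
    · rintro ⟨g, hgP, hg⟩
      have hgN : g ∈ Subgroup.normalizer (Q : Set G) := mem_normalizer_of_aut α hg
      have hgT : g ∈ T := hST ⟨hgP, hgN⟩
      refine ⟨⟨g, hgT⟩, ?_, ?_⟩
      · rw [SetLike.mem_coe, Subgroup.mem_subgroupOf]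
        exact ⟨hgP, hgN⟩
      · ext x
        rw [hκ]
        exact (hg x).symm
    · rintro ⟨t, ht, rfl⟩
      rw [SetLike.mem_coe, Subgroup.mem_subgroupOf] at ht
      exact ⟨(t : G), ht.1, fun x => rfl⟩
  rw [isFullyAutomized_iff F p hQP, hrange, hmapD]
  haveI : Finite κ.range := Finite.of_surjective κ.rangeRestrict κ.rangeRestrict_surjective
  apply isSylowIn_of_not_dvd_relIndex
  · rintro _ ⟨t, -, rfl⟩
    exact ⟨t, rfl⟩
  · exact ((hPe.1.to_le inf_le_left).comap_subtype).map κ
  · rw [MonoidHom.range_eq_map, Subgroup.relIndex_map_map, hker, top_sup_eq,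
      Subgroup.relIndex_top_right, sup_comm]
    exact hidx

end Automized

section Saturated

variable {G : Type u} [Group G] [Fintype G] {M : Ideal AlgInt} {p : ℕ}

/-- **The fusion system of a block on a maximal Brauer pair is saturated.** -/
theorem isSaturated_of_isBlockFusionSystemOn (hM : IsPModular p M) [Fact p.Prime]
    {B : Set (IrrCharacter G)} {P : Subgroup G}
    {e : Set (IrrCharacter (Subgroup.centralizer (P : Set G)))} {F : FusionSystem P}
    (hF : IsBlockFusionSystemOn p M B P e F) : F.IsSaturated p := by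
  intro Q₀ hQ₀P
  have hmax := hF.1
  have hPe : IsBrauerPair p M P e := hmax.1.1
  obtain ⟨f₀, hf₀, hle₀⟩ := exists_subpairLE hM _ P Q₀ e hPe hQ₀P rfl
  obtain ⟨x, hlex, hall⟩ := exists_conj_normalizer_isDefectGroup hM hmax hle₀
    (pairStab Q₀ f₀) (mem_pairStab_iff hM hf₀)
  have hfx : IsPBlock M (conjBlock Q₀ x f₀) := isPBlock_conjBlock Q₀ x hf₀
  obtain ⟨FT, hFT, hFTc, hD⟩ := hall (pairStab _ (conjBlock Q₀ x f₀)) (mem_pairStab_iff hM hfx)
  have hconj : F.IsConj Q₀ (Q₀.map (MulAut.conj x).toMonoidHom) :=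
    isConj_of_subpairLE_conj hF hle₀ hlex
  have hFN : F.IsFullyNormalized (Q₀.map (MulAut.conj x).toMonoidHom) :=
    (isFullyNormalized_iff hM hF hlex _ (mem_pairStab_iff hM hfx)).2 ⟨FT, hFT, hFTc, hD⟩
  exact ⟨_, hconj,
    isFullyAutomized_of_isDefectGroup hM hF hlex _ (mem_pairStab_iff hM hfx) hFT hFTc hD,
    isReceptive_of_isFullyNormalized hM hF hlex hFN⟩

end Saturated

end Cfsg.Agent.Helper23.Blk
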