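import Mathlib
import Cfsg.Agent.Lib.Helper23.BlockFusionSat

/-!
# Nilpotent blocks and the fusion system of a block (helper23's shared library)
-/

set_option autoImplicit false
set_option linter.unusedSectionVars false
set_option linter.style.haveILetI false

namespace Cfsg.Agent.Helper23.Blk

open Cfsg Cfsg.Agent.Helper24 Cfsg.Agent.Helper18 Cfsg.Agent.Helper18.PairRel
  Cfsg.Agent.Helper25

universe u

section Nilp

variable {G : Type u} [Group G] [Fintype G] {M : Ideal AlgInt} {p : ℕ}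

/-- **`Aut_F(Q)` is induced by the stabilizer of `(Q, f)`** -/
theorem mem_autGroup_block_iff (hM : IsPModular p M) [Fact p.Prime]
    {B : Set (IrrCharacter G)} {P : Subgroup G}
    {e : Set (IrrCharacter (Subgroup.centralizer (P : Set G)))} {F : FusionSystem P}
    (hF : IsBlockFusionSystemOn p M B P e F) {Q : Subgroup G}
    {f : Set (IrrCharacter (Subgroup.centralizer (Q : Set G)))}
    (hle : SubpairLE p M Q f P e) (α : MulAut Q) :
    α ∈ F.autGroup Q ↔ ∃ g : G, g ∈ Subgroup.normalizer (Q : Set G) ∧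
      StabilizesBlock (Subgroup.centralizer (Q : Set G)) f g ∧
      ∀ x : Q, ((α x : Q) : G) = g * (x : G) * g⁻¹ := by
  have hmax := hF.1
  have hPe : IsBrauerPair p M P e := hmax.1.1
  have hQP : Q ≤ P := chain_le hle
  obtain ⟨hQ, hf⟩ := chain_isBrauerPair hle hPe
  rw [mem_autGroup_iff F hQP, hF.2]
  constructor
  · rintro ⟨-, g, hg, hgP, f₁, hle₁, hleg⟩
    have hff : f₁ = f := subpairLE_unique hM _ P Q e hPe rfl f₁ f hle₁ hle
    subst hff
    have hg' : ∀ x : Q, ((α x : Q) : G) = g * (x : G) * g⁻¹ := fun x => hg x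
    have hgN : g ∈ Subgroup.normalizer (Q : Set G) := mem_normalizer_of_aut α hg'
    have hfix : conjPair g ⟨Q, f₁⟩ = (⟨Q, f₁⟩ : BrauerPairIdx G) :=
      pair_eq_of_reflTransGen hM hPe (map_conj_eq_of_mem_normalizer hgN) hleg hle
    exact ⟨g, hgN, (stabilizes_of_conjPair_eq_self hfix).2, hg'⟩
  · rintro ⟨g, hgN, hgst, hg⟩
    have hfix : conjPair g ⟨Q, f⟩ = (⟨Q, f⟩ : BrauerPairIdx G) :=
      conjPair_eq_self_of_stabilizes hM hf hgN hgst
    have hle' : Relation.ReflTransGen (NormalSubpairRel p M) (conjPair g ⟨Q, f⟩) ⟨P, e⟩ := by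
      rw [hfix]
      exact hle
    exact ⟨hQP, g, fun u => hg u, chain_le hle', f, hle, hle'⟩

theorem aut_pow_conj {Q : Subgroup G} {α : MulAut Q} {g : G}
    (hg : ∀ x : Q, ((α x : Q) : G) = g * (x : G) * g⁻¹) (n : ℕ) (x : Q) :
    (((α ^ n) x : Q) : G) = g ^ n * (x : G) * (g ^ n)⁻¹ := by
  induction n generalizing x with
  | zero => simp
  | succ n ih =>
    rw [pow_succ', MulAut.mul_apply, hg, ih, pow_succ']
    simp [mul_assoc]

/-- **in a nilpotent block all `Aut_F(Q)` are `p`-groups** -/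
theorem isPGroup_autGroup_of_isNilpotentBlock (hM : IsPModular p M) [Fact p.Prime]
    {B : Set (IrrCharacter G)} {P : Subgroup G}
    {e : Set (IrrCharacter (Subgroup.centralizer (P : Set G)))} {F : FusionSystem P}
    (hF : IsBlockFusionSystemOn p M B P e F) (hnil : IsNilpotentBlock p M B) {Q : Subgroup G}
    (hQP : Q ≤ P) : IsPGroup p (F.autGroup Q) := by
  classical
  have hmax := hF.1
  have hPe : IsBrauerPair p M P e := hmax.1.1
  have hp : p.Prime := Fact.out
  obtain ⟨f, hf, hle⟩ := exists_subpairLE hM _ P Q e hPe hQP rfl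
  have hBQ : IsBrauerPairOf p M B Q f := isBrauerPairOf_of_subpairLE_down hM hle hmax.1
  rintro ⟨α, hα⟩
  obtain ⟨g, hgN, hgst, hg⟩ := (mem_autGroup_block_iff hM hF hle α).1 hα
  have hne : orderOf g ≠ 0 := (orderOf_pos g).ne'
  obtain ⟨a, m, hm, hnm⟩ := Nat.exists_eq_pow_mul_and_not_dvd hne p hp.ne_one
  refine ⟨a, ?_⟩
  apply Subtype.ext
  show α ^ p ^ a = 1
  have hpa : p ^ a ≠ 0 := pow_ne_zero _ hp.ne_zero
  have hord : orderOf (g ^ p ^ a) = m := by
    rw [orderOf_pow_of_dvd hpa (Dvd.intro _ hnm.symm), hnm]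
    exact Nat.mul_div_cancel_left m (Nat.pos_of_ne_zero hpa)
  have hreg : IsPRegular p (g ^ p ^ a) := by
    unfold IsPRegular
    rw [hord]
    exact hm
  have hst' : g ^ p ^ a ∈ pairStab Q f :=
    Subgroup.pow_mem _ ((mem_pairStab_iff hM hf g).2 ⟨hgN, hgst⟩) _
  obtain ⟨hN', hst''⟩ := (mem_pairStab_iff hM hf _).1 hst'
  have hcent := hnil.2 Q f hBQ _ hN' hst'' hreg
  ext x
  rw [aut_pow_conj hg]
  have h1 := (Subgroup.mem_centralizer_iff.1 hcent) (x : G) x.2
  calc g ^ p ^ a * (x : G) * (g ^ p ^ a)⁻¹ = (x : G) * g ^ p ^ a * (g ^ p ^ a)⁻¹ := by rw [h1]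
    _ = ((1 : MulAut Q) x : Q) := by
      rw [mul_inv_cancel_right]
      rfl

/-- **if the fusion system of `B` is the inner fusion system of `P`, then `B` is nilpotent** -/
theorem isNilpotentBlock_of_hom_le_inner (hM : IsPModular p M) [Fact p.Prime]
    {B : Set (IrrCharacter G)} {P : Subgroup G}
    {e : Set (IrrCharacter (Subgroup.centralizer (P : Set G)))} {F : FusionSystem P}
    (hF : IsBlockFusionSystemOn p M B P e F)
    (hinner : ∀ Q : Subgroup G, F.Hom Q ⊆ (innerFusionSystem P).Hom Q) :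
    IsNilpotentBlock p M B := by
  classical
  have hmax := hF.1
  have hPe : IsBrauerPair p M P e := hmax.1.1
  have hp : p.Prime := Fact.out
  refine ⟨hmax.1.2.1, ?_⟩
  intro R g hRg x hxN hxst hxreg
  obtain ⟨y, hley⟩ := exists_conj_subpairLE_of_maximal hM hmax hRg
  set Q : Subgroup G := R.map (MulAut.conj y).toMonoidHom with hQdef
  set f := conjBlock R y g with hfdef
  have hQP : Q ≤ P := chain_le hley
  obtain ⟨hQ, hf⟩ := chain_isBrauerPair hley hPe
  set x' : G := y * x * y⁻¹ with hx'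
  have hx'N : x' ∈ Subgroup.normalizer (Q : Set G) := by
    rw [hQdef, mem_normalizer_map_conj_iff]
    have e1 : y⁻¹ * x' * y = x := by
      rw [hx']
      group
    rw [e1]
    exact hxN
  have hx'st : StabilizesBlock (Subgroup.centralizer (Q : Set G)) f x' :=
    stabilizesBlock_conj R y hxst
  have hfix : conjPair x' ⟨Q, f⟩ = (⟨Q, f⟩ : BrauerPairIdx G) :=
    conjPair_eq_self_of_stabilizes hM hf hx'N hx'st
  have hle' : Relation.ReflTransGen (NormalSubpairRel p M) (conjPair x' ⟨Q, f⟩) ⟨P, e⟩ := by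
    rw [hfix]
    exact hley
  have hmem : conjHom Q x' ∈ F.Hom Q :=
    (hF.2 Q _).2 ⟨hQP, x', fun u => rfl, chain_le hle', f, hley, hle'⟩
  obtain ⟨-, s, hsP, hs⟩ := hinner Q hmem
  have hs' : ∀ u ∈ Q, x' * u * x'⁻¹ = s * u * s⁻¹ := fun u hu => hs ⟨u, hu⟩
  -- `s` normalizes `Q`
  have hsN : s ∈ Subgroup.normalizer (Q : Set G) := by
    rw [Subgroup.mem_normalizer_iff]
    intro u
    constructor
    · intro hu
      rw [← hs' u hu]
      exact (Subgroup.mem_normalizer_iff.1 hx'N u).1 hu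
    · intro hu
      have hx'inv : x'⁻¹ ∈ Subgroup.normalizer (Q : Set G) := Subgroup.inv_mem _ hx'N
      have h1 := (Subgroup.mem_normalizer_iff.1 hx'inv _).1 hu
      rw [inv_inv] at h1
      have h2 := hs' _ h1
      have e1 : x' * (x'⁻¹ * (s * u * s⁻¹) * x') * x'⁻¹ = s * u * s⁻¹ := by group
      rw [e1] at h2
      have h3 : u = x'⁻¹ * (s * u * s⁻¹) * x' := by
        have h4 : s⁻¹ * (s * u * s⁻¹) * s = s⁻¹ * (s * (x'⁻¹ * (s * u * s⁻¹) * x') * s⁻¹) * s := by
          rw [← h2]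
        have e2 : s⁻¹ * (s * u * s⁻¹) * s = u := by group
        have e3 : s⁻¹ * (s * (x'⁻¹ * (s * u * s⁻¹) * x') * s⁻¹) * s =
            x'⁻¹ * (s * u * s⁻¹) * x' := by group
        rw [e2, e3] at h4
        exact h4
      rw [h3]
      exact h1
  -- compare the two automorphisms of `Q`
  have heq : Q.normalizerMonoidHom ⟨x', hx'N⟩ = Q.normalizerMonoidHom ⟨s, hsN⟩ := by
    ext u
    exact hs' (u : G) u.2
  have hd1 : orderOf (Q.normalizerMonoidHom ⟨x', hx'N⟩) ∣ orderOf x' := by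
    have h1 := orderOf_map_dvd Q.normalizerMonoidHom (⟨x', hx'N⟩ : Subgroup.normalizer (Q : Set G))
    rwa [Subgroup.orderOf_mk] at h1
  obtain ⟨k, hk⟩ := hPe.1 ⟨s, hsP⟩
  have hsk : s ^ p ^ k = 1 := by
    have := congrArg Subtype.val hk
    simpa using this
  have hd2 : orderOf (Q.normalizerMonoidHom ⟨x', hx'N⟩) ∣ p ^ k := by
    rw [heq]
    have h1 := orderOf_map_dvd Q.normalizerMonoidHom (⟨s, hsN⟩ : Subgroup.normalizer (Q : Set G))
    rw [Subgroup.orderOf_mk] at h1
    exact dvd_trans h1 (orderOf_dvd_of_pow_eq_one hsk)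
  have hordx' : orderOf x' = orderOf x := (MulAut.conj y).orderOf_eq x
  have hcop : Nat.Coprime (p ^ k) (orderOf x') := by
    rw [hordx']
    exact Nat.Coprime.pow_left k ((Nat.Prime.coprime_iff_not_dvd hp).2 hxreg)
  have hone : orderOf (Q.normalizerMonoidHom ⟨x', hx'N⟩) = 1 :=
    Nat.Coprime.eq_one_of_dvd (Nat.Coprime.coprime_dvd_left hd2 hcop) hd1
  rw [orderOf_eq_one_iff] at hone
  have hker : (⟨x', hx'N⟩ : Subgroup.normalizer (Q : Set G)) ∈ Q.normalizerMonoidHom.ker :=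
    hone
  rw [Subgroup.normalizerMonoidHom_ker, Subgroup.mem_subgroupOf] at hker
  have hx'C : x' ∈ Subgroup.centralizer (Q : Set G) := hker
  rw [hQdef, mem_centralizer_map_conj_iff] at hx'C
  have e1 : y⁻¹ * x' * y = x := by
    rw [hx']
    group
  rwa [e1] at hx'C

end Nilp

end Cfsg.Agent.Helper23.Blk
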