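import Mathlib
import Cfsg.Agent.Lib.Helper23.BlockFusionNilp
import Cfsg.Agent.S5083

/-!
# Nilpotent blocks: the blocks of the Brauer pairs are nilpotent (helper23's shared library)
-/

set_option autoImplicit false
set_option linter.unusedSectionVars false
set_option linter.style.haveILetI false

namespace Cfsg.Agent.Helper23.Blk

open Cfsg Cfsg.Agent.Helper24 Cfsg.Agent.Helper18 Cfsg.Agent.Helper18.PairRel
  Cfsg.Agent.Helper25

universe u

section CenSup

variable {G : Type u} [Group G]

theorem mem_centralizer_sup_iff (Q R : Subgroup G) (x : G) :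
    x ∈ Subgroup.centralizer ((Q ⊔ R : Subgroup G) : Set G) ↔
      x ∈ Subgroup.centralizer (Q : Set G) ∧ x ∈ Subgroup.centralizer (R : Set G) := by
  constructor
  · intro h
    have hQ : Q ≤ Q ⊔ R := le_sup_left
    have hR : R ≤ Q ⊔ R := le_sup_right
    exact ⟨Subgroup.centralizer_le hQ h, Subgroup.centralizer_le hR h⟩
  · rintro ⟨h1, h2⟩
    have h3 : Q ⊔ R ≤ Subgroup.centralizer ({x} : Set G) := by
      apply sup_le
      · intro q hq
        rw [Subgroup.mem_centralizer_singleton_iff]
        exact ((Subgroup.mem_centralizer_iff.1 h1) q hq)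
      · intro r hr
        rw [Subgroup.mem_centralizer_singleton_iff]
        exact ((Subgroup.mem_centralizer_iff.1 h2) r hr)
    rw [Subgroup.mem_centralizer_iff]
    intro y hy
    have h4 := h3 hy
    rw [Subgroup.mem_centralizer_singleton_iff] at h4
    exact h4

/-- for `R' ≤ C_G(Q)`: the centralizer of `R'` inside `C_G(Q)` is `C_G(Q R')` -/
def cenSupEquiv (Q : Subgroup G) (R' : Subgroup (Subgroup.centralizer (Q : Set G))) :
    Subgroup.centralizer (R' : Set (Subgroup.centralizer (Q : Set G))) ≃*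
      Subgroup.centralizer
        ((Q ⊔ R'.map (Subgroup.centralizer (Q : Set G)).subtype : Subgroup G) : Set G) where
  toFun c := ⟨((c : Subgroup.centralizer (Q : Set G)) : G), by
    rw [mem_centralizer_sup_iff]
    refine ⟨(c : Subgroup.centralizer (Q : Set G)).2, ?_⟩
    rw [Subgroup.mem_centralizer_iff]
    rintro _ ⟨r, hr, rfl⟩
    have h1 := (Subgroup.mem_centralizer_iff.1 c.2) r hr
    have h2 := congrArg Subtype.val h1
    push_cast at h2
    exact h2⟩
  invFun d := ⟨⟨(d : G), ((mem_centralizer_sup_iff _ _ _).1 d.2).1⟩, by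
    rw [Subgroup.mem_centralizer_iff]
    intro r hr
    have h1 := (Subgroup.mem_centralizer_iff.1 ((mem_centralizer_sup_iff _ _ _).1 d.2).2)
      (r : G) ⟨r, hr, rfl⟩
    apply Subtype.ext
    push_cast
    exact h1⟩
  left_inv c := by
    apply Subtype.ext
    apply Subtype.ext
    rfl
  right_inv d := by
    apply Subtype.ext
    rfl
  map_mul' a b := by
    apply Subtype.ext
    rfl

theorem cenSupEquiv_coe (Q : Subgroup G) (R' : Subgroup (Subgroup.centralizer (Q : Set G)))
    (c : Subgroup.centralizer (R' : Set (Subgroup.centralizer (Q : Set G)))) :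
    ((cenSupEquiv Q R' c : Subgroup.centralizer
      ((Q ⊔ R'.map (Subgroup.centralizer (Q : Set G)).subtype : Subgroup G) : Set G)) : G) =
      ((c : Subgroup.centralizer (Q : Set G)) : G) := rfl

theorem cenSupEquiv_symm_coe (Q : Subgroup G) (R' : Subgroup (Subgroup.centralizer (Q : Set G)))
    (d : Subgroup.centralizer
      ((Q ⊔ R'.map (Subgroup.centralizer (Q : Set G)).subtype : Subgroup G) : Set G)) :
    ((((cenSupEquiv Q R').symm d : Subgroup.centralizer
      (R' : Set (Subgroup.centralizer (Q : Set G)))) : Subgroup.centralizer (Q : Set G)) : G) =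
      (d : G) := rfl

/-- transport of the Brauer map from `C_G(Q)` at `R'` to `G` at `Q R'` -/
theorem brauerOmega_cenSup (Q : Subgroup G) (R' : Subgroup (Subgroup.centralizer (Q : Set G)))
    (f : Set (IrrCharacter (Subgroup.centralizer (Q : Set G))))
    (ξ : Subgroup.centralizer
      ((Q ⊔ R'.map (Subgroup.centralizer (Q : Set G)).subtype : Subgroup G) : Set G) → ℂ) :
    brauerOmega R' (blockCoeff f) (fun c => ξ (cenSupEquiv Q R' c)) =
      brauerOmega (Q ⊔ R'.map (Subgroup.centralizer (Q : Set G)).subtype)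
        (subgroupBlockCoeff (Subgroup.centralizer (Q : Set G)) f) ξ := by
  unfold brauerOmega
  rw [← finsum_comp_equiv (cenSupEquiv Q R').toEquiv]
  apply finsum_congr
  intro c
  show blockCoeff f (c : Subgroup.centralizer (Q : Set G)) * ξ (cenSupEquiv Q R' c) /
      ξ (cenSupEquiv Q R' 1) =
    subgroupBlockCoeff (Subgroup.centralizer (Q : Set G)) f
      ((cenSupEquiv Q R' c : Subgroup.centralizer
        ((Q ⊔ R'.map (Subgroup.centralizer (Q : Set G)).subtype : Subgroup G) : Set G)) : G) *
      ξ (cenSupEquiv Q R' c) / ξ 1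
  rw [map_one, cenSupEquiv_coe]
  congr 2
  unfold subgroupBlockCoeff
  rw [dif_pos (c : Subgroup.centralizer (Q : Set G)).2]

end CenSup

section NilpCent

variable {G : Type u} [Group G] [Fintype G] {M : Ideal AlgInt} {p : ℕ}

/-- a Brauer pair `(R', g')` of the block `f` of `C_G(Q)` gives a normal inclusion
`(Q, f) ⊴ (Q R', g)` in `G` -/
theorem isNormalSubpair_of_isBrauerPairOf_cent (hM : IsPModular p M) {Q : Subgroup G}
    (hQ : IsPGroup p Q) {f : Set (IrrCharacter (Subgroup.centralizer (Q : Set G)))}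
    {R' : Subgroup (Subgroup.centralizer (Q : Set G))}
    {g' : Set (IrrCharacter (Subgroup.centralizer
      (R' : Set (Subgroup.centralizer (Q : Set G)))))}
    (h : IsBrauerPairOf p M f R' g') :
    IsNormalSubpair p M Q f (Q ⊔ R'.map (Subgroup.centralizer (Q : Set G)).subtype)
      (irrComp (cenSupEquiv Q R').symm '' g') := by
  classical
  haveI hMp : M.IsPrime := hM.2.1.isPrime
  obtain ⟨⟨hR', hg'⟩, hf, hbr⟩ := h
  have hne : f.Nonempty := block_nonempty hM hf
  set R : Subgroup G := R'.map (Subgroup.centralizer (Q : Set G)).subtype with hR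
  have hRC : R ≤ Subgroup.centralizer (Q : Set G) := Subgroup.map_subtype_le _
  have hRN : R ≤ Subgroup.normalizer (Q : Set G) :=
    hRC.trans (Subgroup.centralizer_le_normalizer _)
  have hRp : IsPGroup p R := hR'.map _
  have hsupN : Q ⊔ R ≤ Subgroup.normalizer (Q : Set G) := sup_le Subgroup.le_normalizer hRN
  have hstab : Q ⊔ R ≤ pairStab Q f := by
    apply sup_le
    · intro x hx
      exact (mem_pairStab_iff hM hf x).2
        ⟨Subgroup.le_normalizer hx, stabilizesBlock_of_commute Q f hx⟩
    · intro x hx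
      exact (mem_pairStab_iff hM hf x).2 ⟨hRN hx, stabilizesBlock_of_mem _ f (hRC hx)⟩
  refine ⟨⟨hQ, hf⟩, ⟨hQ.to_sup_of_normal_left' hRp hRN, isPBlock_image_irrComp _ hg'⟩,
    le_sup_left, hsupN, fun x hx => ((mem_pairStab_iff hM hf x).1 (hstab hx)).2, ?_⟩
  rintro _ ⟨ξ', hξ', rfl⟩
  have h1 := hbr ξ' hξ'
  rw [← brauerOmega_cenSup Q R' f]
  have h2 : (fun c => (irrComp (cenSupEquiv Q R').symm ξ' : _ → ℂ) (cenSupEquiv Q R' c)) =
      (ξ' : _ → ℂ) := by
    funext c
    rw [irrComp_apply, MulEquiv.symm_apply_apply]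
  rw [h2]
  exact h1

/-- **the blocks of the Brauer pairs of a nilpotent block are nilpotent** -/
theorem isNilpotentBlock_cent (hM : IsPModular p M) {B : Set (IrrCharacter G)}
    (hnil : IsNilpotentBlock p M B) {Q : Subgroup G}
    {f : Set (IrrCharacter (Subgroup.centralizer (Q : Set G)))}
    (hQf : IsBrauerPairOf p M B Q f) : IsNilpotentBlock p M f := by
  classical
  haveI : Fintype (Subgroup.centralizer (Q : Set G)) := Fintype.ofFinite _
  refine ⟨hQf.1.2, ?_⟩
  intro R' g' hRg' x hxN hxst hxreg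
  have hsub := isNormalSubpair_of_isBrauerPairOf_cent hM hQf.1.1 hRg'
  have hBR := isBrauerPairOf_of_isNormalSubpair hM hsub hQf
  set R : Subgroup G := R'.map (Subgroup.centralizer (Q : Set G)).subtype with hR
  -- `x` normalizes `Q R'`
  have hxNR : (x : G) ∈ Subgroup.normalizer (R : Set G) := by
    rw [Subgroup.mem_normalizer_iff]
    intro y
    have hxN' := Subgroup.mem_normalizer_iff.1 hxN
    constructor
    · rintro ⟨r, hr, rfl⟩
      exact ⟨x * r * x⁻¹, (hxN' r).1 hr, rfl⟩
    · rintro ⟨r, hr, hre⟩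
      have hyC : y ∈ Subgroup.centralizer (Q : Set G) := by
        have h1 : y = (x : G)⁻¹ * ((x : G) * y * (x : G)⁻¹) * (x : G) := by group
        rw [h1, ← hre]
        exact Subgroup.mul_mem _ (Subgroup.mul_mem _ (Subgroup.inv_mem _ x.2) r.2) x.2
      have h2 : x * (⟨y, hyC⟩ : Subgroup.centralizer (Q : Set G)) * x⁻¹ = r := by
        apply Subtype.ext
        exact hre.symm
      have h3 : (⟨y, hyC⟩ : Subgroup.centralizer (Q : Set G)) ∈ R' := by
        rw [hxN' ⟨y, hyC⟩, h2]
        exact hr
      exact ⟨⟨y, hyC⟩, h3, rfl⟩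
  have hxNQ : (x : G) ∈ Subgroup.normalizer (Q : Set G) :=
    Subgroup.centralizer_le_normalizer _ x.2
  have hxNsup : (x : G) ∈ Subgroup.normalizer ((Q ⊔ R : Subgroup G) : Set G) := by
    have h1 : Q ⊔ R ≤ (Q ⊔ R).map (MulAut.conj (x : G)⁻¹).toMonoidHom := by
      apply sup_le
      · intro q hq
        refine ⟨(x : G) * q * (x : G)⁻¹, Subgroup.mem_sup_left
          ((Subgroup.mem_normalizer_iff.1 hxNQ q).1 hq), ?_⟩
        simp only [MulEquiv.coe_toMonoidHom, MulAut.conj_apply]
        group
      · intro r hr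
        refine ⟨(x : G) * r * (x : G)⁻¹, Subgroup.mem_sup_right
          ((Subgroup.mem_normalizer_iff.1 hxNR r).1 hr), ?_⟩
        simp only [MulEquiv.coe_toMonoidHom, MulAut.conj_apply]
        group
    have h2 : (Q ⊔ R).map (MulAut.conj (x : G)⁻¹).toMonoidHom = Q ⊔ R := by
      symm
      apply Subgroup.eq_of_le_of_card_ge h1
      rw [Subgroup.card_map_of_injective (MulAut.conj (x : G)⁻¹).injective]
    have h3 := mem_normalizer_of_map_conj_eq h2
    have h4 := Subgroup.inv_mem _ h3
    rwa [inv_inv] at h4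
  -- `x` stabilizes the block on `Q R'`
  have hxst' : StabilizesBlock (Subgroup.centralizer ((Q ⊔ R : Subgroup G) : Set G))
      (irrComp (cenSupEquiv Q R').symm '' g') (x : G) := by
    refine ⟨normalizer_le_normalizer_centralizer _ hxNsup, ?_⟩
    rintro _ ⟨χ, hχ, rfl⟩
    obtain ⟨χ₂, hχ₂, hconj⟩ := hxst.2 χ hχ
    refine ⟨irrComp (cenSupEquiv Q R').symm χ₂, ⟨χ₂, hχ₂, rfl⟩, ?_⟩
    intro k k' hk
    rw [irrComp_apply, irrComp_apply]
    apply hconj
    apply Subtype.ext
    push_cast
    rw [cenSupEquiv_symm_coe, cenSupEquiv_symm_coe, hk]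
  have hreg' : IsPRegular p (x : G) := by
    unfold IsPRegular at hxreg ⊢
    rwa [Subgroup.orderOf_coe]
  have hcent := hnil.2 _ _ hBR (x : G) hxNsup hxst' hreg'
  have h5 := ((mem_centralizer_sup_iff Q R (x : G)).1 hcent).2
  rw [Subgroup.mem_centralizer_iff] at h5 ⊢
  intro r hr
  apply Subtype.ext
  push_cast
  exact h5 (r : G) ⟨r, hr, rfl⟩

/-- the fusion system of a nilpotent block is the inner fusion system -/
theorem eq_inner_of_isNilpotentBlock (hM : IsPModular p M) [Fact p.Prime]
    {B : Set (IrrCharacter G)} {P : Subgroup G}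
    {e : Set (IrrCharacter (Subgroup.centralizer (P : Set G)))} {F : FusionSystem P}
    (hF : IsBlockFusionSystemOn p M B P e F) (hnil : IsNilpotentBlock p M B) :
    F = innerFusionSystem P := by
  haveI : Finite P := inferInstance
  exact Cfsg.Agent.S5083.result p hF.1.1.1.1 F (isSaturated_of_isBlockFusionSystemOn hM hF)
    (fun Q hQP => isPGroup_autGroup_of_isNilpotentBlock hM hF hnil hQP)

/-- **in a nilpotent block, `C_P(Q)` is a defect group of `f` for every `(Q, f) ≤ (P, e)`** -/
theorem isDefectGroup_centralizer_of_isNilpotentBlock (hM : IsPModular p M) [Fact p.Prime]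
    {B : Set (IrrCharacter G)} {P : Subgroup G}
    {e : Set (IrrCharacter (Subgroup.centralizer (P : Set G)))}
    (hmax : IsMaximalBrauerPair p M B P e) (hnil : IsNilpotentBlock p M B) {Q : Subgroup G}
    {f : Set (IrrCharacter (Subgroup.centralizer (Q : Set G)))}
    (hle : SubpairLE p M Q f P e) :
    IsDefectGroup p M f ((P ⊓ Subgroup.centralizer (Q : Set G)).subgroupOf
      (Subgroup.centralizer (Q : Set G))) := by
  classical
  have hF := isBlockFusionSystemOn_blockFusionSystem hM hmax
  have hinner := eq_inner_of_isNilpotentBlock hM hF hnil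
  have hQP : Q ≤ P := chain_le hle
  apply (isFullyCentralized_iff hM hF hle).1
  refine ⟨hQP, ?_⟩
  rintro Q' ⟨φ, hφ, hr⟩
  rw [hinner] at hφ
  obtain ⟨-, s, hsP, hs⟩ := hφ
  have hQ' : Q' = Q.map (MulAut.conj s).toMonoidHom := by
    rw [← hr]
    exact range_eq_map_conj hs
  subst hQ'
  unfold FusionSystem.centralizerIn
  have h1 : (P ⊓ Subgroup.centralizer
      ((Q.map (MulAut.conj s).toMonoidHom : Subgroup G) : Set G)).map
        (MulAut.conj s⁻¹).toMonoidHom ≤ P ⊓ Subgroup.centralizer (Q : Set G) := by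
    rintro _ ⟨y, hy, rfl⟩
    simp only [MulEquiv.coe_toMonoidHom, MulAut.conj_apply, inv_inv]
    refine ⟨P.mul_mem (P.mul_mem (P.inv_mem hsP) hy.1) hsP, ?_⟩
    exact (mem_centralizer_map_conj_iff Q s y).1 hy.2
  have h2 := Subgroup.card_le_of_le h1
  rwa [Subgroup.card_map_of_injective (MulAut.conj s⁻¹).injective] at h2

end NilpCent

end Cfsg.Agent.Helper23.Blk
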