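import Mathlib
import Cfsg.Agent.Lib.Helper23.BlockNilpCent

/-!
# Blocks with a normal centric Brauer pair (helper23's shared library)
-/

set_option autoImplicit false
set_option linter.unusedSectionVars false
set_option linter.style.haveILetI false

namespace Cfsg.Agent.Helper23.Blk

open Cfsg Cfsg.Agent.Helper24 Cfsg.Agent.Helper18 Cfsg.Agent.Helper18.PairRel
  Cfsg.Agent.Helper25
open scoped Pointwise

universe u

section Tools

variable {G : Type u} [Group G] [Fintype G] {M : Ideal AlgInt} {p : ℕ}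

/-- a Brauer pair belongs to a unique block -/
theorem block_eq_of_isBrauerPairOf (hM : IsPModular p M) {B B' : Set (IrrCharacter G)}
    {Q : Subgroup G} {f : Set (IrrCharacter (Subgroup.centralizer (Q : Set G)))}
    (h : IsBrauerPairOf p M B Q f) (h' : IsBrauerPairOf p M B' Q f) : B = B' := by
  classical
  haveI hMp : M.IsPrime := hM.2.1.isPrime
  haveI : Fintype (Subgroup.centralizer (Q : Set G)) := Fintype.ofFinite _
  letI : Fintype (IrrCharacter G) := irrFintype
  letI : Fintype (IrrCharacter (Subgroup.centralizer (Q : Set G))) := irrFintype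
  obtain ⟨ξ, hξ⟩ := block_nonempty hM h.1.2
  obtain ⟨χ, hχ⟩ := exists_irr_brauerPair Q hM h.1.1 ξ
  have h1 := (isBrauerPairOf_iff Q hM h.1.1 h.1.2 hξ hχ h.2.1).1 h
  have h2 := (isBrauerPairOf_iff Q hM h.1.1 h.1.2 hξ hχ h'.2.1).1 h'
  exact isPBlock_eq_of_mem h.2.1 h'.2.1 h1 h2

/-- a `p`-regular element acting on `Q` like a `p`-element centralizes `Q` -/
theorem mem_centralizer_of_pRegular_of_conj_eq [Fact p.Prime] {Q : Subgroup G} {x s : G}
    (hxN : x ∈ Subgroup.normalizer (Q : Set G)) {k : ℕ} (hsk : s ^ p ^ k = 1)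
    (hs : ∀ u ∈ Q, x * u * x⁻¹ = s * u * s⁻¹) (hxreg : IsPRegular p x) :
    x ∈ Subgroup.centralizer (Q : Set G) := by
  have hp : p.Prime := Fact.out
  have hsN : s ∈ Subgroup.normalizer (Q : Set G) := by
    rw [Subgroup.mem_normalizer_iff]
    intro u
    constructor
    · intro hu
      rw [← hs u hu]
      exact (Subgroup.mem_normalizer_iff.1 hxN u).1 hu
    · intro hu
      have hxinv : x⁻¹ ∈ Subgroup.normalizer (Q : Set G) := Subgroup.inv_mem _ hxN
      have h1 := (Subgroup.mem_normalizer_iff.1 hxinv _).1 hu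
      rw [inv_inv] at h1
      have h2 := hs _ h1
      have e1 : x * (x⁻¹ * (s * u * s⁻¹) * x) * x⁻¹ = s * u * s⁻¹ := by group
      rw [e1] at h2
      have h3 : u = x⁻¹ * (s * u * s⁻¹) * x := by
        have h4 : s⁻¹ * (s * u * s⁻¹) * s = s⁻¹ * (s * (x⁻¹ * (s * u * s⁻¹) * x) * s⁻¹) * s := by
          rw [← h2]
        have e2 : s⁻¹ * (s * u * s⁻¹) * s = u := by group
        have e3 : s⁻¹ * (s * (x⁻¹ * (s * u * s⁻¹) * x) * s⁻¹) * s =
            x⁻¹ * (s * u * s⁻¹) * x := by group
        rw [e2, e3] at h4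
        exact h4
      rw [h3]
      exact h1
  have heq : Q.normalizerMonoidHom ⟨x, hxN⟩ = Q.normalizerMonoidHom ⟨s, hsN⟩ := by
    ext u
    exact hs (u : G) u.2
  have hd1 : orderOf (Q.normalizerMonoidHom ⟨x, hxN⟩) ∣ orderOf x := by
    have h1 := orderOf_map_dvd Q.normalizerMonoidHom (⟨x, hxN⟩ : Subgroup.normalizer (Q : Set G))
    rwa [Subgroup.orderOf_mk] at h1
  have hd2 : orderOf (Q.normalizerMonoidHom ⟨x, hxN⟩) ∣ p ^ k := by
    rw [heq]
    have h1 := orderOf_map_dvd Q.normalizerMonoidHom (⟨s, hsN⟩ : Subgroup.normalizer (Q : Set G))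
    rw [Subgroup.orderOf_mk] at h1
    exact dvd_trans h1 (orderOf_dvd_of_pow_eq_one hsk)
  have hcop : Nat.Coprime (p ^ k) (orderOf x) :=
    Nat.Coprime.pow_left k ((Nat.Prime.coprime_iff_not_dvd hp).2 hxreg)
  have hone : orderOf (Q.normalizerMonoidHom ⟨x, hxN⟩) = 1 :=
    Nat.Coprime.eq_one_of_dvd (Nat.Coprime.coprime_dvd_left hd2 hcop) hd1
  rw [orderOf_eq_one_iff] at hone
  have hker : (⟨x, hxN⟩ : Subgroup.normalizer (Q : Set G)) ∈ Q.normalizerMonoidHom.ker := hone
  rw [Subgroup.normalizerMonoidHom_ker, Subgroup.mem_subgroupOf] at hker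
  exact hker

/-- a normal inclusion `(Q, f) ⊴ (Q R', g)` with `R' ≤ C_G(Q)` gives a Brauer pair of the block
`f` of `C_G(Q)` -/
theorem isBrauerPairOf_cent_of_isNormalSubpair {Q : Subgroup G}
    {f : Set (IrrCharacter (Subgroup.centralizer (Q : Set G)))}
    {R' : Subgroup (Subgroup.centralizer (Q : Set G))}
    {g : Set (IrrCharacter (Subgroup.centralizer
      ((Q ⊔ R'.map (Subgroup.centralizer (Q : Set G)).subtype : Subgroup G) : Set G)))}
    (h : IsNormalSubpair p M Q f (Q ⊔ R'.map (Subgroup.centralizer (Q : Set G)).subtype) g) :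
    IsBrauerPairOf p M f R' (irrComp (cenSupEquiv Q R') '' g) := by
  obtain ⟨⟨hQ, hf⟩, ⟨hR, hg⟩, -, -, -, hbr⟩ := h
  have hR'p : IsPGroup p R' := by
    have h1 : IsPGroup p (R'.map (Subgroup.centralizer (Q : Set G)).subtype) :=
      hR.to_le le_sup_right
    exact h1.of_injective (R'.equivMapOfInjective _ (Subgroup.subtype_injective _)).toMonoidHom
      (R'.equivMapOfInjective _ (Subgroup.subtype_injective _)).injective
  refine ⟨⟨hR'p, isPBlock_image_irrComp _ hg⟩, hf, ?_⟩
  rintro _ ⟨ξ, hξ, rfl⟩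
  have h1 := hbr ξ hξ
  rw [← brauerOmega_cenSup Q R' f] at h1
  exact h1

end Tools

section Main

variable {G : Type u} [Group G] [Fintype G] {M : Ideal AlgInt} {p : ℕ}

/-- **if `G` stabilizes the Brauer pair `(Q, f)` of `B`, the idempotent of `B` is that of `f`** -/
theorem blockCoeff_eq_of_stable_pair (hM : IsPModular p M) {B : Set (IrrCharacter G)}
    {Q : Subgroup G} {f : Set (IrrCharacter (Subgroup.centralizer (Q : Set G)))}
    (hBQ : IsBrauerPairOf p M B Q f)
    (hG : ∀ x : G, x ∈ Subgroup.normalizer (Q : Set G) ∧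
      StabilizesBlock (Subgroup.centralizer (Q : Set G)) f x) :
    ∀ g : G, blockCoeff B g = subgroupBlockCoeff (Subgroup.centralizer (Q : Set G)) f g := by
  classical
  obtain ⟨hQ, hf⟩ := hBQ.1
  haveI : Fintype (⊤ : Subgroup G) := Fintype.ofFinite _
  obtain ⟨FT, hFT, hFTc⟩ := exists_block_of_stab hM hQ hf ⊤
    (fun y => ⟨fun _ => hG y, fun _ => Subgroup.mem_top y⟩)
  set σ : G ≃* (⊤ : Subgroup G) := Subgroup.topEquiv.symm with hσ
  set B' : Set (IrrCharacter G) := irrComp σ '' FT with hB'def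
  have hB' : IsPBlock M B' := isPBlock_image_irrComp σ hFT
  have hB'c : ∀ g : G, blockCoeff B' g =
      subgroupBlockCoeff (Subgroup.centralizer (Q : Set G)) f g := by
    intro g
    rw [hB'def, blockCoeff_image_irrComp, hFTc]
    rfl
  have hB'Q : IsBrauerPairOf p M B' Q f := by
    refine ⟨⟨hQ, hf⟩, hB', ?_⟩
    intro ξ hξ
    have h1 := (isNormalSubpair_refl hM ⟨hQ, hf⟩).2.2.2.2.2 ξ hξ
    have h2 : blockCoeff B' = subgroupBlockCoeff (Subgroup.centralizer (Q : Set G)) f :=
      funext hB'c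
    rw [h2]
    exact h1
  have hBB' : B = B' := block_eq_of_isBrauerPairOf hM hBQ hB'Q
  rw [hBB']
  exact hB'c

/-- **a `G`-stable centric pair `(Q, f)`: `f` is the idempotent of a nilpotent block of
`Q C_G(Q)`** -/
theorem exists_nilpotent_block_of_centric (hM : IsPModular p M) [Fact p.Prime]
    {B : Set (IrrCharacter G)} {P : Subgroup G}
    {e : Set (IrrCharacter (Subgroup.centralizer (P : Set G)))} {F : FusionSystem P}
    (hF : IsBlockFusionSystemOn p M B P e F) {Q : Subgroup G}
    {f : Set (IrrCharacter (Subgroup.centralizer (Q : Set G)))}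
    (hle : SubpairLE p M Q f P e) (hcen : F.IsCentric Q)
    (hG : ∀ x : G, x ∈ Subgroup.normalizer (Q : Set G) ∧
      StabilizesBlock (Subgroup.centralizer (Q : Set G)) f x) :
    ∃ F' : Set (IrrCharacter ↥(Q ⊔ Subgroup.centralizer (Q : Set G))), IsPBlock M F' ∧
      (∀ t : ↥(Q ⊔ Subgroup.centralizer (Q : Set G)), blockCoeff F' t =
        subgroupBlockCoeff (Subgroup.centralizer (Q : Set G)) f (t : G)) ∧
      IsNilpotentBlock p M F' := by
  classical
  haveI hMp : M.IsPrime := hM.2.1.isPrime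
  have hp : p.Prime := Fact.out
  have hmax := hF.1
  have hPe : IsBrauerPair p M P e := hmax.1.1
  obtain ⟨hQ, hf⟩ := chain_isBrauerPair hle hPe
  set H : Subgroup G := Q ⊔ Subgroup.centralizer (Q : Set G) with hH
  have hQH : Q ≤ H := le_sup_left
  have hCH : Subgroup.centralizer (Q : Set G) ≤ H := le_sup_right
  haveI : Fintype H := Fintype.ofFinite _
  haveI : Fintype (Subgroup.centralizer (Q : Set G)) := Fintype.ofFinite _
  obtain ⟨F', hF', hF'c⟩ := exists_block_of_sub hM hQ hf H hQH hCH (fun y _ => hG y)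
  refine ⟨F', hF', hF'c, hF', ?_⟩
  have hBq := isBrauerPairOf_relPair_self hM hQ hf H hQH hCH hF' hF'c
  have hDZ : IsDefectGroup p M f ((Q ⊓ Subgroup.centralizer (Q : Set G)).subgroupOf
      (Subgroup.centralizer (Q : Set G))) := (isCentric_iff hM hF hle).1 hcen
  -- `(Q, f)` has no proper normal superpair inside `H`
  have hno : ∀ (R' : Subgroup H) (g' : Set (IrrCharacter (Subgroup.centralizer (R' : Set H)))),
      IsNormalSubpair p M (Q.subgroupOf H) (relBlock H Q f) R' g' → R' = Q.subgroupOf H := by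
    intro Rt gt hn
    have hn' : NormalSubpairRel p M (relPair H ⟨Q, f⟩) ⟨Rt, gt⟩ := hn
    obtain ⟨⟨R, g⟩, hRH, hceq, hsub⟩ := exists_lift_of_normalSubpairRel H hQH hCH hn'
    have hsub' : IsNormalSubpair p M Q f R g := hsub
    have hQR : Q ≤ R := hsub'.2.2.1
    set R₁ : Subgroup (Subgroup.centralizer (Q : Set G)) :=
      R.subgroupOf (Subgroup.centralizer (Q : Set G)) with hR₁
    have hQnC : Q ≤ Subgroup.normalizer
        ((Subgroup.centralizer (Q : Set G) : Subgroup G) : Set G) :=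
      fun x hx => normalizer_le_normalizer_centralizer Q (Subgroup.le_normalizer hx)
    have hRdecomp : R = Q ⊔ R₁.map (Subgroup.centralizer (Q : Set G)).subtype := by
      apply le_antisymm
      · intro r hr
        have hmem : r ∈ ((Q ⊔ Subgroup.centralizer (Q : Set G) : Subgroup G) : Set G) := hRH hr
        rw [Subgroup.coe_mul_of_left_le_normalizer_right Q _ hQnC] at hmem
        obtain ⟨q, hq, c, hc, hqc⟩ := hmem
        have hcR : c ∈ R := by
          have h1 : c = q⁻¹ * r := by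
            rw [← hqc]
            group
          rw [h1]
          exact R.mul_mem (R.inv_mem (hQR hq)) hr
        have h2 : r = q * c := hqc.symm
        rw [h2]
        refine Subgroup.mul_mem _ (Subgroup.mem_sup_left hq) (Subgroup.mem_sup_right ?_)
        refine ⟨⟨c, hc⟩, ?_, rfl⟩
        rw [SetLike.mem_coe, hR₁, Subgroup.mem_subgroupOf]
        exact hcR
      · apply sup_le hQR
        rintro _ ⟨c, hc, rfl⟩
        rw [SetLike.mem_coe, hR₁, Subgroup.mem_subgroupOf] at hc
        exact hc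
    have key : ∀ (R₀ : Subgroup G)
        (g₀ : Set (IrrCharacter (Subgroup.centralizer (R₀ : Set G)))),
        R₀ = Q ⊔ R₁.map (Subgroup.centralizer (Q : Set G)).subtype →
        IsNormalSubpair p M Q f R₀ g₀ →
        R₁.map (Subgroup.centralizer (Q : Set G)).subtype ≤ Q := by
      rintro _ g₀ rfl hs
      have hb := isBrauerPairOf_cent_of_isNormalSubpair hs
      obtain ⟨c, hc⟩ := subConj_of_isBrauerPairOf hM hb hDZ
      rintro _ ⟨r, hr, rfl⟩
      have h1 := hc r hr
      rw [Subgroup.mem_subgroupOf] at h1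
      have h2 : ((c * r * c⁻¹ : Subgroup.centralizer (Q : Set G)) : G) ∈ Q := h1.1
      have h3 : ((c * r * c⁻¹ : Subgroup.centralizer (Q : Set G)) : G) =
          (c : G) * (r : G) * (c : G)⁻¹ := by
        push_cast
        rfl
      rw [h3] at h2
      have h4 := (Subgroup.mem_centralizer_iff.1 c.2) _ h2
      have h5 : (r : G) = (c : G) * (r : G) * (c : G)⁻¹ := by
        have h6 : (c : G) * (r : G) * (c : G)⁻¹ * (c : G) = (c : G) * (r : G) := by group
        rw [h6] at h4
        have h7 := mul_left_cancel h4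
        rw [← h7]
      show (r : G) ∈ Q
      rw [h5]
      exact h2
    have h2 := key R g hRdecomp hsub'
    have hRQ : R = Q := by
      apply le_antisymm _ hQR
      rw [hRdecomp]
      exact sup_le le_rfl h2
    have h3 : R.subgroupOf H = Rt := congrArg Sigma.fst hceq
    rw [← h3, hRQ]
  have hDQ : IsDefectGroup p M F' (Q.subgroupOf H) :=
    isDefectGroup_of_no_proper_superpair hM hBq hno
  -- nilpotency
  intro Rt gt hRg x hxN hxst hxreg
  obtain ⟨c, hc⟩ := subConj_of_isBrauerPairOf hM hRg hDQ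
  have hHNQ : H ≤ Subgroup.normalizer (Q : Set G) := fun y _ => (hG y).1
  have hRQ : ∀ q ∈ Rt, ((q : H) : G) ∈ Q := by
    intro q hq
    have h1 := hc q hq
    rw [Subgroup.mem_subgroupOf] at h1
    have h3 : ((c * q * c⁻¹ : H) : G) = (c : G) * (q : G) * (c : G)⁻¹ := by
      push_cast
      rfl
    rw [h3] at h1
    have hcinv : (c : G)⁻¹ ∈ Subgroup.normalizer (Q : Set G) :=
      Subgroup.inv_mem _ (hHNQ c.2)
    have h4 := (Subgroup.mem_normalizer_iff.1 hcinv _).1 h1
    have e1 : (c : G)⁻¹ * ((c : G) * (q : G) * (c : G)⁻¹) * (c : G)⁻¹⁻¹ = (q : G) := by group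
    rwa [e1] at h4
  have hxreg' : IsPRegular p (x : G) := by
    unfold IsPRegular at hxreg ⊢
    rwa [Subgroup.orderOf_coe]
  have hQnC : Q ≤ Subgroup.normalizer
      ((Subgroup.centralizer (Q : Set G) : Subgroup G) : Set G) :=
    fun x hx => normalizer_le_normalizer_centralizer Q (Subgroup.le_normalizer hx)
  have hxC : (x : G) ∈ Subgroup.centralizer (Q : Set G) := by
    have hmem : (x : G) ∈ ((Q ⊔ Subgroup.centralizer (Q : Set G) : Subgroup G) : Set G) := x.2
    rw [Subgroup.coe_mul_of_left_le_normalizer_right Q _ hQnC] at hmem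
    obtain ⟨q, hq, c', hc', hqc⟩ := hmem
    obtain ⟨k, hk⟩ := hQ ⟨q, hq⟩
    have hqk : q ^ p ^ k = 1 := by
      have := congrArg Subtype.val hk
      simpa using this
    apply mem_centralizer_of_pRegular_of_conj_eq (hG x).1 hqk _ hxreg'
    intro u hu
    have h1 := (Subgroup.mem_centralizer_iff.1 hc') u hu
    have hqc' : (x : G) = q * c' := hqc.symm
    rw [hqc']
    calc q * c' * u * (q * c')⁻¹ = q * (c' * u) * c'⁻¹ * q⁻¹ := by group
      _ = q * (u * c') * c'⁻¹ * q⁻¹ := by rw [h1]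
      _ = q * u * q⁻¹ := by group
  rw [Subgroup.mem_centralizer_iff]
  intro r hr
  apply Subtype.ext
  push_cast
  exact (Subgroup.mem_centralizer_iff.1 hxC) (r : G) (hRQ r hr)

end Main

end Cfsg.Agent.Helper23.Blk
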