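import Mathlib
import Cfsg.Agent.Lib.Helper23.BlockContribBessel
import Cfsg.Agent.Lib.Helper23.BlockBrauer3

/-!
# Blocks of the full subgroup inducing a block (helper23's shared library)

`blockRank_image_irrComp`: the `p`-regular rank is invariant under transport along isomorphisms.
`blockRank_eq_of_isInducedBlock_top`: a block of the subgroup `K = ⊤` inducing `B` has the rank
of `B`.
-/

set_option autoImplicit false
set_option linter.unusedSectionVars false
set_option linter.style.haveILetI false

namespace Cfsg.Agent.Helper23.Blk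

open Cfsg Cfsg.Agent.Helper24

universe u v

section RankTransport

variable {K : Type u} [Group K] {K' : Type v} [Group K'] {p : ℕ}

theorem blockRank_image_irrComp (σ : K ≃* K') (f : Set (IrrCharacter K')) :
    blockRank p (irrComp σ '' f) = blockRank p f := by
  classical
  unfold blockRank
  set L : (K' → ℂ) ≃ₗ[ℂ] (K → ℂ) := LinearEquiv.funCongrLeft ℂ ℂ σ.toEquiv with hL
  have hLapp : ∀ x : K' → ℂ, L x = x ∘ σ := fun x => rfl
  have h1 : (fun χ : IrrCharacter K => pRegularPart p (χ : K → ℂ)) '' (irrComp σ '' f) =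
      L '' ((fun χ : IrrCharacter K' => pRegularPart p (χ : K' → ℂ)) '' f) := by
    rw [Set.image_image, Set.image_image]
    apply Set.image_congr
    intro χ _
    rw [hLapp]
    funext k
    show pRegularPart p ((χ : K' → ℂ) ∘ σ) k = pRegularPart p (χ : K' → ℂ) (σ k)
    unfold pRegularPart IsPRegular
    rw [MulEquiv.orderOf_eq]
    rfl
  rw [h1]
  have h2 : Submodule.span ℂ (L '' ((fun χ : IrrCharacter K' =>
      pRegularPart p (χ : K' → ℂ)) '' f)) =
      (Submodule.span ℂ ((fun χ : IrrCharacter K' => pRegularPart p (χ : K' → ℂ)) '' f)).map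
        (L : (K' → ℂ) →ₗ[ℂ] (K → ℂ)) := by
    rw [Submodule.map_span]
    rfl
  rw [h2]
  exact LinearEquiv.finrank_map_eq L _

end RankTransport

section Top

variable {G : Type u} [Group G] [Fintype G] {M : Ideal AlgInt} {p : ℕ}

/-- the isomorphism from a subgroup equal to the whole group -/
noncomputable def topSubEquiv (K : Subgroup G) (hK : K = ⊤) : K ≃* G :=
  (MulEquiv.subgroupCongr hK).trans Subgroup.topEquiv

theorem topSubEquiv_apply (K : Subgroup G) (hK : K = ⊤) (x : K) :
    topSubEquiv K hK x = (x : G) := rfl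

/-- a block of the subgroup `K = ⊤` inducing `B` is the transport of `B` -/
theorem eq_image_of_isInducedBlock_top (hM : IsPModular p M) (K : Subgroup G) (hK : K = ⊤)
    {b : Set (IrrCharacter K)} {B : Set (IrrCharacter G)} (hind : IsInducedBlock M K b B) :
    b = irrComp (topSubEquiv K hK) '' B := by
  classical
  haveI hMp : M.IsPrime := hM.2.1.isPrime
  haveI : Fact p.Prime := ⟨hM.1⟩
  haveI : Fintype K := Fintype.ofFinite _
  letI : Fintype (IrrCharacter G) := irrFintype
  obtain ⟨hb, hB, hcong⟩ := hind
  obtain ⟨ξ, hξ⟩ := block_nonempty hM hb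
  obtain ⟨χ', hχ'⟩ := block_nonempty hM hB
  set σ := topSubEquiv K hK with hσ
  set χ : IrrCharacter G := irrComp σ.symm ξ with hχ
  have hχξ : irrComp σ χ = ξ := irrComp_irrComp_symm σ ξ
  have hcc : ∀ g : G, inducedCentralChar K (ξ : K → ℂ) g = centralChar (χ : G → ℂ) g := by
    intro g
    rw [inducedCentralChar_eq_omega, ← omega_classInd]
    unfold omega
    rw [← Equiv.sum_comp σ.toEquiv]
    congr 1
  have hsame : SameBlock M (χ' : G → ℂ) (χ : G → ℂ) := by
    apply sameBlock_symm
    intro g
    have := hcong ξ hξ χ' hχ' g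
    rwa [hcc] at this
  have hχB : χ ∈ B := by
    obtain ⟨χ₀, rfl⟩ := hB
    exact sameBlock_trans hχ' hsame
  apply isPBlock_eq_of_mem hb (isPBlock_image_irrComp σ hB) hξ
  exact ⟨χ, hχB, hχξ⟩

theorem blockRank_eq_of_isInducedBlock_top (hM : IsPModular p M) (K : Subgroup G) (hK : K = ⊤)
    {b : Set (IrrCharacter K)} {B : Set (IrrCharacter G)} (hind : IsInducedBlock M K b B) :
    blockRank p b = blockRank p B := by
  rw [eq_image_of_isInducedBlock_top hM K hK hind, blockRank_image_irrComp]

end Top

end Cfsg.Agent.Helper23.Blk
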