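import Mathlib
import Cfsg.Agent.Lib.Helper12.PGroup

/-!
# Alternating sums over chains of `p`-subgroups: two cancellation lemmas
(helper23's shared library)
-/

set_option autoImplicit false
set_option linter.unusedSectionVars false
set_option linter.style.haveILetI false

namespace Cfsg.Agent.Helper23.Chain

universe u

section Involution

variable {α : Type*} [DecidableEq α]

/-- insert or delete the distinguished element -/
def flip (W : Finset α → α) (s : Finset α) : Finset α :=
  if W s ∈ s then s.erase (W s) else insert (W s) s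

theorem flip_of_mem (W : Finset α → α) (s : Finset α) (h : W s ∈ s) :
    flip W s = s.erase (W s) := by
  unfold flip
  rw [if_pos h]

theorem flip_of_not_mem (W : Finset α → α) (s : Finset α) (h : W s ∉ s) :
    flip W s = insert (W s) s := by
  unfold flip
  rw [if_neg h]

theorem neg_one_pow_card_flip (W : Finset α → α) (s : Finset α) :
    (-1 : ℤ) ^ (flip W s).card = -(-1 : ℤ) ^ s.card := by
  unfold flip
  by_cases h : W s ∈ s
  · rw [if_pos h]
    have h1 : s.card = (s.erase (W s)).card + 1 := by
      rw [Finset.card_erase_of_mem h]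
      have : 0 < s.card := Finset.card_pos.2 ⟨_, h⟩
      omega
    rw [h1, pow_succ]
    ring
  · rw [if_neg h, Finset.card_insert_of_notMem h, pow_succ]
    ring

theorem flip_flip (W : Finset α → α) (s : Finset α) (hW : W (flip W s) = W s) :
    flip W (flip W s) = s := by
  by_cases h : W s ∈ s
  · have h1 : flip W s = s.erase (W s) := by
      unfold flip
      rw [if_pos h]
    have h2 : W (flip W s) ∉ flip W s := by
      rw [hW, h1]
      exact Finset.notMem_erase _ _
    have h3 : flip W (flip W s) = insert (W (flip W s)) (flip W s) :=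
      flip_of_not_mem W (flip W s) h2
    rw [h3, hW, h1]
    exact Finset.insert_erase h
  · have h1 : flip W s = insert (W s) s := by
      unfold flip
      rw [if_neg h]
    have h2 : W (flip W s) ∈ flip W s := by
      rw [hW, h1]
      exact Finset.mem_insert_self _ _
    have h3 : flip W (flip W s) = (flip W s).erase (W (flip W s)) :=
      flip_of_mem W (flip W s) h2
    rw [h3, hW, h1]
    exact Finset.erase_insert h

/-- **cancellation**: an alternating sum over a family of finite sets that is stable under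
inserting/deleting a distinguished element vanishes -/
theorem sum_flip_eq_zero (𝒞 : Finset (Finset α)) (W : Finset α → α) (g : Finset α → ℤ)
    (hmem : ∀ s ∈ 𝒞, flip W s ∈ 𝒞) (hW : ∀ s ∈ 𝒞, W (flip W s) = W s)
    (hg : ∀ s ∈ 𝒞, g (flip W s) = g s) :
    ∑ s ∈ 𝒞, (-1 : ℤ) ^ s.card * g s = 0 := by
  apply Finset.sum_involution (fun s _ => flip W s)
  · intro s hs
    rw [neg_one_pow_card_flip, hg s hs]
    ring
  · intro s hs _ heq
    have h1 := neg_one_pow_card_flip W s
    rw [heq] at h1
    have h2 : (-1 : ℤ) ^ s.card ≠ 0 := pow_ne_zero _ (by norm_num)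
    apply h2
    linarith
  · intro s hs
    exact hmem s hs
  · intro s hs
    exact flip_flip W s (hW s hs)

end Involution

section Basics

variable {G : Type u} [Group G]

theorem mem_normalizer_of_forall_conj (H : Subgroup G) (x : G)
    (h1 : ∀ y ∈ H, x * y * x⁻¹ ∈ H) (h2 : ∀ y ∈ H, x⁻¹ * y * x ∈ H) :
    x ∈ Subgroup.normalizer (H : Set G) := by
  rw [Subgroup.mem_normalizer_iff]
  intro y
  constructor
  · exact h1 y
  · intro hy
    have h3 := h2 _ hy
    have e : x⁻¹ * (x * y * x⁻¹) * x = y := by group
    rwa [e] at h3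

theorem conj_mem_of_mem_normalizer {H : Subgroup G} {x : G}
    (hx : x ∈ Subgroup.normalizer (H : Set G)) {y : G} (hy : y ∈ H) : x * y * x⁻¹ ∈ H :=
  (Subgroup.mem_normalizer_iff.1 hx y).1 hy

theorem conj_inv_mem_of_mem_normalizer {H : Subgroup G} {x : G}
    (hx : x ∈ Subgroup.normalizer (H : Set G)) {y : G} (hy : y ∈ H) : x⁻¹ * y * x ∈ H := by
  have h1 := conj_mem_of_mem_normalizer (Subgroup.inv_mem _ hx) hy
  rwa [inv_inv] at h1

theorem mem_normalizer_sup {A B : Subgroup G} {x : G}
    (hA : x ∈ Subgroup.normalizer (A : Set G)) (hB : x ∈ Subgroup.normalizer (B : Set G)) :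
    x ∈ Subgroup.normalizer ((A ⊔ B : Subgroup G) : Set G) := by
  apply mem_normalizer_of_forall_conj
  · have h1 : A ⊔ B ≤ (A ⊔ B).comap (MulAut.conj x).toMonoidHom := by
      apply sup_le
      · intro a ha
        exact Subgroup.mem_sup_left (conj_mem_of_mem_normalizer hA ha)
      · intro b hb
        exact Subgroup.mem_sup_right (conj_mem_of_mem_normalizer hB hb)
    intro y hy
    exact h1 hy
  · have h1 : A ⊔ B ≤ (A ⊔ B).comap (MulAut.conj x⁻¹).toMonoidHom := by
      apply sup_le
      · intro a ha
        have := conj_inv_mem_of_mem_normalizer hA ha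
        show x⁻¹ * a * x⁻¹⁻¹ ∈ A ⊔ B
        rw [inv_inv]
        exact Subgroup.mem_sup_left this
      · intro b hb
        have := conj_inv_mem_of_mem_normalizer hB hb
        show x⁻¹ * b * x⁻¹⁻¹ ∈ A ⊔ B
        rw [inv_inv]
        exact Subgroup.mem_sup_right this
    intro y hy
    have h2 := h1 hy
    have h3 : x⁻¹ * y * x⁻¹⁻¹ ∈ A ⊔ B := h2
    rwa [inv_inv] at h3

theorem mem_normalizer_inf {A B : Subgroup G} {x : G}
    (hA : x ∈ Subgroup.normalizer (A : Set G)) (hB : x ∈ Subgroup.normalizer (B : Set G)) :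
    x ∈ Subgroup.normalizer ((A ⊓ B : Subgroup G) : Set G) := by
  apply mem_normalizer_of_forall_conj
  · rintro y ⟨hyA, hyB⟩
    exact ⟨conj_mem_of_mem_normalizer hA hyA, conj_mem_of_mem_normalizer hB hyB⟩
  · rintro y ⟨hyA, hyB⟩
    exact ⟨conj_inv_mem_of_mem_normalizer hA hyA, conj_inv_mem_of_mem_normalizer hB hyB⟩

theorem mem_normalizer_bot (x : G) : x ∈ Subgroup.normalizer (((⊥ : Subgroup G)) : Set G) := by
  apply mem_normalizer_of_forall_conj
  · intro y hy
    rw [Subgroup.mem_bot] at hy ⊢
    rw [hy]
    group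
  · intro y hy
    rw [Subgroup.mem_bot] at hy ⊢
    rw [hy]
    group

open Classical in
theorem mem_normalizer_finset_sup (t : Finset (Subgroup G)) {x : G}
    (h : ∀ Q ∈ t, x ∈ Subgroup.normalizer ((Q : Subgroup G) : Set G)) :
    x ∈ Subgroup.normalizer ((t.sup id : Subgroup G) : Set G) := by
  induction t using Finset.induction_on with
  | empty =>
    rw [Finset.sup_empty]
    exact mem_normalizer_bot x
  | insert a t _ ih =>
    rw [Finset.sup_insert]
    apply mem_normalizer_sup
    · exact h a (Finset.mem_insert_self _ _)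
    · exact ih (fun Q hQ => h Q (Finset.mem_insert_of_mem hQ))

/-- the common normalizer of a finite set of subgroups -/
def stab (s : Finset (Subgroup G)) : Subgroup G :=
  ⨅ Q ∈ s, Subgroup.normalizer ((Q : Subgroup G) : Set G)

theorem mem_stab {s : Finset (Subgroup G)} {x : G} :
    x ∈ stab s ↔ ∀ Q ∈ s, x ∈ Subgroup.normalizer ((Q : Subgroup G) : Set G) := by
  unfold stab
  simp only [Subgroup.mem_iInf]

theorem stab_empty : stab (∅ : Finset (Subgroup G)) = ⊤ := by
  ext x
  rw [mem_stab]
  simp

theorem stab_anti {s t : Finset (Subgroup G)} (h : s ⊆ t) : stab t ≤ stab s := by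
  intro x hx
  rw [mem_stab] at hx ⊢
  exact fun Q hQ => hx Q (h hQ)

open Classical in
theorem stab_insert (V : Subgroup G) (s : Finset (Subgroup G)) :
    stab (insert V s) = Subgroup.normalizer ((V : Subgroup G) : Set G) ⊓ stab s := by
  ext x
  rw [Subgroup.mem_inf, mem_stab, mem_stab]
  constructor
  · intro h
    exact ⟨h V (Finset.mem_insert_self _ _), fun Q hQ => h Q (Finset.mem_insert_of_mem hQ)⟩
  · rintro ⟨h1, h2⟩ Q hQ
    rcases Finset.mem_insert.1 hQ with rfl | hQ
    · exact h1
    · exact h2 Q hQ

/-- chains of nontrivial `p`-subgroups -/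
def IsChainP (p : ℕ) (s : Finset (Subgroup G)) : Prop :=
  (∀ Q ∈ s, ∀ R ∈ s, Q ≤ R ∨ R ≤ Q) ∧ ∀ Q ∈ s, Q ≠ ⊥ ∧ IsPGroup p Q

theorem IsChainP.subset {p : ℕ} {s t : Finset (Subgroup G)} (h : IsChainP p t) (hst : s ⊆ t) :
    IsChainP p s :=
  ⟨fun Q hQ R hR => h.1 Q (hst hQ) R (hst hR), fun Q hQ => h.2 Q (hst hQ)⟩

open Classical in
theorem IsChainP.insert {p : ℕ} {s : Finset (Subgroup G)} (h : IsChainP p s) {V : Subgroup G}
    (hV : V ≠ ⊥ ∧ IsPGroup p V) (hcomp : ∀ Q ∈ s, Q ≤ V ∨ V ≤ Q) : IsChainP p (insert V s) := by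
  constructor
  · intro Q hQ R hR
    rcases Finset.mem_insert.1 hQ with hQV | hQ
    · rcases Finset.mem_insert.1 hR with hRV | hR
      · rw [hQV, hRV]
        exact Or.inl le_rfl
      · rw [hQV]
        exact (hcomp R hR).symm
    · rcases Finset.mem_insert.1 hR with hRV | hR
      · rw [hRV]
        exact hcomp Q hQ
      · exact h.1 Q hQ R hR
  · intro Q hQ
    rcases Finset.mem_insert.1 hQ with hQV | hQ
    · rw [hQV]
      exact hV
    · exact h.2 Q hQ

open Classical in
/-- the supremum of a nonempty chain is a member -/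
theorem sup_mem_of_chain (t : Finset (Subgroup G)) (hne : t.Nonempty)
    (hch : ∀ Q ∈ t, ∀ R ∈ t, Q ≤ R ∨ R ≤ Q) : t.sup id ∈ t := by
  induction t using Finset.induction_on with
  | empty => exact absurd hne (by simp)
  | insert a t ha ih =>
    rw [Finset.sup_insert]
    by_cases ht : t.Nonempty
    · have h1 := ih ht (fun Q hQ R hR => hch Q (Finset.mem_insert_of_mem hQ) R
        (Finset.mem_insert_of_mem hR))
      rcases hch a (Finset.mem_insert_self _ _) _ (Finset.mem_insert_of_mem h1) with h2 | h2
      · have : id a ⊔ t.sup id = t.sup id := sup_eq_right.2 h2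
        rw [this]
        exact Finset.mem_insert_of_mem h1
      · have : id a ⊔ t.sup id = a := sup_eq_left.2 h2
        rw [this]
        exact Finset.mem_insert_self _ _
    · rw [Finset.not_nonempty_iff_eq_empty] at ht
      subst ht
      rw [Finset.sup_empty]
      simp

open Classical in
/-- the infimum of a nonempty chain is a member -/
theorem inf_mem_of_chain (t : Finset (Subgroup G)) (hne : t.Nonempty)
    (hch : ∀ Q ∈ t, ∀ R ∈ t, Q ≤ R ∨ R ≤ Q) : t.inf id ∈ t := by
  induction t using Finset.induction_on with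
  | empty => exact absurd hne (by simp)
  | insert a t ha ih =>
    rw [Finset.inf_insert]
    by_cases ht : t.Nonempty
    · have h1 := ih ht (fun Q hQ R hR => hch Q (Finset.mem_insert_of_mem hQ) R
        (Finset.mem_insert_of_mem hR))
      rcases hch a (Finset.mem_insert_self _ _) _ (Finset.mem_insert_of_mem h1) with h2 | h2
      · have : id a ⊓ t.inf id = a := inf_eq_left.2 h2
        rw [this]
        exact Finset.mem_insert_self _ _
      · have : id a ⊓ t.inf id = t.inf id := inf_eq_right.2 h2
        rw [this]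
        exact Finset.mem_insert_of_mem h1
    · rw [Finset.not_nonempty_iff_eq_empty] at ht
      subst ht
      rw [Finset.inf_empty]
      simp

end Basics

section Cone

variable {G : Type u} [Group G] {p : ℕ}

open Classical in
/-- the cone point of a chain with respect to the element `u` -/
noncomputable def coneW (u : G) (s : Finset (Subgroup G)) : Subgroup G :=
  (s.filter (fun Q => u ∉ Q)).sup id ⊔ Subgroup.zpowers u

theorem mem_coneW (u : G) (s : Finset (Subgroup G)) : u ∈ coneW u s :=
  Subgroup.mem_sup_right (Subgroup.mem_zpowers u)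

open Classical in
theorem coneW_insert (u : G) (s : Finset (Subgroup G)) {V : Subgroup G} (hV : u ∈ V) :
    coneW u (insert V s) = coneW u s := by
  unfold coneW
  rw [Finset.filter_insert, if_neg (not_not.2 hV)]

open Classical in
theorem coneW_erase (u : G) (s : Finset (Subgroup G)) {V : Subgroup G} (hV : u ∈ V) :
    coneW u (s.erase V) = coneW u s := by
  unfold coneW
  rw [Finset.filter_erase, Finset.erase_eq_of_notMem]
  intro h
  exact (Finset.mem_filter.1 h).2 hV

open Classical in
theorem coneW_flip (u : G) (s : Finset (Subgroup G)) :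
    coneW u (flip (coneW u) s) = coneW u s := by
  by_cases h : coneW u s ∈ s
  · rw [flip_of_mem _ _ h]
    exact coneW_erase u s (mem_coneW u s)
  · rw [flip_of_not_mem _ _ h]
    exact coneW_insert u s (mem_coneW u s)

theorem mem_normalizer_zpowers_of_mem_centralizer {u x : G}
    (hx : x ∈ Subgroup.centralizer ({u} : Set G)) :
    x ∈ Subgroup.normalizer ((Subgroup.zpowers u : Subgroup G) : Set G) := by
  have hc : Commute x u := by
    have := Subgroup.mem_centralizer_iff.1 hx u (Set.mem_singleton u)
    exact this.symm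
  apply mem_normalizer_of_forall_conj
  · rintro y ⟨k, rfl⟩
    have h1 : Commute x (u ^ k) := hc.zpow_right k
    have h2 : x * u ^ k * x⁻¹ = u ^ k := by
      rw [h1.eq]
      group
    show x * u ^ k * x⁻¹ ∈ Subgroup.zpowers u
    rw [h2]
    exact ⟨k, rfl⟩
  · rintro y ⟨k, rfl⟩
    have h1 : Commute x (u ^ k) := hc.zpow_right k
    have h2 : x⁻¹ * u ^ k * x = u ^ k := by
      rw [mul_assoc, ← h1.eq]
      group
    show x⁻¹ * u ^ k * x ∈ Subgroup.zpowers u
    rw [h2]
    exact ⟨k, rfl⟩

open Classical in
theorem mem_normalizer_coneW {u x : G} {s : Finset (Subgroup G)}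
    (hxC : x ∈ Subgroup.centralizer ({u} : Set G)) (hxs : x ∈ stab s) :
    x ∈ Subgroup.normalizer ((coneW u s : Subgroup G) : Set G) := by
  unfold coneW
  apply mem_normalizer_sup
  · apply mem_normalizer_finset_sup
    intro Q hQ
    exact mem_stab.1 hxs Q (Finset.mem_filter.1 hQ).1
  · exact mem_normalizer_zpowers_of_mem_centralizer hxC

open Classical in
theorem inf_stab_insert_coneW (u : G) (s : Finset (Subgroup G)) :
    Subgroup.centralizer ({u} : Set G) ⊓ stab (insert (coneW u s) s) =
      Subgroup.centralizer ({u} : Set G) ⊓ stab s := by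
  rw [stab_insert]
  apply le_antisymm
  · exact inf_le_inf_left _ inf_le_right
  · rintro x ⟨hxC, hxs⟩
    exact ⟨hxC, mem_normalizer_coneW hxC hxs, hxs⟩

open Classical in
theorem inf_stab_flip_coneW (u : G) (s : Finset (Subgroup G)) :
    Subgroup.centralizer ({u} : Set G) ⊓ stab (flip (coneW u) s) =
      Subgroup.centralizer ({u} : Set G) ⊓ stab s := by
  by_cases h : coneW u s ∈ s
  · rw [flip_of_mem _ _ h]
    have h1 := inf_stab_insert_coneW u (s.erase (coneW u s))
    rw [coneW_erase u s (mem_coneW u s), Finset.insert_erase h] at h1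
    exact h1.symm
  · rw [flip_of_not_mem _ _ h]
    exact inf_stab_insert_coneW u s

theorem self_mem_centralizer_singleton' (u : G) : u ∈ Subgroup.centralizer ({u} : Set G) := by
  rw [Subgroup.mem_centralizer_iff]
  intro y hy
  rw [Set.mem_singleton_iff] at hy
  rw [hy]

open Classical in
theorem isChainP_flip_coneW [Fact p.Prime] {u : G} (hu : ∃ k : ℕ, orderOf u = p ^ k) (hu1 : u ≠ 1)
    {s : Finset (Subgroup G)} (hs : IsChainP p s) (hus : u ∈ stab s) :
    IsChainP p (flip (coneW u) s) ∧ u ∈ stab (flip (coneW u) s) := by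
  by_cases h : coneW u s ∈ s
  · rw [flip_of_mem _ _ h]
    exact ⟨hs.subset (Finset.erase_subset _ _), stab_anti (Finset.erase_subset _ _) hus⟩
  · rw [flip_of_not_mem _ _ h]
    have huC := self_mem_centralizer_singleton' u
    have hnorm := mem_normalizer_coneW huC hus
    refine ⟨?_, ?_⟩
    · apply hs.insert
      · constructor
        · intro hbot
          have h1 := mem_coneW u s
          rw [hbot, Subgroup.mem_bot] at h1
          exact hu1 h1
        · unfold coneW
          have hsupN : u ∈ Subgroup.normalizer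
              (((s.filter (fun Q => u ∉ Q)).sup id : Subgroup G) : Set G) := by
            apply mem_normalizer_finset_sup
            intro Q hQ
            exact mem_stab.1 hus Q (Finset.mem_filter.1 hQ).1
          have hsupP : IsPGroup p ((s.filter (fun Q => u ∉ Q)).sup id : Subgroup G) := by
            by_cases hne : (s.filter (fun Q => u ∉ Q)).Nonempty
            · have h1 := sup_mem_of_chain _ hne (fun Q hQ R hR =>
                hs.1 Q (Finset.mem_filter.1 hQ).1 R (Finset.mem_filter.1 hR).1)
              exact (hs.2 _ (Finset.mem_filter.1 h1).1).2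
            · rw [Finset.not_nonempty_iff_eq_empty] at hne
              rw [hne, Finset.sup_empty]
              exact IsPGroup.of_bot
          have hzP : IsPGroup p (Subgroup.zpowers u) := by
            obtain ⟨k, hk⟩ := hu
            apply IsPGroup.of_card (n := k)
            rw [Nat.card_zpowers, hk]
          apply hsupP.to_sup_of_normal_left' hzP
          rw [Subgroup.zpowers_le]
          exact hsupN
      · intro Q hQ
        by_cases huQ : u ∈ Q
        · right
          unfold coneW
          apply sup_le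
          · apply Finset.sup_le
            intro Q' hQ'
            rcases hs.1 Q' (Finset.mem_filter.1 hQ').1 Q hQ with h1 | h1
            · exact h1
            · exact absurd (h1 huQ) (Finset.mem_filter.1 hQ').2
          · rw [Subgroup.zpowers_le]
            exact huQ
        · left
          unfold coneW
          have h1 : Q ≤ (s.filter (fun Q => u ∉ Q)).sup id :=
            Finset.le_sup (f := id) (Finset.mem_filter.2 ⟨hQ, huQ⟩)
          exact le_trans h1 le_sup_left
    · rw [stab_insert]
      exact ⟨hnorm, hus⟩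

open Classical in
/-- **the cone cancellation** -/
theorem cone_sum [Fintype (Subgroup G)] [Fact p.Prime] {u : G} (hu : ∃ k : ℕ, orderOf u = p ^ k)
    (hu1 : u ≠ 1) (F : Subgroup G → ℤ) :
    ∑ s ∈ Finset.univ.filter (fun s : Finset (Subgroup G) => IsChainP p s ∧ u ∈ stab s),
      (-1 : ℤ) ^ s.card * F (Subgroup.centralizer ({u} : Set G) ⊓ stab s) = 0 := by
  apply sum_flip_eq_zero _ (coneW u) (fun s => F (Subgroup.centralizer ({u} : Set G) ⊓ stab s))
  · intro s hs
    rw [Finset.mem_filter] at hs ⊢
    exact ⟨Finset.mem_univ _, isChainP_flip_coneW hu hu1 hs.2.1 hs.2.2⟩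
  · intro s _
    exact coneW_flip u s
  · intro s _
    show F _ = F _
    rw [inf_stab_flip_coneW]

end Cone

section Normal

variable {G : Type u} [Group G] {p : ℕ}

/-- the member `X` of the chain `s` normalizes all smaller members -/
def IsGoodIn (s : Finset (Subgroup G)) (X : Subgroup G) : Prop :=
  ∀ Y ∈ s, Y ≤ X → X ≤ Subgroup.normalizer ((Y : Subgroup G) : Set G)

/-- every member of the chain normalizes all smaller members -/
def Good (s : Finset (Subgroup G)) : Prop := ∀ X ∈ s, IsGoodIn s X

open Classical in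
/-- the least member of the chain that does not normalize all smaller members -/
noncomputable def minBad (s : Finset (Subgroup G)) : Subgroup G :=
  (s.filter (fun X => ¬ IsGoodIn s X)).inf id

open Classical in
/-- the distinguished subgroup of a non-normal chain -/
noncomputable def normW (s : Finset (Subgroup G)) : Subgroup G :=
  minBad s ⊓ stab (s.filter (fun Y => Y < minBad s))

open Classical in
theorem normW_def (s : Finset (Subgroup G)) :
    normW s = minBad s ⊓ stab (s.filter (fun Y => Y < minBad s)) := rfl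

open Classical in
theorem minBad_eq {s : Finset (Subgroup G)} (hch : ∀ Q ∈ s, ∀ R ∈ s, Q ≤ R ∨ R ≤ Q)
    {Q : Subgroup G} (hQs : Q ∈ s) (hbad : ¬ IsGoodIn s Q)
    (hgood : ∀ X ∈ s, X < Q → IsGoodIn s X) : minBad s = Q := by
  unfold minBad
  apply le_antisymm
  · exact Finset.inf_le (f := id) (Finset.mem_filter.2 ⟨hQs, hbad⟩)
  · apply Finset.le_inf
    intro X hX
    obtain ⟨hXs, hXbad⟩ := Finset.mem_filter.1 hX
    rcases hch X hXs Q hQs with h1 | h1
    · rcases eq_or_lt_of_le h1 with h2 | h2
      · rw [h2]
        exact le_rfl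
      · exact absurd (hgood X hXs h2) hXbad
    · exact h1

open Classical in
theorem minBad_spec {s : Finset (Subgroup G)} (hch : ∀ Q ∈ s, ∀ R ∈ s, Q ≤ R ∨ R ≤ Q)
    (hbad : ¬ Good s) :
    minBad s ∈ s ∧ ¬ IsGoodIn s (minBad s) ∧ ∀ X ∈ s, X < minBad s → IsGoodIn s X := by
  have hne : (s.filter (fun X => ¬ IsGoodIn s X)).Nonempty := by
    unfold Good at hbad
    push Not at hbad
    obtain ⟨X, hX, hXb⟩ := hbad
    exact ⟨X, Finset.mem_filter.2 ⟨hX, hXb⟩⟩
  have h1 := inf_mem_of_chain _ hne (fun Q hQ R hR =>
    hch Q (Finset.mem_filter.1 hQ).1 R (Finset.mem_filter.1 hR).1)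
  have h2 := Finset.mem_filter.1 h1
  refine ⟨h2.1, h2.2, ?_⟩
  intro X hX hlt
  by_contra hXb
  have h3 : (s.filter (fun X => ¬ IsGoodIn s X)).inf id ≤ X :=
    Finset.inf_le (f := id) (Finset.mem_filter.2 ⟨hX, hXb⟩)
  exact absurd (lt_of_lt_of_le hlt h3) (lt_irrefl _)

open Classical in
/-- the basic facts on the distinguished subgroup -/
theorem normW_facts {s : Finset (Subgroup G)} (hs : IsChainP p s) (hbad : ¬ Good s) :
    (∀ Y ∈ s, Y < minBad s → Y ≤ normW s) ∧ normW s < minBad s ∧
      (∀ X ∈ s, X ≤ normW s ∨ normW s ≤ X) ∧ (normW s ≠ ⊥ ∧ IsPGroup p (normW s)) := by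
  obtain ⟨hQs, hQbad, hQgood⟩ := minBad_spec hs.1 hbad
  have F1 : ∀ Y ∈ s, Y < minBad s → Y ≤ normW s := by
    intro Y hY hlt
    unfold normW
    apply le_inf hlt.le
    intro y hy
    rw [mem_stab]
    intro Y' hY'
    obtain ⟨hY's, hY'lt⟩ := Finset.mem_filter.1 hY'
    rcases hs.1 Y hY Y' hY's with h1 | h1
    · exact Subgroup.le_normalizer (h1 hy)
    · exact hQgood Y hY hlt Y' hY's h1 hy
  have F2 : normW s < minBad s := by
    apply lt_of_le_of_ne
    · unfold normW
      exact inf_le_left
    · intro heq
      apply hQbad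
      intro Y hY hYle
      rcases eq_or_lt_of_le hYle with h1 | h1
      · rw [h1]
        exact Subgroup.le_normalizer
      · have h2 : minBad s ≤ stab (s.filter (fun Y => Y < minBad s)) := by
          have h3 : normW s ≤ stab (s.filter (fun Y => Y < minBad s)) := by
            unfold normW
            exact inf_le_right
          rwa [heq] at h3
        intro y hy
        exact mem_stab.1 (h2 hy) Y (Finset.mem_filter.2 ⟨hY, h1⟩)
  have F3 : ∀ X ∈ s, X ≤ normW s ∨ normW s ≤ X := by
    intro X hX
    rcases hs.1 X hX _ hQs with h1 | h1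
    · rcases eq_or_lt_of_le h1 with h2 | h2
      · right
        rw [h2]
        exact F2.le
      · left
        exact F1 X hX h2
    · right
      exact le_trans F2.le h1
  refine ⟨F1, F2, F3, ?_, ?_⟩
  · -- some member lies strictly below the least bad member
    have hex : ∃ Y ∈ s, Y < minBad s := by
      by_contra hno
      push Not at hno
      apply hQbad
      intro Y hY hYle
      rcases eq_or_lt_of_le hYle with h1 | h1
      · rw [h1]
        exact Subgroup.le_normalizer
      · exact absurd h1 (hno Y hY)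
    obtain ⟨Y, hY, hlt⟩ := hex
    intro hbot
    have h1 := F1 Y hY hlt
    rw [hbot, le_bot_iff] at h1
    exact (hs.2 Y hY).1 h1
  · exact (hs.2 _ hQs).2.to_le F2.le

theorem stab_le_normalizer_normW' {s : Finset (Subgroup G)} {Q : Subgroup G}
    {A : Finset (Subgroup G)} (hQ : Q ∈ s) (hA : A ⊆ s) :
    stab s ≤ Subgroup.normalizer ((Q ⊓ stab A : Subgroup G) : Set G) := by
  intro x hx
  apply mem_normalizer_inf
  · exact mem_stab.1 hx Q hQ
  · exact Subgroup.le_normalizer (stab_anti hA hx)

open Classical in
/-- inserting the distinguished subgroup -/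
theorem normW_insert {s : Finset (Subgroup G)} (hs : IsChainP p s) (hbad : ¬ Good s)
    (hR : normW s ∉ s) :
    IsChainP p (insert (normW s) s) ∧ ¬ Good (insert (normW s) s) ∧
      normW (insert (normW s) s) = normW s ∧ stab (insert (normW s) s) = stab s := by
  obtain ⟨hQs, hQbad, hQgood⟩ := minBad_spec hs.1 hbad
  obtain ⟨F1, F2, F3, F4⟩ := normW_facts hs hbad
  have hch' : IsChainP p (insert (normW s) s) := hs.insert F4 F3
  have hQs' : minBad s ∈ insert (normW s) s := Finset.mem_insert_of_mem hQs
  have hQbad' : ¬ IsGoodIn (insert (normW s) s) (minBad s) := by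
    intro hg
    apply hQbad
    intro Y hY hYle
    exact hg Y (Finset.mem_insert_of_mem hY) hYle
  have hRle : normW s ≤ stab (s.filter (fun Y => Y < minBad s)) := by
    unfold normW
    exact inf_le_right
  have hgood' : ∀ X ∈ insert (normW s) s, X < minBad s → IsGoodIn (insert (normW s) s) X := by
    intro X hX hlt Y hY hYX
    rcases Finset.mem_insert.1 hX with hXR | hXs
    · rw [hXR] at hYX ⊢
      rcases Finset.mem_insert.1 hY with hYR | hYs
      · rw [hYR]
        exact Subgroup.le_normalizer
      · intro y hy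
        exact mem_stab.1 (hRle hy) Y
          (Finset.mem_filter.2 ⟨hYs, lt_of_le_of_lt hYX F2⟩)
    · rcases Finset.mem_insert.1 hY with hYR | hYs
      · rw [hYR] at hYX
        have h1 := F1 X hXs hlt
        have h2 : X = normW s := le_antisymm h1 hYX
        rw [h2] at hXs
        exact absurd hXs hR
      · exact hQgood X hXs hlt Y hYs hYX
  have hmin' : minBad (insert (normW s) s) = minBad s := minBad_eq hch'.1 hQs' hQbad' hgood'
  have hnotgood : ¬ Good (insert (normW s) s) := fun hg => hQbad' (hg _ hQs')
  have hstab : stab (insert (normW s) s) = stab s := by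
    rw [stab_insert]
    apply inf_eq_right.2
    unfold normW
    exact stab_le_normalizer_normW' hQs (Finset.filter_subset _ _)
  refine ⟨hch', hnotgood, ?_, hstab⟩
  have hfilter : (insert (normW s) s).filter (fun Y => Y < minBad s) =
      insert (normW s) (s.filter (fun Y => Y < minBad s)) := by
    rw [Finset.filter_insert, if_pos F2]
  have h1 : normW (insert (normW s) s) =
      minBad s ⊓ stab ((insert (normW s) s).filter (fun Y => Y < minBad s)) := by
    rw [normW_def (insert (normW s) s), hmin']
  rw [h1, hfilter, stab_insert]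
  have h2 : minBad s ⊓ stab (s.filter (fun Y => Y < minBad s)) = normW s := rfl
  rw [inf_comm (Subgroup.normalizer _), ← inf_assoc, h2]
  exact inf_eq_left.2 Subgroup.le_normalizer

open Classical in
/-- deleting the distinguished subgroup -/
theorem normW_erase [Finite G] [Fact p.Prime] {s : Finset (Subgroup G)} (hs : IsChainP p s)
    (hbad : ¬ Good s) (hR : normW s ∈ s) :
    IsChainP p (s.erase (normW s)) ∧ ¬ Good (s.erase (normW s)) ∧
      normW (s.erase (normW s)) = normW s ∧ stab (s.erase (normW s)) = stab s := by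
  obtain ⟨hQs, hQbad, hQgood⟩ := minBad_spec hs.1 hbad
  obtain ⟨F1, F2, F3, F4⟩ := normW_facts hs hbad
  have hsub : s.erase (normW s) ⊆ s := Finset.erase_subset _ _
  have hch' : IsChainP p (s.erase (normW s)) := hs.subset hsub
  have hQs' : minBad s ∈ s.erase (normW s) :=
    Finset.mem_erase.2 ⟨fun h => absurd (h ▸ F2) (lt_irrefl _), hQs⟩
  -- the filter of the smaller chain
  have hfilter : (s.erase (normW s)).filter (fun Y => Y < minBad s) =
      (s.filter (fun Y => Y < minBad s)).erase (normW s) := Finset.filter_erase _ _ _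
  have hRA : normW s ∈ s.filter (fun Y => Y < minBad s) := Finset.mem_filter.2 ⟨hR, F2⟩
  -- the key equality
  have hkey : minBad s ⊓ stab ((s.filter (fun Y => Y < minBad s)).erase (normW s)) =
      normW s := by
    have hle : normW s ≤
        minBad s ⊓ stab ((s.filter (fun Y => Y < minBad s)).erase (normW s)) := by
      rw [normW_def s]
      exact inf_le_inf_left _ (stab_anti (Finset.erase_subset _ _))
    by_contra hne
    have hlt : normW s <
        minBad s ⊓ stab ((s.filter (fun Y => Y < minBad s)).erase (normW s)) :=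
      lt_of_le_of_ne hle (fun h => hne h.symm)
    have hp2 : IsPGroup p
        (minBad s ⊓ stab ((s.filter (fun Y => Y < minBad s)).erase (normW s)) : Subgroup G) :=
      (hs.2 _ hQs).2.to_le inf_le_left
    obtain ⟨g, hg, hgR, hgN⟩ :=
      Cfsg.Agent.Helper12.exists_mem_normalizer_not_mem _ hp2 (normW s) hlt
    apply hgR
    rw [normW_def s]
    have hgst : g ∈ stab (s.filter (fun Y => Y < minBad s)) := by
      rw [mem_stab]
      intro Y hY
      by_cases hYR : Y = normW s
      · rw [hYR]
        exact hgN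
      · exact mem_stab.1 hg.2 Y (Finset.mem_erase.2 ⟨hYR, hY⟩)
    exact ⟨hg.1, hgst⟩
  have hQbad' : ¬ IsGoodIn (s.erase (normW s)) (minBad s) := by
    intro hg
    have h1 : minBad s ≤ stab ((s.filter (fun Y => Y < minBad s)).erase (normW s)) := by
      intro y hy
      rw [mem_stab]
      intro Y hY
      obtain ⟨hYne, hYA⟩ := Finset.mem_erase.1 hY
      obtain ⟨hYs, hYlt⟩ := Finset.mem_filter.1 hYA
      exact hg Y (Finset.mem_erase.2 ⟨hYne, hYs⟩) hYlt.le hy
    have h2 : minBad s ⊓ stab ((s.filter (fun Y => Y < minBad s)).erase (normW s)) =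
        minBad s := inf_eq_left.2 h1
    rw [hkey] at h2
    exact absurd (h2 ▸ F2) (lt_irrefl _)
  have hgood' : ∀ X ∈ s.erase (normW s), X < minBad s → IsGoodIn (s.erase (normW s)) X := by
    intro X hX hlt Y hY hYX
    exact hQgood X (hsub hX) hlt Y (hsub hY) hYX
  have hmin' : minBad (s.erase (normW s)) = minBad s := minBad_eq hch'.1 hQs' hQbad' hgood'
  have hnotgood : ¬ Good (s.erase (normW s)) := fun hg => hQbad' (hg _ hQs')
  have hnormW' : normW (s.erase (normW s)) = normW s := by
    rw [normW_def (s.erase (normW s)), hmin', hfilter]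
    exact hkey
  refine ⟨hch', hnotgood, hnormW', ?_⟩
  apply le_antisymm
  · intro x hx
    rw [mem_stab]
    intro Y hY
    by_cases hYR : Y = normW s
    · rw [hYR, ← hkey]
      have h1 : (s.filter (fun Y => Y < minBad s)).erase (normW s) ⊆ s.erase (normW s) := by
        intro Z hZ
        obtain ⟨hZne, hZA⟩ := Finset.mem_erase.1 hZ
        exact Finset.mem_erase.2 ⟨hZne, (Finset.mem_filter.1 hZA).1⟩
      exact stab_le_normalizer_normW' hQs' h1 hx
    · exact mem_stab.1 hx Y (Finset.mem_erase.2 ⟨hYR, hY⟩)
  · exact stab_anti hsub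

open Classical in
theorem normW_flip [Finite G] [Fact p.Prime] {s : Finset (Subgroup G)} (hs : IsChainP p s)
    (hbad : ¬ Good s) :
    IsChainP p (flip normW s) ∧ ¬ Good (flip normW s) ∧
      normW (flip normW s) = normW s ∧ stab (flip normW s) = stab s := by
  by_cases h : normW s ∈ s
  · rw [flip_of_mem _ _ h]
    exact normW_erase hs hbad h
  · rw [flip_of_not_mem _ _ h]
    exact normW_insert hs hbad h

open Classical in
/-- **the cancellation of the chains that are not normal** -/
theorem nonnormal_sum [Fintype (Subgroup G)] [Finite G] [Fact p.Prime]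
    (Pr : Subgroup G → Prop) (F' : Subgroup G → ℤ) :
    ∑ s ∈ Finset.univ.filter (fun s : Finset (Subgroup G) =>
        IsChainP p s ∧ ¬ Good s ∧ Pr (stab s)),
      (-1 : ℤ) ^ s.card * F' (stab s) = 0 := by
  apply sum_flip_eq_zero _ normW (fun s => F' (stab s))
  · intro s hs
    rw [Finset.mem_filter] at hs ⊢
    obtain ⟨-, h1, h2, h3⟩ := hs
    obtain ⟨a1, a2, -, a4⟩ := normW_flip h1 h2
    refine ⟨Finset.mem_univ _, a1, a2, ?_⟩
    rw [a4]
    exact h3
  · intro s hs
    rw [Finset.mem_filter] at hs
    exact (normW_flip hs.2.1 hs.2.2.1).2.2.1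
  · intro s hs
    rw [Finset.mem_filter] at hs
    show F' _ = F' _
    rw [(normW_flip hs.2.1 hs.2.2.1).2.2.2]

end Normal

section Final

variable {G : Type u} [Group G] {p : ℕ}

/-- normal chains: every member is normal in the largest member -/
def IsNormalChain (s : Finset (Subgroup G)) : Prop :=
  ∃ T ∈ s, ∀ Q ∈ s, Q ≤ T ∧ T ≤ Subgroup.normalizer ((Q : Subgroup G) : Set G)

open Classical in
theorem good_iff_isNormalChain {s : Finset (Subgroup G)}
    (hch : ∀ Q ∈ s, ∀ R ∈ s, Q ≤ R ∨ R ≤ Q) (hne : s.Nonempty) :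
    Good s ↔ IsNormalChain s := by
  constructor
  · intro hg
    have hT := sup_mem_of_chain s hne hch
    refine ⟨s.sup id, hT, ?_⟩
    intro Q hQ
    have hQT : Q ≤ s.sup id := Finset.le_sup (f := id) hQ
    exact ⟨hQT, hg _ hT Q hQ hQT⟩
  · rintro ⟨T, hT, hall⟩ X hX Y hY hYX
    exact le_trans (hall X hX).1 (hall Y hY).2

open Classical in
/-- **the alternating sum over the normal chains stabilized by a nontrivial `p`-element** -/
theorem normal_chain_sum [Fintype (Subgroup G)] [Finite G] [Fact p.Prime] {u : G}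
    (hu : ∃ k : ℕ, orderOf u = p ^ k) (hu1 : u ≠ 1) (F : Subgroup G → ℤ) :
    F (Subgroup.centralizer ({u} : Set G)) =
      ∑ s ∈ Finset.univ.filter (fun s : Finset (Subgroup G) =>
          s.Nonempty ∧ IsChainP p s ∧ IsNormalChain s ∧ u ∈ stab s),
        (-1 : ℤ) ^ (s.card - 1) * F (Subgroup.centralizer ({u} : Set G) ⊓ stab s) := by
  obtain ⟨f, hf⟩ : ∃ f : Finset (Subgroup G) → ℤ, f = fun s =>
      (-1 : ℤ) ^ s.card * F (Subgroup.centralizer ({u} : Set G) ⊓ stab s) := ⟨_, rfl⟩
  obtain ⟨𝒜, h𝒜⟩ : ∃ 𝒜 : Finset (Finset (Subgroup G)), 𝒜 =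
      Finset.univ.filter (fun s : Finset (Subgroup G) => IsChainP p s ∧ u ∈ stab s) := ⟨_, rfl⟩
  have h0 : ∑ s ∈ 𝒜, f s = 0 := by
    rw [h𝒜, hf]
    exact cone_sum hu hu1 F
  have h1 : ∑ s ∈ 𝒜.filter (fun s => ¬ Good s), f s = 0 := by
    have h2 := nonnormal_sum (p := p) (fun K : Subgroup G => u ∈ K)
      (fun K => F (Subgroup.centralizer ({u} : Set G) ⊓ K))
    have h3 : 𝒜.filter (fun s => ¬ Good s) = Finset.univ.filter (fun s : Finset (Subgroup G) =>
        IsChainP p s ∧ ¬ Good s ∧ u ∈ stab s) := by
      rw [h𝒜]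
      ext s
      simp only [Finset.mem_filter, Finset.mem_univ, true_and]
      tauto
    rw [h3, hf]
    exact h2
  have h2 : ∑ s ∈ 𝒜.filter (fun s => Good s), f s = 0 := by
    have h3 := Finset.sum_filter_add_sum_filter_not 𝒜 (fun s => Good s) f
    rw [h0, h1, add_zero] at h3
    exact h3
  have h3 : 𝒜.filter (fun s => Good s) = insert ∅
      (Finset.univ.filter (fun s : Finset (Subgroup G) =>
          s.Nonempty ∧ IsChainP p s ∧ IsNormalChain s ∧ u ∈ stab s)) := by
    rw [h𝒜]
    ext s
    simp only [Finset.mem_filter, Finset.mem_univ, true_and, Finset.mem_insert]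
    constructor
    · rintro ⟨⟨hch, hus⟩, hg⟩
      by_cases hne : s.Nonempty
      · right
        exact ⟨hne, hch, (good_iff_isNormalChain hch.1 hne).1 hg, hus⟩
      · left
        exact Finset.not_nonempty_iff_eq_empty.1 hne
    · rintro (rfl | ⟨hne, hch, hn, hus⟩)
      · refine ⟨⟨⟨?_, ?_⟩, ?_⟩, ?_⟩
        · intro Q hQ
          exact absurd hQ (Finset.notMem_empty _)
        · intro Q hQ
          exact absurd hQ (Finset.notMem_empty _)
        · rw [stab_empty]
          exact Subgroup.mem_top _
        · intro X hX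
          exact absurd hX (Finset.notMem_empty _)
      · exact ⟨⟨hch, hus⟩, (good_iff_isNormalChain hch.1 hne).2 hn⟩
  rw [h3, Finset.sum_insert] at h2
  · have h4 : f ∅ = F (Subgroup.centralizer ({u} : Set G)) := by
      rw [hf]
      simp only [Finset.card_empty, pow_zero, one_mul]
      rw [stab_empty, inf_top_eq]
    rw [h4] at h2
    have h5 : ∀ s ∈ Finset.univ.filter (fun s : Finset (Subgroup G) =>
        s.Nonempty ∧ IsChainP p s ∧ IsNormalChain s ∧ u ∈ stab s),
        f s = -((-1 : ℤ) ^ (s.card - 1) *
          F (Subgroup.centralizer ({u} : Set G) ⊓ stab s)) := by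
      intro s hs
      rw [Finset.mem_filter] at hs
      have hpos : 0 < s.card := Finset.card_pos.2 hs.2.1
      rw [hf]
      have h6 : s.card = (s.card - 1) + 1 := by omega
      show (-1 : ℤ) ^ s.card * F (Subgroup.centralizer ({u} : Set G) ⊓ stab s) = _
      have h7 : (-1 : ℤ) ^ s.card = -((-1 : ℤ) ^ (s.card - 1)) := by
        conv_lhs => rw [h6, pow_succ]
        ring
      rw [h7]
      ring
    rw [Finset.sum_congr rfl h5, Finset.sum_neg_distrib] at h2
    linarith
  · simp

end Final

end Cfsg.Agent.Helper23.Chain
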