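import Mathlib
import Cfsg.Agent.Lib.Helper23.BlockCountClasses
import Cfsg.Agent.Lib.Helper23.BlockTopTransport
import Cfsg.Agent.Lib.Helper23.BlockSecondMain2
import Cfsg.Agent.Lib.Helper23.BlockInducedDefect
import Cfsg.Agent.Lib.Helper23.ChainAlt

/-!
# The alternating sum of `k - l` over normal chains (helper23's shared library)

`card_mul_card_sub_rank`: Brauer's formula `|G| (k(B) - l(B)) = ∑_{u ≠ 1} |C_G(u)| ∑_{b^G = B} l(b)`.
-/

set_option autoImplicit false
set_option linter.unusedSectionVars false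
set_option linter.style.haveILetI false

namespace Cfsg.Agent.Helper23.Blk

open Cfsg Cfsg.Agent.Helper24
open scoped ComplexConjugate

universe u

section Defs

variable {G : Type u} [Group G]

/-- the irreducible characters of `K` lying in blocks inducing `b` -/
def indChars (M : Ideal AlgInt) (K : Subgroup G) (b : Set (IrrCharacter G)) :
    Set (IrrCharacter K) :=
  {ψ | ∃ β : Set (IrrCharacter K), ψ ∈ β ∧ IsInducedBlock M K β b}

/-- the sum of the ranks of the blocks of `K` inducing `b` -/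
noncomputable def indRank (M : Ideal AlgInt) (p : ℕ) (K : Subgroup G)
    (b : Set (IrrCharacter G)) : ℕ :=
  ∑ᶠ γ ∈ {γ : Set (IrrCharacter K) | IsInducedBlock M K γ b}, blockRank p γ

/-- the order of `K` times the sum of the ranks of the blocks of `K` inducing `b` -/
noncomputable def Fval (M : Ideal AlgInt) (p : ℕ) (K : Subgroup G)
    (b : Set (IrrCharacter G)) : ℤ :=
  (Nat.card K : ℤ) * (indRank M p K b : ℤ)

end Defs

section Formula

variable {G : Type u} [Group G] [Fintype G] {M : Ideal AlgInt} {p : ℕ}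

open Classical in
/-- **Brauer's formula** `|G| (k(B) - l(B)) = ∑_{u ≠ 1} |C_G(u)| ∑_{b^G = B} l(b)` -/
theorem card_mul_card_sub_rank (hM : IsPModular p M) {B : Set (IrrCharacter G)}
    (hB : IsPBlock M B) :
    (Nat.card G : ℂ) * ((Nat.card B : ℂ) - (blockRank p B : ℂ)) =
      ∑ z : G, if (∃ k : ℕ, orderOf z = p ^ k) ∧ z ≠ 1 then
        (Nat.card (Subgroup.centralizer ({z} : Set G)) : ℂ) *
          ((∑ᶠ b ∈ {b : Set (IrrCharacter (Subgroup.centralizer ({z} : Set G))) |
            IsInducedBlock M (Subgroup.centralizer ({z} : Set G)) b B}, blockRank p b : ℕ) : ℂ)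
        else 0 := by
  letI : Fintype (IrrCharacter G) := irrFintype
  have h1 := sum_blockSq B
  rw [← sum_secSum hM.1 B] at h1
  have hsplit : ∀ z : G, secSum p B z = (if z = 1 then secSum p B 1 else 0) +
      (if (∃ k : ℕ, orderOf z = p ^ k) ∧ z ≠ 1 then
        (Nat.card (Subgroup.centralizer ({z} : Set G)) : ℂ) *
          ((∑ᶠ b ∈ {b : Set (IrrCharacter (Subgroup.centralizer ({z} : Set G))) |
            IsInducedBlock M (Subgroup.centralizer ({z} : Set G)) b B}, blockRank p b : ℕ) : ℂ)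
        else 0) := by
    intro z
    by_cases hz1 : z = 1
    · rw [if_pos hz1, if_neg (fun h => h.2 hz1), add_zero, hz1]
    · rw [if_neg hz1, zero_add]
      by_cases hz : ∃ k : ℕ, orderOf z = p ^ k
      · rw [if_pos ⟨hz, hz1⟩, secSum_eq_card_mul hM hB hz]
      · rw [if_neg (fun h => hz h.1), secSum_eq_zero B hz]
  rw [Finset.sum_congr rfl (fun z _ => hsplit z), Finset.sum_add_distrib, Finset.sum_ite_eq',
    if_pos (Finset.mem_univ _), secSum_one hM hB] at h1
  rw [mul_sub, ← h1]
  ring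

end Formula


section Transport

variable {G : Type u} [Group G] [Fintype G] {M : Ideal AlgInt} {p : ℕ}
variable (H : Subgroup G) (K' : Subgroup H)

/-- a subgroup of a subgroup, and its image in the group -/
noncomputable def mapEquiv : K' ≃* (K'.map H.subtype : Subgroup G) :=
  Subgroup.equivMapOfInjective K' H.subtype (Subgroup.subtype_injective H)

theorem mapEquiv_coe (k : K') :
    ((mapEquiv H K' k : (K'.map H.subtype : Subgroup G)) : G) = ((k : H) : G) :=
  Subgroup.coe_equivMapOfInjective_apply _ _ _ _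

theorem mapEquiv_symm_coe (k : (K'.map H.subtype : Subgroup G)) :
    ((((mapEquiv H K').symm k : K') : H) : G) = (k : G) := by
  rw [← mapEquiv_coe, MulEquiv.apply_symm_apply]

theorem omega_mapEquiv [Fintype K'] [Fintype (K'.map H.subtype : Subgroup G)]
    (ξ : K' → ℂ) (a : G → ℂ) :
    omega (ξ ∘ (mapEquiv H K').symm) (fun k : (K'.map H.subtype : Subgroup G) => a (k : G)) =
      omega ξ (fun k : K' => a ((k : H) : G)) := by
  unfold omega
  rw [Function.comp_apply, map_one]
  congr 1
  symm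
  refine Fintype.sum_equiv (mapEquiv H K').toEquiv _ _ fun k => ?_
  show a ((k : H) : G) * ξ k = a ((mapEquiv H K' k : (K'.map H.subtype : Subgroup G)) : G) *
    ξ ((mapEquiv H K').symm (mapEquiv H K' k))
  rw [mapEquiv_coe, MulEquiv.symm_apply_apply]

/-- the induced central character from the image subgroup, through the intermediate group -/
theorem inducedCentralChar_map_cong (hM : IsPModular p M) {β' : Set (IrrCharacter K')}
    {β : Set (IrrCharacter H)} (h1 : IsInducedBlock M K' β' β) {ξ' : IrrCharacter K'}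
    (hξ' : ξ' ∈ β') {ζ : IrrCharacter H} (hζ : ζ ∈ β) (g : G) :
    MemLocalIdeal M (inducedCentralChar (K'.map H.subtype : Subgroup G)
      (irrComp (mapEquiv H K').symm ξ' : ↥(K'.map H.subtype) → ℂ) g -
      inducedCentralChar H (ζ : H → ℂ) g) := by
  classical
  haveI hMp : M.IsPrime := hM.2.1.isPrime
  haveI : Fintype H := Fintype.ofFinite _
  haveI : Fintype K' := Fintype.ofFinite _
  haveI : Fintype (K'.map H.subtype : Subgroup G) := Fintype.ofFinite _
  letI : Fintype (IrrCharacter H) := irrFintype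
  letI : Fintype (IrrCharacter K') := irrFintype
  rw [inducedCentralChar_eq_omega, inducedCentralChar_eq_omega]
  have h2 := omega_mapEquiv H K' (ξ' : K' → ℂ) (classInd g)
  have h3 : (irrComp (mapEquiv H K').symm ξ' : ↥(K'.map H.subtype) → ℂ) =
      (ξ' : K' → ℂ) ∘ (mapEquiv H K').symm := rfl
  rw [h3, h2]
  exact IsInducedBlock.omega_cong K' h1 hξ' hζ
    (a := fun h : H => classInd g (h : G))
    (isClassFunction_comp_subtype H (isClassFunction_classInd g))
    (fun h => memLocalRing_classInd g _)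

/-- transitivity of block induction -/
theorem isInducedBlock_map_of_trans (hM : IsPModular p M) {β' : Set (IrrCharacter K')}
    {β : Set (IrrCharacter H)} {b : Set (IrrCharacter G)} (h1 : IsInducedBlock M K' β' β)
    (h2 : IsInducedBlock M H β b) :
    IsInducedBlock M (K'.map H.subtype : Subgroup G) (irrComp (mapEquiv H K').symm '' β') b := by
  haveI hMp : M.IsPrime := hM.2.1.isPrime
  haveI : Fintype H := Fintype.ofFinite _
  obtain ⟨ζ, hζ⟩ := block_nonempty hM h2.1
  refine ⟨isPBlock_image_irrComp _ h1.1, h2.2.1, ?_⟩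
  rintro _ ⟨ξ', hξ', rfl⟩ χ hχ g
  exact cong_trans (inducedCentralChar_map_cong H K' hM h1 hξ' hζ g) (h2.2.2 ζ hζ χ hχ g)

/-- converse of the transitivity of block induction -/
theorem isInducedBlock_of_map (hM : IsPModular p M) {β' : Set (IrrCharacter K')}
    {β : Set (IrrCharacter H)} {b : Set (IrrCharacter G)} (h1 : IsInducedBlock M K' β' β)
    (h2 : IsInducedBlock M (K'.map H.subtype : Subgroup G)
      (irrComp (mapEquiv H K').symm '' β') b) :
    IsInducedBlock M H β b := by
  classical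
  haveI hMp : M.IsPrime := hM.2.1.isPrime
  haveI : Fintype H := Fintype.ofFinite _
  haveI : Fintype K' := Fintype.ofFinite _
  letI : Fintype (IrrCharacter H) := irrFintype
  letI : Fintype (IrrCharacter G) := irrFintype
  obtain ⟨ζ, hζ⟩ := block_nonempty hM h1.2.1
  obtain ⟨ξ', hξ'⟩ := block_nonempty hM h1.1
  obtain ⟨χ, hχ⟩ := block_nonempty hM h2.2.1
  have e1 : β = blockOf M (ζ : H → ℂ) := by
    obtain ⟨ζ₀, hζ₀⟩ := h1.2.1
    rw [hζ₀] at hζ ⊢
    exact (blockOf_eq_of_mem hζ).symm
  have e2 : b = blockOf M (χ : G → ℂ) := by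
    obtain ⟨χ₀, hχ₀⟩ := h2.2.1
    rw [hχ₀] at hχ ⊢
    exact (blockOf_eq_of_mem hχ).symm
  rw [e1, e2]
  apply isInducedBlock_of_forall
  intro g
  rw [← inducedCentralChar_eq_omega, omega_classInd]
  exact cong_trans (cong_symm (inducedCentralChar_map_cong H K' hM h1 hξ' hζ g))
    (h2.2.2 _ ⟨ξ', hξ', rfl⟩ χ hχ g)

end Transport


section Union

variable {G : Type u} [Group G] [Fintype G] {M : Ideal AlgInt} {p : ℕ}
variable (H : Subgroup G)

theorem card_eq_sum_ite {α : Type*} [Fintype α] (A : Set α) [DecidablePred (· ∈ A)] :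
    (Nat.card A : ℂ) = ∑ ψ : α, if ψ ∈ A then (1 : ℂ) else 0 := by
  rw [Nat.card_eq_fintype_card, Fintype.card_subtype, Finset.card_filter]
  push_cast
  rfl

open Classical in
/-- sums over the characters in the blocks inducing `b`, block by block -/
theorem sum_indChars [Fintype H] [Fintype (IrrCharacter H)] (hM : IsPModular p M)
    (b : Set (IrrCharacter G)) (𝔅 : Finset (Set (IrrCharacter H)))
    (h𝔅 : ∀ f, f ∈ 𝔅 ↔ IsPBlock M f) (f : IrrCharacter H → ℂ) :
    ∑ ψ : IrrCharacter H, (if ψ ∈ indChars M H b then f ψ else 0) =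
      ∑ β ∈ 𝔅.filter (fun β => IsInducedBlock M H β b),
        ∑ ψ : IrrCharacter H, if ψ ∈ β then f ψ else 0 := by
  haveI hMp : M.IsPrime := hM.2.1.isPrime
  rw [Finset.sum_comm]
  refine Finset.sum_congr rfl fun ψ _ => ?_
  by_cases hψ : ψ ∈ indChars M H b
  · obtain ⟨β₀, hψβ₀, hβ₀⟩ := hψ
    rw [if_pos ⟨β₀, hψβ₀, hβ₀⟩, Finset.sum_eq_single β₀]
    · rw [if_pos hψβ₀]
    · intro β hβ hne
      rw [if_neg]
      intro hψβ
      exact hne (isPBlock_eq_of_mem ((Finset.mem_filter.1 hβ).2.1) hβ₀.1 hψβ hψβ₀)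
    · intro h
      exact absurd (Finset.mem_filter.2 ⟨(h𝔅 _).2 hβ₀.1, hβ₀⟩) h
  · rw [if_neg hψ]
    symm
    apply Finset.sum_eq_zero
    intro β hβ
    rw [if_neg]
    intro hψβ
    exact hψ ⟨β, hψβ, (Finset.mem_filter.1 hβ).2⟩

open Classical in
theorem card_indChars [Fintype H] [Fintype (IrrCharacter H)] (hM : IsPModular p M)
    (b : Set (IrrCharacter G)) (𝔅 : Finset (Set (IrrCharacter H)))
    (h𝔅 : ∀ f, f ∈ 𝔅 ↔ IsPBlock M f) :
    (Nat.card (indChars M H b) : ℂ) =
      ∑ β ∈ 𝔅.filter (fun β => IsInducedBlock M H β b), (Nat.card β : ℂ) := by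
  rw [card_eq_sum_ite, sum_indChars H hM b 𝔅 h𝔅 (fun _ => (1 : ℂ))]
  refine Finset.sum_congr rfl fun β _ => ?_
  rw [card_eq_sum_ite]

open Classical in
theorem blockRank_indChars [Fintype H] [Fintype (IrrCharacter H)] (hM : IsPModular p M)
    (b : Set (IrrCharacter G)) (𝔅 : Finset (Set (IrrCharacter H)))
    (h𝔅 : ∀ f, f ∈ 𝔅 ↔ IsPBlock M f) :
    (blockRank p (indChars M H b) : ℂ) =
      ∑ β ∈ 𝔅.filter (fun β => IsInducedBlock M H β b), (blockRank p β : ℂ) := by
  haveI hMp : M.IsPrime := hM.2.1.isPrime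
  have horth : ∀ χ ∈ indChars M H b, ∀ ψ ∉ indChars M H b,
      classInner (pRegularPart p (χ : H → ℂ)) (ψ : H → ℂ) = 0 := by
    rintro χ ⟨β₀, hχβ₀, hβ₀⟩ ψ hψ
    have hψβ₀ : ψ ∉ β₀ := fun h => hψ ⟨β₀, h, hβ₀⟩
    exact classInner_pRegularPart_eq_zero p hM
      (fun g => memLocalRing_blockCoeff hMp hβ₀.1 g) hχβ₀ hψβ₀
  rw [blockRank_eq_sum p (indChars M H b) horth, sum_indChars H hM b 𝔅 h𝔅
    (fun ψ => classInner (pRegularPart p (ψ : H → ℂ)) (ψ : H → ℂ))]
  refine Finset.sum_congr rfl fun β hβ => ?_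
  rw [blockRank_block p hM (Finset.mem_filter.1 hβ).2.1]

end Union


section TheoremA

variable {G : Type u} [Group G] [Fintype G] {M : Ideal AlgInt} {p : ℕ}
variable (H : Subgroup G)

open Classical in
/-- the ranks of the blocks of `C_H(z)` inducing `b` through the blocks of `H` -/
theorem sum_subsecRank [Fintype H] (hM : IsPModular p M) (b : Set (IrrCharacter G))
    (𝔅 : Finset (Set (IrrCharacter H))) (h𝔅 : ∀ f, f ∈ 𝔅 ↔ IsPBlock M f) {z : H}
    (hz : ∃ k : ℕ, orderOf z = p ^ k) :
    ∑ β ∈ 𝔅.filter (fun β => IsInducedBlock M H β b),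
      ∑ᶠ β' ∈ {β' : Set (IrrCharacter (Subgroup.centralizer ({z} : Set H))) |
        IsInducedBlock M (Subgroup.centralizer ({z} : Set H)) β' β}, blockRank p β' =
      indRank M p ((Subgroup.centralizer ({z} : Set H)).map H.subtype) b := by
  haveI hMp : M.IsPrime := hM.2.1.isPrime
  haveI : Finite (IrrCharacter (Subgroup.centralizer ({z} : Set H))) := irr_finite'
  obtain ⟨φ, hφ⟩ : ∃ φ, φ = mapEquiv H (Subgroup.centralizer ({z} : Set H)) := ⟨_, rfl⟩
  -- step (i): transport along the isomorphism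
  have h1 : indRank M p ((Subgroup.centralizer ({z} : Set H)).map H.subtype) b =
      ∑ᶠ β' ∈ {β' : Set (IrrCharacter (Subgroup.centralizer ({z} : Set H))) |
        IsInducedBlock M ((Subgroup.centralizer ({z} : Set H)).map H.subtype)
          (irrComp φ.symm '' β') b}, blockRank p β' := by
    unfold indRank
    symm
    apply finsum_mem_eq_of_bijOn (fun β' => irrComp φ.symm '' β')
    · refine ⟨fun β' hβ' => hβ', ?_, ?_⟩
      · intro β₁ _ β₂ _ h
        exact (Set.image_injective.2 (irrComp_injective φ.symm)) h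
      · intro γ hγ
        refine ⟨irrComp φ '' γ, ?_, ?_⟩
        · show IsInducedBlock M _ (irrComp φ.symm '' (irrComp φ '' γ)) b
          have : irrComp φ.symm '' (irrComp φ '' γ) = γ := by
            rw [Set.image_image]
            simp only [irrComp_symm_irrComp, Set.image_id']
          rw [this]
          exact hγ
        · show irrComp φ.symm '' (irrComp φ '' γ) = γ
          rw [Set.image_image]
          simp only [irrComp_symm_irrComp, Set.image_id']
    · intro β' _
      exact (blockRank_image_irrComp φ.symm β').symm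
  -- step (ii): the set as a disjoint union
  have h2 : {β' : Set (IrrCharacter (Subgroup.centralizer ({z} : Set H))) |
        IsInducedBlock M ((Subgroup.centralizer ({z} : Set H)).map H.subtype)
          (irrComp φ.symm '' β') b} =
      ⋃ β ∈ (↑(𝔅.filter (fun β => IsInducedBlock M H β b)) : Set (Set (IrrCharacter H))),
        {β' : Set (IrrCharacter (Subgroup.centralizer ({z} : Set H))) |
          IsInducedBlock M (Subgroup.centralizer ({z} : Set H)) β' β} := by
    ext β'
    simp only [Set.mem_setOf_eq, Set.mem_iUnion, Finset.mem_coe, Finset.mem_filter, exists_prop]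
    constructor
    · intro h
      have hβ' : IsPBlock M β' := by
        have h3 := isPBlock_image_irrComp φ h.1
        rw [Set.image_image] at h3
        have h4 : (fun x => irrComp φ (irrComp φ.symm x)) = id := by
          funext x
          exact irrComp_irrComp_symm φ x
        rw [h4, Set.image_id] at h3
        exact h3
      obtain ⟨β, hβ⟩ := exists_isInducedBlock_centralizer hM hz hβ'
      rw [hφ] at h
      have h5 := isInducedBlock_of_map H _ hM hβ h
      exact ⟨β, ⟨(h𝔅 β).2 hβ.2.1, h5⟩, hβ⟩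
    · rintro ⟨β, ⟨-, hβb⟩, hβ'β⟩
      rw [hφ]
      exact isInducedBlock_map_of_trans H _ hM hβ'β hβb
  rw [h1, h2, finsum_mem_biUnion, finsum_mem_coe_finset]
  · intro β₁ hβ₁ β₂ hβ₂ hne
    rw [Function.onFun, Set.disjoint_left]
    intro β' h₁ h₂
    exact hne (isInducedBlock_unique' hM h₁ h₂)
  · exact Set.toFinite _
  · intro β _
    exact Set.toFinite _


open Classical in
/-- **Brauer's formula for the union of the blocks of `H` inducing `b`**, complex form -/
theorem card_mul_indChars_complex [Fintype H] (hM : IsPModular p M) (b : Set (IrrCharacter G)) :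
    (Nat.card H : ℂ) * ((Nat.card (indChars M H b) : ℂ) - (blockRank p (indChars M H b) : ℂ)) =
      ∑ z : H, if (∃ k : ℕ, orderOf z = p ^ k) ∧ z ≠ 1 then
        ((Fval M p ((Subgroup.centralizer ({z} : Set H)).map H.subtype) b : ℤ) : ℂ) else 0 := by
  haveI hMp : M.IsPrime := hM.2.1.isPrime
  letI : Fintype (IrrCharacter H) := irrFintype
  obtain ⟨𝔅, h𝔅⟩ := exists_finset_blocks (M := M) (K := H)
  rw [card_indChars H hM b 𝔅 h𝔅, blockRank_indChars H hM b 𝔅 h𝔅, ← Finset.sum_sub_distrib,
    Finset.mul_sum]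
  rw [Finset.sum_congr rfl (fun β hβ => card_mul_card_sub_rank hM (Finset.mem_filter.1 hβ).2.1),
    Finset.sum_comm]
  refine Finset.sum_congr rfl fun z _ => ?_
  by_cases hz : (∃ k : ℕ, orderOf z = p ^ k) ∧ z ≠ 1
  · simp only [if_pos hz]
    rw [← Finset.mul_sum, ← Nat.cast_sum, sum_subsecRank H hM b 𝔅 h𝔅 hz.1]
    unfold Fval
    push_cast
    congr 2
    exact Nat.card_congr (mapEquiv H (Subgroup.centralizer ({z} : Set H))).toEquiv
  · simp only [if_neg hz]
    exact Finset.sum_const_zero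


theorem map_centralizer_eq (z : H) :
    (Subgroup.centralizer ({z} : Set H)).map H.subtype =
      Subgroup.centralizer ({(z : G)} : Set G) ⊓ H := by
  ext x
  rw [Subgroup.mem_map, Subgroup.mem_inf, Subgroup.mem_centralizer_iff]
  constructor
  · rintro ⟨y, hy, rfl⟩
    refine ⟨?_, y.2⟩
    intro w hw
    rw [Set.mem_singleton_iff] at hw
    rw [hw]
    have h1 := Subgroup.mem_centralizer_iff.1 hy z (Set.mem_singleton z)
    have h2 := congrArg Subtype.val h1
    push_cast at h2
    exact h2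
  · rintro ⟨hx, hxH⟩
    refine ⟨⟨x, hxH⟩, ?_, rfl⟩
    rw [Subgroup.mem_centralizer_iff]
    intro w hw
    rw [Set.mem_singleton_iff] at hw
    rw [hw]
    apply Subtype.ext
    push_cast
    exact hx (z : G) (Set.mem_singleton _)

open Classical in
/-- **Brauer's formula for the union of the blocks of `H` inducing `b`** -/
theorem card_mul_indChars [Fintype H] (hM : IsPModular p M) (b : Set (IrrCharacter G)) :
    (Nat.card H : ℤ) * ((Nat.card (indChars M H b) : ℤ) - (blockRank p (indChars M H b) : ℤ)) =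
      ∑ u : G, if u ∈ H ∧ (∃ k : ℕ, orderOf u = p ^ k) ∧ u ≠ 1 then
        Fval M p (Subgroup.centralizer ({u} : Set G) ⊓ H) b else 0 := by
  have h1 := card_mul_indChars_complex H hM b
  have h2 : ∑ u : G, (if u ∈ H ∧ (∃ k : ℕ, orderOf u = p ^ k) ∧ u ≠ 1 then
        Fval M p (Subgroup.centralizer ({u} : Set G) ⊓ H) b else 0) =
      ∑ z : H, if (∃ k : ℕ, orderOf z = p ^ k) ∧ z ≠ 1 then
        Fval M p ((Subgroup.centralizer ({z} : Set H)).map H.subtype) b else 0 := by
    have h3 : ∑ u : G, (if u ∈ H ∧ (∃ k : ℕ, orderOf u = p ^ k) ∧ u ≠ 1 then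
        Fval M p (Subgroup.centralizer ({u} : Set G) ⊓ H) b else 0) =
        ∑ u ∈ Finset.univ.filter (· ∈ H), (if (∃ k : ℕ, orderOf u = p ^ k) ∧ u ≠ 1 then
          Fval M p (Subgroup.centralizer ({u} : Set G) ⊓ H) b else 0) := by
      rw [Finset.sum_filter]
      refine Finset.sum_congr rfl fun u _ => ?_
      by_cases hu : u ∈ H
      · rw [if_pos hu]
        simp only [hu, true_and]
      · rw [if_neg hu, if_neg (fun h => hu h.1)]
    rw [h3, Finset.sum_subtype (Finset.univ.filter (· ∈ H)) (p := (· ∈ H)) (by simp)]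
    refine Finset.sum_congr rfl fun z _ => ?_
    rw [Subgroup.orderOf_coe, map_centralizer_eq]
    have h4 : ((z : G) ≠ 1) ↔ z ≠ 1 := by
      rw [Ne, Ne, OneMemClass.coe_eq_one]
    by_cases hz : (∃ k : ℕ, orderOf z = p ^ k) ∧ z ≠ 1
    · rw [if_pos hz, if_pos ⟨hz.1, h4.2 hz.2⟩]
    · rw [if_neg hz, if_neg (fun h => hz ⟨h.1, h4.1 h.2⟩)]
  rw [h2]
  have h5 : (((Nat.card H : ℤ) * ((Nat.card (indChars M H b) : ℤ) -
      (blockRank p (indChars M H b) : ℤ)) : ℤ) : ℂ) =
      ((∑ z : H, if (∃ k : ℕ, orderOf z = p ^ k) ∧ z ≠ 1 then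
        Fval M p ((Subgroup.centralizer ({z} : Set H)).map H.subtype) b else 0 : ℤ) : ℂ) := by
    push_cast
    rw [h1]
  exact_mod_cast h5

end TheoremA


section Assembly

open Cfsg.Agent.Helper23.Chain

variable {G : Type u} [Group G]

open Classical in
/-- Brauer's formula for a block, integer form -/
theorem card_mul_card_sub_rank_int [Fintype G] {M : Ideal AlgInt} {p : ℕ} (hM : IsPModular p M)
    {B : Set (IrrCharacter G)} (hB : IsPBlock M B) :
    (Nat.card G : ℤ) * ((Nat.card B : ℤ) - (blockRank p B : ℤ)) =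
      ∑ z : G, if (∃ k : ℕ, orderOf z = p ^ k) ∧ z ≠ 1 then
        Fval M p (Subgroup.centralizer ({z} : Set G)) B else 0 := by
  have h := card_mul_card_sub_rank hM hB
  have h5 : (((Nat.card G : ℤ) * ((Nat.card B : ℤ) - (blockRank p B : ℤ)) : ℤ) : ℂ) =
      ((∑ z : G, if (∃ k : ℕ, orderOf z = p ^ k) ∧ z ≠ 1 then
        Fval M p (Subgroup.centralizer ({z} : Set G)) B else 0 : ℤ) : ℂ) := by
    push_cast
    rw [h]
    refine Finset.sum_congr rfl fun z _ => ?_
    unfold Fval indRank
    split_ifs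
    · push_cast
      rfl
    · rfl
  exact_mod_cast h5

open Classical in
/-- **the alternating sum of `k - l` over the normal chains** -/
theorem alternating_sum_normal_chains [Finite G] {M : Ideal AlgInt} {p : ℕ} [Fact p.Prime]
    (hM : IsPModular p M) {b : Set (IrrCharacter G)} (hb : IsPBlock M b) :
    (Nat.card G : ℤ) * ((Nat.card b : ℤ) - (blockRank p b : ℤ)) =
      ∑ᶠ s ∈ {s : Finset (Subgroup G) | s.Nonempty ∧ (∀ Q ∈ s, ∀ R ∈ s, Q ≤ R ∨ R ≤ Q) ∧
        (∀ Q ∈ s, Q ≠ ⊥ ∧ IsPGroup p Q) ∧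
        ∃ T ∈ s, ∀ Q ∈ s, Q ≤ T ∧ T ≤ Subgroup.normalizer ((Q : Subgroup G) : Set G)},
        (-1 : ℤ) ^ (s.card - 1) * (Nat.card (stab s) : ℤ) *
          ((Nat.card (indChars M (stab s) b) : ℤ) -
            (blockRank p (indChars M (stab s) b) : ℤ)) := by
  letI : Fintype G := Fintype.ofFinite G
  letI : Fintype (Subgroup G) := Fintype.ofFinite _
  haveI : ∀ K : Subgroup G, Fintype K := fun K => Fintype.ofFinite _
  have hset : {s : Finset (Subgroup G) | s.Nonempty ∧ (∀ Q ∈ s, ∀ R ∈ s, Q ≤ R ∨ R ≤ Q) ∧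
        (∀ Q ∈ s, Q ≠ ⊥ ∧ IsPGroup p Q) ∧
        ∃ T ∈ s, ∀ Q ∈ s, Q ≤ T ∧ T ≤ Subgroup.normalizer ((Q : Subgroup G) : Set G)} =
      ↑(Finset.univ.filter (fun s : Finset (Subgroup G) =>
        s.Nonempty ∧ IsChainP p s ∧ IsNormalChain s)) := by
    ext s
    simp only [Set.mem_setOf_eq, Finset.coe_filter, Finset.mem_univ, true_and]
    unfold IsChainP IsNormalChain
    tauto
  rw [hset, finsum_mem_coe_finset]
  have hterm : ∀ s : Finset (Subgroup G), (-1 : ℤ) ^ (s.card - 1) * (Nat.card (stab s) : ℤ) *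
      ((Nat.card (indChars M (stab s) b) : ℤ) - (blockRank p (indChars M (stab s) b) : ℤ)) =
      ∑ u : G, if (∃ k : ℕ, orderOf u = p ^ k) ∧ u ≠ 1 then
        (if u ∈ stab s then (-1 : ℤ) ^ (s.card - 1) *
          Fval M p (Subgroup.centralizer ({u} : Set G) ⊓ stab s) b else 0) else 0 := by
    intro s
    rw [mul_assoc, card_mul_indChars (stab s) hM b, Finset.mul_sum]
    refine Finset.sum_congr rfl fun u _ => ?_
    by_cases hu : (∃ k : ℕ, orderOf u = p ^ k) ∧ u ≠ 1
    · rw [if_pos hu]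
      by_cases hus : u ∈ stab s
      · rw [if_pos hus, if_pos ⟨hus, hu⟩]
      · rw [if_neg hus, if_neg (fun h => hus h.1), mul_zero]
    · rw [if_neg hu, if_neg (fun h => hu h.2), mul_zero]
  rw [Finset.sum_congr rfl (fun s _ => hterm s), Finset.sum_comm, card_mul_card_sub_rank_int hM hb]
  refine Finset.sum_congr rfl fun u _ => ?_
  by_cases hu : (∃ k : ℕ, orderOf u = p ^ k) ∧ u ≠ 1
  · simp only [if_pos hu]
    rw [normal_chain_sum (p := p) hu.1 hu.2 (fun K => Fval M p K b), ← Finset.sum_filter,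
      Finset.filter_filter]
    refine Finset.sum_congr ?_ fun s _ => rfl
    ext s
    simp only [Finset.mem_filter, Finset.mem_univ, true_and]
    tauto
  · simp only [if_neg hu]
    exact Finset.sum_const_zero.symm

end Assembly

end Cfsg.Agent.Helper23.Blk
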