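import Mathlib
import Cfsg.Agent.Lib.Helper23.BlockPairExists
import Cfsg.Agent.Lib.Helper23.BlockMajorCount
import Cfsg.Agent.Lib.Helper23.BlockMajorHeight
import Cfsg.Agent.S4669
import Cfsg.Agent.S4733

/-!
# Blocks with a defect group of order two (helper23's shared library)

`blockRank_eq_one_of_card_defectGroup_eq_two`: a `2`-block with a defect group of order `2` has
`l(B) = 1` and `k(B) = 2`.
-/

set_option autoImplicit false
set_option linter.unusedSectionVars false
set_option linter.style.haveILetI false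

namespace Cfsg.Agent.Helper23.Blk

open Cfsg Cfsg.Agent.Helper24 Cfsg.Agent.Helper18 Cfsg.Agent.Helper18.PairRel

universe u

section OrderTwo

variable {G : Type u} [Group G] [Fintype G] {M : Ideal AlgInt} {p : ℕ}

theorem blockRank_pos_of_nonempty (hp : p.Prime) {B : Set (IrrCharacter G)}
    (hne : B.Nonempty) : 0 < blockRank p B := by
  classical
  obtain ⟨χ, hχ⟩ := hne
  unfold blockRank
  rw [Module.finrank_pos_iff_exists_ne_zero]
  refine ⟨⟨pRegularPart p (χ : G → ℂ), Submodule.subset_span ⟨χ, hχ, rfl⟩⟩, ?_⟩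
  intro h0
  have h1 : pRegularPart p (χ : G → ℂ) = 0 := congrArg Subtype.val h0
  have h2 := congrFun h1 1
  unfold pRegularPart at h2
  have h3 : IsPRegular p (1 : G) := by
    unfold IsPRegular
    rw [orderOf_one, Nat.dvd_one]
    exact hp.one_lt.ne'
  rw [if_pos h3] at h2
  exact irr_one_ne_zero χ.2 h2

/-- the central-defect-group theorem for a subgroup `D` that commutes with everything -/
theorem blockRank_eq_one_of_central (hM : IsPModular p M) [Fact p.Prime]
    {B : Set (IrrCharacter G)} (hB : IsPBlock M B) {D : Subgroup G}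
    (hD : IsDefectGroup p M B D) (hc : D ≤ Subgroup.center G) : blockRank p B = 1 :=
  Cfsg.Agent.S4669.result p M hM B hB D hD hc

/-- **`k(B) ≤ |D|` for a block with cyclic defect group `D`** -/
theorem card_le_card_zpowers_defectGroup (hM : IsPModular p M) [Fact p.Prime]
    {B : Set (IrrCharacter G)} (hB : IsPBlock M B) {q : G}
    (hD : IsDefectGroup p M B (Subgroup.zpowers q)) :
    Nat.card B ≤ Nat.card (Subgroup.zpowers q) := by
  classical
  haveI hMp : M.IsPrime := hM.2.1.isPrime
  have hp : p.Prime := hM.1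
  obtain ⟨eD, hBe⟩ := exists_isBrauerPairOf_of_isDefectGroup hM hB hD
  have hPe : IsBrauerPair p M (Subgroup.zpowers q) eD := hBe.1
  obtain ⟨f, hf, hle⟩ := exists_subpairLE hM _ (Subgroup.zpowers q) (Subgroup.zpowers q) eD hPe
    le_rfl rfl
  have hqD : q ∈ Subgroup.zpowers q := Subgroup.mem_zpowers q
  have hqc : ∀ w ∈ Subgroup.zpowers q, q * w = w * q := by
    intro w hw
    obtain ⟨n, rfl⟩ := Subgroup.mem_zpowers_iff.1 hw
    exact ((Commute.refl q).zpow_right n)
  obtain ⟨hind, hdef⟩ := major_of_subpairLE_center hM hBe hD hqD hqc hle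
  have hDp : IsPGroup p (Subgroup.zpowers q) := isPGroup_of_isDefectGroup hM hD
  have hq : ∃ k : ℕ, orderOf q = p ^ k := by
    obtain ⟨k, hk⟩ := (IsPGroup.iff_orderOf.1 hDp) ⟨q, hqD⟩
    exact ⟨k, by rw [← hk, Subgroup.orderOf_mk]⟩
  have hPH : Subgroup.zpowers q ≤
      Subgroup.centralizer ((Subgroup.zpowers q : Subgroup G) : Set G) := by
    intro w hw
    rw [Subgroup.mem_centralizer_iff]
    intro v hv
    exact zpowers_commute hqc v hv w hw
  have hD₁ := isDefectGroup_rel hM hBe hD hle hPH
  have hl : blockRank p f = 1 := by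
    apply blockRank_eq_one_of_central hM hf hD₁
    intro w hw
    rw [Subgroup.mem_subgroupOf] at hw
    rw [Subgroup.mem_center_iff]
    intro c
    apply Subtype.ext
    push_cast
    exact (Subgroup.mem_centralizer_iff.1 c.2 (w : G) hw).symm
  have hA := card_le_pow_mul_blockRank hM hq _ (centralizer_zpowers q) hind hdef
  rw [hl, mul_one, ← card_defectGroup hM hB hD] at hA
  exact hA

/-- **a `2`-block with a defect group of order `2` has two characters and `2`-rank one** -/
theorem card_eq_two_and_blockRank_eq_one (hM : IsPModular 2 M) {B : Set (IrrCharacter G)}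
    (hB : IsPBlock M B) {D : Subgroup G} (hD : IsDefectGroup 2 M B D) (hcard : Nat.card D = 2) :
    Nat.card B = 2 ∧ blockRank 2 B = 1 := by
  classical
  haveI : Fact (Nat.Prime 2) := ⟨Nat.prime_two⟩
  -- a generator
  obtain ⟨q, hq1⟩ : ∃ q : D, q ≠ 1 := by
    haveI : Nontrivial D := by
      rw [← Finite.one_lt_card_iff_nontrivial, hcard]
      norm_num
    exact exists_ne 1
  obtain ⟨q₀, hDq⟩ : ∃ q₀ : G, D = Subgroup.zpowers q₀ := by
    refine ⟨(q : G), ?_⟩
    have h1 : Subgroup.zpowers q = ⊤ := zpowers_eq_top_of_prime_card hcard hq1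
    have h2 : Subgroup.zpowers (q : G) = (Subgroup.zpowers q).map D.subtype := by
      rw [MonoidHom.map_zpowers]
      rfl
    rw [h2, h1, ← MonoidHom.range_eq_map, Subgroup.range_subtype]
  subst hDq
  have hk := card_le_card_zpowers_defectGroup hM hB hD
  rw [hcard] at hk
  have hd : blockDefect 2 B = 1 := by
    have h1 := card_defectGroup hM hB hD
    rw [hcard] at h1
    have h2 : (2 : ℕ) ^ 1 = 2 ^ blockDefect 2 B := by rw [pow_one]; exact h1
    exact (Nat.pow_right_injective (le_refl 2) h2).symm
  obtain ⟨hle, -, h3⟩ := Cfsg.Agent.S4733.result 2 M hM B hB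
  have hpos : 0 < blockRank 2 B := blockRank_pos_of_nonempty Nat.prime_two (block_nonempty hM hB)
  have hne : Nat.card B ≠ blockRank 2 B := by
    intro h
    have := h3.2 h
    omega
  omega

end OrderTwo

end Cfsg.Agent.Helper23.Blk
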