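import Mathlib
import Cfsg.Agent.Lib.Helper23.BlockPairFusion
import Cfsg.Agent.Lib.Helper23.BlockContribSum
import Cfsg.Agent.Lib.Helper23.BlockMajorCount

/-!
# Counting Brauer characters through the fusion of subsections (helper23's shared library)

* `sum_blockRank_le`: `∑_{u ∈ S} l(f_u) ≤ e(B) k(B)` for central elements `u` of the defect group.
* `finsum_blockRank_eq_of_fused`: if the `G`-class of `u₀ ∈ Z(P)` meets `P` in a single orbit of
  the inertial group, then `f_{u₀}` is the only block of `C_G(u₀)` inducing `B`.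
-/

set_option autoImplicit false
set_option linter.unusedSectionVars false
set_option linter.style.haveILetI false

namespace Cfsg.Agent.Helper23.Blk

open Cfsg Cfsg.Agent.Helper24 Cfsg.Agent.Helper18 Cfsg.Agent.Helper18.PairRel

universe u

section Bessel

variable {G : Type u} [Group G] [Fintype G] {M : Ideal AlgInt} {p : ℕ}

open Classical in
set_option maxHeartbeats 1600000 in
/-- **Bessel's inequality over the central subsections** -/
theorem sum_blockRank_le (hM : IsPModular p M) [Fact p.Prime] {B : Set (IrrCharacter G)}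
    {P : Subgroup G} {c : Set (IrrCharacter (Subgroup.centralizer (P : Set G)))}
    (hBe : IsBrauerPairOf p M B P c) (hPD : IsDefectGroup p M B P) (T : Subgroup G)
    (hTe : ∀ g : G, g ∈ T ↔ g ∈ Subgroup.normalizer (P : Set G) ∧
      StabilizesBlock (Subgroup.centralizer (P : Set G)) c g)
    (H : Subgroup G) (hH : H = P ⊔ Subgroup.centralizer (P : Set G))
    (a : G → BrauerPairIdx G)
    (ha : ∀ u ∈ P,
      ∃ f : Set (IrrCharacter (Subgroup.centralizer ((Subgroup.zpowers u : Subgroup G) : Set G))),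
        a u = ⟨Subgroup.zpowers u, f⟩ ∧ IsPBlock M f ∧
          SubpairLE p M (Subgroup.zpowers u) f P c)
    (S : Finset G) (hS : ∀ u ∈ S, u ∈ P ∧ ∀ w ∈ P, u * w = w * u) :
    ∑ u ∈ S, blockRank p (pairBlock (Subgroup.zpowers u) (a u)) ≤
      H.relIndex T * Nat.card B := by
  letI : Fintype (IrrCharacter G) := irrFintype
  have hPp : IsPGroup p P := hBe.1.1
  have hSp : ∀ u ∈ S, ∃ k : ℕ, orderOf u = p ^ k := by
    intro u hu
    obtain ⟨k, hk⟩ := (IsPGroup.iff_orderOf.1 hPp) ⟨u, (hS u hu).1⟩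
    exact ⟨k, by rw [← hk, Subgroup.orderOf_mk]⟩
  have ha1 : ∀ u ∈ S, (a u).1 = Subgroup.zpowers u := by
    intro u hu
    obtain ⟨f, haf, -, -⟩ := ha u (hS u hu).1
    rw [haf]
  have ha2 : ∀ u ∈ S, IsPBlock M (a u).2 := by
    intro u hu
    obtain ⟨f, haf, hf, -⟩ := ha u (hS u hu).1
    rw [haf]
    exact hf
  have hfus := fun u₀ hu₀ => card_fusion_le hM hBe hPD T hTe H hH a ha S hS u₀ hu₀
  have hχ : ∀ χ : IrrCharacter G,
      ∑ u ∈ S, (contribIdx p u (a u) (χ : G → ℂ) (χ : G → ℂ)).re ≤ (H.relIndex T : ℝ) := by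
    intro χ
    exact_mod_cast sum_contribIdx_self_le hM χ S a (H.relIndex T) hSp ha1 ha2 hfus
  have h1 : ∑ χ ∈ Finset.univ.filter (· ∈ B),
      ∑ u ∈ S, (contribIdx p u (a u) (χ : G → ℂ) (χ : G → ℂ)).re ≤
      ∑ χ ∈ Finset.univ.filter (fun χ : IrrCharacter G => χ ∈ B), (H.relIndex T : ℝ) :=
    Finset.sum_le_sum (fun χ _ => hχ χ)
  rw [Finset.sum_const, nsmul_eq_mul, Finset.sum_comm] at h1
  have h2 : ∀ u ∈ S, ∑ χ ∈ Finset.univ.filter (· ∈ B),
      (contribIdx p u (a u) (χ : G → ℂ) (χ : G → ℂ)).re =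
      (blockRank p (pairBlock (Subgroup.zpowers u) (a u)) : ℝ) := by
    intro u hu
    obtain ⟨f, haf, hf, hle⟩ := ha u (hS u hu).1
    rw [haf, pairBlock_mk]
    haveI : Fintype (Subgroup.centralizer ((Subgroup.zpowers u : Subgroup G) : Set G)) :=
      Fintype.ofFinite _
    obtain ⟨hind, -⟩ := major_of_subpairLE_center hM hBe hPD (hS u hu).1 (hS u hu).2 hle
    have h3 := sum_contrib_self hM (hSp u hu) _ (centralizer_zpowers u) hind
    have h4 := congrArg Complex.re h3
    rw [Complex.re_sum, Complex.natCast_re] at h4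
    rw [← h4, Finset.sum_filter]
    apply Finset.sum_congr rfl
    intro χ _
    split_ifs
    · rw [contribIdx_mk]
    · rfl
  rw [Finset.sum_congr rfl h2] at h1
  have h5 : (Finset.univ.filter (fun χ : IrrCharacter G => χ ∈ B)).card = Nat.card B := by
    rw [Nat.card_eq_fintype_card, Fintype.card_subtype]
  rw [h5, mul_comm] at h1
  exact_mod_cast h1

end Bessel

section Single

variable {G : Type u} [Group G] [Fintype G] {M : Ideal AlgInt} {p : ℕ}

/-- **a fused central subsection is the only one on its element** -/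
theorem finsum_blockRank_eq_of_fused (hM : IsPModular p M) [Fact p.Prime]
    {B : Set (IrrCharacter G)} {P : Subgroup G}
    {c : Set (IrrCharacter (Subgroup.centralizer (P : Set G)))}
    (hBe : IsBrauerPairOf p M B P c) (hPD : IsDefectGroup p M B P) {u₀ : G} (hu₀ : u₀ ∈ P)
    (huc : ∀ w ∈ P, u₀ * w = w * u₀)
    {f₀ : Set (IrrCharacter (Subgroup.centralizer ((Subgroup.zpowers u₀ : Subgroup G) : Set G)))}
    (hle₀ : SubpairLE p M (Subgroup.zpowers u₀) f₀ P c)
    (htrans : ∀ v ∈ P, (∃ x : G, x * u₀ * x⁻¹ = v) →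
      ∃ t : G, conjPair t ⟨P, c⟩ = (⟨P, c⟩ : BrauerPairIdx G) ∧ t * v * t⁻¹ = u₀)
    (K : Subgroup G)
    (hK : K = Subgroup.centralizer ((Subgroup.zpowers u₀ : Subgroup G) : Set G)) :
    ∑ᶠ b ∈ {b : Set (IrrCharacter K) | IsInducedBlock M K b B}, blockRank p b =
      blockRank p f₀ := by
  classical
  subst hK
  have hPe : IsBrauerPair p M P c := hBe.1
  have hPp : IsPGroup p P := hPe.1
  have hz : ∃ k : ℕ, orderOf u₀ = p ^ k := by
    obtain ⟨k, hk⟩ := (IsPGroup.iff_orderOf.1 hPp) ⟨u₀, hu₀⟩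
    exact ⟨k, by rw [← hk, Subgroup.orderOf_mk]⟩
  obtain ⟨hind₀, -⟩ := major_of_subpairLE_center hM hBe hPD hu₀ huc hle₀
  have hset : {b : Set (IrrCharacter (Subgroup.centralizer
      ((Subgroup.zpowers u₀ : Subgroup G) : Set G))) |
      IsInducedBlock M (Subgroup.centralizer ((Subgroup.zpowers u₀ : Subgroup G) : Set G)) b B} =
      {f₀} := by
    ext b
    rw [Set.mem_setOf_eq, Set.mem_singleton_iff]
    constructor
    · intro hb
      obtain ⟨x, hx⟩ := exists_conj_reflTransGen_of_isInducedBlock hM hBe hPD hz hb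
      have h1 : (Subgroup.zpowers u₀).map (MulAut.conj x).toMonoidHom ≤ P := chain_le hx
      rw [map_conj_zpowers] at h1
      have hv : x * u₀ * x⁻¹ ∈ P := h1 (Subgroup.mem_zpowers _)
      obtain ⟨t, htfix, htv⟩ := htrans _ hv ⟨x, rfl⟩
      have h2 := reflTransGen_conjPair_of_fix htfix hx
      rw [← conjPair_mul] at h2
      have hy : t * x ∈ Subgroup.centralizer ((Subgroup.zpowers u₀ : Subgroup G) : Set G) := by
        rw [centralizer_zpowers, Subgroup.mem_centralizer_iff]
        intro w hw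
        rw [Set.mem_singleton_iff] at hw
        rw [hw]
        have h3 : t * x * u₀ * (t * x)⁻¹ = u₀ := by
          calc t * x * u₀ * (t * x)⁻¹ = t * (x * u₀ * x⁻¹) * t⁻¹ := by group
            _ = u₀ := htv
        calc u₀ * (t * x) = t * x * u₀ * (t * x)⁻¹ * (t * x) := by rw [h3]
          _ = t * x * u₀ := by group
      have h3 : conjPair (t * x) ⟨Subgroup.zpowers u₀, b⟩ =
          (⟨Subgroup.zpowers u₀, b⟩ : BrauerPairIdx G) :=
        conjPair_eq_self_of_stabilizes hM hb.1 (Subgroup.centralizer_le_normalizer _ hy)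
          (stabilizesBlock_of_mem _ b hy)
      rw [h3] at h2
      exact subpairLE_unique hM _ P (Subgroup.zpowers u₀) c hPe rfl b f₀ h2 hle₀
    · intro hb
      rw [hb]
      exact hind₀
  rw [hset, finsum_mem_singleton]

end Single

end Cfsg.Agent.Helper23.Blk
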