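import Mathlib
import Cfsg.Agent.Lib.Helper23.BlockSubsectionFusion
import Cfsg.Agent.Lib.Helper23.BlockOrderTwo
import Cfsg.Agent.Lib.Helper23.BlockTopTransport
import Cfsg.Agent.Lib.Helper23.CyclicAutFix

/-!
# Blocks with cyclic defect groups and trivial inertial quotient (helper23's shared library)

`blockRank_eq_one_of_cyclic`: a block with a cyclic defect group `P` and a maximal Brauer pair
`(P, c)` whose stabilizer in `N_G(P)` is `C_G(P)` has `l(B) = 1` and `k(B) = |P|`.
-/

set_option autoImplicit false
set_option linter.unusedSectionVars false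
set_option linter.style.haveILetI false

namespace Cfsg.Agent.Helper23.Blk

open Cfsg Cfsg.Agent.Helper24 Cfsg.Agent.Helper18 Cfsg.Agent.Helper18.PairRel
open Cfsg.Agent.Helper23

universe u

section CyclicNil

variable {G : Type u} [Group G] [Fintype G] {M : Ideal AlgInt} {p : ℕ}

open Classical in
set_option maxHeartbeats 800000 in
/-- **nilpotent blocks with cyclic defect groups**: `l(B) = 1` and `k(B) = |P|` -/
theorem blockRank_eq_one_of_cyclic (hM : IsPModular p M) [Fact p.Prime]
    {B : Set (IrrCharacter G)} {P : Subgroup G}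
    {c : Set (IrrCharacter (Subgroup.centralizer (P : Set G)))}
    (hBe : IsBrauerPairOf p M B P c) (hPD : IsDefectGroup p M B P) (hcyc : IsCyclic P)
    (hin : ∀ x : G, x ∈ Subgroup.normalizer (P : Set G) →
      StabilizesBlock (Subgroup.centralizer (P : Set G)) c x →
        x ∈ Subgroup.centralizer (P : Set G)) :
    blockRank p B = 1 ∧ Nat.card B = Nat.card P := by
  haveI hMp : M.IsPrime := hM.2.1.isPrime
  have hp : p.Prime := hM.1
  have hB : IsPBlock M B := hBe.2.1
  have hPe : IsBrauerPair p M P c := hBe.1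
  have hab : ∀ x ∈ P, ∀ y ∈ P, x * y = y * x := fun x hx y hy => comm_of_mem_cyclic P hcyc hx hy
  have hPC : P ≤ Subgroup.centralizer (P : Set G) := by
    intro x hx
    rw [Subgroup.mem_centralizer_iff]
    intro y hy
    exact hab y hy x hx
  have hsup : P ⊔ Subgroup.centralizer (P : Set G) = Subgroup.centralizer (P : Set G) :=
    sup_eq_right.2 hPC
  have hTe : ∀ g : G, g ∈ Subgroup.centralizer (P : Set G) ↔
      g ∈ Subgroup.normalizer (P : Set G) ∧
        StabilizesBlock (Subgroup.centralizer (P : Set G)) c g := by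
    intro g
    constructor
    · intro hg
      exact ⟨Subgroup.centralizer_le_normalizer _ hg, stabilizesBlock_of_mem _ c hg⟩
    · rintro ⟨h1, h2⟩
      exact hin g h1 h2
  obtain ⟨a, ha⟩ := exists_pair_family hM hPe
  set S : Finset G := Finset.univ.filter (· ∈ P) with hS
  have hSP : ∀ u ∈ S, u ∈ P ∧ ∀ w ∈ P, u * w = w * u := by
    intro u hu
    have huP : u ∈ P := (Finset.mem_filter.1 hu).2
    exact ⟨huP, fun w hw => hab u huP w hw⟩
  have hb := sum_blockRank_le hM hBe hPD (Subgroup.centralizer (P : Set G)) hTe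
    (Subgroup.centralizer (P : Set G)) hsup.symm a ha S hSP
  rw [Subgroup.relIndex_self, one_mul] at hb
  -- `k(B) ≤ |P|`
  obtain ⟨q, -, hq⟩ := Cfsg.Agent.Helper4.exists_zpowers_eq_of_isCyclic P hcyc
  have hk : Nat.card B ≤ Nat.card P := by
    have hPD' : IsDefectGroup p M B (Subgroup.zpowers q) := by rw [hq]; exact hPD
    have := card_le_card_zpowers_defectGroup hM hB hPD'
    rwa [hq] at this
  have hcardS : S.card = Nat.card P := by
    rw [Nat.card_eq_fintype_card, Fintype.card_subtype]
  have h1mem : (1 : G) ∈ S := Finset.mem_filter.2 ⟨Finset.mem_univ _, P.one_mem⟩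
  rw [← Finset.add_sum_erase _ _ h1mem] at hb
  have hterm1 : blockRank p (pairBlock (Subgroup.zpowers (1 : G)) (a 1)) = blockRank p B := by
    obtain ⟨f₁, haf₁, hf₁, hle₁⟩ := ha 1 P.one_mem
    rw [haf₁, pairBlock_mk]
    obtain ⟨hind₁, -⟩ := major_of_subpairLE_center hM hBe hPD P.one_mem
      (by intro w _; rw [one_mul, mul_one]) hle₁
    exact blockRank_eq_of_isInducedBlock_top hM _
      (by rw [Subgroup.zpowers_one_eq_bot]; exact centralizer_bot_eq_top) hind₁
  have hterms : ∀ u ∈ S.erase 1,
      1 ≤ blockRank p (pairBlock (Subgroup.zpowers u) (a u)) := by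
    intro u hu
    obtain ⟨hu1, hu'⟩ := Finset.mem_erase.1 hu
    obtain ⟨f, haf, hf, hle⟩ := ha u (hSP u hu').1
    rw [haf, pairBlock_mk]
    exact blockRank_pos_of_nonempty hp (block_nonempty hM hf)
  have h2 : (S.erase 1).card ≤
      ∑ u ∈ S.erase 1, blockRank p (pairBlock (Subgroup.zpowers u) (a u)) := by
    have := Finset.card_nsmul_le_sum (S.erase 1)
      (fun u => blockRank p (pairBlock (Subgroup.zpowers u) (a u))) 1 hterms
    simpa using this
  have h3 : (S.erase 1).card + 1 = S.card := Finset.card_erase_add_one h1mem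
  have hpos := blockRank_pos_of_nonempty hp (block_nonempty hM hB)
  rw [hterm1] at hb
  constructor
  · omega
  · omega

end CyclicNil

end Cfsg.Agent.Helper23.Blk
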