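import Mathlib
import Cfsg.Agent.Lib.Helper18.BlockRankQuot
import Cfsg.Agent.Lib.Helper18.BlockQuot3
import Cfsg.Agent.S0941
import Cfsg.Agent.Lib.Helper23.BlockHeightZero

/-!
# Blocks dominated through a central `p`-subgroup (helper23's shared library)

`exists_dominated_block`: for a central `p`-subgroup `Z` of `K` and a block `b` of `K` with defect
group `D`, there is a block of `K ⧸ Z` with the same `p`-regular rank and defect group `D Z / Z`.
-/

set_option autoImplicit false
set_option linter.unusedSectionVars false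
set_option linter.style.haveILetI false

namespace Cfsg.Agent.Helper23.Blk

open Cfsg Cfsg.Agent.Helper24 Cfsg.Agent.Helper18

universe u

section Dominate

variable {K : Type u} [Group K] [Fintype K] {M : Ideal AlgInt} {p : ℕ}

theorem exists_dominated_block (hM : IsPModular p M) [Fact p.Prime] (Z : Subgroup K) [Z.Normal]
    (hZ : IsPGroup p Z) (hZc : Z ≤ Subgroup.center K) {b : Set (IrrCharacter K)}
    (hb : IsPBlock M b) {D : Subgroup K} (hD : IsDefectGroup p M b D) :
    ∃ bbar : Set (IrrCharacter (K ⧸ Z)), IsPBlock M bbar ∧ blockRank p bbar = blockRank p b ∧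
      IsDefectGroup p M bbar (D.map (QuotientGroup.mk' Z)) := by
  classical
  haveI hMp : M.IsPrime := hM.2.1.isPrime
  have hC : ∃ k : ℕ, (Subgroup.centralizer (Z : Set K)).index = p ^ k := by
    refine ⟨0, ?_⟩
    have : Subgroup.centralizer (Z : Set K) = ⊤ := by
      rw [Subgroup.centralizer_eq_top_iff_subset]
      exact hZc
    rw [this, Subgroup.index_top, pow_zero]
  obtain ⟨h0941a, -⟩ := Cfsg.Agent.S0941.result p M hM Z hZ hC
  obtain ⟨Bbar, hBbar, hsub, hiff⟩ := exists_block_quot_defectGroup_iff hM Z hZ hb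
  refine ⟨Bbar, hBbar, ?_, (hiff _).2 ⟨D, hD, rfl⟩⟩
  obtain ⟨θ, hθ⟩ := block_nonempty hM hBbar
  have hBbar_eq : Bbar = blockOf M (θ : K ⧸ Z → ℂ) := by
    obtain ⟨θ₀, rfl⟩ := hBbar
    exact (blockOf_eq_of_mem hθ).symm
  symm
  apply blockRank_quotient_eq Z hM hZ hC hb Bbar
  intro η
  constructor
  · intro hη
    exact ⟨(inflateEquiv Z η).1, hsub η hη _ rfl, rfl⟩
  · rintro ⟨ψ, hψ, hψη⟩
    have hθb : ((inflateEquiv Z θ).1 : IrrCharacter K) ∈ b := hsub θ hθ _ rfl
    have h1 : SameBlock M (((inflateEquiv Z θ).1 : IrrCharacter K) : K → ℂ) (ψ : K → ℂ) :=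
      sameBlock_of_mem hb hθb hψ
    rw [inflateEquiv_coe, hψη] at h1
    have h2 : SameBlock M (θ : K ⧸ Z → ℂ) (η : K ⧸ Z → ℂ) := (h0941a θ η).2 h1
    rw [hBbar_eq]
    exact h2

end Dominate

end Cfsg.Agent.Helper23.Blk
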