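import Mathlib
import Cfsg.Agent.Lib.Helper23.BlockHeightZero5
import Cfsg.Agent.Lib.Helper24.CharHom

/-!
# Blau's theorem on restrictions of height zero characters (helper23's shared library)
-/

set_option autoImplicit false
set_option linter.unusedSectionVars false

namespace Cfsg.Agent.Helper23.Blk

open Cfsg Cfsg.Agent.Helper24 Cfsg.Agent.Helper18
open scoped ComplexConjugate

universe u

section Lin

variable {K : Type u} [Group K] [Fintype K] {p : ℕ}

theorem conjReg_sum_natCast {ι : Type*} (s : Finset ι) (m : ι → ℕ) (f : ι → K → ℂ) :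
    conjReg p (∑ i ∈ s, (m i : ℂ) • f i) = ∑ i ∈ s, (m i : ℂ) • conjReg p (f i) := by
  classical
  unfold conjReg
  have h1 : (fun g => conj ((∑ i ∈ s, (m i : ℂ) • f i) g)) =
      ∑ i ∈ s, (m i : ℂ) • (fun g => conj (f i g)) := by
    funext g
    rw [Finset.sum_apply, Finset.sum_apply, map_sum]
    apply Finset.sum_congr rfl
    intro i _
    rw [Pi.smul_apply, Pi.smul_apply, smul_eq_mul, smul_eq_mul, map_mul, Complex.conj_natCast]
  rw [h1, pRegularPart_sum]
  apply Finset.sum_congr rfl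
  intro i _
  rw [pRegularPart_smul]

end Lin

section Blau

variable {G : Type u} [Group G] [Fintype G] {M : Ideal AlgInt} {p : ℕ}

/-- **Blau's theorem** -/
theorem blau (hM : IsPModular p M) [Fact p.Prime] (H : Subgroup G) [Fintype H]
    {b : Set (IrrCharacter H)} {B : Set (IrrCharacter G)} (hind : IsInducedBlock M H b B)
    {χ : IrrCharacter G} (hχ : χ ∈ B) (h0 : blockHeight p B (χ : G → ℂ) = 0) :
    ∃ ξ ∈ b, blockHeight p b (ξ : H → ℂ) = 0 ∧ ∃ n : ℕ,
      classInner (fun h : H => (χ : G → ℂ) h) (ξ : H → ℂ) = (n : ℂ) ∧ ¬ p ∣ n := by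
  classical
  haveI hMp : M.IsPrime := hM.2.1.isPrime
  letI : Fintype (IrrCharacter H) := irrFintype
  have hb : IsPBlock M b := hind.1
  obtain ⟨ψ₀, hψ₀, hmin⟩ := exists_min_degree (p := p) (block_nonempty hM hb)
  have h1 := (omega_restrict_conjReg hM H hind χ hψ₀).2 hχ h0
  rw [conjReg_restrict_eq] at h1
  have hres : IsCharacter H (fun h : H => (χ : G → ℂ) h) :=
    isCharacter_restrict H (isCharacter_of_isIrrCharacter χ.2)
  obtain ⟨hm, hdec⟩ := isCharacter_decomp hres
  choose m hm using hm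
  have hdec' : (fun h : H => (χ : G → ℂ) h) =
      ∑ ξ : IrrCharacter H, (m ξ : ℂ) • (ξ : H → ℂ) := by
    conv_lhs => rw [hdec]
    apply Finset.sum_congr rfl
    intro ξ _
    rw [hm ξ]
  rw [hdec', conjReg_sum_natCast, omega_finset_sum] at h1
  have hex : ∃ ξ : IrrCharacter H, ¬ MemLocalIdeal M
      (omega (ψ₀ : H → ℂ) ((m ξ : ℂ) • conjReg p (ξ : H → ℂ))) := by
    by_contra hcon
    push Not at hcon
    exact h1 (memLocalIdeal_sum _ _ (fun ξ _ => hcon ξ))
  obtain ⟨ξ, hξ⟩ := hex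
  rw [omega_smul] at hξ
  have hωR : MemLocalRing M (omega (ψ₀ : H → ℂ) (conjReg p (ξ : H → ℂ))) :=
    memLocalRing_omega ψ₀ (isClassFunction_conjReg (isClassFunction_of_isIrrCharacter ξ.2))
      (memLocalRing_conjReg (isCharacter_of_isIrrCharacter ξ.2))
  have hmn : ¬ MemLocalIdeal M ((m ξ : ℕ) : ℂ) :=
    fun hc => hξ (memLocalIdeal_mul_right hc hωR)
  have hωn : ¬ MemLocalIdeal M (omega (ψ₀ : H → ℂ) (conjReg p (ξ : H → ℂ))) :=
    fun hc => hξ (memLocalIdeal_mul_left (memLocalRing_natCast _) hc)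
  have hξb : ξ ∈ b := by
    by_contra hc
    apply hωn
    apply memLocalIdeal_omega_conjReg_of_not_mem hM
    intro hc'
    apply hc
    have : blockOf M (ξ : H → ℂ) = b := isPBlock_eq_of_mem ⟨ξ, rfl⟩ hb hc' hψ₀
    rw [← this]
    exact mem_blockOf_self ξ
  refine ⟨ξ, hξb, ?_, m ξ, hm ξ, ?_⟩
  · exact height_zero_of_heightUnit hM hb hξb hψ₀ hωn
  · rwa [memLocalIdeal_natCast_iff hM] at hmn

end Blau

end Cfsg.Agent.Helper23.Blk
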