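import Mathlib
import Cfsg.Agent.Lib.Helper23.BlockKerPairs3
import Cfsg.Agent.Lib.Helper23.BlockSections
import Cfsg.Agent.Lib.Helper23.BlockHeightZero3

/-!
# `O_π'` in the kernels of blocks: main theorems (helper23's shared library)
-/

set_option autoImplicit false
set_option linter.unusedSectionVars false
set_option linter.style.haveILetI false

namespace Cfsg.Agent.Helper23.Blk

open Cfsg Cfsg.Agent.Helper24 Cfsg.Agent.Helper23 Cfsg.Agent.Helper10 Cfsg.Agent.Helper18
open scoped ComplexConjugate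

universe u

section Main

variable {G : Type u} [Group G] [Fintype G] {M : Ideal AlgInt} {p : ℕ}

/-- **Descent of the kernel condition to local blocks.** -/
theorem blockKer_of_induced (hM : IsPModular p M) [Fact p.Prime] {π : Set ℕ} (hpπ : p ∈ π)
    {B : Set (IrrCharacter G)} {D : Subgroup G} (hBD : IsDefectGroup p M B D)
    {B₁ : Set (IrrCharacter (Subgroup.normalizer (D : Set G)))}
    (hB₁ : IsInducedBlock M (Subgroup.normalizer (D : Set G)) B₁ B)
    (hker : ∀ n ∈ piCore {q | q ∉ π} ↥(Subgroup.normalizer (D : Set G)), n ∈ blockKer B₁)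
    {G₀ : Subgroup G} {B₀ : Set (IrrCharacter G₀)} (hB₀ : IsInducedBlock M G₀ B₀ B)
    {D₀ : Subgroup G₀} (hD₀ : IsDefectGroup p M B₀ D₀)
    (hC : Subgroup.centralizer ((D₀.map G₀.subtype : Subgroup G) : Set G) ≤ G₀) :
    ∀ x ∈ piCore {q | q ∉ π} ↥G₀, x ∈ blockKer B₀ := by
  classical
  haveI hMp : M.IsPrime := hM.2.1.isPrime
  haveI : Fintype (Subgroup.centralizer ((D₀.map G₀.subtype : Subgroup G) : Set G)) :=
    Fintype.ofFinite _
  obtain ⟨e, hmax, hπ⟩ := exists_maxPair_of_normalizer_block hM hBD hB₁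
  have hKD : KerProp π D e := (hπ π hpπ).1 hker
  obtain ⟨ξ, hξ, hpair⟩ := exists_pair_of_induced_defect hM hB₀ hD₀ hC
  obtain ⟨x, hx⟩ := exists_conj_subpairLE_of_maximal hM hmax hpair
  have h1 := kerProp_of_subpairLE hM hpπ hx hKD
  have h2 := (kerProp_conj_iff π x _ _).1 h1
  have hP : IsPGroup p (D₀.map G₀.subtype) := (isPGroup_of_isDefectGroup hM hD₀).map _
  have hPG₀ : D₀.map G₀.subtype ≤ G₀ := by
    rintro _ ⟨d, -, rfl⟩
    exact d.2
  have hPL : D₀.map G₀.subtype ≤ Subgroup.normalizer ((G₀ : Subgroup G) : Set G) :=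
    hPG₀.trans Subgroup.le_normalizer
  have hstab : ∀ x ∈ D₀.map G₀.subtype, StabilizesBlock G₀ B₀ x :=
    fun x hx => stabilizesBlock_of_mem _ B₀ (hPG₀ hx)
  have hiff := ker_iff_of_brauer hM hP hC hPL hB₀.1 hstab (piCore {q | q ∉ π} ↥G₀)
    (not_dvd_card_piCore_compl hM.1 hpπ)
    (fun x hx k k' hk hkK => conj_mem_piCore _ (hPL hx) k k' hk hkK) ξ hξ
  intro n hn χ hχ
  exact hiff.2 (fun c hc => h2 c (mem_piCore_of_mem_piCore_of_le _ hC hc) ξ
    (mem_blockOf_self ξ)) χ hχ n hn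

/-- **The kernel condition on a local block `b` of `D₀ C_G(D₀)` goes up to the Brauer
correspondent**, under the Hall property. -/
theorem blockKer_normalizer_of_local (hM : IsPModular p M) [Fact p.Prime] {π : Set ℕ}
    (hpπ : p ∈ π)
    {B : Set (IrrCharacter G)} {D : Subgroup G} (hBD : IsDefectGroup p M B D)
    {B₁ : Set (IrrCharacter (Subgroup.normalizer (D : Set G)))}
    (hB₁ : IsInducedBlock M (Subgroup.normalizer (D : Set G)) B₁ B)
    {D₀ : Subgroup G} (hD₀ : IsPGroup p D₀) {H₀ : Subgroup G}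
    (hH₀ : H₀ = D₀ ⊔ Subgroup.centralizer (D₀ : Set G))
    {b : Set (IrrCharacter H₀)} (hb : IsInducedBlock M H₀ b B)
    (hcompl : HallProp π D₀)
    (hkerb : ∀ x ∈ piCore {q | q ∉ π} ↥(Subgroup.centralizer (D₀ : Set G)), ∀ θ ∈ b,
      ∀ h : H₀, (h : G) = (x : G) → (θ : H₀ → ℂ) h = (θ : H₀ → ℂ) 1) :
    ∀ n ∈ piCore {q | q ∉ π} ↥(Subgroup.normalizer (D : Set G)), n ∈ blockKer B₁ := by
  classical
  haveI hMp : M.IsPrime := hM.2.1.isPrime
  haveI : Fintype (Subgroup.centralizer (D₀ : Set G)) := Fintype.ofFinite _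
  letI : Fintype (IrrCharacter (Subgroup.centralizer (D₀ : Set G))) := irrFintype
  obtain ⟨e, hmax, hπ⟩ := exists_maxPair_of_normalizer_block hM hBD hB₁
  obtain ⟨e', he', hbe', hpair'⟩ := PairRel.exists_block_centralizer_of_block_sup hM hD₀ hH₀ hb.1
  have hpair := hpair' B hb
  have hDH : D₀ ≤ H₀ := hH₀ ▸ le_sup_left
  have hCH : Subgroup.centralizer (D₀ : Set G) ≤ H₀ := hH₀ ▸ le_sup_right
  -- the image of `O_π'(C_G(D₀))` in `G`
  set K'' : Subgroup G := (piCore {q | q ∉ π} ↥(Subgroup.centralizer (D₀ : Set G))).map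
    (Subgroup.centralizer (D₀ : Set G)).subtype with hK''
  have hK''C : K'' ≤ Subgroup.centralizer (D₀ : Set G) := by
    rintro _ ⟨k, -, rfl⟩
    exact k.2
  have hcomm : ∀ d ∈ D₀, ∀ c ∈ Subgroup.centralizer (D₀ : Set G), d * c * d⁻¹ = c := by
    intro d hd c hc
    have := Subgroup.mem_centralizer_iff.1 hc d hd
    rw [this, mul_inv_cancel_right]
  have hHN : H₀ ≤ Subgroup.normalizer (K'' : Set G) := by
    rw [hH₀]
    apply sup_le
    · intro d hd
      rw [Subgroup.mem_normalizer_iff]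
      intro g
      constructor
      · intro hg
        rw [hcomm d hd g (hK''C hg)]
        exact hg
      · intro hg
        have h1 := hcomm d⁻¹ (D₀.inv_mem hd) _ (hK''C hg)
        have h2 : d⁻¹ * (d * g * d⁻¹) * d⁻¹⁻¹ = g := by group
        rw [h2] at h1
        rw [h1]
        exact hg
    · have h1 := Subgroup.le_normalizer_map
        (H := piCore {q | q ∉ π} ↥(Subgroup.centralizer (D₀ : Set G)))
        (Subgroup.centralizer (D₀ : Set G)).subtype
      rw [Subgroup.normalizer_eq_top, ← MonoidHom.range_eq_map, Subgroup.range_subtype] at h1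
      exact h1
  haveI : (K''.subgroupOf H₀).Normal := Subgroup.normal_subgroupOf_of_le_normalizer hHN
  have hcard : Nat.card (K''.subgroupOf H₀) =
      Nat.card (piCore {q | q ∉ π} ↥(Subgroup.centralizer (D₀ : Set G))) := by
    rw [Nat.card_congr (Subgroup.subgroupOfEquivOfLe (hK''C.trans hCH)).toEquiv, hK'',
      Subgroup.card_map_of_injective (Subgroup.subtype_injective _)]
  have hK' : ¬ p ∣ Nat.card (K''.subgroupOf H₀) := by
    rw [hcard]
    exact not_dvd_card_piCore_compl hM.1 hpπ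
  have hmemK : ∀ c : Subgroup.centralizer (D₀ : Set G),
      (⟨(c : G), hCH c.2⟩ : H₀) ∈ K''.subgroupOf H₀ ↔
        c ∈ piCore {q | q ∉ π} ↥(Subgroup.centralizer (D₀ : Set G)) := by
    intro c
    rw [Subgroup.mem_subgroupOf]
    constructor
    · rintro ⟨k, hk, hkc⟩
      have : k = c := Subtype.ext hkc
      rwa [this] at hk
    · intro hc
      exact ⟨c, hc, rfl⟩
  have hKP : ∀ x ∈ D₀, ∀ k k' : H₀, (k' : G) = x * (k : G) * x⁻¹ →
      k ∈ K''.subgroupOf H₀ → k' ∈ K''.subgroupOf H₀ := by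
    intro x hx k k' hk hkK
    rw [Subgroup.mem_subgroupOf] at hkK ⊢
    rw [hk, hcomm x hx _ (hK''C hkK)]
    exact hkK
  have hPL : D₀ ≤ Subgroup.normalizer ((H₀ : Subgroup G) : Set G) :=
    hDH.trans Subgroup.le_normalizer
  have hstab : ∀ x ∈ D₀, StabilizesBlock H₀ b x :=
    fun x hx => stabilizesBlock_of_mem _ b (hDH hx)
  have hext : ext0 H₀ (blockCoeff b) =
      ext0 (Subgroup.centralizer (D₀ : Set G)) (blockCoeff e') := by
    funext g
    by_cases hg : g ∈ H₀
    · rw [ext0_of_mem _ _ hg, hbe' ⟨g, hg⟩, subgroupBlockCoeff_eq_ext0]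
    · rw [ext0_of_not_mem _ _ hg, ext0_of_not_mem _ _ (fun h => hg (hCH h))]
  have hξ : ∀ ξ ∈ e', ¬ MemLocalIdeal M
      (omega (ξ : Subgroup.centralizer (D₀ : Set G) → ℂ)
        (resC D₀ (Subgroup.centralizer (D₀ : Set G)) (ext0 H₀ (blockCoeff b)))) := by
    intro ξ hξ
    rw [hext, resC_ext0_self, omega_blockCoeff, if_pos hξ]
    exact not_memLocalIdeal_one
  have hKD₀ : KerProp π D₀ e' := by
    intro c hc ξ hξmem
    have hiff := ker_iff_of_brauer hM hD₀ hCH hPL hb.1 hstab (K''.subgroupOf H₀) hK' hKP ξ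
      (hξ ξ hξmem)
    refine hiff.1 ?_ c ((hmemK c).2 hc)
    intro θ hθ k hk
    rw [Subgroup.mem_subgroupOf] at hk
    obtain ⟨x, hx, hxk⟩ := hk
    exact hkerb x hx θ hθ k hxk.symm
  obtain ⟨x, hx⟩ := exists_conj_subpairLE_of_maximal hM hmax hpair
  have h1 := (kerProp_conj_iff π x D₀ e').2 hKD₀
  have h2 := (hallProp_conj_iff π x D₀).2 hcompl
  obtain ⟨hKD, hHD⟩ := kerProp_hall_of_subpairLE hM hpπ hx h1 h2
  exact (hπ π hpπ).2 hKD hHD

end Main

end Cfsg.Agent.Helper23.Blk
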