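import Mathlib
import Cfsg.Agent.Lib.Helper23.BlockKerPairs4

/-!
# `O_π'` in the kernels of blocks: constancy of characters on cosets (helper23's shared library)
-/

set_option autoImplicit false
set_option linter.unusedSectionVars false
set_option linter.style.haveILetI false

namespace Cfsg.Agent.Helper23.Blk

open Cfsg Cfsg.Agent.Helper24 Cfsg.Agent.Helper23 Cfsg.Agent.Helper10 Cfsg.Agent.Helper18
open scoped ComplexConjugate

universe u

section Const

variable {G : Type u} [Group G] [Fintype G] {M : Ideal AlgInt} {p : ℕ}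

/-- the centralizer of a defect group of a block of `C_G(y)`, `y` a `p`-element, lies in
`C_G(y)` -/
theorem centralizer_defectGroup_le_centralizer (hM : IsPModular p M) {y : G}
    (hy : ∃ k : ℕ, orderOf y = p ^ k)
    {b : Set (IrrCharacter (Subgroup.centralizer ({y} : Set G)))} (hb : IsPBlock M b)
    {D₀ : Subgroup (Subgroup.centralizer ({y} : Set G))} (hD₀ : IsDefectGroup p M b D₀) :
    Subgroup.centralizer
      ((D₀.map (Subgroup.centralizer ({y} : Set G)).subtype : Subgroup G) : Set G) ≤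
      Subgroup.centralizer ({y} : Set G) := by
  classical
  set y₀ : Subgroup.centralizer ({y} : Set G) := ⟨y, self_mem_centralizer_singleton y⟩ with hy₀
  have hcentral : ∀ c : Subgroup.centralizer ({y} : Set G), c * y₀ = y₀ * c := by
    intro c
    apply Subtype.ext
    exact (Subgroup.mem_centralizer_iff.1 c.2 y (Set.mem_singleton y)).symm
  haveI hn : (Subgroup.zpowers y₀).Normal := by
    constructor
    intro n hn g
    obtain ⟨k, rfl⟩ := Subgroup.mem_zpowers_iff.1 hn
    have h1 : g * y₀ ^ k * g⁻¹ = y₀ ^ k := by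
      have hc : Commute g y₀ := hcentral g
      rw [(hc.zpow_right k).eq, mul_inv_cancel_right]
    rw [h1]
    exact hn
  have hyp : IsPGroup p (Subgroup.zpowers y₀) := by
    apply isPGroup_zpowers
    obtain ⟨k, hk⟩ := hy
    refine ⟨k, ?_⟩
    rw [← hk, hy₀, ← Subgroup.orderOf_coe]
  obtain ⟨g, hcls, Syl, rfl⟩ := hD₀
  have hle := normal_pgroup_le_defectGroup hM hb (Subgroup.zpowers y₀) hyp hcls Syl
  have hyD : y₀ ∈ (Syl : Subgroup (Subgroup.centralizer ({g} : Set _))).map
      (Subgroup.centralizer ({g} : Set (Subgroup.centralizer ({y} : Set G)))).subtype :=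
    hle (Subgroup.mem_zpowers y₀)
  intro c hc
  rw [Subgroup.mem_centralizer_iff]
  intro h hh
  rw [Set.mem_singleton_iff] at hh
  subst hh
  exact Subgroup.mem_centralizer_iff.1 hc h ⟨y₀, hyD, rfl⟩

/-- **Constancy of the characters of `B` on the cosets `y O_π'(C_G(y))`.** -/
theorem char_mul_eq_of_blockKer (hM : IsPModular p M) [Fact p.Prime] {π : Set ℕ} (hpπ : p ∈ π)
    {B : Set (IrrCharacter G)} (hB : IsPBlock M B) {D : Subgroup G}
    (hBD : IsDefectGroup p M B D)
    {B₁ : Set (IrrCharacter (Subgroup.normalizer (D : Set G)))}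
    (hB₁ : IsInducedBlock M (Subgroup.normalizer (D : Set G)) B₁ B)
    (hker : ∀ n ∈ piCore {q | q ∉ π} ↥(Subgroup.normalizer (D : Set G)), n ∈ blockKer B₁)
    {y : G} (hy : ∃ k : ℕ, orderOf y = p ^ k)
    (hC : ∀ x : ↥(Subgroup.centralizer ({y} : Set G)),
      (∀ q : ℕ, q.Prime → q ∣ orderOf x → q ∉ π) →
        x ∈ piCore {q | q ∉ π} ↥(Subgroup.centralizer ({y} : Set G)))
    {χ : IrrCharacter G} (hχ : χ ∈ B) {x : G} (hx : x ∈ Subgroup.centralizer ({y} : Set G))
    (hxπ : ∀ q : ℕ, q.Prime → q ∣ orderOf x → q ∉ π) :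
    (χ : G → ℂ) (y * x) = (χ : G → ℂ) y := by
  classical
  haveI hMp : M.IsPrime := hM.2.1.isPrime
  haveI : Fintype (Subgroup.centralizer ({y} : Set G)) := Fintype.ofFinite _
  letI : Fintype (IrrCharacter (Subgroup.centralizer ({y} : Set G))) := irrFintype
  obtain ⟨𝔅, h𝔅⟩ := exists_finset_blocks (M := M) (K := Subgroup.centralizer ({y} : Set G))
  set x₁ : Subgroup.centralizer ({y} : Set G) := ⟨x, hx⟩ with hx₁
  have hord : orderOf x₁ = orderOf x := by
    rw [hx₁, ← Subgroup.orderOf_coe]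
  have hx₁π : ∀ q : ℕ, q.Prime → q ∣ orderOf x₁ → q ∉ π := by
    rw [hord]
    exact hxπ
  have hx₁K : x₁ ∈ piCore {q | q ∉ π} ↥(Subgroup.centralizer ({y} : Set G)) := hC x₁ hx₁π
  have hx₁reg : ¬ p ∣ orderOf x₁ := fun h => hx₁π p hM.1 h hpπ
  have h1reg : ¬ p ∣ orderOf (1 : Subgroup.centralizer ({y} : Set G)) := by
    rw [orderOf_one]
    exact hM.1.one_lt.ne' ∘ Nat.dvd_one.1
  have e1 := sum_blocks_induced_shift hM hy hB 𝔅 h𝔅 χ x₁ hx₁reg
  have e2 := sum_blocks_induced_shift hM hy hB 𝔅 h𝔅 χ 1 h1reg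
  rw [if_pos hχ] at e1 e2
  have hφ : IsClassFunction (Subgroup.centralizer ({y} : Set G))
      (fun c : Subgroup.centralizer ({y} : Set G) => (χ : G → ℂ) (y * (c : G))) :=
    isClassFunction_shift (isClassFunction_of_isIrrCharacter χ.2) y
  have hterm : ∀ b ∈ 𝔅.filter
      (fun b => IsInducedBlock M (Subgroup.centralizer ({y} : Set G)) b B),
      ∑ k : Subgroup.centralizer ({y} : Set G), blockCoeff b k *
        (χ : G → ℂ) (y * ((x₁ * k : Subgroup.centralizer ({y} : Set G)) : G)) =
      ∑ k : Subgroup.centralizer ({y} : Set G), blockCoeff b k *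
        (χ : G → ℂ) (y * ((1 * k : Subgroup.centralizer ({y} : Set G)) : G)) := by
    intro b hb
    rw [Finset.mem_filter] at hb
    have hind := hb.2
    obtain ⟨D₀, hD₀⟩ := exists_isDefectGroup hM hind.1
    have hCD := centralizer_defectGroup_le_centralizer hM hy hind.1 hD₀
    have hkerb := blockKer_of_induced hM hpπ hBD hB₁ hker hind hD₀ hCD x₁ hx₁K
    have s1 := sum_blockCoeff_mul_shift b hφ x₁
    have s2 := sum_blockCoeff_mul_shift b hφ 1
    beta_reduce at s1 s2
    rw [s1, s2]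
    apply finsum_mem_congr rfl
    intro ξ hξ
    rw [hkerb ξ hξ]
  rw [Finset.sum_congr rfl hterm, e2] at e1
  have h3 : ((1 : Subgroup.centralizer ({y} : Set G)) : G) = 1 := rfl
  rw [h3, mul_one] at e1
  exact e1.symm

end Const

end Cfsg.Agent.Helper23.Blk
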