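import Mathlib
import Cfsg.Agent.Lib.Helper23.BlockMajorCount
import Cfsg.Agent.Lib.Helper23.BlockHeightZero

/-!
# Blocks of defect two with a major involution of rank one (helper23's shared library)

`card_eq_four_of_major_involution`: a `2`-block `B` of defect `2` with a major subsection `(u, f)`,
`u` an involution and `l(f) = 1`, has exactly four irreducible characters.
-/

set_option autoImplicit false
set_option linter.unusedSectionVars false
set_option linter.style.haveILetI false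

namespace Cfsg.Agent.Helper23.Blk

open Cfsg Cfsg.Agent.Helper24 Cfsg.Agent.Helper18
open scoped ComplexConjugate

universe u

section Comb

/-- the combinatorial heart of Brauer's analysis of blocks of defect two -/
theorem card_eq_four_of_row {ι : Type*} [DecidableEq ι] (S : Finset ι) (ψ₀ : ι) (hψ₀ : ψ₀ ∈ S)
    (d v : ι → ℤ) (hd1 : ∀ χ ∈ S, 1 ≤ d χ) (hdsum : ∑ χ ∈ S, d χ = 4)
    (hv0 : ∀ χ ∈ S, v χ ≠ 0) (hvd : v ψ₀ = d ψ₀)
    (hvsum : ∑ χ ∈ S, v χ ^ 2 = 4 * d ψ₀) (hodd : ¬ (2 : ℤ) ∣ d ψ₀) : S.card = 4 := by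
  set S' := S.erase ψ₀ with hS'
  have hcard : S.card = S'.card + 1 := (Finset.card_erase_add_one hψ₀).symm
  have h1 : d ψ₀ + ∑ χ ∈ S', d χ = 4 := by
    rw [Finset.add_sum_erase S d hψ₀]
    exact hdsum
  have h2 : v ψ₀ ^ 2 + ∑ χ ∈ S', v χ ^ 2 = 4 * d ψ₀ := by
    rw [Finset.add_sum_erase S (fun χ => v χ ^ 2) hψ₀]
    exact hvsum
  have hS'S : ∀ χ ∈ S', χ ∈ S := fun χ hχ => Finset.mem_of_mem_erase hχ
  have h3 : (S'.card : ℤ) ≤ ∑ χ ∈ S', d χ := by
    have := Finset.card_nsmul_le_sum S' d 1 (fun χ hχ => hd1 χ (hS'S χ hχ))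
    simpa using this
  have hv1 : ∀ χ ∈ S', 1 ≤ v χ ^ 2 := by
    intro χ hχ
    have h := hv0 χ (hS'S χ hχ)
    have : 0 < v χ ^ 2 := by positivity
    omega
  have h4 : (S'.card : ℤ) ≤ ∑ χ ∈ S', v χ ^ 2 := by
    have := Finset.card_nsmul_le_sum S' (fun χ => v χ ^ 2) 1 hv1
    simpa using this
  have ha1 : 1 ≤ d ψ₀ := hd1 ψ₀ hψ₀
  have hcn : (0 : ℤ) ≤ S'.card := Int.natCast_nonneg _
  have ha : d ψ₀ = 1 ∨ d ψ₀ = 3 := by
    have : d ψ₀ ≤ 4 := by linarith
    have h5 : d ψ₀ ≠ 2 := fun h => hodd ⟨1, by rw [h]; rfl⟩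
    have h6 : d ψ₀ ≠ 4 := fun h => hodd ⟨2, by rw [h]; rfl⟩
    omega
  rcases ha with ha | ha
  · -- `a = 1`
    rw [hvd, ha] at h2
    rw [ha] at h1
    have h5 : ∑ χ ∈ S', v χ ^ 2 = 3 := by linarith
    have h6 : ∀ χ ∈ S', v χ ^ 2 = 1 := by
      intro χ hχ
      have h7 : v χ ^ 2 ≤ ∑ χ ∈ S', v χ ^ 2 :=
        Finset.single_le_sum (f := fun χ => v χ ^ 2) (fun i _ => sq_nonneg (v i)) hχ
      rw [h5] at h7
      have h8 := hv1 χ hχ
      have h9 : v χ ≤ 1 := by nlinarith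
      have h10 : -1 ≤ v χ := by nlinarith
      have h11 := hv0 χ (hS'S χ hχ)
      have : v χ = 1 ∨ v χ = -1 := by omega
      rcases this with h | h <;> rw [h] <;> norm_num
    rw [Finset.sum_congr rfl h6] at h5
    simp at h5
    omega
  · -- `a = 3`
    exfalso
    rw [hvd, ha] at h2
    rw [ha] at h1
    have h5 : ∑ χ ∈ S', v χ ^ 2 = 3 := by linarith
    have h6 : ∑ χ ∈ S', d χ = 1 := by linarith
    have h7 : S'.card ≤ 1 := by
      have : (S'.card : ℤ) ≤ 1 := by linarith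
      exact_mod_cast this
    interval_cases hc : S'.card
    · rw [Finset.card_eq_zero] at hc
      rw [hc, Finset.sum_empty] at h5
      omega
    · obtain ⟨χ₁, hχ₁⟩ := Finset.card_eq_one.1 hc
      rw [hχ₁, Finset.sum_singleton] at h5
      have h9 : v χ₁ ≤ 1 := by nlinarith
      have h10 : -1 ≤ v χ₁ := by nlinarith
      have : v χ₁ = 1 ∨ v χ₁ = -1 ∨ v χ₁ = 0 := by omega
      rcases this with h | h | h <;> rw [h] at h5 <;> norm_num at h5

end Comb

section Vanish

variable {G : Type u} [Group G] [Fintype G] {M : Ideal AlgInt} {p : ℕ}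

/-- **second main theorem for contributions**: the contributions of `(z, e)` vanish outside the
induced block -/
theorem contrib_eq_zero_of_not_mem (hM : IsPModular p M) {z : G}
    (hz : ∃ k : ℕ, orderOf z = p ^ k) (H : Subgroup G) [Fintype H]
    (hH : H = Subgroup.centralizer ({z} : Set G)) {B : Set (IrrCharacter G)}
    {e : Set (IrrCharacter H)} (hind : IsInducedBlock M H e B) {χ : IrrCharacter G}
    (hχ : χ ∉ B) (ψ : G → ℂ) : contrib p H z e (χ : G → ℂ) ψ = 0 := by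
  classical
  subst hH
  haveI hMp : M.IsPrime := hM.2.1.isPrime
  have hB' : IsPBlock M (blockOf M (χ : G → ℂ)) := ⟨χ, rfl⟩
  have hχ' : χ ∈ blockOf M (χ : G → ℂ) := mem_blockOf_self χ
  have hnot : ¬ IsInducedBlock M (Subgroup.centralizer ({z} : Set G)) e
      (blockOf M (χ : G → ℂ)) := by
    intro h₂
    apply hχ
    obtain ⟨ξ, hξ⟩ := block_nonempty hM hind.1
    obtain ⟨χ₁, hχ₁⟩ := block_nonempty hM hind.2.1
    have hsame : SameBlock M (χ₁ : G → ℂ) (χ : G → ℂ) := by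
      intro g
      have a1 := hind.2.2 ξ hξ χ₁ hχ₁ g
      have a2 := h₂.2.2 ξ hξ χ hχ' g
      exact cong_trans (cong_symm a1) a2
    obtain ⟨χ₀, rfl⟩ := hind.2.1
    exact sameBlock_trans hχ₁ hsame
  have h0 : pRegularPart p (etaPart (Subgroup.centralizer ({z} : Set G)) z e (χ : G → ℂ)) = 0 := by
    funext y
    by_cases hy : p ∣ orderOf y
    · rw [pRegularPart_of_dvd p _ hy]
      rfl
    · rw [pRegularPart_of_not_dvd p _ hy]
      exact blockPart_shift_eq_zero hM hz hB' hχ' hind.1 hnot y hy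
  unfold contrib
  rw [h0]
  unfold classInner
  simp

end Vanish

section KFour

variable {G : Type u} [Group G] [Fintype G] {M : Ideal AlgInt}

theorem eq_one_or_neg_one_of_sq {μ : ℂ} (h : μ ^ 2 = 1) : μ = 1 ∨ μ = -1 := by
  have h1 : (μ - 1) * (μ + 1) = 0 := by ring_nf; rw [h]; ring
  rcases mul_eq_zero.1 h1 with h2 | h2
  · left; linear_combination h2
  · right; linear_combination h2

set_option maxHeartbeats 1600000 in
/-- **four characters**: a `2`-block of defect `2` with a major subsection `(u, f)`, `u` an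
involution, `l(f) = 1` -/
theorem card_eq_four_of_major_involution (hM : IsPModular 2 M) {u : G} (hu : orderOf u = 2)
    (H : Subgroup G) [Fintype H] (hH : H = Subgroup.centralizer ({u} : Set G))
    {B : Set (IrrCharacter G)} {f : Set (IrrCharacter H)} (hind : IsInducedBlock M H f B)
    (hdef : blockDefect 2 f = blockDefect 2 B) (hd : blockDefect 2 B = 2)
    (hl : blockRank 2 f = 1) : Nat.card B = 4 := by
  classical
  haveI : Fact (Nat.Prime 2) := ⟨Nat.prime_two⟩
  haveI hMp : M.IsPrime := hM.2.1.isPrime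
  letI : Fintype (IrrCharacter G) := irrFintype
  letI : Fintype (IrrCharacter H) := irrFintype
  have hB : IsPBlock M B := hind.2.1
  have hf : IsPBlock M f := hind.1
  have hz : ∃ k : ℕ, orderOf u = 2 ^ k := ⟨1, by rw [hu, pow_one]⟩
  have huH : u ∈ H := by
    rw [hH]
    exact self_mem_centralizer_singleton u
  set Y : H := ⟨u, huH⟩ with hY
  have hYc : Y ∈ Subgroup.center H := by
    rw [Subgroup.mem_center_iff]
    intro c
    apply Subtype.ext
    push_cast
    have hc : (c : G) ∈ Subgroup.centralizer ({u} : Set G) := hH ▸ c.2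
    exact (Subgroup.mem_centralizer_iff.1 hc u rfl).symm
  have hYn : orderOf Y = 2 := by
    rw [← Subgroup.orderOf_coe]
    exact hu
  -- integrality
  have hint : ∀ χ ψ : IrrCharacter G, ∃ n : ℤ,
      (4 : ℂ) * contrib 2 H u f (χ : G → ℂ) (ψ : G → ℂ) = n := by
    intro χ ψ
    obtain ⟨w, μ, hμ, hkey⟩ := exists_weighted_form hM H hf hYc χ ψ
    rw [hYn] at hμ
    have h1 := hkey 1
    rw [pow_one, hdef, hd] at h1
    have hμ' : ∀ i, ∃ s : ℤ, μ i = s := by
      intro i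
      rcases eq_one_or_neg_one_of_sq (hμ i) with h | h
      · exact ⟨1, by rw [h]; norm_num⟩
      · exact ⟨-1, by rw [h]; norm_num⟩
    choose s hs using hμ'
    refine ⟨∑ i, w i * s i, ?_⟩
    have h4 : (((2 ^ 2 : ℕ)) : ℂ) = 4 := by norm_num
    rw [h4] at h1
    have hYu : ((Y : H) : G) = u := rfl
    rw [hYu] at h1
    rw [h1]
    push_cast
    apply Finset.sum_congr rfl
    intro i _
    rw [pow_one, hs i]
  choose n hn using hint
  -- symmetry
  have hsymm : ∀ χ ψ : IrrCharacter G, n χ ψ = n ψ χ := by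
    intro χ ψ
    have h1 := contrib_conj_symm (p := 2) H u f (χ : G → ℂ) (ψ : G → ℂ)
    have h2 : ((n χ ψ : ℤ) : ℂ) = conj ((n ψ χ : ℤ) : ℂ) := by
      rw [← hn χ ψ, ← hn ψ χ, h1, map_mul]
      congr 1
      rw [Complex.conj_eq_iff_real.2 ⟨4, by norm_num⟩]
    rw [map_intCast] at h2
    exact_mod_cast h2
  -- vanishing outside the block
  have hvan : ∀ χ ψ : IrrCharacter G, ψ ∉ B → n χ ψ = 0 := by
    intro χ ψ hψ
    rw [hsymm]
    have h1 := contrib_eq_zero_of_not_mem hM hz H hH hind hψ (χ : G → ℂ)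
    have h2 := hn ψ χ
    rw [h1, mul_zero] at h2
    exact_mod_cast h2.symm
  -- the trace
  have htr : ∑ χ ∈ Finset.univ.filter (· ∈ B), n χ χ = 4 := by
    have h1 := sum_contrib_self hM hz H hH hind
    rw [hl] at h1
    have h2 : ((∑ χ ∈ Finset.univ.filter (· ∈ B), n χ χ : ℤ) : ℂ) = 4 := by
      push_cast
      rw [Finset.sum_filter]
      have h3 : ∀ χ : IrrCharacter G, (if χ ∈ B then ((n χ χ : ℤ) : ℂ) else 0) =
          4 * (if χ ∈ B then contrib 2 H u f (χ : G → ℂ) (χ : G → ℂ) else 0) := by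
        intro χ
        split_ifs
        · rw [hn]
        · rw [mul_zero]
      rw [Finset.sum_congr rfl (fun χ _ => h3 χ), ← Finset.mul_sum, h1]
      norm_num
    exact_mod_cast h2
  -- the rows
  have hrow : ∀ χ : IrrCharacter G, ∑ ψ ∈ Finset.univ.filter (· ∈ B), n χ ψ ^ 2 =
      4 * n χ χ := by
    intro χ
    have h1 := sum_contrib_mul_conj hM hz H hH hf (χ : G → ℂ)
    have h2 : ((∑ ψ ∈ Finset.univ.filter (· ∈ B), n χ ψ ^ 2 : ℤ) : ℂ) = ((4 * n χ χ : ℤ) : ℂ) := by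
      push_cast
      rw [Finset.sum_filter]
      have h3 : ∀ ψ : IrrCharacter G, (if ψ ∈ B then ((n χ ψ : ℤ) : ℂ) ^ 2 else 0) =
          16 * (contrib 2 H u f (χ : G → ℂ) (ψ : G → ℂ) *
            conj (contrib 2 H u f (χ : G → ℂ) (ψ : G → ℂ))) := by
        intro ψ
        have h4 : ((n χ ψ : ℤ) : ℂ) ^ 2 = 16 * (contrib 2 H u f (χ : G → ℂ) (ψ : G → ℂ) *
            conj (contrib 2 H u f (χ : G → ℂ) (ψ : G → ℂ))) := by
          have h5 : conj ((n χ ψ : ℤ) : ℂ) = ((n χ ψ : ℤ) : ℂ) := map_intCast _ _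
          rw [← hn χ ψ, map_mul, Complex.conj_eq_iff_real.2 ⟨4, by norm_num⟩] at h5
          have h6 : conj (contrib 2 H u f (χ : G → ℂ) (ψ : G → ℂ)) =
              contrib 2 H u f (χ : G → ℂ) (ψ : G → ℂ) := by
            have h7 : (4 : ℂ) ≠ 0 := by norm_num
            exact mul_left_cancel₀ h7 h5
          rw [h6, ← hn χ ψ]
          ring
        split_ifs with hψ
        · exact h4
        · rw [← h4, hvan χ ψ hψ]
          norm_num
      rw [Finset.sum_congr rfl (fun ψ _ => h3 ψ), ← Finset.mul_sum, h1, ← hn χ χ]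
      ring
    exact_mod_cast h2
  -- the height zero character
  obtain ⟨ψ₀, hψ₀, hh⟩ := exists_height_zero hM hB
  have hne : ∀ χ ∈ Finset.univ.filter (· ∈ B), n ψ₀ χ ≠ 0 := by
    intro χ hχ h0
    have hχB : χ ∈ B := (Finset.mem_filter.1 hχ).2
    have h1 := contrib_ne_zero_of_major hM hz H hH hind hdef hψ₀ hχB hh
    apply h1
    have h2 := hn ψ₀ χ
    rw [h0, Int.cast_zero] at h2
    have h7 : (4 : ℂ) ≠ 0 := by norm_num
    exact (mul_eq_zero.1 h2).resolve_left h7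
  have hpos : ∀ χ ∈ Finset.univ.filter (· ∈ B), 1 ≤ n χ χ := by
    intro χ hχ
    have h1 := hrow χ
    have hψ₀' : ψ₀ ∈ Finset.univ.filter (· ∈ B) := Finset.mem_filter.2 ⟨Finset.mem_univ _, hψ₀⟩
    have h2 : n χ ψ₀ ^ 2 ≤ ∑ ψ ∈ Finset.univ.filter (· ∈ B), n χ ψ ^ 2 :=
      Finset.single_le_sum (f := fun ψ => n χ ψ ^ 2) (fun i _ => sq_nonneg _) hψ₀'
    have h3 : n χ ψ₀ ≠ 0 := by
      rw [hsymm]
      exact hne χ hχ
    have h4 : 0 < n χ ψ₀ ^ 2 := by positivity
    omega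
  have hodd : ¬ (2 : ℤ) ∣ n ψ₀ ψ₀ := by
    intro hdvd
    have h1 := (pow_mul_contrib_div_pow_height hM hz H hH hind hdef hψ₀ hψ₀ hh).2
    apply h1
    rw [hh, pow_zero, Nat.cast_one, div_one, hd]
    have h4 : (((2 ^ 2 : ℕ)) : ℂ) = 4 := by norm_num
    rw [h4, hn]
    exact (memLocalIdeal_intCast_iff hM _).2 (by exact_mod_cast hdvd)
  have hψ₀' : ψ₀ ∈ Finset.univ.filter (· ∈ B) := Finset.mem_filter.2 ⟨Finset.mem_univ _, hψ₀⟩
  have hcard := card_eq_four_of_row (Finset.univ.filter (· ∈ B)) ψ₀ hψ₀'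
    (fun χ => n χ χ) (fun χ => n ψ₀ χ) hpos htr hne rfl (hrow ψ₀) hodd
  rw [Nat.card_eq_fintype_card, Fintype.card_subtype]
  exact hcard

end KFour

end Cfsg.Agent.Helper23.Blk
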