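import Mathlib
import Cfsg.Agent.Lib.Helper23.BlockDominate
import Cfsg.Agent.Lib.Helper23.BlockOrderTwo
import Cfsg.Agent.Lib.Helper1.QuotientCard

/-!
# Local analysis for blocks with a four-group as defect group (helper23's shared library)
-/

set_option autoImplicit false
set_option linter.unusedSectionVars false
set_option linter.style.haveILetI false

namespace Cfsg.Agent.Helper23.Blk

open Cfsg Cfsg.Agent.Helper24 Cfsg.Agent.Helper18 Cfsg.Agent.Helper18.PairRel

universe u

section Quot

variable {K : Type u} [Group K] [Fintype K] {M : Ideal AlgInt}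

/-- a `2`-block whose defect group has a central subgroup of index two has `2`-rank one -/
theorem blockRank_eq_one_of_quot_order_two (hM : IsPModular 2 M) {b : Set (IrrCharacter K)}
    (hb : IsPBlock M b) {D : Subgroup K} (hD : IsDefectGroup 2 M b D) (Z : Subgroup K)
    (hZc : Z ≤ Subgroup.center K) (hZD : Z ≤ D) (hcard : Nat.card D = 2 * Nat.card Z) :
    blockRank 2 b = 1 := by
  classical
  haveI : Fact (Nat.Prime 2) := ⟨Nat.prime_two⟩
  haveI : Z.Normal := by
    constructor
    intro n hn g
    have h1 := Subgroup.mem_center_iff.1 (hZc hn) g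
    rw [h1, mul_inv_cancel_right]
    exact hn
  have hDp : IsPGroup 2 D := isPGroup_of_isDefectGroup hM hD
  have hZp : IsPGroup 2 Z := hDp.to_le hZD
  obtain ⟨bbar, hbbar, hrank, hDbar⟩ := exists_dominated_block hM Z hZp hZc hb hD
  haveI : Fintype (K ⧸ Z) := Fintype.ofFinite _
  have hc : Nat.card (D.map (QuotientGroup.mk' Z)) = 2 := by
    have h1 := Cfsg.Agent.Helper1.card_map_mk'_of_le Z hZD
    rw [hcard] at h1
    have hZ0 : 0 < Nat.card Z := Nat.card_pos
    have h2 : Nat.card Z * Nat.card (D.map (QuotientGroup.mk' Z)) = Nat.card Z * 2 := by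
      rw [h1]; ring
    exact Nat.eq_of_mul_eq_mul_left hZ0 h2
  rw [← hrank]
  exact (card_eq_two_and_blockRank_eq_one hM hbbar hDbar hc).2

end Quot

end Cfsg.Agent.Helper23.Blk
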