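import Mathlib
import Cfsg.Agent.Lib.Helper23.BlockCentricNormal
import Cfsg.Agent.Lib.Helper18.BlockCover2
import Cfsg.Agent.Lib.Helper24.CoprimeOver

/-!
# Nilpotent blocks and normal subgroups of `p`-power index (helper23's shared library)
-/

set_option autoImplicit false
set_option linter.unusedSectionVars false
set_option linter.style.haveILetI false

namespace Cfsg.Agent.Helper23.Blk

open Cfsg Cfsg.Agent.Helper24

universe u

section Abstract

variable {H : Type u} [Group H] [Fintype H] (K : Subgroup H) [hK : K.Normal] [Fintype K]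
  {M : Ideal AlgInt} {p : ℕ}

/-- a character over `θ` has the same central character as `θ` on the central elements that are
supported on the normal subgroup -/
theorem omega_eq_omega_of_over {ξ : IrrCharacter H} {θ : IrrCharacter K}
    (hcon : classInner (fun n : K => (ξ : H → ℂ) n) (θ : K → ℂ) ≠ 0)
    {a : H → ℂ} (ha : IsClassFunction H a) (hoff : ∀ h, h ∉ K → a h = 0) :
    omega (ξ : H → ℂ) a = omega (θ : K → ℂ) (fun k : K => a k) := by
  classical
  haveI : Fintype (ConjClasses H) := Fintype.ofFinite _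
  rw [omega_eq_sum_classes (isClassFunction_of_isIrrCharacter ξ.2) ha,
    Cfsg.Agent.Helper18.omega_restrict_eq_sum_classes K ha]
  apply Finset.sum_congr rfl
  intro C _
  by_cases hC : Quotient.out C ∈ K
  · have h1 := (Cfsg.Agent.S0963.result K ξ θ).mp hcon ⟨_, hC⟩
    rw [h1]
  · rw [hoff _ hC, zero_mul, zero_mul]

/-- over a normal subgroup of `p`-power index, characters over the same block lie in the same
block -/
theorem sameBlock_of_over_of_index (hM : IsPModular p M) (hidx : ∃ k : ℕ, K.index = p ^ k)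
    {ξ ξ' : IrrCharacter H} {θ θ' : IrrCharacter K}
    (hcon : classInner (fun n : K => (ξ : H → ℂ) n) (θ : K → ℂ) ≠ 0)
    (hcon' : classInner (fun n : K => (ξ' : H → ℂ) n) (θ' : K → ℂ) ≠ 0)
    (hθ : SameBlock M (θ : K → ℂ) (θ' : K → ℂ)) :
    SameBlock M (ξ : H → ℂ) (ξ' : H → ℂ) := by
  classical
  haveI hMp : M.IsPrime := hM.2.1.isPrime
  apply Cfsg.Agent.Helper18.sameBlock_of_congr_on_normal K hM hidx
  intro n
  rw [(Cfsg.Agent.S0963.result K ξ θ).mp hcon n, (Cfsg.Agent.S0963.result K ξ' θ').mp hcon' n]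
  have hcf : IsClassFunction K (fun h : K => if IsConj (n : H) (h : H) then (1 : ℂ) else 0) := by
    intro h x
    have hiff : IsConj (n : H) ((x * h * x⁻¹ : K) : H) ↔ IsConj (n : H) (h : H) := by
      have hc : IsConj (h : H) ((x * h * x⁻¹ : K) : H) := by
        rw [isConj_iff]
        exact ⟨(x : H), by simp⟩
      exact ⟨fun h' => h'.trans hc.symm, fun h' => h'.trans hc⟩
    simp only [hiff]
  have hR : ∀ h : K, MemLocalRing M
      ((fun h : K => if IsConj (n : H) (h : H) then (1 : ℂ) else 0) h) := by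
    intro h
    simp only
    split_ifs
    · exact memLocalRing_one ne_top
    · exact memLocalRing_zero ne_top
  have h4 := memLocalIdeal_omega_sub hθ hcf hR
  rw [← Cfsg.Agent.Helper18.inducedCentralChar_eq_omega K,
    ← Cfsg.Agent.Helper18.inducedCentralChar_eq_omega K] at h4
  exact h4

/-- every irreducible character lies over an irreducible character of the subgroup -/
theorem exists_under (ξ : IrrCharacter H) :
    ∃ θ : IrrCharacter K, classInner (fun n : K => (ξ : H → ℂ) n) (θ : K → ℂ) ≠ 0 := by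
  classical
  have h1 : IsCharacter K (fun n : K => (ξ : H → ℂ) n) :=
    isCharacter_restrict K (isCharacter_of_isIrrCharacter ξ.2)
  have h0 : (fun n : K => (ξ : H → ℂ) n) ≠ 0 := by
    intro h
    have h2 := congrFun h 1
    simp only [Pi.zero_apply] at h2
    exact irr_one_ne_zero ξ.2 h2
  obtain ⟨θ, hθ, hne⟩ := Cfsg.Agent.Helper5.exists_constituent h1 h0
  exact ⟨⟨θ, hθ⟩, hne⟩

end Abstract

section Defs

variable {G : Type u} [Group G] (N : Subgroup G)

/-- `C_G(R) ∩ N` as a subgroup of `G` -/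
def cenInf (R : Subgroup G) : Subgroup G := Subgroup.centralizer (R : Set G) ⊓ N

/-- `C_G(R) ∩ N` as a subgroup of `C_G(R)` -/
abbrev cenSub (R : Subgroup G) : Subgroup (Subgroup.centralizer (R : Set G)) :=
  N.subgroupOf (Subgroup.centralizer (R : Set G))

theorem mem_cenInf {R : Subgroup G} {x : G} :
    x ∈ cenInf N R ↔ x ∈ Subgroup.centralizer (R : Set G) ∧ x ∈ N := Iff.rfl

/-- the two incarnations of `C_G(R) ∩ N` -/
def cenSubEquiv (R : Subgroup G) : cenSub N R ≃* cenInf N R where
  toFun k := ⟨((k : Subgroup.centralizer (R : Set G)) : G),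
    ⟨(k : Subgroup.centralizer (R : Set G)).2, Subgroup.mem_subgroupOf.1 k.2⟩⟩
  invFun d := ⟨⟨(d : G), d.2.1⟩, Subgroup.mem_subgroupOf.2 d.2.2⟩
  left_inv k := rfl
  right_inv d := rfl
  map_mul' a b := rfl

theorem cenSubEquiv_coe (R : Subgroup G) (k : cenSub N R) :
    ((cenSubEquiv N R k : cenInf N R) : G) = ((k : Subgroup.centralizer (R : Set G)) : G) := rfl

theorem cenSubEquiv_symm_coe (R : Subgroup G) (d : cenInf N R) :
    ((((cenSubEquiv N R).symm d : cenSub N R) : Subgroup.centralizer (R : Set G)) : G) =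
      (d : G) := rfl

/-- the centralizer in `N` of a subgroup of `N`, as a subgroup of `G` -/
def cenNEquiv (R' : Subgroup N) :
    Subgroup.centralizer (R' : Set N) ≃* cenInf N (R'.map N.subtype) where
  toFun k := ⟨((k : N) : G), ⟨by
    show ((k : N) : G) ∈ Subgroup.centralizer ((R'.map N.subtype : Subgroup G) : Set G)
    rw [Subgroup.mem_centralizer_iff]
    rintro _ ⟨r, hr, rfl⟩
    have h1 := (Subgroup.mem_centralizer_iff.1 k.2) r hr
    have h2 := congrArg Subtype.val h1
    push_cast at h2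
    exact h2, (k : N).2⟩⟩
  invFun d := ⟨⟨(d : G), d.2.2⟩, by
    rw [Subgroup.mem_centralizer_iff]
    intro r hr
    have h1 := (Subgroup.mem_centralizer_iff.1 d.2.1) (r : G) ⟨r, hr, rfl⟩
    apply Subtype.ext
    push_cast
    exact h1⟩
  left_inv k := rfl
  right_inv d := rfl
  map_mul' a b := rfl

theorem cenNEquiv_coe (R' : Subgroup N) (k : Subgroup.centralizer (R' : Set N)) :
    ((cenNEquiv N R' k : cenInf N (R'.map N.subtype)) : G) = ((k : N) : G) := rfl

theorem cenNEquiv_symm_coe (R' : Subgroup N) (d : cenInf N (R'.map N.subtype)) :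
    ((((cenNEquiv N R').symm d : Subgroup.centralizer (R' : Set N)) : N) : G) = (d : G) := rfl

/-- the irreducible character `ξ` of `C_G(R)` lies over the irreducible character `θ` of
`C_G(R) ∩ N` -/
def IsOver [Finite G] (R : Subgroup G) (ξ : IrrCharacter (Subgroup.centralizer (R : Set G)))
    (θ : IrrCharacter (cenInf N R)) : Prop :=
  letI : Fintype (cenSub N R) := Fintype.ofFinite _
  classInner (fun n : cenSub N R => (ξ : Subgroup.centralizer (R : Set G) → ℂ) n)
    (irrComp (cenSubEquiv N R) θ : cenSub N R → ℂ) ≠ 0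

/-- the central character of `θ ∈ Irr(C_G(R) ∩ N)` at the truncation of `β` -/
noncomputable def omegaInf (β : G → ℂ) (R : Subgroup G) (θ : cenInf N R → ℂ) : ℂ :=
  ∑ᶠ k : cenInf N R, β k * θ k / θ 1

end Defs

section Dict

variable {G : Type u} [Group G] [Fintype G] (N : Subgroup G) [hN : N.Normal]
  {M : Ideal AlgInt} {p : ℕ}

theorem exists_isOver (R : Subgroup G) (θ : IrrCharacter (cenInf N R)) :
    ∃ ξ : IrrCharacter (Subgroup.centralizer (R : Set G)), IsOver N R ξ θ := by
  classical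
  haveI : Fintype (Subgroup.centralizer (R : Set G)) := Fintype.ofFinite _
  letI : Fintype (cenSub N R) := Fintype.ofFinite _
  obtain ⟨ξ, hξ, hne⟩ := exists_irr_over (cenSub N R) (irrComp (cenSubEquiv N R) θ).2
  refine ⟨⟨ξ, hξ⟩, ?_⟩
  unfold IsOver
  convert hne

theorem exists_isOver_under (R : Subgroup G)
    (ξ : IrrCharacter (Subgroup.centralizer (R : Set G))) :
    ∃ θ : IrrCharacter (cenInf N R), IsOver N R ξ θ := by
  classical
  haveI : Fintype (Subgroup.centralizer (R : Set G)) := Fintype.ofFinite _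
  letI : Fintype (cenSub N R) := Fintype.ofFinite _
  obtain ⟨θ, hθ⟩ := exists_under (cenSub N R) ξ
  refine ⟨irrComp (cenSubEquiv N R).symm θ, ?_⟩
  unfold IsOver
  rw [irrComp_irrComp_symm]
  convert hθ

/-- the central characters of `ξ` and of `θ` agree at the truncation of `β` -/
theorem brauerOmega_eq_of_isOver {β : G → ℂ} (hβcf : IsClassFunction G β)
    (hβoff : ∀ g, g ∉ N → β g = 0) (R : Subgroup G)
    {ξ : IrrCharacter (Subgroup.centralizer (R : Set G))} {θ : IrrCharacter (cenInf N R)}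
    (h : IsOver N R ξ θ) :
    brauerOmega R β (ξ : Subgroup.centralizer (R : Set G) → ℂ) =
      omegaInf N β R (θ : cenInf N R → ℂ) := by
  classical
  haveI : Fintype (Subgroup.centralizer (R : Set G)) := Fintype.ofFinite _
  letI : Fintype (cenSub N R) := Fintype.ofFinite _
  haveI : Fintype (cenInf N R) := Fintype.ofFinite _
  have ha : IsClassFunction (Subgroup.centralizer (R : Set G))
      (fun l : Subgroup.centralizer (R : Set G) => β l) := by
    intro g h
    exact hβcf (g : G) (h : G)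
  have hoff : ∀ l : Subgroup.centralizer (R : Set G), l ∉ cenSub N R →
      (fun l : Subgroup.centralizer (R : Set G) => β l) l = 0 := by
    intro l hl
    apply hβoff
    intro hlN
    exact hl (Subgroup.mem_subgroupOf.2 hlN)
  have h1 : brauerOmega R β (ξ : Subgroup.centralizer (R : Set G) → ℂ) =
      omega (ξ : Subgroup.centralizer (R : Set G) → ℂ)
        (fun l : Subgroup.centralizer (R : Set G) => β l) := by
    unfold brauerOmega omega
    rw [finsum_eq_sum_of_fintype, Finset.sum_div]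
  have h2 : omegaInf N β R (θ : cenInf N R → ℂ) =
      omega (θ : cenInf N R → ℂ) (fun d : cenInf N R => β d) := by
    unfold omegaInf omega
    rw [finsum_eq_sum_of_fintype, Finset.sum_div]
  have h3 : IsOver N R ξ θ := h
  unfold IsOver at h3
  have h4 := omega_eq_omega_of_over (cenSub N R) (by convert h3) ha hoff
  rw [h1, h2, h4]
  exact omega_comp_equiv (cenSubEquiv N R) (θ : cenInf N R → ℂ) (fun d : cenInf N R => β d)

end Dict

section Act

variable {G : Type u} [Group G] [Fintype G] (N : Subgroup G) [hN : N.Normal]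
  {M : Ideal AlgInt} {p : ℕ}

theorem normalizer_le_normalizer_cenInf (R : Subgroup G) :
    Subgroup.normalizer (R : Set G) ≤ Subgroup.normalizer ((cenInf N R : Subgroup G) : Set G) := by
  intro y hy
  have hyC := normalizer_le_normalizer_centralizer R hy
  rw [Subgroup.mem_normalizer_iff] at hyC ⊢
  intro k
  rw [mem_cenInf, mem_cenInf, ← hyC k]
  constructor
  · rintro ⟨h1, h2⟩
    exact ⟨h1, hN.conj_mem k h2 y⟩
  · rintro ⟨h1, h2⟩
    refine ⟨h1, ?_⟩
    have h3 := hN.conj_mem _ h2 y⁻¹
    have e : y⁻¹ * (y * k * y⁻¹) * y⁻¹⁻¹ = k := by group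
    rwa [e] at h3

/-- conjugation by `y ∈ N_G(R)` on `C_G(R) ∩ N`, inside `C_G(R)` -/
noncomputable def cenSubConj (R : Subgroup G) {y : G} (hy : y ∈ Subgroup.normalizer (R : Set G)) :
    cenSub N R ≃* cenSub N R :=
  (cenSubEquiv N R).trans ((normConj (cenInf N R) y⁻¹
    (Subgroup.inv_mem _ (normalizer_le_normalizer_cenInf N R hy))).trans (cenSubEquiv N R).symm)

theorem cenSubConj_coe (R : Subgroup G) {y : G} (hy : y ∈ Subgroup.normalizer (R : Set G))
    (k : cenSub N R) :
    (((cenSubConj N R hy k : cenSub N R) : Subgroup.centralizer (R : Set G)) : G) =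
      y⁻¹ * ((k : Subgroup.centralizer (R : Set G)) : G) * y⁻¹⁻¹ := rfl

/-- lying over is compatible with conjugation by `N_G(R)` -/
theorem isOver_conj {R : Subgroup G} {y : G} (hy : y ∈ Subgroup.normalizer (R : Set G))
    {ξ : IrrCharacter (Subgroup.centralizer (R : Set G))} {θ : IrrCharacter (cenInf N R)}
    (h : IsOver N R ξ θ) :
    IsOver N R (conjIrr (Subgroup.centralizer (R : Set G)) y
        (normalizer_le_normalizer_centralizer R hy) ξ)
      (conjIrr (cenInf N R) y (normalizer_le_normalizer_cenInf N R hy) θ) := by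
  classical
  haveI : Fintype (Subgroup.centralizer (R : Set G)) := Fintype.ofFinite _
  letI : Fintype (cenSub N R) := Fintype.ofFinite _
  unfold IsOver at h ⊢
  have h1 : (fun n : cenSub N R => (conjIrr (Subgroup.centralizer (R : Set G)) y
      (normalizer_le_normalizer_centralizer R hy) ξ :
        Subgroup.centralizer (R : Set G) → ℂ) n) =
      (fun n : cenSub N R => (ξ : Subgroup.centralizer (R : Set G) → ℂ) n) ∘
        (cenSubConj N R hy) := by
    funext n
    rw [Function.comp_apply, conjIrr_apply]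
    apply congrArg (ξ : Subgroup.centralizer (R : Set G) → ℂ)
    apply Subtype.ext
    rw [normConj_apply, cenSubConj_coe]
  have h2 : (irrComp (cenSubEquiv N R)
      (conjIrr (cenInf N R) y (normalizer_le_normalizer_cenInf N R hy) θ) : cenSub N R → ℂ) =
      (irrComp (cenSubEquiv N R) θ : cenSub N R → ℂ) ∘ (cenSubConj N R hy) := by
    funext n
    rw [Function.comp_apply, irrComp_apply, irrComp_apply, conjIrr_apply]
    apply congrArg (θ : cenInf N R → ℂ)
    apply Subtype.ext
    rw [normConj_apply, cenSubEquiv_coe, cenSubEquiv_coe, cenSubConj_coe]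
  rw [h1, h2]
  have h3 := Cfsg.Agent.Helper5.classInner_comp_equiv (cenSubConj N R hy)
    (fun n : cenSub N R => (ξ : Subgroup.centralizer (R : Set G) → ℂ) n)
    (irrComp (cenSubEquiv N R) θ : cenSub N R → ℂ)
  rw [h3]
  exact h

theorem index_cenSub [Fact p.Prime] (hidx : ∃ k : ℕ, N.index = p ^ k) (R : Subgroup G) :
    ∃ k : ℕ, (cenSub N R).index = p ^ k := by
  obtain ⟨k, hk⟩ := hidx
  have h1 : (cenSub N R).index ∣ N.index := Subgroup.relIndex_dvd_index_of_normal N _
  rw [hk] at h1
  obtain ⟨j, -, hj⟩ := (Nat.dvd_prime_pow (Fact.out : p.Prime)).1 h1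
  exact ⟨j, hj⟩

/-- the block over a block of `C_G(R) ∩ N` is stabilized by the elements stabilizing the latter -/
theorem stabilizesBlock_blockOf_of_isOver (hM : IsPModular p M) [Fact p.Prime]
    (hidx : ∃ k : ℕ, N.index = p ^ k) {R : Subgroup G} {y : G}
    (hy : y ∈ Subgroup.normalizer (R : Set G))
    {ξ : IrrCharacter (Subgroup.centralizer (R : Set G))} {θ : IrrCharacter (cenInf N R)}
    (h : IsOver N R ξ θ)
    (hst : SameBlock M (θ : cenInf N R → ℂ)
      (conjIrr (cenInf N R) y (normalizer_le_normalizer_cenInf N R hy) θ : cenInf N R → ℂ)) :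
    StabilizesBlock (Subgroup.centralizer (R : Set G))
      (blockOf M (ξ : Subgroup.centralizer (R : Set G) → ℂ)) y := by
  classical
  haveI hMp : M.IsPrime := hM.2.1.isPrime
  haveI : Fintype (Subgroup.centralizer (R : Set G)) := Fintype.ofFinite _
  letI : Fintype (cenSub N R) := Fintype.ofFinite _
  have hyC := normalizer_le_normalizer_centralizer R hy
  have h1 := isOver_conj N hy h
  have h0 : IsOver N R ξ θ := h
  unfold IsOver at h0 h1
  have h2 : SameBlock M (irrComp (cenSubEquiv N R) θ : cenSub N R → ℂ)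
      (irrComp (cenSubEquiv N R)
        (conjIrr (cenInf N R) y (normalizer_le_normalizer_cenInf N R hy) θ) :
          cenSub N R → ℂ) := sameBlock_comp_equiv (cenSubEquiv N R) hst
  have h3 : SameBlock M (ξ : Subgroup.centralizer (R : Set G) → ℂ)
      (conjIrr (Subgroup.centralizer (R : Set G)) y hyC ξ :
        Subgroup.centralizer (R : Set G) → ℂ) :=
    sameBlock_of_over_of_index (cenSub N R) hM (index_cenSub N hidx R) (by convert h0)
      (by convert h1) h2
  apply stabilizesBlock_of_image_subset _ hyC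
  rw [image_conjIrr_blockOf _ hyC ξ]
  exact le_of_eq (blockOf_eq_of_mem h3)

/-- if `y ∈ N_G(R)` stabilizes the block of `ξ`, some `l y` with `l ∈ C_G(R)` stabilizes the block
of `θ`, where `ξ` lies over `θ` -/
theorem exists_mul_mem_blockStab (hM : IsPModular p M) {R : Subgroup G} {y : G}
    (hy : y ∈ Subgroup.normalizer (R : Set G))
    {ξ : IrrCharacter (Subgroup.centralizer (R : Set G))} {θ : IrrCharacter (cenInf N R)}
    (h : IsOver N R ξ θ)
    (hξ : SameBlock M (ξ : Subgroup.centralizer (R : Set G) → ℂ)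
      (conjIrr (Subgroup.centralizer (R : Set G)) y
        (normalizer_le_normalizer_centralizer R hy) ξ : Subgroup.centralizer (R : Set G) → ℂ)) :
    ∃ l ∈ Subgroup.centralizer (R : Set G),
      l * y ∈ blockStab (cenInf N R) (blockOf M (θ : cenInf N R → ℂ)) := by
  classical
  haveI hMp : M.IsPrime := hM.2.1.isPrime
  haveI : Fintype (Subgroup.centralizer (R : Set G)) := Fintype.ofFinite _
  letI : Fintype (cenSub N R) := Fintype.ofFinite _
  have hyK := normalizer_le_normalizer_cenInf N R hy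
  have h1 := isOver_conj N hy h
  have h0 : IsOver N R ξ θ := h
  unfold IsOver at h0 h1
  have hcov := Cfsg.Agent.Helper18.cover_orbit (cenSub N R) hMp
    (b := blockOf M (irrComp (cenSubEquiv N R) θ : cenSub N R → ℂ)) ⟨_, rfl⟩ hξ
    (mem_blockOf_self _) (by convert h0) (by convert h1)
  obtain ⟨g, φ₂, hφ₂, hφeq⟩ := hcov
  have hgK : (g : G) ∈ Subgroup.normalizer ((cenInf N R : Subgroup G) : Set G) :=
    normalizer_le_normalizer_cenInf N R (Subgroup.centralizer_le_normalizer _ g.2)
  refine ⟨(g : G), g.2, ?_⟩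
  -- the character `φ₃` of `C_G(R) ∩ N` corresponding to `φ₂`
  have hφ₃ : SameBlock M (θ : cenInf N R → ℂ)
      (irrComp (cenSubEquiv N R).symm φ₂ : cenInf N R → ℂ) := by
    have h2 : SameBlock M (irrComp (cenSubEquiv N R).symm (irrComp (cenSubEquiv N R) θ) :
        cenInf N R → ℂ) (irrComp (cenSubEquiv N R).symm φ₂ : cenInf N R → ℂ) :=
      sameBlock_comp_equiv (cenSubEquiv N R).symm hφ₂
    rwa [irrComp_symm_irrComp] at h2
  have hconj : conjIrr (cenInf N R) ((g : G) * y) (Subgroup.mul_mem _ hgK hyK) θ =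
      irrComp (cenSubEquiv N R).symm φ₂ := by
    rw [conjIrr_mul' (cenInf N R) hgK hyK]
    apply Subtype.ext
    funext d
    rw [conjIrr_apply, irrComp_apply]
    -- evaluate `hφeq` at the conjugate of `d`
    have h3 := congrFun (congrArg Subtype.val hφeq)
      ((cenSubEquiv N R).symm (normConj (cenInf N R) (g : G)⁻¹ (Subgroup.inv_mem _ hgK) d))
    rw [irrComp_apply, MulEquiv.apply_symm_apply, Cfsg.Agent.Helper18.conjIrr_coe,
      Cfsg.Agent.Helper5.conjFun_apply] at h3
    rw [h3]
    apply congrArg (φ₂ : cenSub N R → ℂ)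
    apply Subtype.ext
    apply Subtype.ext
    show (g : G) * ((g : G)⁻¹ * (d : G) * (g : G)⁻¹⁻¹) * (g : G)⁻¹ = (d : G)
    group
  refine ⟨Subgroup.mul_mem _ hgK hyK, ?_⟩
  rw [image_conjIrr_blockOf _ _ θ, hconj]
  exact blockOf_eq_of_mem hφ₃

end Act

section Core

variable {G : Type u} [Group G] [Fintype G] (N : Subgroup G) [hN : N.Normal]
  {M : Ideal AlgInt} {p : ℕ}

/-- the local form of the nilpotency of a block of `N`, phrased inside `G` through the
truncations of the function `β` -/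
def LocalNilp (p : ℕ) (M : Ideal AlgInt) (β : G → ℂ) : Prop :=
  ∀ R : Subgroup G, R ≤ N → IsPGroup p R →
    ∀ g₃ : Set (IrrCharacter (cenInf N R)), IsPBlock M g₃ →
      (∀ θ ∈ g₃, MemLocalIdeal M (omegaInf N β R (θ : cenInf N R → ℂ) - 1)) →
        ∀ x : G, x ∈ N → x ∈ Subgroup.normalizer (R : Set G) →
          StabilizesBlock (cenInf N R) g₃ x → IsPRegular p x →
            x ∈ Subgroup.centralizer (R : Set G)

theorem brauerOmega_sub_of_sameBlock [hMp : M.IsPrime] {β : G → ℂ} (hβcf : IsClassFunction G β)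
    (hβR : ∀ g, MemLocalRing M (β g)) (R : Subgroup G)
    {ξ η : IrrCharacter (Subgroup.centralizer (R : Set G))}
    (h : SameBlock M (ξ : Subgroup.centralizer (R : Set G) → ℂ)
      (η : Subgroup.centralizer (R : Set G) → ℂ)) :
    MemLocalIdeal M (brauerOmega R β (ξ : Subgroup.centralizer (R : Set G) → ℂ) -
      brauerOmega R β (η : Subgroup.centralizer (R : Set G) → ℂ)) := by
  classical
  haveI : Fintype (Subgroup.centralizer (R : Set G)) := Fintype.ofFinite _
  have ha : IsClassFunction (Subgroup.centralizer (R : Set G))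
      (fun l : Subgroup.centralizer (R : Set G) => β l) := by
    intro g h
    exact hβcf (g : G) (h : G)
  have h1 : ∀ ζ : Subgroup.centralizer (R : Set G) → ℂ, brauerOmega R β ζ =
      omega ζ (fun l : Subgroup.centralizer (R : Set G) => β l) := by
    intro ζ
    unfold brauerOmega omega
    rw [finsum_eq_sum_of_fintype, Finset.sum_div]
  rw [h1, h1]
  exact memLocalIdeal_omega_sub h ha (fun l => hβR _)

theorem omegaInf_sub_of_sameBlock [hMp : M.IsPrime] {β : G → ℂ} (hβcf : IsClassFunction G β)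
    (hβR : ∀ g, MemLocalRing M (β g)) (R : Subgroup G)
    {θ φ : IrrCharacter (cenInf N R)}
    (h : SameBlock M (θ : cenInf N R → ℂ) (φ : cenInf N R → ℂ)) :
    MemLocalIdeal M (omegaInf N β R (θ : cenInf N R → ℂ) -
      omegaInf N β R (φ : cenInf N R → ℂ)) := by
  classical
  haveI : Fintype (cenInf N R) := Fintype.ofFinite _
  have ha : IsClassFunction (cenInf N R) (fun l : cenInf N R => β l) := by
    intro g h
    exact hβcf (g : G) (h : G)
  have h1 : ∀ ζ : cenInf N R → ℂ, omegaInf N β R ζ =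
      omega ζ (fun l : cenInf N R => β l) := by
    intro ζ
    unfold omegaInf omega
    rw [finsum_eq_sum_of_fintype, Finset.sum_div]
  rw [h1, h1]
  exact memLocalIdeal_omega_sub h ha (fun l => hβR _)

/-- **going up**: if `B` is nilpotent, the local form of nilpotency holds for its idempotent -/
theorem mem_centralizer_of_isNilpotentBlock_up (hM : IsPModular p M) [Fact p.Prime]
    (hidx : ∃ k : ℕ, N.index = p ^ k) {B : Set (IrrCharacter G)}
    (hnil : IsNilpotentBlock p M B) (hoff : ∀ g, g ∉ N → blockCoeff B g = 0)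
    {R : Subgroup G} (hR : IsPGroup p R) {g₃ : Set (IrrCharacter (cenInf N R))}
    (hg₃ : IsPBlock M g₃)
    (hloc : ∀ θ ∈ g₃, MemLocalIdeal M (omegaInf N (blockCoeff B) R (θ : cenInf N R → ℂ) - 1))
    {x : G} (hxN : x ∈ Subgroup.normalizer (R : Set G))
    (hxst : StabilizesBlock (cenInf N R) g₃ x) (hxreg : IsPRegular p x) :
    x ∈ Subgroup.centralizer (R : Set G) := by
  classical
  haveI hMp : M.IsPrime := hM.2.1.isPrime
  have hB := hnil.1
  have hβcf : IsClassFunction G (blockCoeff B) := fun g x => blockCoeff_conj B g x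
  have hβR : ∀ g, MemLocalRing M (blockCoeff B g) := memLocalRing_blockCoeff hMp hB
  obtain ⟨θ, hθ⟩ := block_nonempty hM hg₃
  obtain ⟨ξ, hξ⟩ := exists_isOver N R θ
  have hpair : IsBrauerPairOf p M B R
      (blockOf M (ξ : Subgroup.centralizer (R : Set G) → ℂ)) := by
    refine ⟨⟨hR, ⟨ξ, rfl⟩⟩, hB, ?_⟩
    intro η hη
    have h1 := brauerOmega_sub_of_sameBlock hβcf hβR R (sameBlock_symm hη)
    have h2 := brauerOmega_eq_of_isOver N hβcf hoff R hξ
    have h3 := hloc θ hθ
    rw [← h2] at h3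
    have h4 := memLocalIdeal_add h1 h3
    rwa [sub_add_sub_cancel] at h4
  have hst : StabilizesBlock (Subgroup.centralizer (R : Set G))
      (blockOf M (ξ : Subgroup.centralizer (R : Set G) → ℂ)) x := by
    apply stabilizesBlock_blockOf_of_isOver N hM hidx hxN hξ
    have h1 := image_conjIrr_eq_of_stabilizes _ hg₃ ⟨θ, hθ⟩ hxst
    have h2 : conjIrr (cenInf N R) x (normalizer_le_normalizer_cenInf N R hxN) θ ∈ g₃ := by
      have h3 : conjIrr (cenInf N R) x hxst.1 θ ∈ conjIrr (cenInf N R) x hxst.1 '' g₃ :=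
        ⟨θ, hθ, rfl⟩
      rw [h1] at h3
      exact h3
    obtain ⟨θ₀, rfl⟩ := hg₃
    exact sameBlock_trans (sameBlock_symm hθ) h2
  exact hnil.2 R _ hpair x hxN hst hxreg

theorem exists_mul_pow_eq {L : Subgroup G} {l x : G} (hl : l ∈ L)
    (hx : x ∈ Subgroup.normalizer (L : Set G)) (n : ℕ) :
    ∃ l' ∈ L, (l * x) ^ n = l' * x ^ n := by
  induction n with
  | zero => exact ⟨1, Subgroup.one_mem _, by simp⟩
  | succ n ih =>
    obtain ⟨l', hl', he⟩ := ih
    have hxn : x ^ n ∈ Subgroup.normalizer (L : Set G) := Subgroup.pow_mem _ hx n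
    have h1 : x ^ n * l * (x ^ n)⁻¹ ∈ L := (Subgroup.mem_normalizer_iff.1 hxn l).1 hl
    refine ⟨l' * (x ^ n * l * (x ^ n)⁻¹), Subgroup.mul_mem _ hl' h1, ?_⟩
    rw [pow_succ, he, pow_succ]
    group

/-- **going down**: if the local form of nilpotency holds for the idempotent of `B`, then the
Brauer pairs of `B` on subgroups of `N` have `p`-groups as automizers -/
theorem mem_centralizer_of_localNilp (hM : IsPModular p M) [Fact p.Prime]
    (hidx : ∃ k : ℕ, N.index = p ^ k) {B : Set (IrrCharacter G)}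
    (hoff : ∀ g, g ∉ N → blockCoeff B g = 0)
    (hloc : LocalNilp N p M (blockCoeff B)) {R : Subgroup G} (hRN : R ≤ N)
    {f : Set (IrrCharacter (Subgroup.centralizer (R : Set G)))}
    (hRf : IsBrauerPairOf p M B R f)
    {x : G} (hxN : x ∈ Subgroup.normalizer (R : Set G))
    (hxst : StabilizesBlock (Subgroup.centralizer (R : Set G)) f x) (hxreg : IsPRegular p x) :
    x ∈ Subgroup.centralizer (R : Set G) := by
  classical
  have hp : p.Prime := Fact.out
  haveI hMp : M.IsPrime := hM.2.1.isPrime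
  obtain ⟨⟨hR, hf⟩, hB, hbr⟩ := hRf
  have hβcf : IsClassFunction G (blockCoeff B) := fun g x => blockCoeff_conj B g x
  have hβR : ∀ g, MemLocalRing M (blockCoeff B g) := memLocalRing_blockCoeff hMp hB
  obtain ⟨ξ, hξ⟩ := block_nonempty hM hf
  obtain ⟨θ, hθ⟩ := exists_isOver_under N R ξ
  have hxC := normalizer_le_normalizer_centralizer R hxN
  -- the block of `θ` satisfies the local condition
  have hlocθ : ∀ φ ∈ blockOf M (θ : cenInf N R → ℂ),
      MemLocalIdeal M (omegaInf N (blockCoeff B) R (φ : cenInf N R → ℂ) - 1) := by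
    intro φ hφ
    have h1 := omegaInf_sub_of_sameBlock N hβcf hβR R (sameBlock_symm hφ)
    have h2 := brauerOmega_eq_of_isOver N hβcf hoff R hθ
    have h3 := hbr ξ hξ
    rw [h2] at h3
    have h4 := memLocalIdeal_add h1 h3
    rwa [sub_add_sub_cancel] at h4
  -- `x` maps `ξ` into its block
  have hξx : SameBlock M (ξ : Subgroup.centralizer (R : Set G) → ℂ)
      (conjIrr (Subgroup.centralizer (R : Set G)) x hxC ξ :
        Subgroup.centralizer (R : Set G) → ℂ) := by
    have h1 := image_conjIrr_eq_of_stabilizes _ hf ⟨ξ, hξ⟩ hxst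
    have h2 : conjIrr (Subgroup.centralizer (R : Set G)) x hxC ξ ∈ f := by
      have h3 : conjIrr (Subgroup.centralizer (R : Set G)) x hxst.1 ξ ∈
          conjIrr (Subgroup.centralizer (R : Set G)) x hxst.1 '' f := ⟨ξ, hξ, rfl⟩
      rw [h1] at h3
      exact h3
    obtain ⟨ξ₀, rfl⟩ := hf
    exact sameBlock_trans (sameBlock_symm hξ) h2
  obtain ⟨l, hl, hs⟩ := exists_mul_mem_blockStab N hM hxN hθ hξx
  -- the `p'`-part of `s = l x`
  have hlN : l ∈ Subgroup.normalizer (R : Set G) := Subgroup.centralizer_le_normalizer _ hl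
  have hsN : l * x ∈ Subgroup.normalizer (R : Set G) := Subgroup.mul_mem _ hlN hxN
  have hord0 : orderOf (l * x) ≠ 0 := (orderOf_pos _).ne'
  obtain ⟨a, m, hm, hord⟩ := Nat.exists_eq_pow_mul_and_not_dvd hord0 p hp.ne_one
  have hpa0 : p ^ a ≠ 0 := pow_ne_zero _ hp.ne_zero
  have hordt : orderOf ((l * x) ^ (p ^ a)) = m := by
    rw [orderOf_pow' _ hpa0, hord]
    have hg : (p ^ a * m).gcd (p ^ a) = p ^ a :=
      Nat.gcd_eq_right (Dvd.intro m rfl)
    rw [hg]
    exact Nat.mul_div_cancel_left m (Nat.pos_of_ne_zero hpa0)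
  have htreg : IsPRegular p ((l * x) ^ (p ^ a)) := by
    unfold IsPRegular
    rw [hordt]
    exact hm
  have htN : (l * x) ^ (p ^ a) ∈ N := by
    by_contra hnot
    exact htreg (Cfsg.Agent.Helper18.dvd_orderOf_of_not_mem N hp hidx hnot)
  have htst : StabilizesBlock (cenInf N R) (blockOf M (θ : cenInf N R → ℂ))
      ((l * x) ^ (p ^ a)) :=
    stabilizesBlock_of_mem_blockStab (Subgroup.pow_mem _ hs _)
  have htC := hloc R hRN hR _ ⟨θ, rfl⟩ hlocθ _ htN (Subgroup.pow_mem _ hsN _) htst htreg
  -- hence `x ^ (p ^ a) ∈ C_G(R)`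
  obtain ⟨l', hl', he⟩ := exists_mul_pow_eq hl hxC (p ^ a)
  have hxpa : x ^ (p ^ a) ∈ Subgroup.centralizer (R : Set G) := by
    have h1 : x ^ (p ^ a) = l'⁻¹ * (l * x) ^ (p ^ a) := by
      rw [he]
      group
    rw [h1]
    exact Subgroup.mul_mem _ (Subgroup.inv_mem _ hl') htC
  have hcop : Nat.Coprime (p ^ a) (orderOf x) :=
    Nat.Coprime.pow_left a ((Nat.Prime.coprime_iff_not_dvd hp).2 hxreg)
  obtain ⟨j, hj⟩ := exists_pow_eq_self_of_coprime hcop
  rw [← hj]
  exact Subgroup.pow_mem _ hxpa j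

/-- a `p`-regular element of `N` normalizing the `p`-subgroup `Q` and centralizing `Q ∩ N`
centralizes `Q` -/
theorem mem_centralizer_of_centralizes_inf [Fact p.Prime] {Q : Subgroup G} (hQ : IsPGroup p Q)
    {x : G} (hxN : x ∈ N) (hxQ : x ∈ Subgroup.normalizer (Q : Set G))
    (hxC : x ∈ Subgroup.centralizer ((Q ⊓ N : Subgroup G) : Set G)) (hxreg : IsPRegular p x) :
    x ∈ Subgroup.centralizer (Q : Set G) := by
  have hp : p.Prime := Fact.out
  rw [Subgroup.mem_centralizer_iff]
  intro q hq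
  obtain ⟨r, hr⟩ : ∃ r : G, r = q⁻¹ * (x * q * x⁻¹) := ⟨_, rfl⟩
  have hxq : x * q * x⁻¹ ∈ Q := (Subgroup.mem_normalizer_iff.1 hxQ q).1 hq
  have hrQ : r ∈ Q := by
    rw [hr]
    exact Subgroup.mul_mem _ (Subgroup.inv_mem _ hq) hxq
  have hrN : r ∈ N := by
    have h1 : r = (q⁻¹ * x * q⁻¹⁻¹) * x⁻¹ := by
      rw [hr]
      group
    rw [h1]
    exact Subgroup.mul_mem _ (hN.conj_mem x hxN q⁻¹) (Subgroup.inv_mem _ hxN)
  have hcomm : Commute x r := by
    have h1 := (Subgroup.mem_centralizer_iff.1 hxC) r ⟨hrQ, hrN⟩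
    exact h1.symm
  have hxqr : x * q * x⁻¹ = q * r := by
    rw [hr]
    group
  have key : ∀ n : ℕ, x ^ n * q * (x ^ n)⁻¹ = q * r ^ n := by
    intro n
    induction n with
    | zero => simp
    | succ n ih =>
      have h1 : x ^ (n + 1) * q * (x ^ (n + 1))⁻¹ = x * (x ^ n * q * (x ^ n)⁻¹) * x⁻¹ := by
        rw [pow_succ']
        group
      have h2 : x * r ^ n * x⁻¹ = r ^ n := by
        have h3 : Commute x (r ^ n) := hcomm.pow_right n
        rw [h3.eq]
        group
      rw [h1, ih]
      calc x * (q * r ^ n) * x⁻¹ = (x * q * x⁻¹) * (x * r ^ n * x⁻¹) := by group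
        _ = q * r * r ^ n := by rw [hxqr, h2]
        _ = q * r ^ (n + 1) := by rw [pow_succ', mul_assoc]
  have h1 := key (orderOf x)
  rw [pow_orderOf_eq_one, inv_one, one_mul, mul_one] at h1
  have hrn : r ^ orderOf x = 1 := by
    have h2 : q * 1 = q * r ^ orderOf x := by rw [mul_one]; exact h1
    exact (mul_left_cancel h2).symm
  obtain ⟨k, hk⟩ := hQ ⟨r, hrQ⟩
  have hk' : r ^ p ^ k = 1 := by
    have h2 := congrArg Subtype.val hk
    push_cast at h2
    exact h2
  have hd1 : orderOf r ∣ orderOf x := orderOf_dvd_of_pow_eq_one hrn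
  have hd2 : orderOf r ∣ p ^ k := orderOf_dvd_of_pow_eq_one hk'
  have hcop : Nat.Coprime (p ^ k) (orderOf x) :=
    Nat.Coprime.pow_left k ((Nat.Prime.coprime_iff_not_dvd hp).2 hxreg)
  have hone : orderOf r = 1 := Nat.Coprime.eq_one_of_dvd (Nat.Coprime.coprime_dvd_left hd2 hcop) hd1
  rw [orderOf_eq_one_iff] at hone
  rw [hone, mul_one] at hxqr
  calc q * x = (x * q * x⁻¹) * x := by rw [hxqr]
    _ = x * q := by group

/-- **the local form of nilpotency implies that `B` is nilpotent** -/
theorem isNilpotentBlock_of_localNilp (hM : IsPModular p M) [Fact p.Prime]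
    (hidx : ∃ k : ℕ, N.index = p ^ k) {B : Set (IrrCharacter G)} (hB : IsPBlock M B)
    (hoff : ∀ g, g ∉ N → blockCoeff B g = 0)
    (hloc : LocalNilp N p M (blockCoeff B)) : IsNilpotentBlock p M B := by
  classical
  have hp : p.Prime := Fact.out
  refine ⟨hB, ?_⟩
  intro Q f hQf x hxN hxst hxreg
  have hxinN : x ∈ N := by
    by_contra hnot
    exact hxreg (Cfsg.Agent.Helper18.dvd_orderOf_of_not_mem N hp hidx hnot)
  have hxNR : x ∈ Subgroup.normalizer ((Q ⊓ N : Subgroup G) : Set G) := by
    rw [Subgroup.mem_normalizer_iff]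
    intro r
    have h1 := Subgroup.mem_normalizer_iff.1 hxN r
    constructor
    · rintro ⟨hrQ, hrN⟩
      exact ⟨h1.1 hrQ, hN.conj_mem r hrN x⟩
    · rintro ⟨hrQ, hrN⟩
      refine ⟨h1.2 hrQ, ?_⟩
      have h3 := hN.conj_mem _ hrN x⁻¹
      have e : x⁻¹ * (x * r * x⁻¹) * x⁻¹⁻¹ = r := by group
      rwa [e] at h3
  obtain ⟨fR, hfR, hle⟩ := exists_subpairLE hM _ Q (Q ⊓ N) f hQf.1 inf_le_left rfl
  have hRfR : IsBrauerPairOf p M B (Q ⊓ N) fR := isBrauerPairOf_of_subpairLE_down hM hle hQf
  have hfix := Cfsg.Agent.Helper18.PairRel.conjPair_eq_self_of_stabilizes hM hQf.1.2 hxN hxst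
  have h1 := reflTransGen_conjPair_of_fix hfix hle
  have hmap : (conjPair x ⟨Q ⊓ N, fR⟩).1 = Q ⊓ N := map_conj_eq_of_mem_normalizer hxNR
  have h2 := pair_eq_of_reflTransGen hM hQf.1 hmap h1 hle
  obtain ⟨-, hxstR⟩ := Cfsg.Agent.Helper18.PairRel.stabilizes_of_conjPair_eq_self h2
  have hxCR := mem_centralizer_of_localNilp N hM hidx hoff hloc inf_le_right hRfR hxNR hxstR
    hxreg
  exact mem_centralizer_of_centralizes_inf N hQf.1.1 hxinN hxN hxCR hxreg

end Core

section Bridge

variable {G : Type u} [Group G] [Fintype G] (N : Subgroup G) [hN : N.Normal]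
  {M : Ideal AlgInt} {p : ℕ}

theorem brauerOmega_cenN {c : Set (IrrCharacter N)} {β : G → ℂ}
    (hcB : ∀ n : N, blockCoeff c n = β n) (R' : Subgroup N)
    (θ : cenInf N (R'.map N.subtype) → ℂ) :
    brauerOmega R' (blockCoeff c) (fun k => θ (cenNEquiv N R' k)) =
      omegaInf N β (R'.map N.subtype) θ := by
  unfold brauerOmega omegaInf
  rw [← finsum_comp_equiv (cenNEquiv N R').toEquiv]
  apply finsum_congr
  intro k
  show blockCoeff c (k : N) * θ (cenNEquiv N R' k) / θ (cenNEquiv N R' 1) =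
    β ((cenNEquiv N R' k : cenInf N (R'.map N.subtype)) : G) * θ (cenNEquiv N R' k) / θ 1
  rw [map_one, cenNEquiv_coe, hcB]

theorem mem_normalizer_map_subtype_iff (R' : Subgroup N) (x : N) :
    (x : G) ∈ Subgroup.normalizer ((R'.map N.subtype : Subgroup G) : Set G) ↔
      x ∈ Subgroup.normalizer (R' : Set N) := by
  rw [Subgroup.mem_normalizer_iff, Subgroup.mem_normalizer_iff]
  constructor
  · intro h r
    have h1 := h (r : G)
    have e1 : ((r : N) : G) ∈ R'.map N.subtype ↔ r ∈ R' :=
      Subgroup.mem_map_iff_mem N.subtype_injective (x := r)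
    have e2 : (x : G) * (r : G) * (x : G)⁻¹ ∈ R'.map N.subtype ↔ x * r * x⁻¹ ∈ R' :=
      Subgroup.mem_map_iff_mem N.subtype_injective (x := x * r * x⁻¹)
    rw [← e1, ← e2]
    exact h1
  · intro h g
    constructor
    · rintro ⟨r, hr, rfl⟩
      exact ⟨x * r * x⁻¹, (h r).1 hr, rfl⟩
    · rintro ⟨r, hr, hre⟩
      have hgN : g ∈ N := by
        have h1 : g = (x : G)⁻¹ * ((x : G) * g * (x : G)⁻¹) * (x : G) := by group
        rw [h1, ← hre]
        exact Subgroup.mul_mem _ (Subgroup.mul_mem _ (Subgroup.inv_mem _ x.2) r.2) x.2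
      have h2 : x * (⟨g, hgN⟩ : N) * x⁻¹ = r := by
        apply Subtype.ext
        exact hre.symm
      have h3 : (⟨g, hgN⟩ : N) ∈ R' := by
        rw [h (⟨g, hgN⟩ : N), h2]
        exact hr
      exact ⟨⟨g, hgN⟩, h3, rfl⟩

theorem mem_centralizer_map_subtype_iff (R' : Subgroup N) (x : N) :
    (x : G) ∈ Subgroup.centralizer ((R'.map N.subtype : Subgroup G) : Set G) ↔
      x ∈ Subgroup.centralizer (R' : Set N) := by
  rw [Subgroup.mem_centralizer_iff, Subgroup.mem_centralizer_iff]
  constructor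
  · intro h r hr
    apply Subtype.ext
    push_cast
    exact h (r : G) ⟨r, hr, rfl⟩
  · rintro h _ ⟨r, hr, rfl⟩
    have h1 := congrArg Subtype.val (h r hr)
    push_cast at h1
    exact h1

/-- transport of block stabilizers between `C_N(R')` and `C_G(R) ∩ N` -/
theorem stabilizesBlock_cenN_iff (R' : Subgroup N)
    (g₃ : Set (IrrCharacter (cenInf N (R'.map N.subtype)))) (x : N)
    (hx : x ∈ Subgroup.normalizer (R' : Set N)) :
    StabilizesBlock (Subgroup.centralizer (R' : Set N)) (irrComp (cenNEquiv N R') '' g₃) x ↔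
      StabilizesBlock (cenInf N (R'.map N.subtype)) g₃ (x : G) := by
  classical
  haveI : Fintype N := Fintype.ofFinite _
  have hx1 : x ∈ Subgroup.normalizer
      ((Subgroup.centralizer (R' : Set N) : Subgroup N) : Set N) :=
    normalizer_le_normalizer_centralizer R' hx
  have hx2 : (x : G) ∈ Subgroup.normalizer
      ((cenInf N (R'.map N.subtype) : Subgroup G) : Set G) :=
    normalizer_le_normalizer_cenInf N _ ((mem_normalizer_map_subtype_iff N R' x).2 hx)
  constructor
  · rintro ⟨-, h⟩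
    refine ⟨hx2, ?_⟩
    intro θ hθ
    obtain ⟨χ', ⟨θ', hθ', rfl⟩, hconj⟩ := h (irrComp (cenNEquiv N R') θ) ⟨θ, hθ, rfl⟩
    refine ⟨θ', hθ', ?_⟩
    intro k k' hk
    have h1 := hconj ((cenNEquiv N R').symm k) ((cenNEquiv N R').symm k') (by
      apply Subtype.ext
      push_cast
      rw [cenNEquiv_symm_coe, cenNEquiv_symm_coe, hk])
    rw [irrComp_apply, irrComp_apply, MulEquiv.apply_symm_apply,
      MulEquiv.apply_symm_apply] at h1
    exact h1
  · rintro ⟨-, h⟩
    refine ⟨hx1, ?_⟩
    rintro _ ⟨θ, hθ, rfl⟩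
    obtain ⟨θ', hθ', hconj⟩ := h θ hθ
    refine ⟨irrComp (cenNEquiv N R') θ', ⟨θ', hθ', rfl⟩, ?_⟩
    intro k k' hk
    rw [irrComp_apply, irrComp_apply]
    apply hconj
    rw [cenNEquiv_coe, cenNEquiv_coe, hk]
    push_cast
    rfl

/-- **nilpotency of a block of `N` in its local form inside `G`** -/
theorem isNilpotentBlock_iff_localNilp {c : Set (IrrCharacter N)} (hc : IsPBlock M c)
    {β : G → ℂ} (hcB : ∀ n : N, blockCoeff c n = β n) :
    IsNilpotentBlock p M c ↔ LocalNilp N p M β := by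
  classical
  haveI : Fintype N := Fintype.ofFinite _
  constructor
  · intro hnil R hRN hR g₃ hg₃ hloc x hxN hxNR hxst hxreg
    obtain ⟨R', rfl⟩ : ∃ R' : Subgroup N, R = R'.map N.subtype :=
      ⟨R.subgroupOf N, (Subgroup.map_subgroupOf_eq_of_le hRN).symm⟩
    have hR' : IsPGroup p R' :=
      hR.of_equiv (R'.equivMapOfInjective N.subtype N.subtype_injective).symm
    have hpair : IsBrauerPairOf p M c R' (irrComp (cenNEquiv N R') '' g₃) := by
      refine ⟨⟨hR', isPBlock_image_irrComp _ hg₃⟩, hc, ?_⟩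
      rintro _ ⟨θ, hθ, rfl⟩
      have h1 := brauerOmega_cenN N hcB R' (θ : cenInf N (R'.map N.subtype) → ℂ)
      have h2 : (fun k => (θ : cenInf N (R'.map N.subtype) → ℂ) (cenNEquiv N R' k)) =
          (irrComp (cenNEquiv N R') θ : Subgroup.centralizer (R' : Set N) → ℂ) := rfl
      rw [← h2, h1]
      exact hloc θ hθ
    have hx' : (⟨x, hxN⟩ : N) ∈ Subgroup.normalizer (R' : Set N) :=
      (mem_normalizer_map_subtype_iff N R' ⟨x, hxN⟩).1 hxNR
    have hst' := (stabilizesBlock_cenN_iff N R' g₃ ⟨x, hxN⟩ hx').2 hxst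
    have hreg' : IsPRegular p (⟨x, hxN⟩ : N) := by
      unfold IsPRegular at hxreg ⊢
      rwa [Subgroup.orderOf_mk]
    have h3 := hnil.2 R' _ hpair ⟨x, hxN⟩ hx' hst' hreg'
    exact (mem_centralizer_map_subtype_iff N R' ⟨x, hxN⟩).2 h3
  · intro hloc
    refine ⟨hc, ?_⟩
    intro R' g₁ hpair x hxN hxst hxreg
    obtain ⟨⟨hR', hg₁⟩, -, hbr⟩ := hpair
    have hg₁eq : irrComp (cenNEquiv N R') '' (irrComp (cenNEquiv N R').symm '' g₁) = g₁ := by
      rw [Set.image_image]
      have : (fun χ => irrComp (cenNEquiv N R') (irrComp (cenNEquiv N R').symm χ)) = id := by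
        funext χ
        exact irrComp_irrComp_symm _ χ
      rw [this, Set.image_id]
    have hst' : StabilizesBlock (cenInf N (R'.map N.subtype))
        (irrComp (cenNEquiv N R').symm '' g₁) (x : G) := by
      rw [← stabilizesBlock_cenN_iff N R' _ x hxN, hg₁eq]
      exact hxst
    have hreg' : IsPRegular p (x : G) := by
      unfold IsPRegular at hxreg ⊢
      rwa [Subgroup.orderOf_coe]
    have h3 := hloc (R'.map N.subtype) (Subgroup.map_subtype_le _) (hR'.map _)
      (irrComp (cenNEquiv N R').symm '' g₁) (isPBlock_image_irrComp _ hg₁) (by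
        rintro _ ⟨ξ₁, hξ₁, rfl⟩
        have h1 := brauerOmega_cenN N hcB R'
          (irrComp (cenNEquiv N R').symm ξ₁ : cenInf N (R'.map N.subtype) → ℂ)
        have h2 : (fun k => (irrComp (cenNEquiv N R').symm ξ₁ :
            cenInf N (R'.map N.subtype) → ℂ) (cenNEquiv N R' k)) =
            (ξ₁ : Subgroup.centralizer (R' : Set N) → ℂ) := by
          funext k
          rw [irrComp_apply, MulEquiv.symm_apply_apply]
        rw [h2] at h1
        rw [← h1]
        exact hbr ξ₁ hξ₁) (x : G) x.2 ((mem_normalizer_map_subtype_iff N R' x).2 hxN) hst' hreg'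
    exact (mem_centralizer_map_subtype_iff N R' x).1 h3

end Bridge

end Cfsg.Agent.Helper23.Blk
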