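import Mathlib
import Cfsg.Agent.Lib.Helper23.BlockDim
import Cfsg.Agent.Lib.Helper23.BlockMinMax
import Cfsg.Agent.Lib.Helper23.BlockFirstMain
import Cfsg.Agent.S4491

/-!
# Real 2-blocks of full defect (helper23's shared library)

A 2-block of full defect stable under a Galois automorphism inverting the odd-order roots of unity
is the principal block.
-/

set_option autoImplicit false
set_option linter.unusedSectionVars false

namespace Cfsg.Agent.Helper23.Blk

open Cfsg Cfsg.Agent.Helper24 Cfsg.Agent.Helper18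
open scoped ComplexConjugate

universe u

section Real

variable {G : Type u} [Group G] [Fintype G] {M : Ideal AlgInt}

/-- the units of `ℤ` act on a group by powers -/
def unitsIntAction (G : Type u) [Group G] : MulAction ℤˣ G where
  smul u g := g ^ (u : ℤ)
  one_smul g := by
    show g ^ ((1 : ℤˣ) : ℤ) = g
    rw [Units.val_one, zpow_one]
  mul_smul u v g := by
    show g ^ ((u * v : ℤˣ) : ℤ) = (g ^ (v : ℤ)) ^ (u : ℤ)
    rw [Units.val_mul, mul_comm, zpow_mul]

theorem isPGroup_two_unitsInt : IsPGroup 2 ℤˣ := by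
  apply IsPGroup.of_card (n := 1)
  rw [Nat.card_eq_fintype_card]
  rfl

/-- a sum of local integers invariant under inversion, with the terms at the involutions and
the identity in the local ideal, lies in the local ideal (for the prime `2`) -/
theorem memLocalIdeal_sum_of_inv_invariant (hM : IsPModular 2 M) (f : G → ℂ)
    (hinv : ∀ g : G, f g⁻¹ = f g) (hR : ∀ g, MemLocalRing M (f g))
    (hfix : ∀ g : G, g⁻¹ = g → MemLocalIdeal M (f g)) :
    MemLocalIdeal M (∑ g, f g) := by
  letI := unitsIntAction G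
  have hsm : ∀ (u : ℤˣ) (g : G), u • g = g ^ (u : ℤ) := fun _ _ => rfl
  apply memLocalIdeal_sum_of_invariant hM isPGroup_two_unitsInt f
  · intro u g
    rcases Int.units_eq_one_or u with rfl | rfl
    · rw [one_smul]
    · rw [hsm, Units.val_neg, Units.val_one, zpow_neg, zpow_one, hinv]
  · exact hR
  · intro g hg
    apply hfix
    have := hg (-1)
    rwa [hsm, Units.val_neg, Units.val_one, zpow_neg, zpow_one] at this

/-- a ratio of natural numbers with equal `2`-parts is congruent to one -/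
theorem memLocalIdeal_div_sub_one (hM : IsPModular 2 M) {A B : ℕ} (hA : A ≠ 0) (hB : B ≠ 0)
    (h : A.factorization 2 = B.factorization 2) :
    MemLocalIdeal M ((A : ℂ) / (B : ℂ) - 1) := by
  haveI hMp : M.IsPrime := hM.2.1.isPrime
  obtain ⟨A', hA'⟩ : 2 ^ A.factorization 2 ∣ A := Nat.ordProj_dvd _ _
  obtain ⟨B', hB'⟩ : 2 ^ B.factorization 2 ∣ B := Nat.ordProj_dvd _ _
  have hnd : ∀ {N N' : ℕ}, N ≠ 0 → N = 2 ^ N.factorization 2 * N' → ¬ 2 ∣ N' := by
    intro N N' hN hN' hd
    obtain ⟨N'', hN''⟩ := hd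
    have h1 : 2 ^ (N.factorization 2 + 1) ∣ N := by
      rw [pow_succ]
      exact ⟨N'', by rw [hN'', ← mul_assoc] at hN'; exact hN'⟩
    have := (Nat.prime_two.pow_dvd_iff_le_factorization hN).1 h1
    omega
  have hA'2 := hnd hA hA'
  have hB'2 := hnd hB hB'
  have hB'0 : B' ≠ 0 := by
    rintro rfl
    exact hB'2 (dvd_zero _)
  have hB'f : B'.factorization 2 = 0 := Nat.factorization_eq_zero_of_not_dvd hB'2
  have hinv := (memLocalRing_natCast_div hM (A := 1) (B := B') one_ne_zero hB'0 (by
    rw [hB'f]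
    exact Nat.zero_le _)).1
  have hdiff : (2 : ℤ) ∣ (A' : ℤ) - (B' : ℤ) := by
    have h1 : (A' : ℤ) % 2 = 1 := by omega
    have h2 : (B' : ℤ) % 2 = 1 := by omega
    omega
  have hJ : MemLocalIdeal M (((A' : ℤ) - (B' : ℤ) : ℤ) : ℂ) :=
    (memLocalIdeal_intCast_iff hM _).2 (by exact_mod_cast hdiff)
  have h2pow : ((2 : ℂ) ^ B.factorization 2) ≠ 0 := pow_ne_zero _ two_ne_zero
  have hB'c : (B' : ℂ) ≠ 0 := by exact_mod_cast hB'0
  have heq : (A : ℂ) / (B : ℂ) - 1 = (((A' : ℤ) - (B' : ℤ) : ℤ) : ℂ) * ((1 : ℕ) / (B' : ℂ)) := by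
    have hAc : (A : ℂ) = (2 : ℂ) ^ B.factorization 2 * (A' : ℂ) := by
      conv_lhs => rw [hA', h]
      push_cast
      ring
    have hBc : (B : ℂ) = (2 : ℂ) ^ B.factorization 2 * (B' : ℂ) := by
      conv_lhs => rw [hB']
      push_cast
      ring
    rw [hAc, hBc]
    push_cast
    field_simp
  rw [heq]
  exact memLocalIdeal_mul_right hJ hinv

/-- the block idempotent of a block stable under `χ ↦ χ ∘ (· ^ k)` is invariant under `g ↦ g ^ k` -/
theorem blockCoeff_pow_of_stable [Fintype (IrrCharacter G)] (k : ℕ)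
    (hk : Nat.Coprime k (Nat.card G)) {B : Set (IrrCharacter G)}
    (hstab : ∀ χ ∈ B, ∃ ψ ∈ B, ∀ g : G, (ψ : G → ℂ) g = (χ : G → ℂ) (g ^ k)) (g : G) :
    blockCoeff B (g ^ k) = blockCoeff B g := by
  classical
  choose τ hτB hτ using hstab
  set e : IrrCharacter G → IrrCharacter G := fun χ => if h : χ ∈ B then τ χ h else χ with he
  have hmaps : Set.MapsTo e B B := by
    intro χ hχ
    simp only [he, dif_pos hχ]
    exact hτB χ hχ
  have hsurj : Function.Surjective (fun x : G => x ^ k) := (powCoprime hk.symm).surjective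
  have hinj : Set.InjOn e B := by
    intro χ₁ h₁ χ₂ h₂ h12
    simp only [he, dif_pos h₁, dif_pos h₂] at h12
    apply Subtype.ext
    funext x
    obtain ⟨y, rfl⟩ := hsurj x
    show (χ₁ : G → ℂ) (y ^ k) = (χ₂ : G → ℂ) (y ^ k)
    rw [← hτ χ₁ h₁ y, ← hτ χ₂ h₂ y, h12]
  have hbij : Set.BijOn e B B :=
    (Set.Finite.injOn_iff_bijOn_of_mapsTo (Set.toFinite B) hmaps).1 hinj
  unfold blockCoeff
  congr 1
  apply finsum_mem_eq_of_bijOn e hbij
  intro χ hχ
  simp only [he, dif_pos hχ]
  rw [hτ χ hχ 1, hτ χ hχ g, one_pow]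

/-- **Real 2-blocks of full defect**: a `2`-block of full defect stable under a Galois
automorphism inverting the odd-order roots of unity contains the principal character. -/
theorem principalChar_mem_of_stable [Fintype (IrrCharacter G)] (hM : IsPModular 2 M) (k : ℕ)
    (hk : Nat.Coprime k (Nat.card G))
    (hk₂ : ∀ g : G, Odd (orderOf g) → g ^ k = g⁻¹) {B : Set (IrrCharacter G)}
    (hB : IsPBlock M B) (hdef : blockDefect 2 B = (Nat.card G).factorization 2)
    (hstab : ∀ χ ∈ B, ∃ ψ ∈ B, ∀ g : G, (ψ : G → ℂ) g = (χ : G → ℂ) (g ^ k)) :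
    principalChar G ∈ B := by
  classical
  haveI hMp : M.IsPrime := hM.2.1.isPrime
  haveI : Fact (Nat.Prime 2) := ⟨Nat.prime_two⟩
  have hpow := blockCoeff_pow_of_stable k hk hstab
  have hsing : ∀ g : G, 2 ∣ orderOf g → blockCoeff B g = 0 := fun g hg =>
    blockCoeff_eq_zero_of_pSingular hM hB hg
  have hodd : ∀ g : G, ¬ 2 ∣ orderOf g → blockCoeff B g⁻¹ = blockCoeff B g := by
    intro g hg
    rw [← hk₂ g (Nat.odd_iff.2 (Nat.two_dvd_ne_zero.1 hg)), hpow]
  -- the pairing
  set f : G → ℂ := fun g => if g = 1 then 0 else blockCoeff B g with hf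
  have hfinv : ∀ g : G, f g⁻¹ = f g := by
    intro g
    simp only [hf, inv_eq_one]
    by_cases hg1 : g = 1
    · rw [if_pos hg1, if_pos hg1]
    · rw [if_neg hg1, if_neg hg1]
      by_cases hg : 2 ∣ orderOf g
      · rw [hsing g hg, hsing g⁻¹ (by rwa [orderOf_inv])]
      · exact hodd g hg
  have hfR : ∀ g, MemLocalRing M (f g) := by
    intro g
    simp only [hf]
    split_ifs
    · exact memLocalRing_zero hMp.ne_top
    · exact memLocalRing_blockCoeff hMp hB g
  have hffix : ∀ g : G, g⁻¹ = g → MemLocalIdeal M (f g) := by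
    intro g hg
    simp only [hf]
    split_ifs with hg1
    · exact memLocalIdeal_zero hMp.ne_top
    · have h2 : g ^ 2 = 1 := by
        rw [sq]
        nth_rw 1 [← hg]
        exact inv_mul_cancel g
      have : orderOf g = 2 := orderOf_eq_prime h2 hg1
      rw [hsing g (by rw [this])]
      exact memLocalIdeal_zero hMp.ne_top
  have hsum := memLocalIdeal_sum_of_inv_invariant hM f hfinv hfR hffix
  have hsum2 : ∑ g, f g = ∑ g, blockCoeff B g - blockCoeff B 1 := by
    rw [← Finset.add_sum_erase _ _ (Finset.mem_univ (1 : G)),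
      ← Finset.add_sum_erase (f := fun g => blockCoeff B g) _ (Finset.mem_univ (1 : G))]
    have : ∑ x ∈ Finset.univ.erase (1 : G), f x =
        ∑ x ∈ Finset.univ.erase (1 : G), blockCoeff B x := by
      refine Finset.sum_congr rfl fun x hx => ?_
      simp only [hf]
      rw [if_neg (Finset.ne_of_mem_erase hx)]
    rw [this]
    simp only [hf, if_true]
    ring
  rw [hsum2] at hsum
  -- the sum of all coefficients
  have hom := omega_blockCoeff (principalChar G) B
  have hom2 : omega ((principalChar G : IrrCharacter G) : G → ℂ) (blockCoeff B) =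
      ∑ g, blockCoeff B g := by
    unfold omega
    simp only [principalChar, mul_one, div_one]
  rw [hom2] at hom
  -- the coefficient at the identity
  have hne : B.Nonempty := block_nonempty hM hB
  have hN : (∑ᶠ χ ∈ B, charDegree (χ : G → ℂ) ^ 2).factorization 2 =
      (Nat.card G).factorization 2 := by
    have := Cfsg.Agent.S4491.result 2 M hM B hB
    rw [this, hdef]
    omega
  have hG0 : Nat.card G ≠ 0 := (Nat.card_pos (α := G)).ne'
  have hGc : (Nat.card G : ℂ) ≠ 0 := by exact_mod_cast hG0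
  have hN0 : (∑ᶠ χ ∈ B, charDegree (χ : G → ℂ) ^ 2) ≠ 0 := by
    intro h0
    have h1 := blockReg_one B
    rw [h0, Nat.cast_zero] at h1
    obtain ⟨ψ, hψ⟩ := hne
    have h2 := classInner_blockReg B ψ
    rw [if_pos hψ] at h2
    -- `blockReg B 1 = 0` contradicts positivity; use the defect identity instead
    have h3 : (0 : ℕ).factorization 2 = (Nat.card G).factorization 2 := by rw [← h0]; exact hN
    have h4 : (∑ᶠ χ ∈ B, charDegree (χ : G → ℂ) ^ 2) ≥ charDegree (ψ : G → ℂ) ^ 2 := by
      rw [finsum_mem_eq_finite_toFinset_sum _ (Set.toFinite B)]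
      exact Finset.single_le_sum (f := fun χ : IrrCharacter G => charDegree (χ : G → ℂ) ^ 2)
        (fun _ _ => Nat.zero_le _) ((Set.Finite.mem_toFinset _).2 hψ)
    have h5 : charDegree (ψ : G → ℂ) ≠ 0 := by
      intro h0'
      have := irr_one_ne_zero ψ.2
      rw [irr_one_eq_charDegree ψ.2, h0'] at this
      exact this (by simp)
    have h6 : 0 < charDegree (ψ : G → ℂ) ^ 2 := by positivity
    omega
  have ha1 : blockCoeff B 1 = ((∑ᶠ χ ∈ B, charDegree (χ : G → ℂ) ^ 2 : ℕ) : ℂ) /
      (Nat.card G : ℂ) := by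
    have h1 := blockReg_eq_conj_blockCoeff B 1
    rw [blockReg_one] at h1
    have h2 := congrArg conj h1
    rw [Complex.conj_natCast, map_mul, Complex.conj_natCast, Complex.conj_conj] at h2
    rw [h2]
    field_simp
  have hcong := memLocalIdeal_div_sub_one hM hN0 hG0 hN
  rw [← ha1] at hcong
  by_contra hcon
  rw [if_neg hcon] at hom
  rw [hom, zero_sub] at hsum
  have h1 := memLocalIdeal_add hsum hcong
  have h2 : -blockCoeff B 1 + (blockCoeff B 1 - 1) = -1 := by ring
  rw [h2] at h1
  have h3 := memLocalIdeal_neg h1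
  rw [neg_neg] at h3
  exact not_memLocalIdeal_one h3

/-- the principal block from the principal character -/
theorem eq_principalBlock_of_mem [hMp : M.IsPrime] {B : Set (IrrCharacter G)}
    (hB : IsPBlock M B) (h : principalChar G ∈ B) : B = principalBlock M G := by
  obtain ⟨χ₀, rfl⟩ := hB
  exact (blockOf_eq_of_mem h).symm

/-- the complex conjugate of an irreducible character -/
noncomputable def starIrr (χ : IrrCharacter G) : IrrCharacter G :=
  ⟨fun g => conj ((χ : G → ℂ) g), by
    letI : Fintype (IrrCharacter G) := irrFintype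
    exact isIrrCharacter_conj χ.2⟩

theorem starIrr_apply (χ : IrrCharacter G) (g : G) :
    (starIrr χ : G → ℂ) g = conj ((χ : G → ℂ) g) := rfl

theorem centralizer_inv (g : G) :
    Subgroup.centralizer ({g⁻¹} : Set G) = Subgroup.centralizer ({g} : Set G) := by
  ext x
  simp only [Subgroup.mem_centralizer_iff, Set.mem_singleton_iff, forall_eq]
  constructor
  · intro h
    have h1 : x * g⁻¹ = g⁻¹ * x := h.symm
    calc g * x = g * (x * g⁻¹) * g := by group
      _ = g * (g⁻¹ * x) * g := by rw [h1]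
      _ = x * g := by group
  · intro h
    have h1 : x * g = g * x := h.symm
    calc g⁻¹ * x = g⁻¹ * (x * g) * g⁻¹ := by group
      _ = g⁻¹ * (g * x) * g⁻¹ := by rw [h1]
      _ = x * g⁻¹ := by group

theorem centralChar_starIrr (χ : IrrCharacter G) (g : G) :
    centralChar (starIrr χ : G → ℂ) g = centralChar (χ : G → ℂ) g⁻¹ := by
  unfold centralChar
  rw [centralizer_inv, starIrr_apply, starIrr_apply,
    ← irr_inv (isCharacter_of_isIrrCharacter χ.2) g,
    ← irr_inv (isCharacter_of_isIrrCharacter χ.2) 1, inv_one]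

theorem sameBlock_starIrr {χ ξ : IrrCharacter G} (h : SameBlock M (χ : G → ℂ) (ξ : G → ℂ)) :
    SameBlock M (starIrr χ : G → ℂ) (starIrr ξ : G → ℂ) := by
  intro g
  rw [centralChar_starIrr, centralChar_starIrr]
  exact h g⁻¹

/-- complex conjugation is the Galois action of `k = |G| - 1` -/
theorem conj_stable (B : Set (IrrCharacter G)) (hconj : ∀ χ ∈ B, starIrr χ ∈ B) :
    Nat.Coprime (Nat.card G - 1) (Nat.card G) ∧
    (∀ g : G, g ^ (Nat.card G - 1) = g⁻¹) ∧
    ∀ χ ∈ B, ∃ ψ ∈ B, ∀ g : G, (ψ : G → ℂ) g = (χ : G → ℂ) (g ^ (Nat.card G - 1)) := by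
  have hpos : 1 ≤ Nat.card G := Nat.card_pos
  have hpow : ∀ g : G, g ^ (Nat.card G - 1) = g⁻¹ := by
    intro g
    apply eq_inv_of_mul_eq_one_left
    rw [← pow_succ, Nat.sub_add_cancel hpos, pow_card_eq_one']
  refine ⟨?_, hpow, ?_⟩
  · have h1 : Nat.Coprime (Nat.card G - 1) (1 + (Nat.card G - 1)) :=
      Nat.coprime_add_self_right.2 (Nat.coprime_one_right _)
    rwa [Nat.add_sub_cancel' hpos] at h1
  · intro χ hχ
    refine ⟨starIrr χ, hconj χ hχ, fun g => ?_⟩
    rw [hpow, irr_inv (isCharacter_of_isIrrCharacter χ.2), starIrr_apply]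

end Real

end Cfsg.Agent.Helper23.Blk
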