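import Mathlib
import Cfsg.Agent.Lib.Helper23.BlockRows

/-!
# Brauer–Feit complements (helper23's shared library)

Heights are at most `d - 2` when positive, and `2 k(B) ≤ p^(2d-2)` for a block with a character
of positive height.
-/

set_option autoImplicit false
set_option linter.unusedSectionVars false

namespace Cfsg.Agent.Helper23.Blk

open Cfsg Cfsg.Agent.Helper24 Cfsg.Agent.Helper18
open scoped ComplexConjugate

universe u

section Rows2

variable {G : Type u} [Group G] [Fintype G] {M : Ideal AlgInt} {p : ℕ}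
variable [Fact p.Prime] [Fintype (IrrCharacter G)]

/-- **Brauer–Feit**: a positive height is at most `d - 2` -/
theorem height_add_two_le (hM : IsPModular p M) {B : Set (IrrCharacter G)} (hB : IsPBlock M B)
    {χ : IrrCharacter G} (hχ : χ ∈ B) (h0 : blockHeight p B (χ : G → ℂ) ≠ 0) :
    blockHeight p B (χ : G → ℂ) + 2 ≤ blockDefect p B := by
  have hp : p.Prime := Fact.out
  haveI hMp : M.IsPrime := hM.2.1.isPrime
  set a := (Nat.card G).factorization p with ha
  set e := (charDegree (χ : G → ℂ)).factorization p with he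
  have hdvd := nInt_self_of_height_pos hM hB hχ h0
  have hpos := nInt_self_pos (p := p) χ
  have hle := nInt_self_le (p := p) χ
  have hne : nInt p χ χ ≠ ((p ^ a : ℕ) : ℤ) := by
    intro heq
    have hv := vanish_of_nInt_self_eq χ heq
    have h7 := not_dvd_card_div_degree_of_vanish (p := p) χ.2 hv
    have h8 := (not_dvd_iff_blockOf_eq_singleton hM χ).1 h7
    have h9 : B = blockOf M (χ : G → ℂ) := by
      obtain ⟨χ₀, rfl⟩ := hB
      exact (blockOf_eq_of_mem hχ).symm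
    apply h0
    rw [blockHeight_eq_zero_iff hχ]
    intro ψ hψ
    rw [h9, h8] at hψ
    rw [Set.mem_singleton_iff.1 hψ]
  have hlt : nInt p χ χ < ((p ^ a : ℕ) : ℤ) := lt_of_le_of_ne hle hne
  have h1 : ((p : ℤ) ^ (e + 1)) ≤ nInt p χ χ := Int.le_of_dvd hpos hdvd
  have h2 : ((p ^ (e + 1) : ℕ) : ℤ) < ((p ^ a : ℕ) : ℤ) := by
    push_cast
    push_cast at hlt
    exact lt_of_le_of_lt h1 hlt
  have h3 : p ^ (e + 1) < p ^ a := by exact_mod_cast h2
  have h4 : e + 1 < a := (Nat.pow_lt_pow_iff_right hp.one_lt).1 h3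
  have h5 := minVal_le (p := p) hχ
  rw [blockHeight_eq_sub_minVal, blockDefect_eq_sub_minVal]
  omega

/-- **Brauer–Feit**: a block with a character of positive height -/
theorem two_mul_card_le (hM : IsPModular p M) {B : Set (IrrCharacter G)} (hB : IsPBlock M B)
    {χ : IrrCharacter G} (hχ : χ ∈ B) (h0 : blockHeight p B (χ : G → ℂ) ≠ 0) :
    2 * Nat.card B ≤ p ^ (2 * blockDefect p B - 2) := by
  classical
  have hp : p.Prime := Fact.out
  haveI hMp : M.IsPrime := hM.2.1.isPrime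
  have hd2 := height_add_two_le hM hB hχ h0
  have hA := sum_pow_height_le hM hB
  set d := blockDefect p B with hd
  set h := blockHeight p B (χ : G → ℂ) with hh
  have hh1 : 1 ≤ h := Nat.one_le_iff_ne_zero.2 h0
  -- the row of `χ`
  obtain ⟨m, hm, hsum⟩ := exists_row (p := p) hχ
  set e := minVal p B with he
  have hd' : (Nat.card G).factorization p - e = d := rfl
  rw [hd'] at hsum
  have hpe0 : ((p ^ e : ℕ) : ℤ) ≠ 0 := by
    have : p ^ e ≠ 0 := pow_ne_zero _ hp.ne_zero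
    exact_mod_cast this
  have hle := minVal_le (p := p) hχ
  -- all entries are divisible by `p ^ h`
  have hmdvd : ∀ ξ, ((p ^ h : ℕ) : ℤ) ∣ m ξ := by
    intro ξ
    have h1 := nInt_dvd_left (p := p) χ ξ
    rw [hm ξ] at h1
    have h2 : ((p ^ (charDegree (χ : G → ℂ)).factorization p : ℕ) : ℤ) =
        ((p ^ e : ℕ) : ℤ) * ((p ^ h : ℕ) : ℤ) := by
      rw [hh, blockHeight_eq_sub_minVal, ← Nat.cast_mul, ← pow_add, Nat.add_sub_cancel' hle]
    rw [h2] at h1
    exact (mul_dvd_mul_iff_left hpe0).1 h1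
  -- height zero entries do not vanish
  have hent : ∀ ξ ∈ B, blockHeight p B (ξ : G → ℂ) = 0 →
      ((p ^ 2 : ℕ) : ℤ) ≤ (m ξ) ^ 2 := by
    intro ξ hξ hξ0
    obtain ⟨hn0, -⟩ := nInt_height_zero hM hB hξ hξ0 hχ
    rw [← nInt_symm, hm ξ] at hn0
    have hm0 : m ξ ≠ 0 := by
      intro hz
      apply hn0
      rw [hz, mul_zero]
    have h1 := pow_le_sq_of_dvd hm0 (hmdvd ξ)
    have h2 : ((p ^ 2 : ℕ) : ℤ) ≤ ((p ^ (2 * h) : ℕ) : ℤ) := by
      have : p ^ 2 ≤ p ^ (2 * h) := Nat.pow_le_pow_right hp.pos (by omega)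
      exact_mod_cast this
    exact h2.trans h1
  -- the number of height zero characters
  set K₀ : Finset (IrrCharacter G) :=
    B.toFinset.filter (fun ξ : IrrCharacter G => blockHeight p B (ξ : G → ℂ) = 0) with hK₀
  have hχK : χ ∉ K₀ := by
    intro hc
    exact h0 (Finset.mem_filter.1 hc).2
  have hB1 : 4 * ((K₀.card : ℤ) * ((p ^ 2 : ℕ) : ℤ)) ≤ ((p ^ d : ℕ) : ℤ) ^ 2 := by
    have h1 : (K₀.card : ℤ) * ((p ^ 2 : ℕ) : ℤ) ≤ ∑ ξ ∈ K₀, (m ξ) ^ 2 := by
      have : ∑ ξ ∈ K₀, ((p ^ 2 : ℕ) : ℤ) ≤ ∑ ξ ∈ K₀, (m ξ) ^ 2 := by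
        apply Finset.sum_le_sum
        intro ξ hξ
        obtain ⟨hξB, hξ0⟩ := Finset.mem_filter.1 hξ
        exact hent ξ (Set.mem_toFinset.1 hξB) hξ0
      rw [Finset.sum_const, nsmul_eq_mul] at this
      exact this
    have h2 : ∑ ξ ∈ K₀, (m ξ) ^ 2 + (m χ) ^ 2 ≤ ∑ ξ : IrrCharacter G, (m ξ) ^ 2 := by
      rw [← Finset.sum_insert hχK (f := fun ξ => (m ξ) ^ 2) |>.trans (add_comm _ _)]
      exact Finset.sum_le_sum_of_subset_of_nonneg (Finset.subset_univ _)
        (fun ξ _ _ => sq_nonneg _)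
    rw [hsum] at h2
    have h3 := four_mul_le_sq (((p ^ d : ℕ) : ℤ)) (m χ)
    nlinarith
  -- the weighted sum
  have hfin : (∑ᶠ ξ ∈ B, p ^ (2 * blockHeight p B (ξ : G → ℂ))) =
      ∑ ξ ∈ B.toFinset, p ^ (2 * blockHeight p B (ξ : G → ℂ)) := by
    rw [finsum_mem_eq_finite_toFinset_sum _ (Set.toFinite B)]
    congr 1
    ext ξ
    simp
  rw [hfin] at hA
  have hcard : Nat.card B = B.toFinset.card := by
    rw [Nat.card_eq_fintype_card, Set.toFinset_card]
  have hterm : ∀ ξ ∈ B.toFinset, p ^ 2 ≤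
      (p ^ 2 - 1) * (if blockHeight p B (ξ : G → ℂ) = 0 then 1 else 0) +
        p ^ (2 * blockHeight p B (ξ : G → ℂ)) := by
    intro ξ _
    have hp2 : 1 ≤ p ^ 2 := Nat.one_le_pow _ _ hp.pos
    by_cases hξ0 : blockHeight p B (ξ : G → ℂ) = 0
    · rw [if_pos hξ0, hξ0]
      simp only [mul_one, mul_zero, pow_zero]
      omega
    · rw [if_neg hξ0, mul_zero, zero_add]
      exact Nat.pow_le_pow_right hp.pos (by omega)
  have hS : B.toFinset.card * p ^ 2 ≤ (p ^ 2 - 1) * K₀.card +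
      ∑ ξ ∈ B.toFinset, p ^ (2 * blockHeight p B (ξ : G → ℂ)) := by
    have := Finset.sum_le_sum hterm
    rw [Finset.sum_const, smul_eq_mul, Finset.sum_add_distrib, ← Finset.mul_sum,
      Finset.sum_boole] at this
    simpa [hK₀] using this
  -- at least one character of height zero
  have hK1 : 1 ≤ K₀.card := by
    have hne : B.Nonempty := ⟨χ, hχ⟩
    obtain ⟨ψ, hψ, hmin⟩ := exists_min_degree (p := p) hne
    have hψ0 : blockHeight p B (ψ : G → ℂ) = 0 := (blockHeight_eq_zero_iff hψ).2 hmin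
    exact Finset.card_pos.2 ⟨ψ, Finset.mem_filter.2 ⟨Set.mem_toFinset.2 hψ, hψ0⟩⟩
  -- combine
  have hp2 : 1 ≤ p ^ 2 := Nat.one_le_pow _ _ hp.pos
  have hB2 : 4 * (K₀.card * p ^ 2) ≤ p ^ (2 * d) := by
    have : ((4 * (K₀.card * p ^ 2) : ℕ) : ℤ) ≤ ((p ^ (2 * d) : ℕ) : ℤ) := by
      push_cast
      push_cast at hB1
      rw [pow_mul']
      exact hB1
    exact_mod_cast this
  have hsplit : p ^ (2 * d) = p ^ 2 * p ^ (2 * d - 2) := by
    rw [← pow_add]
    congr 1
    omega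
  rw [hcard]
  set k := B.toFinset.card with hk
  set S := ∑ ξ ∈ B.toFinset, p ^ (2 * blockHeight p B (ξ : G → ℂ)) with hSdef
  set X := p ^ (2 * d - 2) with hX
  set k₀ := K₀.card with hk₀
  set q := p ^ 2 with hq
  have hq4 : 4 ≤ q := by
    have : 2 ≤ p := hp.two_le
    rw [hq]
    nlinarith
  -- `4 k q ≤ 4 (q - 1) k₀ + 4 S ≤ 4 (q-1) k₀ + q X + 4`, and `4 k₀ q ≤ q X`
  rw [hsplit] at hA hB2
  have hqz : (q - 1 : ℕ) + 1 = q := Nat.sub_add_cancel (by omega)
  have h6 : 2 * k * q ≤ q * X := by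
    have e1 : (q - 1) * k₀ + k₀ = q * k₀ := by
      calc (q - 1) * k₀ + k₀ = ((q - 1) + 1) * k₀ := by ring
        _ = q * k₀ := by rw [hqz]
    nlinarith
  have hq0 : 0 < q := by omega
  have : 2 * k * q ≤ X * q := by rw [mul_comm X q]; exact h6
  exact Nat.le_of_mul_le_mul_right this hq0

end Rows2

end Cfsg.Agent.Helper23.Blk
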