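import Mathlib
import Cfsg.Prelude.Def_Characters
import Cfsg.Agent.Lib.Helper24.CharHom
import Cfsg.Agent.Lib.Helper24.CharComplete
import Cfsg.Agent.Lib.Helper24.CdPFinal
import Cfsg.Agent.Lib.Helper23.Schur

/-!
# Groups of central type as quotients by the kernel of a character (helper23's shared library)
-/

set_option autoImplicit false
set_option linter.unusedSectionVars false
set_option linter.style.haveILetI false

namespace Cfsg.Agent.Helper23.MGrp

open Cfsg Cfsg.Agent.Helper24
open scoped ComplexConjugate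

universe u

section CT

variable {W : Type u} [Group W] [Finite W]

/-- If the irreducible character `χ` satisfies `[𝒵, W] ≤ ker χ` and `|𝒵| χ(1)² = |W|`, then
`W / ker χ` has a faithful irreducible character fully ramified over its centre, which is the
image of `𝒵`. -/
theorem central_type_quotient {χ : W → ℂ} (hχ : IsIrrCharacter W χ) (Z : Subgroup W)
    (hcomm : ∀ w ∈ Z, ∀ g : W, χ (w * g * w⁻¹ * g⁻¹) = χ 1)
    (hcard' : Nat.card W ≤ Nat.card Z * charDegree χ ^ 2)
    (K : Subgroup W) [K.Normal] (hK : ∀ w : W, w ∈ K ↔ χ w = χ 1) :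
    ∃ ψ : W ⧸ K → ℂ, IsIrrCharacter (W ⧸ K) ψ ∧ (∀ w : W, ψ (w : W ⧸ K) = χ w) ∧
      (∀ h : W ⧸ K, ψ h = ψ 1 → h = 1) ∧
      charDegree ψ ^ 2 = (Subgroup.center (W ⧸ K)).index ∧
      Subgroup.center (W ⧸ K) = Z.map (QuotientGroup.mk' K) ∧ K ≤ Z := by
  classical
  obtain ⟨ψ, hψ, hχψ⟩ := exists_deflate K hχ (fun n hn => (hK n).mp hn)
  have hval : ∀ w : W, ψ (w : W ⧸ K) = χ w := fun w => (congrFun hχψ w).symm
  have hfaith : ∀ h : W ⧸ K, ψ h = ψ 1 → h = 1 := by
    intro h hh
    obtain ⟨w, rfl⟩ := QuotientGroup.mk_surjective h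
    rw [hval, ← QuotientGroup.mk_one, hval] at hh
    exact (QuotientGroup.eq_one_iff w).mpr ((hK w).mpr hh)
  have hdeg : charDegree ψ = charDegree χ := by
    unfold charDegree
    rw [← QuotientGroup.mk_one, hval]
  set I : Subgroup (W ⧸ K) := Z.map (QuotientGroup.mk' K) with hI
  have hIc : I ≤ Subgroup.center (W ⧸ K) := by
    rintro _ ⟨w, hw, rfl⟩
    rw [Subgroup.mem_center_iff]
    intro h
    obtain ⟨g, rfl⟩ := QuotientGroup.mk_surjective h
    have h1 : w * g * w⁻¹ * g⁻¹ ∈ K := (hK _).mpr (hcomm w hw g)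
    have h2 : ((w * g * w⁻¹ * g⁻¹ : W) : W ⧸ K) = 1 := (QuotientGroup.eq_one_iff _).mpr h1
    simp only [QuotientGroup.mk'_apply]
    rw [QuotientGroup.mk_mul, QuotientGroup.mk_mul, QuotientGroup.mk_mul, QuotientGroup.mk_inv,
      QuotientGroup.mk_inv] at h2
    have h3 : (w : W ⧸ K) * (g : W ⧸ K) = (w : W ⧸ K) * (g : W ⧸ K) * (w : W ⧸ K)⁻¹ *
        (g : W ⧸ K)⁻¹ * ((g : W ⧸ K) * (w : W ⧸ K)) := by group
    rw [h3, h2, one_mul]
  -- cardinalities
  have hA := Cfsg.Agent.Helper24.CdP.degree_sq_le_center_index hψ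
  have hB : Nat.card I ≤ Nat.card (Subgroup.center (W ⧸ K)) := Subgroup.card_le_of_le hIc
  have hC : Nat.card Z ≤ Nat.card I * Nat.card K := by
    let f : Z →* W ⧸ K := (QuotientGroup.mk' K).comp Z.subtype
    have hr : f.range = I := by
      rw [hI, MonoidHom.range_comp, Subgroup.range_subtype]
    have h1 : Nat.card f.ker * Nat.card f.range = Nat.card Z := by
      rw [← Subgroup.index_ker f]
      exact Subgroup.card_mul_index f.ker
    have h2 : Nat.card f.ker ≤ Nat.card K := by
      apply Nat.card_le_card_of_injective (fun x : f.ker => (⟨(x : Z), by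
        have := x.2
        rw [MonoidHom.mem_ker] at this
        exact (QuotientGroup.eq_one_iff _).mp this⟩ : K))
      intro a b hab
      have := congrArg (fun k : K => (k : W)) hab
      exact Subtype.ext (Subtype.ext this)
    rw [← h1, hr, mul_comm]
    exact Nat.mul_le_mul_left _ h2
  have hD : Nat.card (W ⧸ K) * Nat.card K = Nat.card W := by
    rw [mul_comm]
    exact (Subgroup.card_eq_card_quotient_mul_card_subgroup K).symm ▸ (mul_comm _ _)
  have hE := Subgroup.card_mul_index (Subgroup.center (W ⧸ K))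
  set d := charDegree χ with hd
  set z := Nat.card (Subgroup.center (W ⧸ K)) with hz
  set i := Nat.card I with hi
  set k := Nat.card K with hk
  set ix := (Subgroup.center (W ⧸ K)).index with hix
  rw [hdeg] at hA
  have hkpos : 0 < k := Nat.card_pos
  have hzpos : 0 < z := Nat.card_pos
  have hdpos : 0 < d := charDegree_pos hχ
  have hZpos : 0 < Nat.card Z := Nat.card_pos
  -- chain of inequalities
  have c1 : Nat.card Z * d ^ 2 ≤ i * k * d ^ 2 := Nat.mul_le_mul_right _ hC
  have c2 : i * k * d ^ 2 ≤ z * k * d ^ 2 :=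
    Nat.mul_le_mul_right _ (Nat.mul_le_mul_right _ hB)
  have c3 : z * k * d ^ 2 ≤ z * k * ix := Nat.mul_le_mul_left _ hA
  have c4 : z * k * ix = Nat.card W := by
    rw [← hD, ← hE]
    ring
  have hcard : Nat.card Z * d ^ 2 = Nat.card W :=
    le_antisymm (c1.trans (c2.trans (c3.trans c4.le))) hcard'
  have e1 : z * k * d ^ 2 = z * k * ix := by
    apply le_antisymm c3
    rw [c4, ← hcard]
    exact c1.trans c2
  have e2 : i * k * d ^ 2 = z * k * d ^ 2 := by
    apply le_antisymm c2
    rw [e1, c4, ← hcard]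
    exact c1
  have e3 : Nat.card Z * d ^ 2 = i * k * d ^ 2 := by
    apply le_antisymm c1
    rw [e2, e1, c4, ← hcard]
  have hdd : 0 < d ^ 2 := pow_pos hdpos 2
  have f1 : d ^ 2 = ix := Nat.eq_of_mul_eq_mul_left (Nat.mul_pos hzpos hkpos) e1
  have f2 : i = z := by
    have := Nat.eq_of_mul_eq_mul_right hdd e2
    exact Nat.eq_of_mul_eq_mul_right hkpos this
  have f3 : Nat.card Z = i * k := Nat.eq_of_mul_eq_mul_right hdd e3
  have hIeq : I = Subgroup.center (W ⧸ K) :=
    Subgroup.eq_of_le_of_card_ge hIc (by rw [← hi, ← hz, f2])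
  refine ⟨ψ, hψ, hval, hfaith, ?_, hIeq.symm, ?_⟩
  · rw [hdeg]
    exact f1
  · -- K ≤ Z
    have hZK : Nat.card (Z ⊔ K : Subgroup W) = i * k := by
      have h1 : (Z ⊔ K : Subgroup W) = I.comap (QuotientGroup.mk' K) := by
        rw [hI, QuotientGroup.comap_map_mk', sup_comm]
      have h2 : Nat.card (I.comap (QuotientGroup.mk' K)) = Nat.card I * Nat.card K := by
        have hle : K ≤ I.comap (QuotientGroup.mk' K) := by
          intro x hx
          rw [Subgroup.mem_comap, QuotientGroup.mk'_apply, (QuotientGroup.eq_one_iff x).mpr hx]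
          exact I.one_mem
        have hs : Function.Surjective (QuotientGroup.mk' K) := QuotientGroup.mk'_surjective K
        have h3 := Subgroup.card_mul_index (I.comap (QuotientGroup.mk' K))
        have h4 : (I.comap (QuotientGroup.mk' K)).index = I.index :=
          Subgroup.index_comap_of_surjective I hs
        have h5 := Subgroup.card_mul_index I
        have h6 : Nat.card (I.comap (QuotientGroup.mk' K)) * I.index =
            Nat.card I * Nat.card K * I.index := by
          rw [← h4, h3, ← hD, ← h5, h4]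
          ring
        have hipos : 0 < I.index := Nat.pos_of_ne_zero (Subgroup.index_ne_zero_of_finite)
        exact Nat.eq_of_mul_eq_mul_right hipos h6
      rw [h1, h2]
    have hle : Z ≤ Z ⊔ K := le_sup_left
    have heq : Z = Z ⊔ K :=
      Subgroup.eq_of_le_of_card_ge hle (by rw [hZK, f3])
    rw [heq]
    exact le_sup_right

end CT

section Cyc

variable {H : Type u} [Group H] [Finite H]

/-- the centre of a group with a faithful irreducible character is cyclic -/
theorem center_cyclic_of_faithful {ψ : H → ℂ} (hψ : IsIrrCharacter H ψ)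
    (hfaith : ∀ h : H, ψ h = ψ 1 → h = 1) : IsCyclic (Subgroup.center H) := by
  have h1 : ψ 1 ≠ 0 := Cfsg.Agent.Helper23.irr_one_ne_zero ψ hψ
  let f : Subgroup.center H →* ℂ :=
    { toFun := fun z => ψ z / ψ 1
      map_one' := by
        show ψ ((1 : Subgroup.center H) : H) / ψ 1 = 1
        rw [Subgroup.coe_one, div_self h1]
      map_mul' := by
        intro a b
        show ψ ((a * b : Subgroup.center H) : H) / ψ 1 = ψ a / ψ 1 * (ψ b / ψ 1)
        rw [Subgroup.coe_mul, Cfsg.Agent.Helper23.irr_central_mul ψ hψ a a.2 b]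
        ring }
  apply isCyclic_of_injective_ringHom f
  intro a b hab
  have h2 : ψ ((a * b⁻¹ : Subgroup.center H) : H) = ψ 1 := by
    rw [Subgroup.coe_mul, Cfsg.Agent.Helper23.irr_central_mul ψ hψ a a.2]
    have h3 : ψ (a : H) / ψ 1 = ψ (b : H) / ψ 1 := hab
    rw [h3, ← Cfsg.Agent.Helper23.irr_central_mul ψ hψ b b.2, ← Subgroup.coe_mul, mul_inv_cancel,
      Subgroup.coe_one]
  have h4 := hfaith _ h2
  have h5 : a * b⁻¹ = 1 := Subtype.ext h4
  exact mul_inv_eq_one.mp h5

theorem card_dvd_of_forall_pow {S : Type u} [Group S] [Finite S] [IsCyclic S] {m : ℕ}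
    (h : ∀ y : S, y ^ m = 1) : Nat.card S ∣ m := by
  rw [← IsCyclic.exponent_eq_card]
  exact Monoid.exponent_dvd_of_forall_pow_eq_one h

theorem prime_dvd_card_of_mem (S : Subgroup H) {p : ℕ} (hp : p.Prime) {x : H} (hx : x ∈ S)
    (hx1 : x ≠ 1) (hxp : x ^ p = 1) : p ∣ Nat.card S := by
  haveI : Fact p.Prime := ⟨hp⟩
  have h1 : orderOf (⟨x, hx⟩ : S) = p := by
    apply orderOf_eq_prime
    · apply Subtype.ext
      rw [Subgroup.coe_pow, Subgroup.coe_one]
      exact hxp
    · intro h
      exact hx1 (congrArg Subtype.val h)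
  rw [← h1]
  exact orderOf_dvd_natCard _

end Cyc

section Lift

variable {W : Type u} [Group W] (Z K : Subgroup W) [K.Normal]

/-- the projection to the central quotient of `W ⧸ K` -/
def ctProj : W →* (W ⧸ K) ⧸ Subgroup.center (W ⧸ K) :=
  (QuotientGroup.mk' (Subgroup.center (W ⧸ K))).comp (QuotientGroup.mk' K)

variable {Z K}

theorem ctProj_eq_one_iff (hcen : Subgroup.center (W ⧸ K) = Z.map (QuotientGroup.mk' K))
    (hKZ : K ≤ Z) (w : W) : ctProj K w = 1 ↔ w ∈ Z := by
  unfold ctProj
  rw [MonoidHom.comp_apply, QuotientGroup.mk'_apply, QuotientGroup.eq_one_iff, hcen,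
    Subgroup.mem_map]
  constructor
  · rintro ⟨w', hw', h⟩
    rw [QuotientGroup.mk'_apply, QuotientGroup.mk'_apply, QuotientGroup.eq] at h
    have h1 : w = w' * (w'⁻¹ * w) := by group
    rw [h1]
    exact Z.mul_mem hw' (hKZ h)
  · intro hw
    exact ⟨w, hw, rfl⟩

/-- a map that is multiplicative modulo `Z` induces a homomorphism to the central quotient -/
noncomputable def ctLift (hcen : Subgroup.center (W ⧸ K) = Z.map (QuotientGroup.mk' K))
    (hKZ : K ≤ Z) {X : Type*} [Group X] (L : X → W)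
    (hL : ∀ x y : X, ∃ δ ∈ Z, L (x * y) = δ * (L x * L y)) :
    X →* (W ⧸ K) ⧸ Subgroup.center (W ⧸ K) :=
  MonoidHom.mk' (fun x => ctProj K (L x)) (by
    intro x y
    obtain ⟨δ, hδ, h⟩ := hL x y
    show ctProj K (L (x * y)) = ctProj K (L x) * ctProj K (L y)
    rw [h, map_mul, map_mul, (ctProj_eq_one_iff hcen hKZ δ).mpr hδ, one_mul])

theorem ctLift_apply (hcen : Subgroup.center (W ⧸ K) = Z.map (QuotientGroup.mk' K))
    (hKZ : K ≤ Z) {X : Type*} [Group X] (L : X → W)
    (hL : ∀ x y : X, ∃ δ ∈ Z, L (x * y) = δ * (L x * L y)) (x : X) :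
    ctLift hcen hKZ L hL x = ctProj K (L x) := rfl

theorem ctLift_injective (hcen : Subgroup.center (W ⧸ K) = Z.map (QuotientGroup.mk' K))
    (hKZ : K ≤ Z) {X : Type*} [Group X] (L : X → W)
    (hL : ∀ x y : X, ∃ δ ∈ Z, L (x * y) = δ * (L x * L y))
    (hinj : ∀ x : X, L x ∈ Z → x = 1) : Function.Injective (ctLift hcen hKZ L hL) := by
  rw [injective_iff_map_eq_one]
  intro x hx
  rw [ctLift_apply, ctProj_eq_one_iff hcen hKZ] at hx
  exact hinj x hx

end Lift

end Cfsg.Agent.Helper23.MGrp
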