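import Mathlib
import Cfsg.Prelude.Def_Characters
import Cfsg.Agent.Lib.Helper24.CharAlgebra
import Cfsg.Agent.Lib.Helper24.CharHom
import Cfsg.Agent.Lib.Helper24.CharComplete
import Cfsg.Agent.Lib.Helper24.CharInduced
import Cfsg.Agent.Lib.Helper24.CharOrtho

/-!
# Characters of a finite power `Q → M` of a finite group (helper23's shared library)

Products of characters of the factors, their inner products, the classification of the
irreducible characters of the power, and induction from a product of subgroups.
-/

set_option autoImplicit false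
set_option linter.unusedSectionVars false
set_option linter.style.haveILetI false

namespace Cfsg.Agent.Helper23.MGrp

open Cfsg Cfsg.Agent.Helper24
open scoped ComplexConjugate

universe u v

section PiChar

variable {M : Type u} [Group M] [Fintype M] {Q : Type v} [Fintype Q] [DecidableEq Q]

/-- the (outer tensor) product of a family of functions on `M`, as a function on `Q → M` -/
noncomputable def prodChar (θ : Q → M → ℂ) : (Q → M) → ℂ := fun f => ∏ q, θ q (f q)

theorem prodChar_apply (θ : Q → M → ℂ) (f : Q → M) : prodChar θ f = ∏ q, θ q (f q) := rfl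

theorem isCharacter_prodChar {θ : Q → M → ℂ} (h : ∀ q, IsCharacter M (θ q)) :
    IsCharacter (Q → M) (prodChar θ) := by
  classical
  have key : ∀ s : Finset Q, IsCharacter (Q → M) (fun f => ∏ q ∈ s, θ q (f q)) := by
    intro s
    induction s using Finset.induction_on with
    | empty =>
      simp only [Finset.prod_empty]
      exact isCharacter_one
    | insert a s ha ih =>
      have h1 : (fun f : Q → M => ∏ q ∈ insert a s, θ q (f q)) =
          (θ a ∘ (Pi.evalMonoidHom (fun _ : Q => M) a)) * (fun f => ∏ q ∈ s, θ q (f q)) := by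
        funext f
        rw [Finset.prod_insert ha]
        rfl
      rw [h1]
      exact isCharacter_mul (isCharacter_comp _ (h a)) ih
  exact key Finset.univ

theorem card_pi_eq : (Nat.card (Q → M) : ℂ) = ∏ _q : Q, (Nat.card M : ℂ) := by
  rw [Nat.card_pi]
  push_cast
  rfl

theorem classInner_prodChar (θ θ' : Q → M → ℂ) :
    classInner (prodChar θ) (prodChar θ') = ∏ q, classInner (θ q) (θ' q) := by
  classical
  unfold classInner
  rw [Finset.prod_mul_distrib, card_pi_eq, Finset.prod_inv_distrib]
  congr 1
  rw [Finset.prod_univ_sum, Fintype.piFinset_univ]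
  refine Finset.sum_congr rfl fun f _ => ?_
  simp only [prodChar_apply]
  rw [map_prod, ← Finset.prod_mul_distrib]

theorem isIrrCharacter_prodChar {θ : Q → M → ℂ} (h : ∀ q, IsIrrCharacter M (θ q)) :
    IsIrrCharacter (Q → M) (prodChar θ) := by
  classical
  letI : Fintype (IrrCharacter (Q → M)) := irrFintype
  apply isIrrCharacter_of_classInner_self_eq_one
    (isCharacter_prodChar fun q => isCharacter_of_isIrrCharacter (h q))
  rw [classInner_prodChar]
  apply Finset.prod_eq_one
  intro q _
  rw [irr_orthogonality (h q) (h q), if_pos rfl]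

theorem prodChar_injective {θ θ' : Q → M → ℂ} (h : ∀ q, IsIrrCharacter M (θ q))
    (h' : ∀ q, IsIrrCharacter M (θ' q)) (heq : prodChar θ = prodChar θ') : θ = θ' := by
  classical
  have h1 : classInner (prodChar θ) (prodChar θ') = 1 := by
    rw [← heq, irr_orthogonality (isIrrCharacter_prodChar h) (isIrrCharacter_prodChar h),
      if_pos rfl]
  rw [classInner_prodChar] at h1
  funext q
  by_contra hne
  have h2 : classInner (θ q) (θ' q) = 0 := by
    rw [irr_orthogonality (h q) (h' q), if_neg hne]
  have h3 : ∏ q, classInner (θ q) (θ' q) = 0 :=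
    Finset.prod_eq_zero (Finset.mem_univ q) h2
  rw [h3] at h1
  exact zero_ne_one h1

/-- every irreducible character of the power is a product of irreducible characters -/
theorem exists_prodChar_of_isIrrCharacter [Fintype (IrrCharacter M)] {χ : (Q → M) → ℂ}
    (hχ : IsIrrCharacter (Q → M) χ) :
    ∃ θ : Q → IrrCharacter M, χ = prodChar (fun q => (θ q : M → ℂ)) := by
  classical
  by_contra hcon
  have hne : ∀ θ : Q → IrrCharacter M, χ ≠ prodChar (fun q => (θ q : M → ℂ)) := by
    intro θ h
    exact hcon ⟨θ, h⟩
  have horth : ∀ θ : Q → IrrCharacter M,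
      classInner χ (prodChar (fun q => (θ q : M → ℂ))) = 0 := by
    intro θ
    rw [irr_orthogonality hχ (isIrrCharacter_prodChar fun q => (θ q).2), if_neg (hne θ)]
  -- the regular character
  let F : (Q → M) → ℂ := fun f => ∑ θ : Q → IrrCharacter M,
    conj (∏ q, ((θ q : M → ℂ) 1)) * prodChar (fun q => (θ q : M → ℂ)) f
  have hF : ∀ f : Q → M, F f = if f = 1 then (Nat.card (Q → M) : ℂ) else 0 := by
    intro f
    have h1 : F f = ∏ q, ∑ θ : IrrCharacter M, (θ : M → ℂ) (f q) * conj ((θ : M → ℂ) 1) := by
      rw [Finset.prod_univ_sum, Fintype.piFinset_univ]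
      refine Finset.sum_congr rfl fun θ _ => ?_
      rw [prodChar_apply, map_prod, ← Finset.prod_mul_distrib]
      refine Finset.prod_congr rfl fun q _ => ?_
      ring
    rw [h1]
    have h2 : ∀ q, ∑ θ : IrrCharacter M, (θ : M → ℂ) (f q) * conj ((θ : M → ℂ) 1) =
        if f q = 1 then (Nat.card M : ℂ) else 0 := by
      intro q
      rw [second_orthogonality (f q) 1]
      by_cases hq : f q = 1
      · rw [if_pos hq]
        congr 1
        rw [Nat.card_eq_of_bijective (fun y : {y : M // y * 1 * y⁻¹ = f q} => (y : M))]
        constructor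
        · exact Subtype.val_injective
        · intro y
          exact ⟨⟨y, by rw [hq]; group⟩, rfl⟩
      · rw [if_neg hq]
        have : IsEmpty {y : M // y * 1 * y⁻¹ = f q} := by
          constructor
          rintro ⟨y, hy⟩
          apply hq
          rw [← hy]
          group
        rw [Nat.card_of_isEmpty, Nat.cast_zero]
    simp only [h2]
    by_cases hf : f = 1
    · rw [if_pos hf, card_pi_eq]
      refine Finset.prod_congr rfl fun q _ => ?_
      rw [if_pos]
      rw [hf]
      rfl
    · rw [if_neg hf]
      have : ∃ q, f q ≠ 1 := by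
        by_contra hall
        apply hf
        funext q
        by_contra hq
        exact hall ⟨q, hq⟩
      obtain ⟨q, hq⟩ := this
      exact Finset.prod_eq_zero (Finset.mem_univ q) (by rw [if_neg hq])
  -- compute the inner product of χ with F in two ways
  have hA : classInner χ F = 0 := by
    unfold classInner
    have : ∀ g : Q → M, χ g * conj (F g) = ∑ θ : Q → IrrCharacter M,
        (∏ q, ((θ q : M → ℂ) 1)) * (χ g * conj (prodChar (fun q => (θ q : M → ℂ)) g)) := by
      intro g
      simp only [F]
      rw [map_sum, Finset.mul_sum]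
      refine Finset.sum_congr rfl fun θ _ => ?_
      rw [map_mul, Complex.conj_conj]
      ring
    simp only [this]
    rw [Finset.sum_comm]
    have h2 : ∀ θ : Q → IrrCharacter M, ∑ g : Q → M, (∏ q, ((θ q : M → ℂ) 1)) *
        (χ g * conj (prodChar (fun q => (θ q : M → ℂ)) g)) = 0 := by
      intro θ
      rw [← Finset.mul_sum]
      have h3 := horth θ
      unfold classInner at h3
      have hcard : (Nat.card (Q → M) : ℂ)⁻¹ ≠ 0 := by
        apply inv_ne_zero
        exact_mod_cast (Nat.card_pos (α := Q → M)).ne'
      rw [(mul_eq_zero.mp h3).resolve_left hcard, mul_zero]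
    rw [Finset.sum_congr rfl (fun θ _ => h2 θ), Finset.sum_const_zero, mul_zero]
  have hB : classInner χ F = χ 1 := by
    unfold classInner
    have : ∀ g : Q → M, χ g * conj (F g) =
        if g = 1 then χ 1 * (Nat.card (Q → M) : ℂ) else 0 := by
      intro g
      rw [hF g]
      by_cases hg : g = 1
      · rw [if_pos hg, if_pos hg, Complex.conj_natCast, hg]
      · rw [if_neg hg, if_neg hg, map_zero, mul_zero]
    simp only [this]
    rw [Finset.sum_ite_eq' Finset.univ (1 : Q → M), if_pos (Finset.mem_univ _)]
    have hcard : (Nat.card (Q → M) : ℂ) ≠ 0 := by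
      exact_mod_cast (Nat.card_pos (α := Q → M)).ne'
    field_simp
  obtain ⟨n, hn, hn1⟩ := irr_one_eq hχ
  rw [hA] at hB
  rw [hn1] at hB
  have : (n : ℂ) ≠ 0 := by exact_mod_cast hn.ne'
  exact this hB.symm

end PiChar

end Cfsg.Agent.Helper23.MGrp
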