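import Mathlib
import Cfsg.Agent.Lib.Helper23.PiChar
import Cfsg.Agent.Lib.Helper5.Clifford

/-!
# The regular wreath product `M ≀ᵣ Q`: base group, product subgroups and their linear characters
(helper23's shared library)
-/

set_option autoImplicit false
set_option linter.unusedSectionVars false
set_option linter.style.haveILetI false

namespace Cfsg.Agent.Helper23.MGrp

open Cfsg Cfsg.Agent.Helper24 Cfsg.Agent.Helper5 RegularWreathProduct
open scoped ComplexConjugate

universe u v

section Base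

variable (M : Type u) [Group M] (Q : Type v) [Group Q]

/-- the base group of the wreath product -/
def baseSub : Subgroup (M ≀ᵣ Q) := (rightHom : M ≀ᵣ Q →* Q).ker

instance baseSub_normal : (baseSub M Q).Normal := MonoidHom.normal_ker _

variable {M Q}

theorem mem_baseSub (w : M ≀ᵣ Q) : w ∈ baseSub M Q ↔ w.right = 1 := by
  unfold baseSub
  rw [MonoidHom.mem_ker]
  rfl

/-- the element `(f, 1)` of the base group -/
def baseElt (f : Q → M) : M ≀ᵣ Q := ⟨f, 1⟩

@[simp] theorem baseElt_left (f : Q → M) : (baseElt f).left = f := rfl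
@[simp] theorem baseElt_right (f : Q → M) : (baseElt f : M ≀ᵣ Q).right = 1 := rfl

theorem baseElt_mem (f : Q → M) : baseElt f ∈ baseSub M Q := (mem_baseSub _).mpr rfl

theorem eq_baseElt_of_mem {w : M ≀ᵣ Q} (hw : w ∈ baseSub M Q) : w = baseElt w.left := by
  ext
  · rfl
  · exact (mem_baseSub w).mp hw

variable (M Q) in
/-- the base group is the power `Q → M` -/
def baseEquiv : (Q → M) ≃* baseSub M Q where
  toFun f := ⟨baseElt f, baseElt_mem f⟩
  invFun n := n.1.left
  left_inv f := rfl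
  right_inv n := by
    apply Subtype.ext
    exact (eq_baseElt_of_mem n.2).symm
  map_mul' f g := by
    apply Subtype.ext
    show baseElt (f * g) = baseElt f * baseElt g
    ext
    · simp
    · simp

@[simp] theorem baseEquiv_apply_coe (f : Q → M) : ((baseEquiv M Q f : baseSub M Q) : M ≀ᵣ Q) =
    baseElt f := rfl

@[simp] theorem baseEquiv_symm_apply (n : baseSub M Q) : (baseEquiv M Q).symm n = n.1.left := rfl

/-- conjugation of a base element by an inverse: `x⁻¹ (f,1) x` -/
theorem inv_mul_baseElt_mul (g : Q → M) (c : Q) (f : Q → M) :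
    (⟨g, c⟩ : M ≀ᵣ Q)⁻¹ * baseElt f * ⟨g, c⟩ =
      baseElt (fun y => (g (c * y))⁻¹ * f (c * y) * g (c * y)) := by
  ext y
  · simp [baseElt, mul_assoc]
  · simp [baseElt]

/-- conjugation of a base element: `x (f,1) x⁻¹` -/
theorem mul_baseElt_mul_inv (g : Q → M) (c : Q) (f : Q → M) :
    (⟨g, c⟩ : M ≀ᵣ Q) * baseElt f * (⟨g, c⟩ : M ≀ᵣ Q)⁻¹ =
      baseElt (fun y => g y * f (c⁻¹ * y) * (g y)⁻¹) := by
  ext y
  · simp [baseElt, mul_assoc]
  · simp [baseElt]

theorem conj_right (x w : M ≀ᵣ Q) (hx : x.right = 1) : (x⁻¹ * w * x).right = w.right := by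
  simp [hx]

end Base

section Sums

variable {M : Type u} [Group M] [Fintype M] {Q : Type v} [Group Q] [Fintype Q] [DecidableEq Q]
  [Fintype (M ≀ᵣ Q)]

theorem sum_wreath (F : M ≀ᵣ Q → ℂ) :
    ∑ w : M ≀ᵣ Q, F w = ∑ g : Q → M, ∑ c : Q, F ⟨g, c⟩ := by
  rw [← Fintype.sum_prod_type']
  exact Fintype.sum_equiv (equivProd M Q) _ _ (fun w => rfl)

theorem card_baseSub : Nat.card (baseSub M Q) = Nat.card M ^ Nat.card Q := by
  rw [← Nat.card_congr (baseEquiv M Q).toEquiv, Nat.card_fun]

end Sums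

section FamSub

variable {M : Type u} [Group M] {Q : Type v} [Group Q]

/-- the subgroup `∏ H q` of the base group -/
def famSub (H : Q → Subgroup M) : Subgroup (M ≀ᵣ Q) where
  carrier := {w | w.right = 1 ∧ ∀ q, w.left q ∈ H q}
  mul_mem' := by
    rintro a b ⟨ha1, ha2⟩ ⟨hb1, hb2⟩
    refine ⟨by simp [ha1, hb1], fun q => ?_⟩
    simp only [mul_left, Pi.mul_apply, ha1, inv_one, one_mul]
    exact (H q).mul_mem (ha2 q) (hb2 q)
  one_mem' := ⟨rfl, fun q => (H q).one_mem⟩
  inv_mem' := by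
    rintro a ⟨ha1, ha2⟩
    refine ⟨by simp [ha1], fun q => ?_⟩
    simp only [inv_left, ha1, one_mul, Pi.inv_apply]
    exact (H q).inv_mem (ha2 q)

theorem mem_famSub (H : Q → Subgroup M) (w : M ≀ᵣ Q) :
    w ∈ famSub H ↔ w.right = 1 ∧ ∀ q, w.left q ∈ H q := Iff.rfl

theorem famSub_le_baseSub (H : Q → Subgroup M) : famSub H ≤ baseSub M Q :=
  fun w hw => (mem_baseSub w).mpr hw.1

variable [Fintype Q]

/-- the product of a family of linear characters, on `∏ H q` -/
noncomputable def famHom (H : Q → Subgroup M) (lam : ∀ q, H q →* ℂˣ) : famSub H →* ℂˣ where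
  toFun w := ∏ q, lam q ⟨w.1.left q, w.2.2 q⟩
  map_one' := by
    apply Finset.prod_eq_one
    intro q _
    exact (lam q).map_one
  map_mul' a b := by
    rw [← Finset.prod_mul_distrib]
    refine Finset.prod_congr rfl fun q _ => ?_
    rw [← (lam q).map_mul]
    congr 1
    apply Subtype.ext
    show ((a : M ≀ᵣ Q) * (b : M ≀ᵣ Q)).left q = _
    simp [a.2.1]

theorem famHom_apply (H : Q → Subgroup M) (lam : ∀ q, H q →* ℂˣ) (w : famSub H) :
    famHom H lam w = ∏ q, lam q ⟨w.1.left q, w.2.2 q⟩ := rfl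

/-- the subgroup `H ≀ Q` -/
def constSub (H : Subgroup M) : Subgroup (M ≀ᵣ Q) where
  carrier := {w | ∀ q, w.left q ∈ H}
  mul_mem' := by
    intro a b ha hb q
    simp only [mul_left, Pi.mul_apply]
    exact H.mul_mem (ha q) (hb _)
  one_mem' := fun q => H.one_mem
  inv_mem' := by
    intro a ha q
    simp only [inv_left, Pi.inv_apply]
    exact H.inv_mem (ha _)

theorem mem_constSub (H : Subgroup M) (w : M ≀ᵣ Q) : w ∈ constSub H ↔ ∀ q, w.left q ∈ H :=
  Iff.rfl

/-- the linear character `λ × ⋯ × λ` of `H ≀ Q`, trivial on `Q` -/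
noncomputable def constHom (H : Subgroup M) (lam : H →* ℂˣ) :
    (constSub H : Subgroup (M ≀ᵣ Q)) →* ℂˣ where
  toFun w := ∏ q, lam ⟨w.1.left q, w.2 q⟩
  map_one' := by
    apply Finset.prod_eq_one
    intro q _
    exact lam.map_one
  map_mul' a b := by
    have h1 : ∀ q, lam ⟨((a * b : constSub H) : M ≀ᵣ Q).left q, (a * b).2 q⟩ =
        lam ⟨a.1.left q, a.2 q⟩ * lam ⟨b.1.left (a.1.right⁻¹ * q), b.2 _⟩ := by
      intro q
      rw [← lam.map_mul]
      rfl
    rw [Finset.prod_congr rfl (fun q _ => h1 q), Finset.prod_mul_distrib]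
    congr 1
    exact Fintype.prod_equiv (Equiv.mulLeft (a.1.right⁻¹)) _ _ (fun q => rfl)

theorem constHom_apply (H : Subgroup M) (lam : H →* ℂˣ) (w : (constSub H : Subgroup (M ≀ᵣ Q))) :
    constHom H lam w = ∏ q, lam ⟨w.1.left q, w.2 q⟩ := rfl

end FamSub

end Cfsg.Agent.Helper23.MGrp
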