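import Mathlib
import Cfsg.Agent.Lib.Helper23.WreathBase

/-!
# Induced characters in the regular wreath product `M ≀ᵣ Q` (helper23's shared library)
-/

set_option autoImplicit false
set_option linter.unusedSectionVars false
set_option linter.style.haveILetI false

namespace Cfsg.Agent.Helper23.MGrp

open Cfsg Cfsg.Agent.Helper24 Cfsg.Agent.Helper5 RegularWreathProduct
open scoped ComplexConjugate

universe u v

section Cards

variable {M : Type u} [Group M] [Finite M] {Q : Type v} [Group Q] [Finite Q]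

theorem card_constSub (H : Subgroup M) :
    Nat.card (constSub H : Subgroup (M ≀ᵣ Q)) = Nat.card H ^ Nat.card Q * Nat.card Q := by
  have e : (constSub H : Subgroup (M ≀ᵣ Q)) ≃ (Q → H) × Q :=
    { toFun := fun w => (fun q => ⟨w.1.left q, w.2 q⟩, w.1.right)
      invFun := fun hc => ⟨⟨fun q => (hc.1 q : M), hc.2⟩, fun q => (hc.1 q).2⟩
      left_inv := fun w => rfl
      right_inv := fun hc => rfl }
  rw [Nat.card_congr e, Nat.card_prod, Nat.card_fun]

theorem card_famSub (H : Q → Subgroup M) :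
    Nat.card (famSub H : Subgroup (M ≀ᵣ Q)) = ∏ᶠ q, Nat.card (H q) := by
  have e : (famSub H : Subgroup (M ≀ᵣ Q)) ≃ (∀ q, H q) :=
    { toFun := fun w => fun q => ⟨w.1.left q, w.2.2 q⟩
      invFun := fun h => ⟨baseElt (fun q => (h q : M)), ⟨rfl, fun q => (h q).2⟩⟩
      left_inv := fun w => by
        apply Subtype.ext
        show baseElt (fun q => w.1.left q) = w.1
        ext
        · rfl
        · exact w.2.1.symm
      right_inv := fun h => rfl }
  haveI : Fintype Q := Fintype.ofFinite Q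
  rw [Nat.card_congr e, Nat.card_pi, finprod_eq_prod_of_fintype]

end Cards

section Compute

variable {M : Type u} [Group M] [Fintype M] {Q : Type v} [Group Q] [Fintype Q] [DecidableEq Q]
  [Fintype (M ≀ᵣ Q)]

/-- a product function on the base group -/
noncomputable def baseFun (θ : Q → M → ℂ) : baseSub M Q → ℂ := fun n => ∏ q, θ q (n.1.left q)

theorem baseFun_apply (θ : Q → M → ℂ) (n : baseSub M Q) :
    baseFun θ n = ∏ q, θ q (n.1.left q) := rfl

theorem baseFun_eq_prodChar (θ : Q → M → ℂ) (n : baseSub M Q) :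
    baseFun θ n = prodChar θ ((baseEquiv M Q).symm n) := rfl

theorem extendByZero_constHom_conj (H : Subgroup M) (lam : H →* ℂˣ) (g : Q → M) (c : Q)
    (f : Q → M) :
    extendByZero (constSub H : Subgroup (M ≀ᵣ Q)) (fun w => ((constHom H lam w : ℂˣ) : ℂ))
        ((⟨g, c⟩ : M ≀ᵣ Q)⁻¹ * baseElt f * ⟨g, c⟩) =
      ∏ q, extendByZero H (fun h => ((lam h : ℂˣ) : ℂ)) ((g q)⁻¹ * f q * g q) := by
  rw [inv_mul_baseElt_mul]
  rw [← Fintype.prod_equiv (Equiv.mulLeft c)
    (fun q' => extendByZero H (fun h => ((lam h : ℂˣ) : ℂ))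
      ((g (c * q'))⁻¹ * f (c * q') * g (c * q')))
    (fun q => extendByZero H (fun h => ((lam h : ℂˣ) : ℂ)) ((g q)⁻¹ * f q * g q))
    (fun q' => rfl)]
  by_cases hmem : baseElt (fun y => (g (c * y))⁻¹ * f (c * y) * g (c * y)) ∈
      (constSub H : Subgroup (M ≀ᵣ Q))
  · rw [extendByZero_of_mem _ _ hmem, constHom_apply, Units.coe_prod]
    refine Finset.prod_congr rfl fun q' _ => ?_
    have h1 : (g (c * q'))⁻¹ * f (c * q') * g (c * q') ∈ H := hmem q'
    rw [extendByZero_of_mem H _ h1]
    rfl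
  · rw [extendByZero_of_not_mem _ _ hmem]
    have : ∃ q', (g (c * q'))⁻¹ * f (c * q') * g (c * q') ∉ H := by
      by_contra hall
      apply hmem
      intro q'
      by_contra hq
      exact hall ⟨q', hq⟩
    obtain ⟨q', hq'⟩ := this
    symm
    apply Finset.prod_eq_zero (Finset.mem_univ q')
    exact extendByZero_of_not_mem H _ hq'

/-- the restriction to the base group of the character induced from `λ × ⋯ × λ` on `H ≀ Q` -/
theorem indFun_constSub_baseElt (H : Subgroup M) (lam : H →* ℂˣ) (f : Q → M) :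
    indFun (constSub H : Subgroup (M ≀ᵣ Q)) (fun w => ((constHom H lam w : ℂˣ) : ℂ))
        (baseElt f) =
      ∏ q, indFun H (fun h => ((lam h : ℂˣ) : ℂ)) (f q) := by
  classical
  rw [indFun_apply, sum_wreath]
  simp only [extendByZero_constHom_conj, indFun_apply]
  rw [Finset.sum_comm]
  simp only [Finset.sum_const, Finset.card_univ, nsmul_eq_mul]
  rw [Finset.prod_mul_distrib, Finset.prod_univ_sum, Fintype.piFinset_univ, card_constSub]
  rw [Finset.prod_const, Finset.card_univ, ← Nat.card_eq_fintype_card (α := Q)]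
  have hH : (Nat.card H : ℂ) ≠ 0 := by exact_mod_cast (Nat.card_pos (α := H)).ne'
  have hQ : (Nat.card Q : ℂ) ≠ 0 := by exact_mod_cast (Nat.card_pos (α := Q)).ne'
  push_cast
  rw [inv_pow, mul_inv]
  have hHp : ((Nat.card H : ℂ) ^ Nat.card Q) ≠ 0 := pow_ne_zero _ hH
  field_simp

theorem extendByZero_famHom_conj (H : Q → Subgroup M) (lam : ∀ q, H q →* ℂˣ) (m f : Q → M) :
    extendByZero (famSub H : Subgroup (M ≀ᵣ Q)) (fun w => ((famHom H lam w : ℂˣ) : ℂ))
        ((baseElt m : M ≀ᵣ Q)⁻¹ * baseElt f * baseElt m) =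
      ∏ q, extendByZero (H q) (fun h => ((lam q h : ℂˣ) : ℂ)) ((m q)⁻¹ * f q * m q) := by
  have h0 : (baseElt m : M ≀ᵣ Q)⁻¹ * baseElt f * baseElt m =
      baseElt (fun y => (m y)⁻¹ * f y * m y) := by
    have := inv_mul_baseElt_mul m (1 : Q) f
    simp only [one_mul] at this
    exact this
  rw [h0]
  by_cases hmem : baseElt (fun y => (m y)⁻¹ * f y * m y) ∈ (famSub H : Subgroup (M ≀ᵣ Q))
  · rw [extendByZero_of_mem _ _ hmem, famHom_apply, Units.coe_prod]
    refine Finset.prod_congr rfl fun q _ => ?_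
    have h1 : (m q)⁻¹ * f q * m q ∈ H q := hmem.2 q
    rw [extendByZero_of_mem (H q) _ h1]
    rfl
  · rw [extendByZero_of_not_mem _ _ hmem]
    have : ∃ q, (m q)⁻¹ * f q * m q ∉ H q := by
      by_contra hall
      apply hmem
      refine ⟨rfl, fun q => ?_⟩
      by_contra hq
      exact hall ⟨q, hq⟩
    obtain ⟨q, hq⟩ := this
    symm
    apply Finset.prod_eq_zero (Finset.mem_univ q)
    exact extendByZero_of_not_mem (H q) _ hq

theorem extendByZero_baseFun_eq (H : Q → Subgroup M) (lam : ∀ q, H q →* ℂˣ) (y : M ≀ᵣ Q) :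
    extendByZero (baseSub M Q)
        (baseFun fun q => indFun (H q) (fun h => ((lam q h : ℂˣ) : ℂ))) y =
      (Nat.card (famSub H : Subgroup (M ≀ᵣ Q)) : ℂ)⁻¹ * ∑ m : Q → M,
        extendByZero (famSub H : Subgroup (M ≀ᵣ Q)) (fun w => ((famHom H lam w : ℂˣ) : ℂ))
          ((baseElt m : M ≀ᵣ Q)⁻¹ * y * baseElt m) := by
  classical
  by_cases hy : y ∈ baseSub M Q
  · rw [extendByZero_of_mem _ _ hy, baseFun_apply]
    have hy' : y = baseElt y.left := eq_baseElt_of_mem hy
    have h1 : ∀ m : Q → M,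
        extendByZero (famSub H : Subgroup (M ≀ᵣ Q)) (fun w => ((famHom H lam w : ℂˣ) : ℂ))
          ((baseElt m : M ≀ᵣ Q)⁻¹ * y * baseElt m) =
        ∏ q, extendByZero (H q) (fun h => ((lam q h : ℂˣ) : ℂ)) ((m q)⁻¹ * y.left q * m q) := by
      intro m
      conv_lhs => rw [hy']
      exact extendByZero_famHom_conj H lam m y.left
    simp only [h1, indFun_apply]
    rw [Finset.prod_mul_distrib, Finset.prod_univ_sum, Fintype.piFinset_univ, card_famSub,
      finprod_eq_prod_of_fintype]
    push_cast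
    rw [Finset.prod_inv_distrib]
  · rw [extendByZero_of_not_mem _ _ hy]
    have h1 : ∀ m : Q → M,
        extendByZero (famSub H : Subgroup (M ≀ᵣ Q)) (fun w => ((famHom H lam w : ℂˣ) : ℂ))
          ((baseElt m : M ≀ᵣ Q)⁻¹ * y * baseElt m) = 0 := by
      intro m
      apply extendByZero_of_not_mem
      intro hmem
      apply hy
      rw [mem_baseSub]
      have := hmem.1
      rwa [conj_right _ _ (baseElt_right m)] at this
    simp only [h1, Finset.sum_const_zero, mul_zero]

/-- transitivity of induction through the base group, for a product of induced characters -/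
theorem indFun_baseSub_eq_indFun_famSub (H : Q → Subgroup M) (lam : ∀ q, H q →* ℂˣ) :
    indFun (baseSub M Q) (baseFun fun q => indFun (H q) (fun h => ((lam q h : ℂˣ) : ℂ))) =
      indFun (famSub H : Subgroup (M ≀ᵣ Q)) (fun w => ((famHom H lam w : ℂˣ) : ℂ)) := by
  classical
  funext w
  rw [indFun_apply, indFun_apply]
  simp only [extendByZero_baseFun_eq]
  rw [← Finset.mul_sum, Finset.sum_comm]
  have h1 : ∀ m : Q → M, ∑ x : M ≀ᵣ Q,
      extendByZero (famSub H : Subgroup (M ≀ᵣ Q)) (fun w => ((famHom H lam w : ℂˣ) : ℂ))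
        ((baseElt m : M ≀ᵣ Q)⁻¹ * (x⁻¹ * w * x) * baseElt m) =
      ∑ x : M ≀ᵣ Q,
      extendByZero (famSub H : Subgroup (M ≀ᵣ Q)) (fun w => ((famHom H lam w : ℂˣ) : ℂ))
        (x⁻¹ * w * x) := by
    intro m
    rw [← Equiv.sum_comp (Equiv.mulRight (baseElt m : M ≀ᵣ Q))
      (fun x => extendByZero (famSub H : Subgroup (M ≀ᵣ Q))
        (fun w => ((famHom H lam w : ℂˣ) : ℂ)) (x⁻¹ * w * x))]
    refine Finset.sum_congr rfl fun x _ => ?_
    congr 1
    simp only [Equiv.coe_mulRight, mul_inv_rev]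
    group
  simp only [h1, Finset.sum_const, Finset.card_univ, nsmul_eq_mul]
  rw [card_baseSub, Fintype.card_pi, Finset.prod_const, Finset.card_univ,
    ← Nat.card_eq_fintype_card (α := Q), ← Nat.card_eq_fintype_card (α := M)]
  have hM : ((Nat.card M : ℂ)) ≠ 0 := by exact_mod_cast (Nat.card_pos (α := M)).ne'
  push_cast
  field_simp

end Compute

end Cfsg.Agent.Helper23.MGrp
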