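import Mathlib
import Cfsg.Agent.Lib.Helper23.WreathChar
import Cfsg.Agent.Lib.Helper24.Cd2Ker
import Cfsg.Agent.Lib.Helper18.SigmaOdd2
import Cfsg.Agent.Lib.Helper5.MaxInduced
import Cfsg.Agent.Lib.Helper18.BrauerSpan

/-!
# The wreath product of an M-group with a group of prime order is an M-group
(helper23's shared library)
-/

set_option autoImplicit false
set_option linter.unusedSectionVars false
set_option linter.style.haveILetI false

namespace Cfsg.Agent.Helper23.MGrp

open Cfsg Cfsg.Agent.Helper24 Cfsg.Agent.Helper5 RegularWreathProduct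
open scoped ComplexConjugate

universe u v

/-- every irreducible character is induced from a linear character of a subgroup -/
def IsMGrp (G : Type u) [Group G] [Fintype G] : Prop :=
  ∀ χ : G → ℂ, IsIrrCharacter G χ →
    ∃ (H : Subgroup G) (lam : ↥H →* ℂˣ), χ = indFun H (fun h => ((lam h : ℂˣ) : ℂ))

section Wreath

variable {M : Type u} [Group M] [Fintype M] {Q : Type v} [Group Q] [Fintype Q] [DecidableEq Q]
  [Fintype (M ≀ᵣ Q)]

theorem exists_baseFun [Fintype (IrrCharacter M)] {ϑ : baseSub M Q → ℂ}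
    (hϑ : IsIrrCharacter (baseSub M Q) ϑ) :
    ∃ θ : Q → IrrCharacter M, ϑ = baseFun (fun q => (θ q : M → ℂ)) := by
  have h1 : IsIrrCharacter (Q → M) (ϑ ∘ (baseEquiv M Q).toMonoidHom) :=
    isIrrCharacter_comp_of_surjective _ (baseEquiv M Q).surjective hϑ
  obtain ⟨θ, hθ⟩ := exists_prodChar_of_isIrrCharacter h1
  refine ⟨θ, ?_⟩
  funext n
  rw [baseFun_eq_prodChar, ← hθ]
  show ϑ n = ϑ ((baseEquiv M Q) ((baseEquiv M Q).symm n))
  rw [MulEquiv.apply_symm_apply]

theorem baseFun_injective {θ θ' : Q → M → ℂ} (h : ∀ q, IsIrrCharacter M (θ q))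
    (h' : ∀ q, IsIrrCharacter M (θ' q))
    (heq : (baseFun θ : baseSub M Q → ℂ) = baseFun θ') : θ = θ' := by
  apply prodChar_injective h h'
  funext f
  have := congrFun heq (baseEquiv M Q f)
  rw [baseFun_eq_prodChar, baseFun_eq_prodChar, MulEquiv.symm_apply_apply] at this
  exact this

theorem conjFun_baseFun {θ : Q → M → ℂ} (hθ : ∀ q, IsClassFunction M (θ q)) (x : M ≀ᵣ Q) :
    Cfsg.Agent.Helper5.conjFun (baseSub M Q) x (baseFun θ) = baseFun (fun q => θ (x.right * q)) := by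
  funext n
  rw [Cfsg.Agent.Helper5.conjFun_apply, baseFun_apply, baseFun_apply]
  have hn : (n : M ≀ᵣ Q) = baseElt n.1.left := eq_baseElt_of_mem n.2
  have hx : x = ⟨x.left, x.right⟩ := rfl
  have h1 : x * (n : M ≀ᵣ Q) * x⁻¹ =
      baseElt (fun y => x.left y * n.1.left (x.right⁻¹ * y) * (x.left y)⁻¹) := by
    conv_lhs => rw [hn, hx]
    exact mul_baseElt_mul_inv x.left x.right n.1.left
  have h2 : ∀ q, θ q ((x * (n : M ≀ᵣ Q) * x⁻¹).left q) = θ q (n.1.left (x.right⁻¹ * q)) := by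
    intro q
    rw [h1]
    exact hθ q _ _
  show ∏ q, θ q ((x * (n : M ≀ᵣ Q) * x⁻¹).left q) = _
  rw [Finset.prod_congr rfl (fun q _ => h2 q)]
  rw [← Fintype.prod_equiv (Equiv.mulLeft x.right)
    (fun q => θ (x.right * q) (n.1.left q))
    (fun q => θ q (n.1.left (x.right⁻¹ * q)))]
  intro q
  simp

theorem linear_of_trivial_on_base (hcomm : ∀ a b : Q, a * b = b * a) {β : M ≀ᵣ Q → ℂ}
    (hβ : IsIrrCharacter (M ≀ᵣ Q) β) (hker : ∀ n ∈ baseSub M Q, β n = β 1) : β 1 = 1 := by
  classical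
  obtain ⟨ψ, hψ, hβψ⟩ := exists_deflate (baseSub M Q) hβ hker
  letI : Fintype ((M ≀ᵣ Q) ⧸ baseSub M Q) := Fintype.ofFinite _
  letI : Fintype (IrrCharacter ((M ≀ᵣ Q) ⧸ baseSub M Q)) := irrFintype
  have hsurj : Function.Surjective (rightHom : M ≀ᵣ Q →* Q) := fun q => ⟨⟨1, q⟩, rfl⟩
  let e : (M ≀ᵣ Q) ⧸ baseSub M Q ≃* Q :=
    QuotientGroup.quotientKerEquivOfSurjective (rightHom : M ≀ᵣ Q →* Q) hsurj
  have hc : ∀ a b : (M ≀ᵣ Q) ⧸ baseSub M Q, a * b = b * a := by
    intro a b
    apply e.injective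
    rw [map_mul, map_mul, hcomm]
  have h1 := charDegree_eq_one_of_comm hc hψ
  have h2 := irr_one_eq_charDegree hψ
  rw [hβψ]
  show ψ ((1 : M ≀ᵣ Q) : (M ≀ᵣ Q) ⧸ baseSub M Q) = 1
  rw [QuotientGroup.mk_one, h2, h1, Nat.cast_one]

/-- **the wreath product of an M-group with a group of prime order is an M-group** -/
theorem isMGrp_wreath (hM : IsMGrp M) {p : ℕ} (hp : p.Prime) (hQ : Nat.card Q = p) :
    IsMGrp (M ≀ᵣ Q) := by
  classical
  haveI : Fact p.Prime := ⟨hp⟩
  intro χ hχ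
  letI : Fintype (baseSub M Q) := Fintype.ofFinite _
  letI : Fintype (IrrCharacter M) := irrFintype
  letI : Fintype (IrrCharacter (M ≀ᵣ Q)) := irrFintype
  have hχc := isCharacter_of_isIrrCharacter hχ
  have hχcf := isClassFunction_of_isIrrCharacter hχ
  have hχB : IsCharacter (baseSub M Q) (fun n : baseSub M Q => χ n) :=
    isCharacter_restrict (baseSub M Q) hχc
  have hne : (fun n : baseSub M Q => χ n) ≠ 0 := by
    intro h0
    have h1 : χ 1 = 0 := congrFun h0 1
    exact Cfsg.Agent.Helper23.irr_one_ne_zero χ hχ h1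
  obtain ⟨ϑ, hϑ, hcon⟩ := exists_constituent hχB hne
  obtain ⟨θ, hθ⟩ := exists_baseFun hϑ
  choose H lam hlam using fun q => hM (θ q : M → ℂ) (θ q).2
  have hcyc : IsCyclic Q := isCyclic_of_prime_card hQ
  have hcomm : ∀ a b : Q, a * b = b * a := by
    intro a b
    obtain ⟨g, hg⟩ := hcyc.exists_generator
    obtain ⟨i, rfl⟩ := Subgroup.mem_zpowers_iff.mp (hg a)
    obtain ⟨j, rfl⟩ := Subgroup.mem_zpowers_iff.mp (hg b)
    rw [← zpow_add, ← zpow_add, add_comm]
  by_cases hconst : ∀ q q' : Q, θ q = θ q'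
  · -- the invariant case
    obtain ⟨ψ₁, hψ₁⟩ : ∃ ψ₁ : M ≀ᵣ Q → ℂ, ψ₁ = indFun (constSub (H 1) : Subgroup (M ≀ᵣ Q))
        (fun w => ((constHom (H 1) (lam 1) w : ℂˣ) : ℂ)) := ⟨_, rfl⟩
    have hres : ∀ n : baseSub M Q, ψ₁ n = ϑ n := by
      intro n
      have hn : (n : M ≀ᵣ Q) = baseElt n.1.left := eq_baseElt_of_mem n.2
      rw [hn, hψ₁, indFun_constSub_baseElt, hθ, baseFun_apply]
      refine Finset.prod_congr rfl fun q _ => ?_
      rw [← hlam 1, hconst q 1]
    have hνc : IsCharacter (constSub (H 1) : Subgroup (M ≀ᵣ Q))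
        (fun w => ((constHom (H 1) (lam 1) w : ℂˣ) : ℂ)) :=
      isCharacter_of_isIrrCharacter (isIrrCharacter_of_monoidHom _)
    have hψ₁c : IsCharacter (M ≀ᵣ Q) ψ₁ := by
      rw [hψ₁]
      exact isCharacter_indFun _ hνc
    have hψ₁B : (fun n : baseSub M Q => ψ₁ n) = ϑ := funext hres
    have hψ₁i : IsIrrCharacter (M ≀ᵣ Q) ψ₁ :=
      irr_of_restrict_irr (baseSub M Q) hψ₁c (by rw [hψ₁B]; exact hϑ)
    have hψ₁cf := isClassFunction_of_isIrrCharacter hψ₁i
    have hinv : ∀ (g : M ≀ᵣ Q) (n : baseSub M Q),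
        ϑ ⟨g * n * g⁻¹, (baseSub_normal M Q).conj_mem (n : M ≀ᵣ Q) n.2 g⟩ = ϑ n := by
      intro g n
      rw [← hres, ← hres]
      exact hψ₁cf n g
    obtain ⟨β, hβ, hβker, hχβ⟩ := Cfsg.Agent.Helper18.SigmaOdd.gallagher_surj (baseSub M Q) hϑ
      hinv hψ₁i hres hχ hcon
    have hβ1 : β 1 = 1 := linear_of_trivial_on_base hcomm hβ hβker
    have hβc := isCharacter_of_isIrrCharacter hβ
    have hβcf := isClassFunction_of_isIrrCharacter hβ
    refine ⟨constSub (H 1), constHom (H 1) (lam 1) *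
      (linHom hβc hβ1).comp (constSub (H 1) : Subgroup (M ≀ᵣ Q)).subtype, ?_⟩
    rw [hχβ, mul_comm, hψ₁, ← Cfsg.Agent.Helper18.indFun_mul_restrict _ _ hβcf]
    congr 1
  · -- the induced case
    have hθcf : ∀ q, IsClassFunction M (θ q : M → ℂ) :=
      fun q => isClassFunction_of_isIrrCharacter (θ q).2
    have hstab : ∀ g : M ≀ᵣ Q, g ∉ baseSub M Q → Cfsg.Agent.Helper5.conjFun (baseSub M Q) g ϑ ≠ ϑ := by
      intro g hg hfix
      apply hconst
      rw [hθ, conjFun_baseFun hθcf g] at hfix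
      have h1 : (fun q => ((θ (g.right * q) : IrrCharacter M) : M → ℂ)) =
          fun q => ((θ q : IrrCharacter M) : M → ℂ) :=
        baseFun_injective (fun q => (θ (g.right * q)).2) (fun q => (θ q).2) hfix
      have h2 : ∀ q, θ (g.right * q) = θ q := fun q => Subtype.ext (congrFun h1 q)
      have hc1 : g.right ≠ 1 := fun h => hg ((mem_baseSub g).mpr h)
      let S : Subgroup Q :=
        { carrier := {a | ∀ q, θ (a * q) = θ q}
          mul_mem' := by
            intro a b ha hb q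
            rw [mul_assoc, ha, hb]
          one_mem' := by
            intro q
            rw [one_mul]
          inv_mem' := by
            intro a ha q
            have := ha (a⁻¹ * q)
            rw [mul_inv_cancel_left] at this
            exact this.symm }
      have hS : Subgroup.zpowers g.right ≤ S := by
        rw [Subgroup.zpowers_le]
        exact h2
      rw [zpowers_eq_top_of_prime_card hQ hc1] at hS
      intro q q'
      have h3 : q * q'⁻¹ ∈ S := hS (Subgroup.mem_top _)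
      have := h3 q'
      rw [inv_mul_cancel_right] at this
      exact this
    have hirr : IsIrrCharacter (M ≀ᵣ Q) (indFun (baseSub M Q) ϑ) :=
      Cfsg.Agent.Helper24.Cd2.isIrr_indFun_of_inertia (baseSub M Q) hϑ hstab
    have hχeq : χ = indFun (baseSub M Q) ϑ := by
      by_contra hne'
      have h1 := irr_orthogonality hirr hχ
      rw [if_neg (fun h => hne' h.symm),
        frobenius_reciprocity (baseSub M Q) ϑ hχcf] at h1
      apply hcon
      rw [← classInner_conj_symm, h1, map_zero]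
    refine ⟨famSub H, famHom H lam, ?_⟩
    rw [hχeq, hθ, ← indFun_baseSub_eq_indFun_famSub]
    congr 2
    funext q
    exact hlam q

end Wreath

end Cfsg.Agent.Helper23.MGrp
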