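import Mathlib
import Cfsg.Agent.Lib.Helper23.WreathMGrp
import Cfsg.Agent.Lib.Helper23.CentralTypeQuot

/-!
# A fully ramified character of a twisted wreath product (helper23's shared library)

For a group `H₀` with an irreducible character `χ₀`, a finite abelian group `C` and a bicharacter
`ε` of `C`, the characters `θ i (h, a) = χ₀ h * ε i a` of `H₀ × C` are pairwise distinct, so their
tensor product induces irreducibly to `(H₀ × C) ≀ᵣ C`.
-/

set_option autoImplicit false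
set_option linter.unusedSectionVars false
set_option linter.style.haveILetI false

namespace Cfsg.Agent.Helper23.MGrp

open Cfsg Cfsg.Agent.Helper24 Cfsg.Agent.Helper5 RegularWreathProduct
open scoped ComplexConjugate

universe u v w

section Fam

variable {H₀ : Type u} [Group H₀] {C : Type v} [CommGroup C]
  (ε : C →* (C →* ℂˣ)) (χ₀ : H₀ → ℂ)

/-- the twisted family of characters of `H₀ × C` -/
noncomputable def thetaFam (i : C) : H₀ × C → ℂ := fun m => χ₀ m.1 * ((ε i m.2 : ℂˣ) : ℂ)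

theorem thetaFam_apply (i : C) (m : H₀ × C) :
    thetaFam ε χ₀ i m = χ₀ m.1 * ((ε i m.2 : ℂˣ) : ℂ) := rfl

theorem thetaFam_one (i : C) : thetaFam ε χ₀ i 1 = χ₀ 1 := by
  rw [thetaFam_apply]
  simp

theorem thetaFam_mul_left (c i : C) (m : H₀ × C) :
    thetaFam ε χ₀ (c * i) m = thetaFam ε χ₀ i m * ((ε c m.2 : ℂˣ) : ℂ) := by
  rw [thetaFam_apply, thetaFam_apply, map_mul, MonoidHom.mul_apply, Units.val_mul]
  ring

theorem isIrrCharacter_thetaFam [Fintype H₀] [Fintype C] (hχ₀ : IsIrrCharacter H₀ χ₀) (i : C) :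
    IsIrrCharacter (H₀ × C) (thetaFam ε χ₀ i) := by
  classical
  letI : Fintype (IrrCharacter (H₀ × C)) := irrFintype
  have h1 : IsIrrCharacter (H₀ × C) (χ₀ ∘ (MonoidHom.fst H₀ C)) :=
    isIrrCharacter_comp_of_surjective _ (fun h => ⟨(h, 1), rfl⟩) hχ₀
  have h2 := isIrrCharacter_of_monoidHom ((ε i).comp (MonoidHom.snd H₀ C))
  have h3 := isIrrCharacter_mul_linear h1 (isCharacter_of_isIrrCharacter h2) (by simp)
  exact h3

theorem thetaFam_injective (hε : Function.Injective ε) (h1 : χ₀ 1 ≠ 0) {i j : C}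
    (h : thetaFam ε χ₀ i = thetaFam ε χ₀ j) : i = j := by
  apply hε
  ext a
  have h2 := congrFun h ((1 : H₀), a)
  rw [thetaFam_apply, thetaFam_apply] at h2
  exact mul_left_cancel₀ h1 h2

end Fam

section Cent

variable (H₀ : Type u) [Group H₀] (C : Type v) [CommGroup C] [Fintype C]

/-- functions into the centre of `H₀ × C` whose `C`-components multiply to `1` -/
def centSub : Subgroup (C → H₀ × C) where
  carrier := {n | (∀ i, (n i).1 ∈ Subgroup.center H₀) ∧ ∏ i, (n i).2 = 1}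
  one_mem' := ⟨fun i => Subgroup.one_mem _, by simp⟩
  mul_mem' := by
    rintro a b ⟨ha1, ha2⟩ ⟨hb1, hb2⟩
    refine ⟨fun i => Subgroup.mul_mem _ (ha1 i) (hb1 i), ?_⟩
    simp only [Pi.mul_apply, Prod.snd_mul]
    rw [Finset.prod_mul_distrib, ha2, hb2, one_mul]
  inv_mem' := by
    rintro a ⟨ha1, ha2⟩
    refine ⟨fun i => Subgroup.inv_mem _ (ha1 i), ?_⟩
    simp only [Pi.inv_apply, Prod.snd_inv]
    rw [Finset.prod_inv_distrib, ha2, inv_one]

variable {H₀ C}

theorem mem_centSub (n : C → H₀ × C) :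
    n ∈ centSub H₀ C ↔ (∀ i, (n i).1 ∈ Subgroup.center H₀) ∧ ∏ i, (n i).2 = 1 := Iff.rfl

theorem centSub_comm {n : C → H₀ × C} (hn : n ∈ centSub H₀ C) (i : C) (m : H₀ × C) :
    m * n i = n i * m := by
  apply Prod.ext
  · exact (Subgroup.mem_center_iff.mp (hn.1 i)) m.1
  · exact mul_comm _ _

theorem centSub_le_center : centSub H₀ C ≤ Subgroup.center (C → H₀ × C) := by
  intro n hn
  rw [Subgroup.mem_center_iff]
  intro g
  funext i
  exact centSub_comm hn i (g i)

theorem shift_mem_centSub {n : C → H₀ × C} (hn : n ∈ centSub H₀ C) (c : C) :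
    (fun y => n (c * y)) ∈ centSub H₀ C := by
  refine ⟨fun i => hn.1 (c * i), ?_⟩
  rw [← hn.2]
  exact Fintype.prod_equiv (Equiv.mulLeft c) _ _ (fun i => rfl)

end Cent

section Prod

variable {H₀ : Type u} [Group H₀] [Fintype H₀] {C : Type v} [CommGroup C] [Fintype C]
  [DecidableEq C] (ε : C →* (C →* ℂˣ)) (χ₀ : H₀ → ℂ)

theorem prodChar_thetaFam_shift (n : C → H₀ × C) (c : C) :
    prodChar (thetaFam ε χ₀) (fun y => n (c⁻¹ * y)) =
      prodChar (thetaFam ε χ₀) n * ((ε c (∏ i, (n i).2) : ℂˣ) : ℂ) := by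
  rw [prodChar_apply, prodChar_apply]
  rw [← Fintype.prod_equiv (Equiv.mulLeft c) (fun i => thetaFam ε χ₀ (c * i) (n i))
    (fun y => thetaFam ε χ₀ y (n (c⁻¹ * y))) (by intro i; simp)]
  simp_rw [thetaFam_mul_left]
  rw [Finset.prod_mul_distrib, map_prod, Units.coe_prod]

theorem prodChar_shift_of_mem {n : C → H₀ × C} (hn : n ∈ centSub H₀ C) (c : C) :
    prodChar (thetaFam ε χ₀) (fun y => n (c * y)) = prodChar (thetaFam ε χ₀) n := by
  have h := prodChar_thetaFam_shift ε χ₀ n c⁻¹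
  rw [inv_inv, hn.2, map_one, Units.val_one, mul_one] at h
  exact h

theorem prodChar_comm_eq (hχ₀ : IsIrrCharacter H₀ χ₀) {n : C → H₀ × C}
    (hn : n ∈ centSub H₀ C) (c : C) :
    prodChar (thetaFam ε χ₀) (n * (fun y => n (c * y))⁻¹) = prodChar (thetaFam ε χ₀) 1 := by
  have hΘ : IsIrrCharacter (C → H₀ × C) (prodChar (thetaFam ε χ₀)) :=
    isIrrCharacter_prodChar (fun i => isIrrCharacter_thetaFam ε χ₀ hχ₀ i)
  have hc := centSub_le_center hn
  have h1 := irr_central_mul _ hΘ n hc (fun y => n (c * y))⁻¹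
  have h2 := irr_central_mul _ hΘ n hc n⁻¹
  rw [mul_inv_cancel] at h2
  have h3 : prodChar (thetaFam ε χ₀) (fun y => n (c * y))⁻¹ = prodChar (thetaFam ε χ₀) n⁻¹ :=
    prodChar_shift_of_mem ε χ₀ ((centSub H₀ C).inv_mem hn) c
  rw [h1, h3, ← h2]

end Prod

section Card

variable (H₀ : Type u) [Group H₀] [Finite H₀] (C : Type v) [CommGroup C] [Fintype C]

/-- the product of the components -/
def prodHomC : (C → C) →* C where
  toFun n := ∏ i, n i
  map_one' := by simp
  map_mul' a b := by simp [Finset.prod_mul_distrib]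

theorem card_ker_prodHomC : Nat.card C ^ Nat.card C ≤ Nat.card (prodHomC C).ker * Nat.card C := by
  have h1 := Subgroup.card_mul_index (prodHomC C).ker
  rw [Subgroup.index_ker, Nat.card_fun] at h1
  rw [← h1]
  apply Nat.mul_le_mul_left
  exact Subgroup.card_le_card_group _

theorem card_centSub_ge :
    Nat.card (Subgroup.center H₀) ^ Nat.card C * Nat.card C ^ Nat.card C ≤
      Nat.card (centSub H₀ C) * Nat.card C := by
  have h1 : Nat.card ((C → Subgroup.center H₀) × (prodHomC C).ker) ≤ Nat.card (centSub H₀ C) := by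
    apply Nat.card_le_card_of_injective
      (fun p : (C → Subgroup.center H₀) × (prodHomC C).ker =>
        (⟨fun i => ((p.1 i : H₀), (p.2 : C → C) i), ⟨fun i => (p.1 i).2, p.2.2⟩⟩ : centSub H₀ C))
    intro p p' h
    have h' := congrArg (fun x : centSub H₀ C => (x : C → H₀ × C)) h
    apply Prod.ext
    · funext i
      apply Subtype.ext
      exact congrArg Prod.fst (congrFun h' i)
    · apply Subtype.ext
      funext i
      exact congrArg Prod.snd (congrFun h' i)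
  rw [Nat.card_prod, Nat.card_fun] at h1
  calc Nat.card (Subgroup.center H₀) ^ Nat.card C * Nat.card C ^ Nat.card C
      ≤ Nat.card (Subgroup.center H₀) ^ Nat.card C * (Nat.card (prodHomC C).ker * Nat.card C) :=
        Nat.mul_le_mul_left _ (card_ker_prodHomC C)
    _ = Nat.card (Subgroup.center H₀) ^ Nat.card C * Nat.card (prodHomC C).ker * Nat.card C := by
        ring
    _ ≤ Nat.card (centSub H₀ C) * Nat.card C := Nat.mul_le_mul_right _ h1

end Card

section WreathLevel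

variable (H₀ : Type u) [Group H₀] (C : Type v) [CommGroup C] [Fintype C]

/-- the subgroup of `(H₀ × C) ≀ᵣ C` that becomes the centre -/
def centW : Subgroup ((H₀ × C) ≀ᵣ C) where
  carrier := {w | w.right = 1 ∧ w.left ∈ centSub H₀ C}
  one_mem' := ⟨rfl, (centSub H₀ C).one_mem⟩
  mul_mem' := by
    rintro a b ⟨ha1, ha2⟩ ⟨hb1, hb2⟩
    refine ⟨by rw [mul_right, ha1, hb1, one_mul], ?_⟩
    rw [mul_left, ha1]
    simp only [inv_one, one_mul]
    exact (centSub H₀ C).mul_mem ha2 hb2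
  inv_mem' := by
    rintro a ⟨ha1, ha2⟩
    refine ⟨by rw [inv_right, ha1, inv_one], ?_⟩
    rw [inv_left, ha1]
    simp only [one_mul]
    exact (centSub H₀ C).inv_mem ha2

variable {H₀ C}

theorem mem_centW (w : (H₀ × C) ≀ᵣ C) :
    w ∈ centW H₀ C ↔ w.right = 1 ∧ w.left ∈ centSub H₀ C := Iff.rfl

theorem eq_baseElt_of_mem_centW {w : (H₀ × C) ≀ᵣ C} (hw : w ∈ centW H₀ C) :
    w = baseElt w.left := by
  apply RegularWreathProduct.ext
  · rfl
  · exact hw.1

theorem baseElt_mem_centW {n : C → H₀ × C} (hn : n ∈ centSub H₀ C) :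
    (baseElt n : (H₀ × C) ≀ᵣ C) ∈ centW H₀ C := ⟨rfl, hn⟩

theorem card_centW_ge [Finite H₀] : Nat.card (centSub H₀ C) ≤ Nat.card (centW H₀ C) := by
  classical
  apply Nat.card_le_card_of_injective
    (fun n : centSub H₀ C => (⟨baseElt n.1, baseElt_mem_centW n.2⟩ : centW H₀ C))
  intro n n' h
  have h' := congrArg (fun x : centW H₀ C => (x : (H₀ × C) ≀ᵣ C).left) h
  exact Subtype.ext h'

theorem conj_centW {w : (H₀ × C) ≀ᵣ C} (hw : w ∈ centW H₀ C) (x : (H₀ × C) ≀ᵣ C) :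
    x⁻¹ * w * x = baseElt (fun y => w.left (x.right * y)) := by
  have hx : x = ⟨x.left, x.right⟩ := rfl
  conv_lhs => rw [eq_baseElt_of_mem_centW hw, hx]
  rw [inv_mul_baseElt_mul]
  congr 1
  funext y
  rw [mul_assoc, ← centSub_comm hw.2, ← mul_assoc, inv_mul_cancel, one_mul]

theorem conj_mem_centW {w : (H₀ × C) ≀ᵣ C} (hw : w ∈ centW H₀ C) (x : (H₀ × C) ≀ᵣ C) :
    x⁻¹ * w * x ∈ centW H₀ C := by
  rw [conj_centW hw]
  exact baseElt_mem_centW (shift_mem_centSub hw.2 _)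

theorem baseElt_mul_baseElt {M : Type u} [Group M] {Q : Type v} [Group Q] (a b : Q → M) :
    (baseElt a : M ≀ᵣ Q) * baseElt b = baseElt (a * b) := by
  apply RegularWreathProduct.ext
  · simp
  · simp

theorem baseElt_inv {M : Type u} [Group M] {Q : Type v} [Group Q] (a : Q → M) :
    (baseElt a : M ≀ᵣ Q)⁻¹ = baseElt a⁻¹ := by
  apply RegularWreathProduct.ext
  · funext y
    simp
  · simp

theorem comm_centW {w : (H₀ × C) ≀ᵣ C} (hw : w ∈ centW H₀ C) (g : (H₀ × C) ≀ᵣ C) :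
    w * g * w⁻¹ * g⁻¹ = baseElt (w.left * (fun y => w.left (g.right⁻¹ * y))⁻¹) := by
  have hg : g = ⟨g.left, g.right⟩ := rfl
  have h1 : w⁻¹ = baseElt (w.left)⁻¹ := by
    conv_lhs => rw [eq_baseElt_of_mem_centW hw]
    exact baseElt_inv _
  have h2 : g * w⁻¹ * g⁻¹ = baseElt (fun y => w.left (g.right⁻¹ * y))⁻¹ := by
    rw [h1]
    conv_lhs => rw [hg]
    rw [mul_baseElt_mul_inv]
    congr 1
    funext y
    have h3 : (w.left)⁻¹ ∈ centSub H₀ C := (centSub H₀ C).inv_mem hw.2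
    rw [centSub_comm h3, mul_assoc, mul_inv_cancel, mul_one]
    rfl
  rw [mul_assoc, mul_assoc, ← mul_assoc g, h2]
  conv_lhs => rw [eq_baseElt_of_mem_centW hw]
  exact baseElt_mul_baseElt _ _

end WreathLevel

section General

variable {M : Type u} [Group M] [Fintype M] {Q : Type v} [Group Q] [Fintype Q] [DecidableEq Q]
  [Fintype (M ≀ᵣ Q)]

theorem isIrrCharacter_baseFun {θ : Q → M → ℂ} (h : ∀ q, IsIrrCharacter M (θ q)) :
    IsIrrCharacter (baseSub M Q) (baseFun θ) := by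
  have h1 := isIrrCharacter_prodChar h
  have h2 := isIrrCharacter_comp_equiv (baseEquiv M Q).symm h1
  convert h2 using 1
  funext n
  exact baseFun_eq_prodChar θ n

theorem extendByZero_baseFun_baseElt (θ : Q → M → ℂ) (m : Q → M) :
    extendByZero (baseSub M Q) (baseFun θ) (baseElt m) = prodChar θ m := by
  rw [extendByZero_of_mem _ _ (baseElt_mem m)]
  rfl

theorem index_baseSub : (baseSub M Q).index = Nat.card Q := by
  have h1 := Subgroup.card_mul_index (baseSub M Q)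
  rw [card_baseSub, RegularWreathProduct.card] at h1
  have h2 : 0 < Nat.card M ^ Nat.card Q := pow_pos Nat.card_pos _
  exact Nat.eq_of_mul_eq_mul_left h2 h1

theorem indFun_eq_index_mul {G : Type u} [Group G] [Fintype G] (H : Subgroup G) (θ : H → ℂ)
    (y : G) (v : ℂ) (h : ∀ x : G, extendByZero H θ (x⁻¹ * y * x) = v) :
    indFun H θ y = (H.index : ℂ) * v := by
  rw [indFun_apply]
  simp only [h, Finset.sum_const, Finset.card_univ, nsmul_eq_mul]
  have hH : (Nat.card H : ℂ) ≠ 0 := by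
    have : Nat.card H ≠ 0 := Nat.card_pos.ne'
    exact_mod_cast this
  rw [← Nat.card_eq_fintype_card, ← H.card_mul_index]
  push_cast
  field_simp

end General

section BigChar

variable {H₀ : Type u} [Group H₀] [Fintype H₀] {C : Type v} [CommGroup C] [Fintype C]
  [DecidableEq C] [Fintype ((H₀ × C) ≀ᵣ C)] (ε : C →* (C →* ℂˣ)) (χ₀ : H₀ → ℂ)

/-- the induced character of the twisted wreath product -/
noncomputable def bigChar : (H₀ × C) ≀ᵣ C → ℂ :=
  indFun (baseSub (H₀ × C) C) (baseFun (thetaFam ε χ₀))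

theorem isIrrCharacter_bigChar (hε : Function.Injective ε) (hχ₀ : IsIrrCharacter H₀ χ₀) :
    IsIrrCharacter ((H₀ × C) ≀ᵣ C) (bigChar ε χ₀) := by
  have hθ := fun i => isIrrCharacter_thetaFam ε χ₀ hχ₀ i
  apply Cfsg.Agent.Helper24.Cd2.isIrr_indFun_of_inertia (baseSub (H₀ × C) C)
    (isIrrCharacter_baseFun hθ)
  intro g hg heq
  apply hg
  rw [mem_baseSub]
  rw [conjFun_baseFun (fun q => isClassFunction_of_isIrrCharacter (hθ q))] at heq
  have h1 := baseFun_injective (fun q => hθ (g.right * q)) hθ heq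
  have h2 := congrFun h1 1
  rw [mul_one] at h2
  exact thetaFam_injective ε χ₀ hε (irr_one_ne_zero χ₀ hχ₀) h2

theorem prodChar_thetaFam_one : prodChar (thetaFam ε χ₀) (1 : C → H₀ × C) = χ₀ 1 ^ Nat.card C := by
  rw [prodChar_apply]
  simp only [Pi.one_apply, thetaFam_one, Finset.prod_const, Finset.card_univ,
    Nat.card_eq_fintype_card]

theorem bigChar_eq_of_const (y : (H₀ × C) ≀ᵣ C) (v : ℂ)
    (h : ∀ x : (H₀ × C) ≀ᵣ C,
      extendByZero (baseSub (H₀ × C) C) (baseFun (thetaFam ε χ₀)) (x⁻¹ * y * x) = v) :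
    bigChar ε χ₀ y = (Nat.card C : ℂ) * v := by
  unfold bigChar
  rw [indFun_eq_index_mul _ _ y v h, index_baseSub]

theorem bigChar_one : bigChar ε χ₀ 1 = (Nat.card C : ℂ) * χ₀ 1 ^ Nat.card C := by
  apply bigChar_eq_of_const
  intro x
  rw [mul_one, inv_mul_cancel]
  have : (1 : (H₀ × C) ≀ᵣ C) = baseElt 1 := rfl
  rw [this, extendByZero_baseFun_baseElt, prodChar_thetaFam_one]

theorem bigChar_centW {w : (H₀ × C) ≀ᵣ C} (hw : w ∈ centW H₀ C) :
    bigChar ε χ₀ w = (Nat.card C : ℂ) * prodChar (thetaFam ε χ₀) w.left := by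
  apply bigChar_eq_of_const
  intro x
  rw [conj_centW hw, extendByZero_baseFun_baseElt, prodChar_shift_of_mem ε χ₀ hw.2]

theorem bigChar_comm (hχ₀ : IsIrrCharacter H₀ χ₀) {w : (H₀ × C) ≀ᵣ C} (hw : w ∈ centW H₀ C)
    (g : (H₀ × C) ≀ᵣ C) : bigChar ε χ₀ (w * g * w⁻¹ * g⁻¹) = bigChar ε χ₀ 1 := by
  rw [bigChar_one]
  apply bigChar_eq_of_const
  intro x
  have h1 : x⁻¹ * (w * g * w⁻¹ * g⁻¹) * x =
      (x⁻¹ * w * x) * (x⁻¹ * g * x) * (x⁻¹ * w * x)⁻¹ * (x⁻¹ * g * x)⁻¹ := by group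
  rw [h1, comm_centW (conj_mem_centW hw x), extendByZero_baseFun_baseElt,
    ← prodChar_thetaFam_one ε χ₀]
  exact prodChar_comm_eq ε χ₀ hχ₀ (conj_mem_centW hw x).2 _

theorem charDegree_bigChar (hχ₀ : IsIrrCharacter H₀ χ₀) :
    charDegree (bigChar ε χ₀) = Nat.card C * charDegree χ₀ ^ Nat.card C := by
  have h1 : bigChar ε χ₀ 1 = ((Nat.card C * charDegree χ₀ ^ Nat.card C : ℕ) : ℂ) := by
    rw [bigChar_one, irr_one_eq_charDegree hχ₀]
    push_cast
    rfl
  unfold charDegree at h1 ⊢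
  rw [h1, Complex.natCast_re, Nat.floor_natCast]

theorem card_le_centW_mul (hram : charDegree χ₀ ^ 2 = (Subgroup.center H₀).index)
    (hχ₀ : IsIrrCharacter H₀ χ₀) :
    Nat.card ((H₀ × C) ≀ᵣ C) ≤ Nat.card (centW H₀ C) * charDegree (bigChar ε χ₀) ^ 2 := by
  rw [charDegree_bigChar ε χ₀ hχ₀, RegularWreathProduct.card, Nat.card_prod]
  have h1 := Subgroup.card_mul_index (Subgroup.center H₀)
  rw [← hram] at h1
  have h2 := card_centSub_ge H₀ C
  have h3 := card_centW_ge (H₀ := H₀) (C := C)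
  set q := Nat.card C
  set d := charDegree χ₀
  set n₀ := Nat.card (Subgroup.center H₀)
  calc (Nat.card H₀ * q) ^ q * q = (n₀ ^ q * q ^ q) * (q * (d ^ q) ^ 2) := by
        rw [← h1]; ring
    _ ≤ (Nat.card (centSub H₀ C) * q) * (q * (d ^ q) ^ 2) := Nat.mul_le_mul_right _ h2
    _ = Nat.card (centSub H₀ C) * (q * d ^ q) ^ 2 := by ring
    _ ≤ Nat.card (centW H₀ C) * (q * d ^ q) ^ 2 := Nat.mul_le_mul_right _ h3

end BigChar

section LiftW

variable {H₀ : Type u} [Group H₀] {C : Type v} [CommGroup C] [Fintype C] {X : Type w} [Group X]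
  (f₀ : X →* H₀ ⧸ Subgroup.center H₀)

/-- a set-theoretic lift of `X ≀ᵣ C` to `(H₀ × C) ≀ᵣ C` -/
noncomputable def liftW (x : X ≀ᵣ C) : (H₀ × C) ≀ᵣ C :=
  ⟨fun i => (Quotient.out (f₀ (x.left i)), 1), x.right⟩

theorem liftW_left (x : X ≀ᵣ C) (i : C) :
    (liftW f₀ x).left i = (Quotient.out (f₀ (x.left i)), 1) := rfl

theorem liftW_right (x : X ≀ᵣ C) : (liftW f₀ x).right = x.right := rfl

theorem liftW_mul (x y : X ≀ᵣ C) :
    ∃ δ ∈ centW H₀ C, liftW f₀ (x * y) = δ * (liftW f₀ x * liftW f₀ y) := by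
  obtain ⟨s, hs⟩ : ∃ s : X → H₀, s = fun a => (Quotient.out (f₀ a) : H₀) := ⟨_, rfl⟩
  have hs' : ∀ a, ((s a : H₀) : H₀ ⧸ Subgroup.center H₀) = f₀ a := by
    intro a
    rw [hs]
    exact QuotientGroup.out_eq' _
  refine ⟨baseElt (fun i => (s ((x * y).left i) *
      (s (x.left i) * s (y.left (x.right⁻¹ * i)))⁻¹, 1)), ⟨rfl, ⟨fun i => ?_, by simp⟩⟩, ?_⟩
  · show s ((x * y).left i) * (s (x.left i) * s (y.left (x.right⁻¹ * i)))⁻¹ ∈ Subgroup.center H₀
    rw [← QuotientGroup.eq_one_iff, QuotientGroup.mk_mul, QuotientGroup.mk_inv,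
      QuotientGroup.mk_mul, hs', hs', hs', ← map_mul, ← map_inv, ← map_mul]
    have : (x * y).left i * (x.left i * y.left (x.right⁻¹ * i))⁻¹ = 1 := by
      rw [mul_left]
      simp
    rw [this, map_one]
  · subst hs
    apply RegularWreathProduct.ext
    · funext i
      have h1 : ∀ (a b : (H₀ × C) ≀ᵣ C) (j : C),
          (a * b).left j = a.left j * b.left (a.right⁻¹ * j) := fun a b j => rfl
      rw [h1, h1, baseElt_right, inv_one, one_mul, baseElt_left, liftW_left, liftW_left,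
        liftW_left, liftW_right]
      apply Prod.ext
      · simp only [Prod.fst_mul]
        rw [inv_mul_cancel_right]
      · simp
    · simp [liftW_right]

theorem liftW_mem (hf₀ : Function.Injective f₀) (x : X ≀ᵣ C)
    (hx : liftW f₀ x ∈ centW H₀ C) : x = 1 := by
  apply RegularWreathProduct.ext
  · funext i
    have h1 := hx.2.1 i
    rw [liftW_left] at h1
    have h2 : f₀ (x.left i) = 1 := by
      rw [← QuotientGroup.out_eq' (f₀ (x.left i))]
      exact (QuotientGroup.eq_one_iff _).mpr h1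
    rw [← map_one f₀] at h2
    exact hf₀ h2
  · exact hx.1

end LiftW

section Elements

variable {H₀ : Type u} [Group H₀] [Fintype H₀] {C : Type v} [CommGroup C] [Fintype C]
  [DecidableEq C] (ε : C →* (C →* ℂˣ)) (χ₀ : H₀ → ℂ)

theorem prodChar_thetaFam_eq (n : C → H₀ × C) :
    prodChar (thetaFam ε χ₀) n = (∏ y, χ₀ (n y).1) * ((∏ y, ε y (n y).2 : ℂˣ) : ℂ) := by
  rw [prodChar_apply, Units.coe_prod, ← Finset.prod_mul_distrib]
  rfl

theorem prod_eps_mulSingle (i b : C) : ∏ y, ε y ((Pi.mulSingle i b : C → C) y) = ε i b := by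
  rw [Finset.prod_eq_single i]
  · rw [Pi.mulSingle_eq_same]
  · intro y _ hy
    rw [Pi.mulSingle_eq_of_ne hy, map_one]
  · intro h
    exact absurd (Finset.mem_univ i) h

theorem prod_mulSingle (i b : C) : ∏ y, (Pi.mulSingle i b : C → C) y = b := by
  rw [Finset.prod_eq_single i]
  · rw [Pi.mulSingle_eq_same]
  · intro y _ hy
    rw [Pi.mulSingle_eq_of_ne hy]
  · intro h
    exact absurd (Finset.mem_univ i) h

/-- the element of `centSub` attached to a central element of `H₀` -/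
def nZ (z : H₀) : C → H₀ × C := fun y => ((Pi.mulSingle 1 z : C → H₀) y, 1)

theorem nZ_mem {z : H₀} (hz : z ∈ Subgroup.center H₀) : (nZ z : C → H₀ × C) ∈ centSub H₀ C := by
  refine ⟨fun i => ?_, by simp [nZ]⟩
  show (Pi.mulSingle 1 z : C → H₀) i ∈ Subgroup.center H₀
  rw [Pi.mulSingle_apply]
  split_ifs
  · exact hz
  · exact Subgroup.one_mem _

theorem nZ_pow {z : H₀} {p : ℕ} (hz : z ^ p = 1) : (nZ z : C → H₀ × C) ^ p = 1 := by
  funext y
  apply Prod.ext
  · show ((Pi.mulSingle 1 z : C → H₀) y) ^ p = 1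
    rw [← Pi.pow_apply, ← Pi.mulSingle_pow, hz, Pi.mulSingle_one]
    rfl
  · show (1 : C) ^ p = 1
    exact one_pow p

theorem prodChar_nZ (h1 : χ₀ 1 ≠ 0) {z : H₀}
    (h : prodChar (thetaFam ε χ₀) (nZ z) = prodChar (thetaFam ε χ₀) 1) : χ₀ z = χ₀ 1 := by
  rw [prodChar_thetaFam_eq, prodChar_thetaFam_eq] at h
  have e1 : (∏ y : C, ε y ((nZ z : C → H₀ × C) y).2) = 1 := by simp [nZ]
  have e2 : (∏ y : C, ε y ((1 : C → H₀ × C) y).2) = 1 := by simp
  rw [e1, e2, Units.val_one, mul_one, mul_one] at h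
  rw [← Finset.mul_prod_erase Finset.univ _ (Finset.mem_univ (1 : C)),
    ← Finset.mul_prod_erase Finset.univ (fun y : C => χ₀ ((1 : C → H₀ × C) y).1)
      (Finset.mem_univ (1 : C))] at h
  have e3 : ∏ y ∈ Finset.univ.erase (1 : C), χ₀ ((nZ z : C → H₀ × C) y).1 =
      ∏ y ∈ Finset.univ.erase (1 : C), χ₀ ((1 : C → H₀ × C) y).1 := by
    apply Finset.prod_congr rfl
    intro y hy
    have hy1 : y ≠ 1 := Finset.ne_of_mem_erase hy
    show χ₀ ((Pi.mulSingle 1 z : C → H₀) y) = χ₀ 1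
    rw [Pi.mulSingle_eq_of_ne hy1]
  have e4 : ∏ y ∈ Finset.univ.erase (1 : C), χ₀ ((1 : C → H₀ × C) y).1 ≠ 0 := by
    rw [Finset.prod_ne_zero_iff]
    intro y _
    exact h1
  rw [e3] at h
  have e5 : χ₀ ((nZ z : C → H₀ × C) 1).1 = χ₀ z := by
    show χ₀ ((Pi.mulSingle 1 z : C → H₀) 1) = χ₀ z
    rw [Pi.mulSingle_eq_same]
  rw [e5] at h
  exact mul_right_cancel₀ e4 h

/-- the element of `centSub` attached to a pair of elements of `C` -/
def nC (g a : C) : C → H₀ × C :=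
  fun y => (1, (Pi.mulSingle 1 a : C → C) y * (Pi.mulSingle g a⁻¹ : C → C) y)

theorem nC_mem (g a : C) : (nC g a : C → H₀ × C) ∈ centSub H₀ C := by
  refine ⟨fun i => Subgroup.one_mem _, ?_⟩
  show ∏ y, ((Pi.mulSingle 1 a : C → C) y * (Pi.mulSingle g a⁻¹ : C → C) y) = 1
  rw [Finset.prod_mul_distrib, prod_mulSingle, prod_mulSingle, mul_inv_cancel]

theorem nC_pow (g : C) {a : C} {p : ℕ} (ha : a ^ p = 1) : (nC g a : C → H₀ × C) ^ p = 1 := by
  funext y
  apply Prod.ext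
  · show (1 : H₀) ^ p = 1
    exact one_pow p
  · show ((Pi.mulSingle 1 a : C → C) y * (Pi.mulSingle g a⁻¹ : C → C) y) ^ p = 1
    have e1 : ((Pi.mulSingle 1 a : C → C) y) ^ p = 1 := by
      have := congrFun (Pi.mulSingle_pow (f := fun _ : C => C) (1 : C) a p) y
      rw [ha, Pi.mulSingle_one] at this
      exact this.symm
    have e2 : ((Pi.mulSingle g a⁻¹ : C → C) y) ^ p = 1 := by
      have := congrFun (Pi.mulSingle_pow (f := fun _ : C => C) g a⁻¹ p) y
      rw [inv_pow, ha, inv_one, Pi.mulSingle_one] at this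
      exact this.symm
    rw [mul_pow, e1, e2, one_mul]

theorem prodChar_nC (h1 : χ₀ 1 ≠ 0) {g a : C}
    (h : prodChar (thetaFam ε χ₀) (nC g a) = prodChar (thetaFam ε χ₀) 1) : ε g a = 1 := by
  rw [prodChar_thetaFam_eq, prodChar_thetaFam_eq] at h
  have e1 : (∏ y : C, ε y ((nC g a : C → H₀ × C) y).2) = (ε g a)⁻¹ := by
    show (∏ y : C, ε y ((Pi.mulSingle 1 a : C → C) y * (Pi.mulSingle g a⁻¹ : C → C) y)) = _
    simp_rw [map_mul]
    rw [Finset.prod_mul_distrib, prod_eps_mulSingle, prod_eps_mulSingle, map_one,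
      MonoidHom.one_apply, one_mul, map_inv]
  have e2 : (∏ y : C, ε y ((1 : C → H₀ × C) y).2) = 1 := by simp
  have e3 : ∏ y : C, χ₀ ((nC g a : C → H₀ × C) y).1 = ∏ y : C, χ₀ ((1 : C → H₀ × C) y).1 := rfl
  have e4 : ∏ y : C, χ₀ ((1 : C → H₀ × C) y).1 ≠ 0 := by
    rw [Finset.prod_ne_zero_iff]
    intro y _
    exact h1
  rw [e1, e2, e3] at h
  have h2 := mul_left_cancel₀ e4 h
  have h3 : (ε g a)⁻¹ = 1 := Units.ext h2
  exact inv_eq_one.mp h3

end Elements

section Step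

theorem baseElt_pow {M : Type u} [Group M] {Q : Type v} [Group Q] (a : Q → M) (m : ℕ) :
    (baseElt a : M ≀ᵣ Q) ^ m = baseElt (a ^ m) := by
  induction m with
  | zero => rw [pow_zero, pow_zero]; rfl
  | succ k ih => rw [pow_succ, ih, baseElt_mul_baseElt, ← pow_succ]

variable {H₀ : Type u} [Group H₀] [Finite H₀] {C : Type} [CommGroup C] [Fintype C]
  [DecidableEq C]

/-- **the induction step**: from a group of central type `H₀` build a group of central type whose
central quotient contains `X ≀ᵣ C` whenever `X` embeds in the central quotient of `H₀`. -/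
theorem central_type_step (ε : C →* (C →* ℂˣ)) (hε : Function.Injective ε)
    {χ₀ : H₀ → ℂ} (hχ₀ : IsIrrCharacter H₀ χ₀) (hfaith : ∀ h : H₀, χ₀ h = χ₀ 1 → h = 1)
    (hram : charDegree χ₀ ^ 2 = (Subgroup.center H₀).index)
    {X : Type w} [Group X] (f₀ : X →* H₀ ⧸ Subgroup.center H₀) (hf₀ : Function.Injective f₀) :
    ∃ (H : Type u) (_ : Group H) (_ : Finite H) (ψ : H → ℂ), IsIrrCharacter H ψ ∧
      (∀ h : H, ψ h = ψ 1 → h = 1) ∧ charDegree ψ ^ 2 = (Subgroup.center H).index ∧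
      charDegree ψ = Nat.card C * charDegree χ₀ ^ Nat.card C ∧
      (∃ F : X ≀ᵣ C →* H ⧸ Subgroup.center H, Function.Injective F) ∧
      (∀ m : ℕ, (∀ z ∈ Subgroup.center H₀, z ^ m = 1) → (∀ a : C, a ^ m = 1) →
        Nat.card (Subgroup.center H) ∣ m) ∧
      (∀ p : ℕ, p.Prime → p ∣ Nat.card (Subgroup.center H₀) →
        p ∣ Nat.card (Subgroup.center H)) ∧
      (∀ p : ℕ, p.Prime → (∀ a : C, a ^ p = 1) → Nontrivial C →
        p ∣ Nat.card (Subgroup.center H)) := by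
  classical
  letI : Fintype H₀ := Fintype.ofFinite H₀
  letI : Fintype ((H₀ × C) ≀ᵣ C) := Fintype.ofFinite _
  have hχ := isIrrCharacter_bigChar ε χ₀ hε hχ₀
  have hχc := isCharacter_of_isIrrCharacter hχ
  have h10 : χ₀ 1 ≠ 0 := irr_one_ne_zero χ₀ hχ₀
  obtain ⟨K, hK⟩ : ∃ K : Subgroup ((H₀ × C) ≀ᵣ C), K = charKer hχc := ⟨_, rfl⟩
  haveI : K.Normal := hK ▸ charKer_normal hχc
  have hKmem : ∀ w, w ∈ K ↔ bigChar ε χ₀ w = bigChar ε χ₀ 1 := by
    intro w
    rw [hK]
    exact mem_charKer hχc w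
  obtain ⟨ψ, hψ, hval, hψf, hψram, hcen, hKZ⟩ := central_type_quotient hχ (centW H₀ C)
    (fun w hw g => bigChar_comm ε χ₀ hχ₀ hw g) (card_le_centW_mul ε χ₀ hram hχ₀) K hKmem
  have hdeg : charDegree ψ = charDegree (bigChar ε χ₀) := by
    unfold charDegree
    rw [← QuotientGroup.mk_one K, hval]
  -- elements of prime order in the centre
  have hL : ∀ (p : ℕ), p.Prime → ∀ n : C → H₀ × C, n ∈ centSub H₀ C → n ^ p = 1 →
      prodChar (thetaFam ε χ₀) n ≠ prodChar (thetaFam ε χ₀) 1 →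
      p ∣ Nat.card (Subgroup.center (((H₀ × C) ≀ᵣ C) ⧸ K)) := by
    intro p hp n hn hnp hne
    have hx : QuotientGroup.mk' K (baseElt n) ∈ Subgroup.center (((H₀ × C) ≀ᵣ C) ⧸ K) := by
      rw [hcen]
      exact ⟨baseElt n, baseElt_mem_centW hn, rfl⟩
    apply prime_dvd_card_of_mem _ hp hx
    · intro h
      have h1 : (baseElt n : (H₀ × C) ≀ᵣ C) ∈ K := (QuotientGroup.eq_one_iff _).mp h
      rw [hKmem, bigChar_centW ε χ₀ (baseElt_mem_centW hn),
        bigChar_centW ε χ₀ (centW H₀ C).one_mem] at h1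
      have hc : (Nat.card C : ℂ) ≠ 0 := by
        have : Nat.card C ≠ 0 := Nat.card_pos.ne'
        exact_mod_cast this
      exact hne (mul_left_cancel₀ hc h1)
    · rw [← map_pow, baseElt_pow, hnp]
      exact map_one _
  refine ⟨((H₀ × C) ≀ᵣ C) ⧸ K, inferInstance, inferInstance, ψ, hψ, hψf, hψram, ?_, ?_, ?_, ?_, ?_⟩
  · rw [hdeg, charDegree_bigChar ε χ₀ hχ₀]
  · exact ⟨ctLift hcen hKZ (liftW f₀) (liftW_mul f₀),
      ctLift_injective hcen hKZ _ _ (fun x hx => liftW_mem f₀ hf₀ x hx)⟩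
  · intro m hz ha
    haveI := center_cyclic_of_faithful hψ hψf
    apply card_dvd_of_forall_pow
    intro y
    have hy : (y : ((H₀ × C) ≀ᵣ C) ⧸ K) ∈ (centW H₀ C).map (QuotientGroup.mk' K) := hcen ▸ y.2
    obtain ⟨w, hw, hwy⟩ := hy
    apply Subtype.ext
    rw [Subgroup.coe_pow, Subgroup.coe_one, ← hwy, ← map_pow, eq_baseElt_of_mem_centW hw,
      baseElt_pow]
    have h1 : w.left ^ m = 1 := by
      funext i
      apply Prod.ext
      · exact hz _ (hw.2.1 i)
      · exact ha _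
    rw [h1]
    exact map_one _
  · intro p hp hpd
    haveI : Fact p.Prime := ⟨hp⟩
    obtain ⟨z, hz⟩ := exists_prime_orderOf_dvd_card' p hpd
    have hz1 : (z : H₀) ^ p = 1 := by
      have := pow_orderOf_eq_one z
      rw [hz] at this
      have h2 := congrArg Subtype.val this
      rwa [Subgroup.coe_pow, Subgroup.coe_one] at h2
    have hz2 : (z : H₀) ≠ 1 := by
      intro h
      have : z = 1 := Subtype.ext h
      rw [this, orderOf_one] at hz
      exact hp.one_lt.ne hz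
    apply hL p hp (nZ (z : H₀)) (nZ_mem z.2) (nZ_pow hz1)
    intro h
    exact hz2 (hfaith _ (prodChar_nZ ε χ₀ h10 h))
  · intro p hp hpow hnt
    obtain ⟨g, hg⟩ := exists_ne (1 : C)
    have h1 : ε g ≠ 1 := by
      intro h
      rw [← map_one ε] at h
      exact hg (hε h)
    obtain ⟨a, ha⟩ : ∃ a, ε g a ≠ 1 := by
      by_contra hcon
      apply h1
      ext a
      by_contra h2
      exact hcon ⟨a, fun h3 => h2 (by rw [h3]; rfl)⟩
    apply hL p hp (nC g a) (nC_mem g a) (nC_pow g (hpow a))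
    intro h
    exact ha (prodChar_nC ε χ₀ h10 h)

end Step

end Cfsg.Agent.Helper23.MGrp
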