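import Mathlib
import Cfsg.Agent.Lib.Helper3.DPDefs
import Cfsg.Agent.Lib.Helper3.DPBasA
import Cfsg.Agent.Lib.Helper4.Sharp2

/-! S2205 piece SHARP (helper23), per `plans/S2205_Skel.lean.txt` (helper3). -/

set_option autoImplicit false
set_option linter.unusedSectionVars false
open scoped Pointwise
open MulAction

namespace Cfsg.Agent.Helper3.DP

variable {G Ω : Type*} [Group G] [Finite G] [Fintype Ω] [MulAction G Ω] [FaithfulSMul G Ω] {p : ℕ}

/-- `p ^ 2 + 1 = r ^ j` with `p`, `r` prime forces `p = 2`. -/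
theorem sharp_arith {p r j : ℕ} (hp : p.Prime) (hr : r.Prime) (h : p ^ 2 + 1 = r ^ j) : p = 2 := by
  by_contra hp2
  have hodd : p % 2 = 1 := by
    rcases hp.eq_two_or_odd with h2 | h2
    · exact absurd h2 hp2
    · exact h2
  -- `p ^ 2 + 1 ≡ 2 mod 4`
  have hsq : (p ^ 2 + 1) % 4 = 2 := by
    have : p % 4 = 1 ∨ p % 4 = 3 := by omega
    rcases this with h4 | h4
    · have : p ^ 2 % 4 = 1 := by rw [Nat.pow_mod, h4]
      omega
    · have : p ^ 2 % 4 = 1 := by rw [Nat.pow_mod, h4]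
      omega
  have h2r : 2 ∣ r ^ j := by rw [← h]; omega
  have hr2 : r = 2 := ((Nat.prime_dvd_prime_iff_eq Nat.prime_two hr).1
    (Nat.prime_two.dvd_of_dvd_pow h2r)).symm
  subst hr2
  rcases j with _ | _ | j
  · rw [pow_zero] at h; omega
  · rw [pow_one] at h
    have := hp.two_le
    nlinarith
  · have : 4 ∣ p ^ 2 + 1 := by
      rw [h]; exact ⟨2 ^ j, by ring⟩
    omega

/-- PIECE SHARP (`D = 1`). -/
theorem endgame_sharp (S : Setup G Ω p) {x : Ω} (hx : x ≠ S.a)
    (hD : stabilizer G S.a ⊓ stabilizer G x = ⊥) : p = 2 ∧ Nat.card G = 20 := by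
  have h : Cfsg.Agent.Helper4.Sharp2 G Ω := by
    constructor
    · intro a b c d hab hcd
      exact S.two a b c d hab hcd
    · intro a' b' g hab ha hb
      obtain ⟨t, hta, htb⟩ := S.two S.a x a' b' (Ne.symm hx) hab
      have hmem : t⁻¹ * g * t ∈ stabilizer G S.a ⊓ stabilizer G x := by
        refine Subgroup.mem_inf.mpr ⟨?_, ?_⟩
        · rw [mem_stabilizer_iff, mul_smul, mul_smul, hta, ha, ← hta, inv_smul_smul]
        · rw [mem_stabilizer_iff, mul_smul, mul_smul, htb, hb, ← htb, inv_smul_smul]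
      rw [hD, Subgroup.mem_bot] at hmem
      have : g = t * (t⁻¹ * g * t) * t⁻¹ := by group
      rw [this, hmem]; group
  have h2' : ∃ a b : Ω, a ≠ b := ⟨x, S.a, hx⟩
  obtain ⟨r, hr, hdvd, hexp⟩ := h.N_exponent h2'
  have hNp : IsPGroup r (h.N h2') := by
    intro y
    refine ⟨1, ?_⟩
    rw [pow_one]
    apply Subtype.ext
    rw [Subgroup.coe_pow]
    exact hexp y y.2
  have : Fact r.Prime := ⟨hr⟩
  obtain ⟨j, hj⟩ := IsPGroup.iff_card.mp hNp
  rw [h.card_N' h2', S.card] at hj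
  have hp2 : p = 2 := sharp_arith S.prime hr hj
  refine ⟨hp2, ?_⟩
  rw [S.card_G, S.card_stab hx, hD, Subgroup.card_bot, hp2]
  norm_num

end Cfsg.Agent.Helper3.DP
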