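import Mathlib
import Cfsg.Agent.Lib.Helper3.DPDefs
import Cfsg.Agent.Lib.Helper3.DPBasA
import Cfsg.Agent.Lib.Helper23.TT2REG
import Cfsg.Agent.S0741

/-! S2205 piece ZASS (helper23), per `plans/S2205_Skel.lean.txt` (helper3). -/

set_option autoImplicit false
set_option linter.unusedSectionVars false
open scoped Pointwise
open MulAction

namespace Cfsg.Agent.Helper3.DP

variable {G Ω : Type*} [Group G] [Finite G] [Fintype Ω] [MulAction G Ω] [FaithfulSMul G Ω] {p : ℕ}

/-- PIECE ZASS (`D ≠ 1`). -/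
theorem endgame_zass (S : Setup G Ω p) {x : Ω} (hx : x ≠ S.a)
    (hD : stabilizer G S.a ⊓ stabilizer G x ≠ ⊥)
    (hsr : ∀ δ ∈ stabilizer G S.a ⊓ stabilizer G x, δ ≠ 1 → ∀ y : Ω, δ • y = y → y = S.a ∨ y = x)
    (hdvd : Nat.card ↥(stabilizer G S.a ⊓ stabilizer G x) ∣ p - 1) : False := by
  set D := stabilizer G S.a ⊓ stabilizer G x with hDdef
  have hcardD1 : 1 < Nat.card D := (Subgroup.one_lt_card_iff_ne_bot D).2 hD
  have hp2 := S.two_le
  have hp3 : 3 ≤ p := by
    by_contra h
    have h2 : p = 2 := by omega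
    rw [h2] at hdvd
    have := Nat.le_of_dvd (by norm_num) hdvd
    omega
  have hodd : p % 2 = 1 := (S.prime.eq_two_or_odd).resolve_left (by omega)
  have hcardΩ : Nat.card Ω = p ^ 2 + 1 := by rw [Nat.card_eq_fintype_card, S.card]
  have hsq4 : p ^ 2 % 4 = 1 := by
    have : p % 4 = 1 ∨ p % 4 = 3 := by omega
    rcases this with h4 | h4
    · rw [Nat.pow_mod, h4]
    · rw [Nat.pow_mod, h4]
  have hmod4 : Nat.card Ω % 4 = 2 := by rw [hcardΩ]; omega
  have hp9 : 9 ≤ p ^ 2 := by nlinarith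
  have h2 : ∀ a b c d : Ω, a ≠ b → c ≠ d → ∃ g : G, g • a = c ∧ g • b = d := S.two
  -- the Zassenhaus property
  have hZ : Cfsg.IsZassenhausGroup G Ω := by
    refine ⟨inferInstance, is_two_pretransitive_iff.mpr (fun hab hcd => S.two _ _ _ _ hab hcd),
      ?_, ?_, ?_⟩
    · intro g a' b' c' hab hbc hac ha hb hc
      obtain ⟨t, hta, htb⟩ := S.two S.a x a' b' (Ne.symm hx) hab
      have hmem : t⁻¹ * g * t ∈ D := by
        refine Subgroup.mem_inf.mpr ⟨?_, ?_⟩
        · rw [mem_stabilizer_iff, mul_smul, mul_smul, hta, ha, ← hta, inv_smul_smul]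
        · rw [mem_stabilizer_iff, mul_smul, mul_smul, htb, hb, ← htb, inv_smul_smul]
      by_contra hg1
      have hne : t⁻¹ * g * t ≠ 1 := by
        intro h1
        apply hg1
        have : g = t * (t⁻¹ * g * t) * t⁻¹ := by group
        rw [this, h1]; group
      have hfix : (t⁻¹ * g * t) • (t⁻¹ • c') = t⁻¹ • c' := by
        rw [mul_smul, mul_smul, smul_inv_smul, hc]
      rcases hsr _ hmem hne _ hfix with h1 | h1
      · apply hac; rw [← hta, ← h1, smul_inv_smul]
      · apply hbc; rw [← htb, ← h1, smul_inv_smul]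
    · obtain ⟨δ, hδ, hδ1⟩ : ∃ δ ∈ D, δ ≠ 1 := by
        by_contra hcon
        push Not at hcon
        exact hD ((Subgroup.eq_bot_iff_forall D).2 hcon)
      exact ⟨δ, hδ1, S.a, x, Ne.symm hx, (Subgroup.mem_inf.1 hδ).1, (Subgroup.mem_inf.1 hδ).2⟩
    · intro N hN hNt
      by_contra hcon
      push Not at hcon
      have hN' : N.Normal := hN
      refine Cfsg.Agent.Helper17.TT2.not_regular h2 hmod4 (by omega) N (fun a b => ?_) S.a ?_
      · obtain ⟨⟨g, hg⟩, hgab⟩ := hNt.exists_smul_eq a b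
        exact ⟨g, hg, hgab⟩
      · rw [eq_bot_iff]
        rintro g ⟨hgN, hga⟩
        have : (⟨g, hgN⟩ : N) ∈ stabilizer N S.a := by
          rw [mem_stabilizer_iff]; exact hga
        rw [hcon S.a, Subgroup.mem_bot] at this
        rw [Subgroup.mem_bot]; exact congrArg Subtype.val this
  -- `|D|` is even
  have heven : Even (Nat.card D) := by
    by_contra hoddD
    rw [Nat.not_even_iff_odd] at hoddD
    have hcardG : Nat.card G = (p ^ 2 + 1) * (p ^ 2 * Nat.card D) := by
      rw [S.card_G, S.card_stab hx]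
    have hG4 : Nat.card G % 4 = 2 := by
      obtain ⟨m, hm⟩ := hoddD
      obtain ⟨q, hq⟩ : ∃ q, p ^ 2 = 4 * q + 1 := ⟨p ^ 2 / 4, by omega⟩
      have ho : Odd ((2 * q + 1) * ((4 * q + 1) * (2 * m + 1))) :=
        (odd_two_mul_add_one q).mul (Odd.mul (⟨2 * q, by ring⟩ : Odd (4 * q + 1))
          (odd_two_mul_add_one m))
      obtain ⟨t, ht⟩ := ho
      have : Nat.card G = 2 * ((2 * q + 1) * ((4 * q + 1) * (2 * m + 1))) := by
        rw [hcardG, hm, hq]; ring
      rw [this, ht]; omega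
    obtain ⟨K, hKn, hKi, hKo, _⟩ := Cfsg.Agent.Helper17.TT2.exists_odd_subgroup hG4
    have hKcard : Nat.card K * 2 = Nat.card G := by rw [← hKi, Subgroup.card_mul_index]
    have hGge : 10 ≤ Nat.card G := by
      rw [hcardG]
      have : 1 ≤ p ^ 2 * Nat.card D := Nat.mul_pos (by omega) (by omega)
      nlinarith
    have hKne : K ≠ ⊥ := by
      intro h
      rw [h, Subgroup.card_bot] at hKcard
      omega
    have hKn' : K.Normal := hKn
    have hKt := Cfsg.Agent.Helper17.TT2.normal_transitive h2 K hKne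
    have hpre : IsPretransitive K Ω := by
      refine ⟨fun a b => ?_⟩
      obtain ⟨g, hg, hgab⟩ := hKt a b
      exact ⟨⟨g, hg⟩, hgab⟩
    have h1 := MulAction.index_stabilizer_of_transitive K S.a
    have h3 : Nat.card Ω ∣ Nat.card K := by
      rw [← h1]; exact Subgroup.index_dvd_card _
    have : Even (Nat.card K) := by
      refine (even_iff_two_dvd.2 ?_)
      refine dvd_trans ?_ h3
      rw [hcardΩ]; omega
    exact (Nat.not_even_iff_odd.2 hKo) this
  have key : Fintype.card Ω - 2 ≤ 2 * Nat.card D :=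
    Cfsg.Agent.S0741.result hZ (Ne.symm hx) heven
  rw [S.card] at key
  have hle := Nat.le_of_dvd (by omega) hdvd
  have hle' : Nat.card D ≤ p - 1 := hle
  have : p ^ 2 + 1 - 2 ≤ 2 * (p - 1) := le_trans key (by omega)
  have h4 : p ^ 2 ≤ 2 * p := by omega
  nlinarith

end Cfsg.Agent.Helper3.DP
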