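import Mathlib

set_option autoImplicit false
set_option linter.style.haveILetI false

/-!
# Groups whose squares lie in the derived subgroup

`SqInComm R` : every square of `R` lies in the commutator subgroup (the abelianization is
elementary abelian of exponent two).  Closure properties: surjective images, generating sets,
products, the wreath product with a group of order two (as a semidirect product by `ℤˣ`),
generalized quaternion groups.
-/

namespace Cfsg.Agent.Helper23.SqComm

universe u v

open scoped commutatorElement

/-- every square lies in the commutator subgroup -/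
def SqInComm (R : Type u) [Group R] : Prop := ∀ x : R, x ^ 2 ∈ commutator R

/-- the subgroup of elements whose square is a product of commutators -/
def sqKer (R : Type u) [Group R] : Subgroup R :=
  ((powMonoidHom 2 : Abelianization R →* Abelianization R).comp Abelianization.of).ker

theorem mem_sqKer {R : Type u} [Group R] (x : R) : x ∈ sqKer R ↔ x ^ 2 ∈ commutator R := by
  unfold sqKer
  rw [MonoidHom.mem_ker, MonoidHom.comp_apply, powMonoidHom_apply, ← map_pow,
    ← MonoidHom.mem_ker, Abelianization.ker_of]

theorem sqInComm_iff {R : Type u} [Group R] : SqInComm R ↔ sqKer R = ⊤ := by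
  constructor
  · intro h
    rw [eq_top_iff]
    intro x _
    exact (mem_sqKer x).2 (h x)
  · intro h x
    rw [← mem_sqKer, h]
    trivial

/-- generating set criterion -/
theorem sqInComm_of_closure {R : Type u} [Group R] (S : Set R) (hS : Subgroup.closure S = ⊤)
    (h : ∀ x ∈ S, x ^ 2 ∈ commutator R) : SqInComm R := by
  rw [sqInComm_iff, eq_top_iff, ← hS, Subgroup.closure_le]
  intro x hx
  exact (mem_sqKer x).2 (h x hx)

theorem map_commutator_le {R : Type u} {S : Type v} [Group R] [Group S] (f : R →* S) :
    (commutator R).map f ≤ commutator S := by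
  rw [commutator_def, commutator_def, Subgroup.map_commutator]
  exact Subgroup.commutator_mono le_top le_top

theorem SqInComm.of_surjective {R : Type u} {S : Type v} [Group R] [Group S] (f : R →* S)
    (hf : Function.Surjective f) (h : SqInComm R) : SqInComm S := by
  intro x
  obtain ⟨r, rfl⟩ := hf x
  rw [← map_pow]
  exact map_commutator_le f (Subgroup.mem_map_of_mem f (h r))

theorem SqInComm.prod {R : Type u} {S : Type v} [Group R] [Group S] (hR : SqInComm R)
    (hS : SqInComm S) : SqInComm (R × S) := by
  intro x
  have h1 : (MonoidHom.inl R S) (x.1 ^ 2) ∈ commutator (R × S) :=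
    map_commutator_le _ (Subgroup.mem_map_of_mem _ (hR x.1))
  have h2 : (MonoidHom.inr R S) (x.2 ^ 2) ∈ commutator (R × S) :=
    map_commutator_le _ (Subgroup.mem_map_of_mem _ (hS x.2))
  have h3 : x ^ 2 = (MonoidHom.inl R S) (x.1 ^ 2) * (MonoidHom.inr R S) (x.2 ^ 2) := by
    ext <;> simp
  rw [h3]
  exact Subgroup.mul_mem _ h1 h2

/-- the homomorphism from `ℤˣ` determined by an involution -/
def invHom {M : Type u} [Monoid M] (s : M) (hs : s * s = 1) : ℤˣ →* M where
  toFun u := if u = 1 then 1 else s
  map_one' := by simp
  map_mul' := by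
    intro u v
    rcases Int.units_eq_one_or u with rfl | rfl <;> rcases Int.units_eq_one_or v with rfl | rfl
    · simp
    · simp
    · simp
    · have : (-1 : ℤˣ) ≠ 1 := by decide
      simp [this, hs]

@[simp] theorem invHom_one {M : Type u} [Monoid M] (s : M) (hs : s * s = 1) :
    invHom s hs 1 = 1 := by simp

@[simp] theorem invHom_neg_one {M : Type u} [Monoid M] (s : M) (hs : s * s = 1) :
    invHom s hs (-1) = s := by
  have : (-1 : ℤˣ) ≠ 1 := by decide
  simp [invHom, this]

/-- the swap automorphism of `R × R` -/
def swapAut (R : Type u) [Group R] : MulAut (R × R) := MulEquiv.prodComm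

theorem swapAut_mul_self (R : Type u) [Group R] : swapAut R * swapAut R = 1 := by
  ext x <;> rfl

/-- the action of `ℤˣ` on `R × R` by swapping -/
def swapHom (R : Type u) [Group R] : ℤˣ →* MulAut (R × R) :=
  invHom (swapAut R) (swapAut_mul_self R)

/-- the wreath product of `R` with a group of order two -/
abbrev Wr2 (R : Type u) [Group R] : Type u := (R × R) ⋊[swapHom R] ℤˣ

theorem card_Wr2 (R : Type u) [Group R] : Nat.card (Wr2 R) = Nat.card R * Nat.card R * 2 := by
  rw [SemidirectProduct.card, Nat.card_prod]
  congr 1
  rw [Nat.card_eq_fintype_card]; rfl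

theorem SqInComm.wr2 {R : Type u} [Group R] (hR : SqInComm R) : SqInComm (Wr2 R) := by
  apply sqInComm_of_closure
    (Set.range (SemidirectProduct.inl : R × R →* Wr2 R) ∪
      Set.range (SemidirectProduct.inr : ℤˣ →* Wr2 R))
  · rw [eq_top_iff]
    intro x _
    rw [← SemidirectProduct.inl_left_mul_inr_right x]
    apply Subgroup.mul_mem
    · exact Subgroup.subset_closure (Or.inl ⟨_, rfl⟩)
    · exact Subgroup.subset_closure (Or.inr ⟨_, rfl⟩)
  · rintro x (⟨n, rfl⟩ | ⟨g, rfl⟩)
    · rw [← map_pow]
      exact map_commutator_le _ (Subgroup.mem_map_of_mem _ (hR.prod hR n))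
    · rw [← map_pow]
      have : g ^ 2 = 1 := by
        rcases Int.units_eq_one_or g with rfl | rfl <;> simp
      rw [this, map_one]
      exact Subgroup.one_mem _

/-- extension of a homomorphism on `R × R` to the wreath product with `ℤˣ` -/
def wr2Lift {R : Type u} {H : Type v} [Group R] [Group H] (f : R × R →* H) (s : H)
    (hs : s * s = 1) (hc : ∀ a b, f (b, a) = s * f (a, b) * s⁻¹) : Wr2 R →* H :=
  SemidirectProduct.lift f (invHom s hs) (by
    intro g
    rcases Int.units_eq_one_or g with rfl | rfl
    · ext x
      simp [swapHom]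
    · ext x
      obtain ⟨a, b⟩ := x
      simp only [swapHom, invHom_neg_one, MonoidHom.comp_apply, MulEquiv.coe_toMonoidHom,
        MulAut.conj_apply]
      exact hc a b)

theorem wr2Lift_apply {R : Type u} {H : Type v} [Group R] [Group H] (f : R × R →* H) (s : H)
    (hs : s * s = 1) (hc : ∀ a b, f (b, a) = s * f (a, b) * s⁻¹) (x : Wr2 R) :
    wr2Lift f s hs hc x = f x.left * invHom s hs x.right := rfl

theorem wr2Lift_injective {R : Type u} {H : Type v} [Group R] [Group H] (f : R × R →* H)
    (s : H) (hs : s * s = 1) (hc : ∀ a b, f (b, a) = s * f (a, b) * s⁻¹)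
    (hf : Function.Injective f) (hs' : s ∉ f.range) :
    Function.Injective (wr2Lift f s hs hc) := by
  rw [injective_iff_map_eq_one]
  intro x hx
  rw [wr2Lift_apply] at hx
  rcases Int.units_eq_one_or x.right with h | h
  · rw [h, invHom_one, mul_one] at hx
    have h1 : x.left = 1 := by
      apply hf
      rw [hx, map_one]
    ext <;> simp [h, h1]
  · exfalso
    rw [h, invHom_neg_one] at hx
    apply hs'
    refine ⟨x.left⁻¹, ?_⟩
    rw [map_inv]
    exact inv_eq_of_mul_eq_one_right hx

open QuaternionGroup in
theorem a_two_mem_commutator (n : ℕ) : (a 2 : QuaternionGroup n) ∈ commutator (QuaternionGroup n) := by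
  have h1 : ⁅(xa 0 : QuaternionGroup n), a (-1)⁆ ∈ commutator (QuaternionGroup n) := by
    rw [commutator_def]
    exact Subgroup.commutator_mem_commutator (Subgroup.mem_top _) (Subgroup.mem_top _)
  have h2 : (⁅(xa 0 : QuaternionGroup n), (a (-1) : QuaternionGroup n)⁆ : QuaternionGroup n)
      = a 2 := by
    rw [commutatorElement_def]
    have e1 : (xa 0 : QuaternionGroup n)⁻¹ = xa n := by
      rw [inv_eq_iff_mul_eq_one, xa_mul_xa]
      simp
      have : ((n : ZMod (2 * n)) + n) = ((2 * n : ℕ) : ZMod (2 * n)) := by push_cast; ring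
      rw [this, ZMod.natCast_self, a_zero]
    have e2 : (a (-1) : QuaternionGroup n)⁻¹ = a 1 := by
      rw [inv_eq_iff_mul_eq_one, a_mul_a]
      simp
    rw [e1, e2, xa_mul_a, xa_mul_xa, a_mul_a]
    congr 1
    have : ((n : ZMod (2 * n)) + n) = 0 := by
      have : ((n : ZMod (2 * n)) + n) = ((2 * n : ℕ) : ZMod (2 * n)) := by push_cast; ring
      rw [this, ZMod.natCast_self]
    linear_combination this
  rw [← h2]
  exact h1

open QuaternionGroup in
theorem sqInComm_quaternion (n : ℕ) [NeZero n] (hn : Even n) : SqInComm (QuaternionGroup n) := by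
  haveI : NeZero (2 * n) := ⟨by have := NeZero.ne n; omega⟩
  have hk : ∀ k : ℕ, (a (2 * k : ℕ) : QuaternionGroup n) ∈ commutator (QuaternionGroup n) := by
    intro k
    have : (a (2 * k : ℕ) : QuaternionGroup n) = (a 2) ^ k := by
      induction k with
      | zero => simp
      | succ k ih =>
        rw [pow_succ, ← ih, a_mul_a]
        congr 1
        push_cast
        ring
    rw [this]
    exact Subgroup.pow_mem _ (a_two_mem_commutator n) k
  intro x
  cases x with
  | a i =>
    have : (a i : QuaternionGroup n) ^ 2 = a (2 * i.val : ℕ) := by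
      rw [sq, a_mul_a]
      congr 1
      push_cast
      rw [ZMod.natCast_zmod_val]
      ring
    rw [this]
    exact hk _
  | xa i =>
    rw [xa_sq]
    obtain ⟨m, hm⟩ := hn
    have : (a (n : ZMod (2 * n)) : QuaternionGroup n) = a (2 * m : ℕ) := by
      congr 1
      rw [hm]
      push_cast
      ring
    rw [this]
    exact hk _

end Cfsg.Agent.Helper23.SqComm
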