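import Mathlib
import Cfsg.Agent.Lib.Helper23.SqComm

set_option autoImplicit false
set_option linter.style.haveILetI false

/-!
# Exact derived length: products, wreath products with `C₂`, generalized quaternion groups
-/

namespace Cfsg.Agent.Helper23.SqComm

universe u v

open scoped commutatorElement

/-- `G` has derived length exactly `d` -/
def IsDL (G : Type u) [Group G] (d : ℕ) : Prop := ∀ k, derivedSeries G k = ⊥ ↔ d ≤ k

theorem derivedSeries_eq_bot_iff_of_equiv {G : Type u} {H : Type v} [Group G] [Group H]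
    (e : G ≃* H) (k : ℕ) : derivedSeries H k = ⊥ ↔ derivedSeries G k = ⊥ := by
  rw [← map_derivedSeries_eq (f := e.toMonoidHom) e.surjective k,
    Subgroup.map_eq_bot_iff_of_injective _ e.injective]

theorem IsDL.of_equiv {G : Type u} {H : Type v} [Group G] [Group H] {d : ℕ} (e : G ≃* H)
    (h : IsDL G d) : IsDL H d := by
  intro k
  rw [derivedSeries_eq_bot_iff_of_equiv e, h k]

theorem derivedSeries_prod_eq_bot_iff {R : Type u} {S : Type v} [Group R] [Group S] (k : ℕ) :
    derivedSeries (R × S) k = ⊥ ↔ derivedSeries R k = ⊥ ∧ derivedSeries S k = ⊥ := by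
  constructor
  · intro h
    constructor
    · rw [← map_derivedSeries_eq (f := MonoidHom.fst R S) Prod.fst_surjective k, h,
        Subgroup.map_bot]
    · rw [← map_derivedSeries_eq (f := MonoidHom.snd R S) Prod.snd_surjective k, h,
        Subgroup.map_bot]
  · rintro ⟨h1, h2⟩
    rw [eq_bot_iff]
    intro x hx
    have e1 : x.1 ∈ derivedSeries R k :=
      map_derivedSeries_le_derivedSeries (MonoidHom.fst R S) k (Subgroup.mem_map_of_mem _ hx)
    have e2 : x.2 ∈ derivedSeries S k :=
      map_derivedSeries_le_derivedSeries (MonoidHom.snd R S) k (Subgroup.mem_map_of_mem _ hx)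
    rw [h1, Subgroup.mem_bot] at e1
    rw [h2, Subgroup.mem_bot] at e2
    rw [Subgroup.mem_bot]
    exact Prod.ext e1 e2

theorem IsDL.prod {R : Type u} {S : Type v} [Group R] [Group S] {d₁ d₂ : ℕ} (h₁ : IsDL R d₁)
    (h₂ : IsDL S d₂) : IsDL (R × S) (max d₁ d₂) := by
  intro k
  rw [derivedSeries_prod_eq_bot_iff, h₁ k, h₂ k, max_le_iff]

theorem derivedSeries_wr2_le {R : Type u} [Group R] (k : ℕ) :
    derivedSeries (Wr2 R) (k + 1) ≤
      (derivedSeries (R × R) k).map (SemidirectProduct.inl : R × R →* Wr2 R) := by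
  induction k with
  | zero =>
    rw [derivedSeries_one (Wr2 R), derivedSeries_zero (R × R), ← MonoidHom.range_eq_map,
      SemidirectProduct.range_inl_eq_ker_rightHom]
    exact Abelianization.commutator_subset_ker
      (SemidirectProduct.rightHom : Wr2 R →* ℤˣ)
  | succ k ih =>
    rw [derivedSeries_succ (Wr2 R), derivedSeries_succ (R × R), Subgroup.map_commutator]
    exact Subgroup.commutator_mono ih ih

theorem exists_inl_mem_derivedSeries_wr2 {R : Type u} [Group R] (k : ℕ) :
    ∀ x ∈ derivedSeries R k, ∃ y : R,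
      (SemidirectProduct.inl (y, x) : Wr2 R) ∈ derivedSeries (Wr2 R) (k + 1) := by
  induction k with
  | zero =>
    intro x _
    refine ⟨x⁻¹, ?_⟩
    rw [derivedSeries_one (Wr2 R)]
    have h1 : ⁅(SemidirectProduct.inr (-1 : ℤˣ) : Wr2 R),
        (SemidirectProduct.inl ((x, 1) : R × R) : Wr2 R)⁆ =
        (SemidirectProduct.inl ((x⁻¹, x) : R × R) : Wr2 R) := by
      rw [commutatorElement_def, ← map_inv (SemidirectProduct.inr : ℤˣ →* Wr2 R),
        ← SemidirectProduct.inl_aut, ← map_inv, ← map_mul]
      congr 1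
      show (swapHom R (-1)) (x, 1) * (x, 1)⁻¹ = _
      simp only [swapHom, invHom_neg_one]
      show ((1 : R), x) * (x, 1)⁻¹ = _
      simp
    rw [← h1, commutator_def]
    exact Subgroup.commutator_mem_commutator (Subgroup.mem_top _) (Subgroup.mem_top _)
  | succ k ih =>
    let S : Subgroup R :=
      { carrier := {x | ∃ y : R, (SemidirectProduct.inl (y, x) : Wr2 R) ∈
          derivedSeries (Wr2 R) (k + 1 + 1)}
        one_mem' := ⟨1, by
          have : ((1 : R), (1 : R)) = 1 := rfl
          rw [this, map_one]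
          exact Subgroup.one_mem _⟩
        mul_mem' := by
          rintro a b ⟨y, hy⟩ ⟨y', hy'⟩
          refine ⟨y * y', ?_⟩
          have : (y * y', a * b) = (y, a) * (y', b) := rfl
          rw [this, map_mul]
          exact Subgroup.mul_mem _ hy hy'
        inv_mem' := by
          rintro a ⟨y, hy⟩
          refine ⟨y⁻¹, ?_⟩
          have : (y⁻¹, a⁻¹) = (y, a)⁻¹ := rfl
          rw [this, map_inv]
          exact Subgroup.inv_mem _ hy }
    have hS : derivedSeries R (k + 1) ≤ S := by
      rw [derivedSeries_succ R, Subgroup.commutator_le]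
      intro g₁ hg₁ g₂ hg₂
      obtain ⟨y₁, hy₁⟩ := ih g₁ hg₁
      obtain ⟨y₂, hy₂⟩ := ih g₂ hg₂
      refine ⟨⁅y₁, y₂⁆, ?_⟩
      have : (⁅y₁, y₂⁆, ⁅g₁, g₂⁆) = ⁅(y₁, g₁), (y₂, g₂)⁆ := rfl
      rw [this, map_commutatorElement, derivedSeries_succ (Wr2 R)]
      exact Subgroup.commutator_mem_commutator hy₁ hy₂
    intro x hx
    exact hS hx

theorem derivedSeries_wr2_eq_bot_iff {R : Type u} [Group R] (k : ℕ) :
    derivedSeries (Wr2 R) (k + 1) = ⊥ ↔ derivedSeries R k = ⊥ := by
  constructor
  · intro h
    rw [eq_bot_iff]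
    intro x hx
    obtain ⟨y, hy⟩ := exists_inl_mem_derivedSeries_wr2 k x hx
    rw [h, Subgroup.mem_bot] at hy
    have h1 : (y, x) = 1 := SemidirectProduct.inl_injective (by rw [hy, map_one])
    rw [Subgroup.mem_bot]
    exact congrArg Prod.snd h1
  · intro h
    rw [eq_bot_iff]
    refine le_trans (derivedSeries_wr2_le k) ?_
    rw [(derivedSeries_prod_eq_bot_iff k).2 ⟨h, h⟩, Subgroup.map_bot]

theorem IsDL.wr2 {R : Type u} [Group R] {d : ℕ} (h : IsDL R d) : IsDL (Wr2 R) (d + 1) := by
  intro k
  cases k with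
  | zero =>
    rw [derivedSeries_zero (Wr2 R)]
    constructor
    · intro h1
      exfalso
      have h2 : (SemidirectProduct.inr (-1 : ℤˣ) : Wr2 R) ∈ (⊤ : Subgroup (Wr2 R)) :=
        Subgroup.mem_top _
      rw [h1, Subgroup.mem_bot] at h2
      have h3 : (-1 : ℤˣ) = 1 := SemidirectProduct.inr_injective (by rw [h2, map_one])
      exact absurd h3 (by decide)
    · intro h1
      omega
  | succ k =>
    rw [derivedSeries_wr2_eq_bot_iff, h k]
    omega

open QuaternionGroup in
/-- the sign character of the quaternion group -/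
def quatSign (m : ℕ) : QuaternionGroup m →* ℤˣ where
  toFun x := match x with
    | a _ => 1
    | xa _ => -1
  map_one' := rfl
  map_mul' := by
    rintro (i | i) (j | j) <;> rfl

open QuaternionGroup in
theorem isDL_quaternion (m : ℕ) [NeZero m] (hm : 2 ≤ m) : IsDL (QuaternionGroup m) 2 := by
  have h2 : derivedSeries (QuaternionGroup m) 2 = ⊥ := by
    rw [derivedSeries_succ (QuaternionGroup m), eq_bot_iff]
    have h1 : derivedSeries (QuaternionGroup m) 1 ≤ (quatSign m).ker := by
      rw [derivedSeries_one (QuaternionGroup m)]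
      exact Abelianization.commutator_subset_ker (quatSign m)
    refine le_trans (Subgroup.commutator_mono h1 h1) ?_
    rw [le_bot_iff, Subgroup.commutator_eq_bot_iff_le_centralizer]
    intro x hx
    rw [Subgroup.mem_centralizer_iff]
    intro y hy
    rw [SetLike.mem_coe, MonoidHom.mem_ker] at hy
    rw [MonoidHom.mem_ker] at hx
    cases x with
    | a i =>
      cases y with
      | a j => rw [a_mul_a, a_mul_a, add_comm]
      | xa j =>
        have : (-1 : ℤˣ) = 1 := hy
        exact absurd this (by decide)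
    | xa i =>
      have : (-1 : ℤˣ) = 1 := hx
      exact absurd this (by decide)
  have h1 : derivedSeries (QuaternionGroup m) 1 ≠ ⊥ := by
    intro h
    have h3 := a_two_mem_commutator m
    rw [← derivedSeries_one (QuaternionGroup m), h, Subgroup.mem_bot, ← a_zero] at h3
    have h4 : (2 : ZMod (2 * m)) = 0 := by
      injection h3
    have h5 : ((2 : ℕ) : ZMod (2 * m)) = 0 := by exact_mod_cast h4
    rw [ZMod.natCast_eq_zero_iff] at h5
    have := Nat.le_of_dvd (by norm_num) h5
    omega
  intro k
  constructor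
  · intro h
    by_contra hk
    have hk1 : k ≤ 1 := by omega
    have := derivedSeries_antitone (QuaternionGroup m) hk1
    rw [h] at this
    exact h1 (le_bot_iff.1 this)
  · intro hk
    have := derivedSeries_antitone (QuaternionGroup m) hk
    rw [h2] at this
    exact le_bot_iff.1 this

end Cfsg.Agent.Helper23.SqComm
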