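import Mathlib
import Cfsg.Agent.Lib.Helper18.InvC2DataE7
import Cfsg.Agent.Lib.Helper16.InvNRankE7
import Cfsg.Agent.Lib.Helper25.InvC2COMM
import Cfsg.Agent.Lib.Helper28.InvNWMove

/-!
# `E₇(q)`, `q` even: exactly five classes of involutions (helper23, S2181)

End assembly for type `E₇`: the generic theorem "every element of square one is conjugate to the product of the
`x_β(1)` over a frame of the table" (helper13) enters as the hypothesis `Hgen`, Part C2 "every frame of the table is
empty or conjugate to a representative" (helper18) as the hypothesis `Hc2`; the ranks of `t - 1` on the adjoint module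
(helper16) separate the five representatives.
-/

set_option autoImplicit false
set_option linter.unusedSectionVars false
set_option linter.unusedVariables false

namespace Cfsg.Agent.Helper23.E7M

open Cfsg Cfsg.Lie Cfsg.Agent.Lead.Chev Cfsg.Agent.Helper13.InvN Cfsg.Agent.Helper16.RK

variable {F : Type*} [Field F] [CharP F 2]

/-! ### generic: a product of pairwise commuting root involutions has square one -/

section generic

variable {D : ChevalleyDatum} (hF : ChevFacts D F)

theorem xprod_comm_of_even (r : ℕ) (hr : r < D.nroots) (L : List ℕ) (hL : ∀ s ∈ L, s < D.nroots)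
    (h : ∀ s ∈ L, evenComm D r s = true) :
    xprod hF L * xGL D hF.xadd r 1 = xGL D hF.xadd r 1 * xprod hF L := by
  induction L with
  | nil => simp [xprod]
  | cons s L ih =>
    have hs : s < D.nroots := hL s (by simp)
    have hrs : evenComm D r s = true := h s (by simp)
    have ih' := ih (fun s' hs' => hL s' (List.mem_cons_of_mem _ hs'))
      (fun s' hs' => h s' (List.mem_cons_of_mem _ hs'))
    have hc := comm_of_evenComm hF r s hr hs hrs (1 : F) (1 : F)
    rw [xprod_cons, mul_assoc, ih', ← mul_assoc, hc, mul_assoc]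

theorem xprod_sq_of_pairwise (L : List ℕ) (hL : ∀ s ∈ L, s < D.nroots)
    (hc : L.Pairwise fun r s => evenComm D r s = true) : xprod hF L * xprod hF L = 1 := by
  induction L with
  | nil => simp [xprod]
  | cons r L ih =>
    have hr : r < D.nroots := hL r (by simp)
    have hL' : ∀ s ∈ L, s < D.nroots := fun s hs => hL s (List.mem_cons_of_mem _ hs)
    rw [List.pairwise_cons] at hc
    have hcomm := xprod_comm_of_even hF r hr L hL' hc.1
    have ih' := ih hL' hc.2
    rw [xprod_cons]
    calc xGL D hF.xadd r 1 * xprod hF L * (xGL D hF.xadd r 1 * xprod hF L)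
        = xGL D hF.xadd r 1 * (xprod hF L * xGL D hF.xadd r 1) * xprod hF L := by group
      _ = xGL D hF.xadd r 1 * (xGL D hF.xadd r 1 * xprod hF L) * xprod hF L := by rw [hcomm]
      _ = (xGL D hF.xadd r 1 * xGL D hF.xadd r 1) * (xprod hF L * xprod hF L) := by group
      _ = 1 := by rw [xGL_sq_char2 hF r 1, ih', one_mul]

end generic

/-! ### the five representatives -/

/-- the five lists of roots -/
def repL : Fin 5 → List ℕ := ![[63], [63, 66], [63, 66, 78], [78, 73, 66], [63, 66, 78, 73]]

/-- the ranks of `t - 1` -/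
def repRk : Fin 5 → ℕ := ![34, 52, 53, 62, 63]

theorem repRk_injective : Function.Injective repRk := by decide

theorem repL_mem (i : Fin 5) : repL i ∈ repsE7 := by
  fin_cases i <;> simp [repL, repsE7]

theorem exists_of_mem_reps (rep : List ℕ) (h : rep ∈ repsE7) : ∃ i : Fin 5, rep = repL i := by
  simp only [repsE7, List.mem_cons, List.mem_nil_iff, or_false] at h
  rcases h with rfl | rfl | rfl | rfl | rfl
  · exact ⟨0, rfl⟩
  · exact ⟨1, rfl⟩
  · exact ⟨2, rfl⟩
  · exact ⟨3, rfl⟩
  · exact ⟨4, rfl⟩

theorem rank_rep (hF : ChevFacts chevE7 F) (i : Fin 5) :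
    (((xprod hF (repL i) : GL chevE7.Idx F) : Matrix chevE7.Idx chevE7.Idx F) - 1).rank = repRk i := by
  fin_cases i
  · exact rank_E7_1 hF
  · exact rank_E7_2 hF
  · exact rank_E7_3 hF
  · exact rank_E7_4 hF
  · exact rank_E7_5 hF

theorem rep_chk : ∀ i : Fin 5, (∀ s ∈ repL i, s < chevE7.nroots) ∧
    (repL i).Pairwise fun r s => evenComm chevE7 r s = true := by decide +kernel

theorem rep_sq (hF : ChevFacts chevE7 F) (i : Fin 5) : xprod hF (repL i) * xprod hF (repL i) = 1 :=
  xprod_sq_of_pairwise hF (repL i) (rep_chk i).1 (rep_chk i).2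

theorem rep_ne_one (hF : ChevFacts chevE7 F) (i : Fin 5) : xprod hF (repL i) ≠ 1 := by
  intro h
  have h0 := rank_rep hF i
  rw [h, Units.val_one, sub_self, Matrix.rank_zero] at h0
  revert h0
  fin_cases i <;> simp [repRk]

theorem rep_not_conj (hF : ChevFacts chevE7 F) (i j : Fin 5)
    (h : CJ chevE7 F (xprod hF (repL i)) (xprod hF (repL j))) : i = j := by
  have e := rank_eq_of_CJ h
  rw [rank_rep hF i, rank_rep hF j] at e
  exact repRk_injective e

/-- the representatives as elements of the group -/
def repG (hF : ChevFacts chevE7 F) (i : Fin 5) : ↥(chevE7.group F) :=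
  ⟨xprod hF (repL i), xprod_mem_group hF (repL i)⟩

theorem repG_order (hF : ChevFacts chevE7 F) (i : Fin 5) : orderOf (repG hF i) = 2 := by
  have : Fact (Nat.Prime 2) := ⟨Nat.prime_two⟩
  refine orderOf_eq_prime ?_ ?_
  · apply Subtype.ext
    rw [pow_two]
    exact rep_sq hF i
  · intro h
    exact rep_ne_one hF i (congrArg Subtype.val h)

/-- the statement of S2181, from the generic theorem and Part C2 -/
theorem main_of_gen (hF : ChevFacts chevE7 F)
    (Hgen : ∀ g ∈ chevE7.group F, g * g = 1 →
      ∃ S ∈ tabE7.frames, CJ chevE7 F g (xprod hF (frameRoots chevE7 S)))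
    (Hc2 : ∀ S ∈ tabE7.frames, S = [] ∨
      ∃ rep ∈ repsE7, CJ chevE7 F (xprod hF (frameRoots chevE7 S)) (xprod hF rep)) :
    (ConjClasses.mk '' {g : ↥(chevE7.group F) | orderOf g = 2}).ncard = 5 := by
  have himg : ConjClasses.mk '' {g : ↥(chevE7.group F) | orderOf g = 2} =
      Set.range fun i : Fin 5 => ConjClasses.mk (repG hF i) := by
    ext c
    constructor
    · rintro ⟨g, hg, rfl⟩
      have hord : orderOf g = 2 := hg
      have hgg : (g : GL chevE7.Idx F) * (g : GL chevE7.Idx F) = 1 := by
        have h2 : g ^ 2 = 1 := by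
          rw [← hord]
          exact pow_orderOf_eq_one g
        have := congrArg Subtype.val h2
        rw [pow_two] at this
        exact this
      obtain ⟨S, hS, hcj⟩ := Hgen g.1 g.2 hgg
      rcases Hc2 S hS with rfl | ⟨rep, hrep, hcj2⟩
      · exfalso
        obtain ⟨c, _, e⟩ := hcj
        have h1 : (g : GL chevE7.Idx F) = 1 := by
          have hx : xprod hF (frameRoots chevE7 ([] : Frame)) = 1 := rfl
          rw [hx] at e
          have : (g : GL chevE7.Idx F) = c⁻¹ * (c * g * c⁻¹) * c := by group
          rw [this, e]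
          group
        have h1' : g = 1 := Subtype.ext h1
        rw [h1', orderOf_one] at hord
        norm_num at hord
      · obtain ⟨i, rfl⟩ := exists_of_mem_reps rep hrep
        obtain ⟨c, hc, e⟩ := hcj.trans hcj2
        refine ⟨i, ?_⟩
        show ConjClasses.mk (repG hF i) = ConjClasses.mk g
        rw [ConjClasses.mk_eq_mk_iff_isConj, isConj_comm, isConj_iff]
        exact ⟨⟨c, hc⟩, Subtype.ext e⟩
    · rintro ⟨i, rfl⟩
      exact ⟨repG hF i, repG_order hF i, rfl⟩
  have hinj : Function.Injective fun i : Fin 5 => ConjClasses.mk (repG hF i) := by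
    intro i j hij
    have hij' : ConjClasses.mk (repG hF i) = ConjClasses.mk (repG hF j) := hij
    rw [ConjClasses.mk_eq_mk_iff_isConj, isConj_iff] at hij'
    obtain ⟨c, hc⟩ := hij'
    refine rep_not_conj hF i j ⟨c.1, c.2, ?_⟩
    exact congrArg Subtype.val hc
  rw [himg, ← Set.image_univ, Set.ncard_image_of_injective _ hinj, Set.ncard_univ]
  simp

end Cfsg.Agent.Helper23.E7M
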