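import Mathlib
import Cfsg.Agent.Lib.Helper23.SqComm

set_option autoImplicit false
set_option linter.style.haveILetI false

/-!
# Elementary abelian 2-subgroups of products and wreath products with `C₂`

`EAB R k` : every subgroup of exponent two of `R` has order at most `2 ^ k`.
`HasNEA R k` : `R` has a normal subgroup of exponent two and order `2 ^ k`.
-/

namespace Cfsg.Agent.Helper23.SqComm

universe u v

/-- every subgroup of exponent two has order at most `2 ^ k` -/
def EAB (R : Type u) [Group R] (k : ℕ) : Prop :=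
  ∀ E : Subgroup R, (∀ a ∈ E, a ^ 2 = 1) → Nat.card E ≤ 2 ^ k

/-- there is a normal subgroup of exponent two and order `2 ^ k` -/
def HasNEA (R : Type u) [Group R] (k : ℕ) : Prop :=
  ∃ E : Subgroup R, E.Normal ∧ (∀ a ∈ E, a ^ 2 = 1) ∧ Nat.card E = 2 ^ k

theorem comm_of_sq_eq_one {R : Type u} [Group R] {E : Subgroup R} (hE : ∀ a ∈ E, a ^ 2 = 1)
    {a b : R} (ha : a ∈ E) (hb : b ∈ E) : a * b = b * a := by
  have h1 := hE a ha
  have h2 := hE b hb
  have h3 := hE (a * b) (E.mul_mem ha hb)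
  have ha' : a⁻¹ = a := by rw [inv_eq_iff_mul_eq_one, ← pow_two, h1]
  have hb' : b⁻¹ = b := by rw [inv_eq_iff_mul_eq_one, ← pow_two, h2]
  have h4 : (a * b)⁻¹ = a * b := by rw [inv_eq_iff_mul_eq_one, ← pow_two, h3]
  rw [mul_inv_rev, ha', hb'] at h4
  exact h4.symm

theorem EAB.of_equiv {R : Type u} {S : Type v} [Group R] [Group S] {k : ℕ} (e : R ≃* S)
    (h : EAB R k) : EAB S k := by
  intro E hE
  have h1 := h (E.map e.symm.toMonoidHom) (by
    rintro a ⟨b, hb, rfl⟩
    rw [← map_pow, hE b hb, map_one])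
  rwa [Subgroup.card_map_of_injective e.symm.injective] at h1

theorem HasNEA.of_equiv {R : Type u} {S : Type v} [Group R] [Group S] {k : ℕ} (e : R ≃* S)
    (h : HasNEA R k) : HasNEA S k := by
  obtain ⟨E, hn, hE, hc⟩ := h
  refine ⟨E.map e.toMonoidHom, hn.map _ e.surjective, ?_, ?_⟩
  · rintro a ⟨b, hb, rfl⟩
    rw [← map_pow, hE b hb, map_one]
  · rw [Subgroup.card_map_of_injective e.injective, hc]

theorem EAB.prod {R : Type u} {S : Type v} [Group R] [Group S] [Finite R] [Finite S]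
    {k₁ k₂ : ℕ} (h₁ : EAB R k₁) (h₂ : EAB S k₂) : EAB (R × S) (k₁ + k₂) := by
  intro E hE
  have e1 := h₁ (E.map (MonoidHom.fst R S)) (by
    rintro a ⟨b, hb, rfl⟩
    rw [← map_pow, hE b hb, map_one])
  have e2 := h₂ (E.map (MonoidHom.snd R S)) (by
    rintro a ⟨b, hb, rfl⟩
    rw [← map_pow, hE b hb, map_one])
  have hle : E ≤ (E.map (MonoidHom.fst R S)).prod (E.map (MonoidHom.snd R S)) := by
    intro x hx
    exact ⟨⟨x, hx, rfl⟩, ⟨x, hx, rfl⟩⟩
  calc Nat.card E ≤ Nat.card ((E.map (MonoidHom.fst R S)).prod (E.map (MonoidHom.snd R S))) :=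
        Subgroup.card_le_of_le hle
    _ = Nat.card (E.map (MonoidHom.fst R S)) * Nat.card (E.map (MonoidHom.snd R S)) := by
        rw [Nat.card_congr (Subgroup.prodEquiv _ _).toEquiv, Nat.card_prod]
    _ ≤ 2 ^ k₁ * 2 ^ k₂ := Nat.mul_le_mul e1 e2
    _ = 2 ^ (k₁ + k₂) := (pow_add 2 k₁ k₂).symm

theorem HasNEA.prod {R : Type u} {S : Type v} [Group R] [Group S]
    {k₁ k₂ : ℕ} (h₁ : HasNEA R k₁) (h₂ : HasNEA S k₂) : HasNEA (R × S) (k₁ + k₂) := by
  obtain ⟨E₁, hn₁, hE₁, hc₁⟩ := h₁
  obtain ⟨E₂, hn₂, hE₂, hc₂⟩ := h₂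
  refine ⟨E₁.prod E₂, Subgroup.prod_normal E₁ E₂, ?_, ?_⟩
  · rintro ⟨a, b⟩ ⟨ha, hb⟩
    ext
    · exact hE₁ a ha
    · exact hE₂ b hb
  · rw [Nat.card_congr (Subgroup.prodEquiv _ _).toEquiv, Nat.card_prod, hc₁, hc₂, pow_add]

theorem HasNEA.wr2 {R : Type u} [Group R] {k : ℕ} (h : HasNEA R k) :
    HasNEA (Wr2 R) (k + k) := by
  obtain ⟨E, hn, hE, hc⟩ := h
  refine ⟨(E.prod E).map (SemidirectProduct.inl : R × R →* Wr2 R), ?_, ?_, ?_⟩
  · constructor
    rintro _ ⟨n, hn', rfl⟩ w
    rw [← SemidirectProduct.inl_left_mul_inr_right w]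
    have h1 : (SemidirectProduct.inl w.left * SemidirectProduct.inr w.right : Wr2 R) *
        SemidirectProduct.inl n *
        (SemidirectProduct.inl w.left * SemidirectProduct.inr w.right : Wr2 R)⁻¹ =
        SemidirectProduct.inl (w.left * (swapHom R w.right) n * w.left⁻¹) := by
      rw [map_mul, map_mul, SemidirectProduct.inl_aut, map_inv, map_inv]
      group
    rw [h1]
    refine Subgroup.mem_map_of_mem _ ?_
    have h2 : (swapHom R w.right) n ∈ E.prod E := by
      rcases Int.units_eq_one_or w.right with h | h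
      · rw [h, map_one]
        exact hn'
      · rw [h]
        simp only [swapHom, invHom_neg_one]
        exact ⟨hn'.2, hn'.1⟩
    haveI := Subgroup.prod_normal E E
    exact (Subgroup.prod_normal E E).conj_mem _ h2 _
  · rintro _ ⟨n, hn', rfl⟩
    rw [← map_pow]
    have : n ^ 2 = 1 := by
      ext
      · exact hE n.1 hn'.1
      · exact hE n.2 hn'.2
    rw [this, map_one]
  · rw [Subgroup.card_map_of_injective SemidirectProduct.inl_injective,
      Nat.card_congr (Subgroup.prodEquiv _ _).toEquiv, Nat.card_prod, hc, pow_add]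

theorem EAB.wr2 {R : Type u} [Group R] [Finite R] {k : ℕ} (hk : 1 ≤ k) (h : EAB R k) :
    EAB (Wr2 R) (k + k) := by
  intro E hE
  haveI : Finite (Wr2 R) := Finite.of_equiv _ SemidirectProduct.equivProd.symm
  obtain ⟨E₀, hE₀⟩ : ∃ E₀ : Subgroup (R × R),
      E₀ = E.comap (SemidirectProduct.inl : R × R →* Wr2 R) := ⟨_, rfl⟩
  have hE₀2 : ∀ a ∈ E₀, a ^ 2 = 1 := by
    intro a ha
    rw [hE₀, Subgroup.mem_comap] at ha
    have := hE _ ha
    rw [← map_pow] at this
    exact SemidirectProduct.inl_injective (by rw [this, map_one])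
  obtain ⟨f, hf⟩ : ∃ f : E →* ℤˣ,
      f = (SemidirectProduct.rightHom : Wr2 R →* ℤˣ).comp E.subtype := ⟨_, rfl⟩
  have hcard : Nat.card E = Nat.card f.ker * Nat.card f.range := by
    rw [← Subgroup.index_ker, Subgroup.card_mul_index]
  have hkerR : ∀ x : f.ker, (x.1.1 : Wr2 R).right = 1 := by
    intro x
    have h1 := x.2
    rw [MonoidHom.mem_ker] at h1
    have h2 : f x.1 = (SemidirectProduct.rightHom : Wr2 R →* ℤˣ) (x.1.1 : Wr2 R) :=
      DFunLike.congr_fun hf x.1
    rw [h2] at h1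
    exact h1
  have hkerE : ∀ x : f.ker, (x.1.1 : Wr2 R).left ∈ E₀ := by
    intro x
    rw [hE₀, Subgroup.mem_comap]
    have : (SemidirectProduct.inl (x.1.1 : Wr2 R).left : Wr2 R) = x.1.1 := by
      ext
      · rfl
      · rfl
      · simp [hkerR x]
    rw [this]
    exact x.1.2
  have hker : Nat.card f.ker ≤ Nat.card E₀ := by
    apply Nat.card_le_card_of_injective (fun x : f.ker => (⟨(x.1.1 : Wr2 R).left, hkerE x⟩ : E₀))
    intro x y hxy
    have h1 : (x.1.1 : Wr2 R).left = (y.1.1 : Wr2 R).left := congrArg Subtype.val hxy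
    apply Subtype.ext
    apply Subtype.ext
    ext
    · rw [h1]
    · rw [h1]
    · rw [hkerR x, hkerR y]
  by_cases hall : ∀ x ∈ E, (x : Wr2 R).right = 1
  · have hr : Nat.card f.range = 1 := by
      have : f.range = ⊥ := by
        rw [eq_bot_iff]
        rintro _ ⟨x, rfl⟩
        rw [Subgroup.mem_bot, hf]
        exact hall x.1 x.2
      rw [this, Subgroup.card_bot]
    rw [hcard, hr, mul_one]
    exact le_trans hker ((h.prod h) E₀ hE₀2)
  · push Not at hall
    obtain ⟨t, htE, ht⟩ := hall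
    have ht' : t.right = -1 := by
      rcases Int.units_eq_one_or t.right with h | h
      · exact absurd h ht
      · exact h
    have hr : Nat.card f.range ≤ 2 := by
      have := Subgroup.card_le_card_group f.range
      have h2 : Nat.card ℤˣ = 2 := by rw [Nat.card_eq_fintype_card]; rfl
      omega
    have hinj : ∀ x ∈ E₀, ∀ y ∈ E₀, x.2 = y.2 → x = y := by
      intro x hx y hy hxy
      rw [hE₀, Subgroup.mem_comap] at hx hy
      have c1 := comm_of_sq_eq_one hE hx htE
      have c2 := comm_of_sq_eq_one hE hy htE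
      have d1 : x * (swapHom R (1 : ℤˣ)) t.left = t.left * (swapHom R t.right) x :=
        congrArg SemidirectProduct.left c1
      have d2 : y * (swapHom R (1 : ℤˣ)) t.left = t.left * (swapHom R t.right) y :=
        congrArg SemidirectProduct.left c2
      rw [map_one, ht'] at d1 d2
      simp only [swapHom, invHom_neg_one, MulAut.one_apply] at d1 d2
      have e1 : x.1 * t.left.1 = t.left.1 * x.2 := congrArg Prod.fst d1
      have e2 : y.1 * t.left.1 = t.left.1 * y.2 := congrArg Prod.fst d2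
      have : x.1 = y.1 := by
        have h3 : x.1 * t.left.1 = y.1 * t.left.1 := by rw [e1, e2, hxy]
        exact mul_right_cancel h3
      exact Prod.ext this hxy
    have hE₀c : Nat.card E₀ ≤ 2 ^ k := by
      have h3 := h (E₀.map (MonoidHom.snd R R)) (by
        rintro a ⟨b, hb, rfl⟩
        rw [← map_pow, hE₀2 b hb, map_one])
      refine le_trans ?_ h3
      apply Nat.card_le_card_of_injective
        (fun x : E₀ => (⟨x.1.2, ⟨x.1, x.2, rfl⟩⟩ : E₀.map (MonoidHom.snd R R)))
      intro x y hxy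
      apply Subtype.ext
      exact hinj x.1 x.2 y.1 y.2 (congrArg Subtype.val hxy)
    rw [hcard]
    calc Nat.card f.ker * Nat.card f.range ≤ 2 ^ k * 2 :=
          Nat.mul_le_mul (le_trans hker hE₀c) hr
      _ = 2 ^ (k + 1) := (pow_succ 2 k).symm
      _ ≤ 2 ^ (k + k) := Nat.pow_le_pow_right (by norm_num) (by omega)

/-- a group with exactly one involution -/
def UniqInv (Q : Type u) [Group Q] : Prop :=
  ∃ z : Q, z ≠ 1 ∧ z ^ 2 = 1 ∧ ∀ x : Q, x ^ 2 = 1 → x = 1 ∨ x = z

theorem UniqInv.eab {Q : Type u} [Group Q] (h : UniqInv Q) : EAB Q 1 := by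
  obtain ⟨z, hz1, hz2, hz⟩ := h
  intro E hE
  have hle : E ≤ Subgroup.zpowers z := by
    intro x hx
    rcases hz x (hE x hx) with h | h
    · rw [h]; exact Subgroup.one_mem _
    · rw [h]; exact Subgroup.mem_zpowers z
  have ho : orderOf z = 2 := orderOf_eq_prime hz2 hz1
  haveI : Finite (Subgroup.zpowers z) :=
    Nat.finite_of_card_ne_zero (by rw [Nat.card_zpowers, ho]; norm_num)
  calc Nat.card E ≤ Nat.card (Subgroup.zpowers z) := Subgroup.card_le_of_le hle
    _ = 2 ^ 1 := by rw [Nat.card_zpowers, ho]; norm_num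

theorem UniqInv.hasNEA {Q : Type u} [Group Q] (h : UniqInv Q) : HasNEA Q 1 := by
  obtain ⟨z, hz1, hz2, hz⟩ := h
  have ho : orderOf z = 2 := orderOf_eq_prime hz2 hz1
  have hconj : ∀ g : Q, g * z * g⁻¹ = z := by
    intro g
    have h1 : (g * z * g⁻¹) ^ 2 = 1 := by rw [conj_pow, hz2]; group
    rcases hz _ h1 with h | h
    · exfalso
      apply hz1
      have : z = g⁻¹ * (g * z * g⁻¹) * g := by group
      rw [this, h]; group
    · exact h
  refine ⟨Subgroup.zpowers z, ?_, ?_, ?_⟩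
  · constructor
    intro n hn g
    obtain ⟨m, rfl⟩ := Subgroup.mem_zpowers_iff.1 hn
    rw [← conj_zpow, hconj]
    exact Subgroup.zpow_mem _ (Subgroup.mem_zpowers z) m
  · intro a ha
    obtain ⟨m, rfl⟩ := Subgroup.mem_zpowers_iff.1 ha
    rw [← zpow_natCast, ← zpow_mul, mul_comm, zpow_mul, zpow_natCast, hz2, one_zpow]
  · rw [Nat.card_zpowers, ho]; norm_num

end Cfsg.Agent.Helper23.SqComm
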