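import Mathlib
import Cfsg.Agent.Lib.Helper23.SqComm

set_option autoImplicit false
set_option linter.style.haveILetI false

/-!
# Iterated products and wreath products of a group inside matrix groups preserving a form

`Shape` describes an iterated construction from a base group `Q` by direct products and wreath
products with a group of order two.  `Emb Q s K` : the group of shape `s` embeds in the group of
invertible matrices preserving the matrix `K` (`A * K * Aᵀ = K`).
-/

namespace Cfsg.Agent.Helper23.SpShape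

open Matrix Cfsg.Agent.Helper23.SqComm

universe u

/-- bundled groups -/
structure BGrp : Type (u + 1) where
  /-- the carrier -/
  T : Type u
  /-- the group structure -/
  [inst : Group T]

attribute [instance] BGrp.inst

/-- shapes of iterated products/wreath products -/
inductive Shape : Type
  | base : Shape
  | prod : Shape → Shape → Shape
  | wr : Shape → Shape

/-- the group of a given shape over the base group `Q` -/
def Shape.grp (Q : Type u) [Group Q] : Shape → BGrp.{u}
  | .base => ⟨Q⟩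
  | .prod s t => ⟨(s.grp Q).T × (t.grp Q).T⟩
  | .wr s => ⟨Wr2 (s.grp Q).T⟩

/-- the logarithm of the order -/
def Shape.logcard (c : ℕ) : Shape → ℕ
  | .base => c
  | .prod s t => s.logcard c + t.logcard c
  | .wr s => 2 * s.logcard c + 1

theorem Shape.card_grp (Q : Type u) [Group Q] (c : ℕ) (hQ : Nat.card Q = 2 ^ c) :
    ∀ s : Shape, Nat.card (s.grp Q).T = 2 ^ (s.logcard c)
  | .base => hQ
  | .prod s t => by
    show Nat.card ((s.grp Q).T × (t.grp Q).T) = _
    rw [Nat.card_prod, Shape.card_grp Q c hQ s, Shape.card_grp Q c hQ t, ← pow_add]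
    rfl
  | .wr s => by
    show Nat.card (Wr2 (s.grp Q).T) = _
    rw [card_Wr2, Shape.card_grp Q c hQ s]
    show _ = 2 ^ (2 * s.logcard c + 1)
    ring

theorem Shape.sqInComm (Q : Type u) [Group Q] (hQ : SqInComm Q) :
    ∀ s : Shape, SqInComm (s.grp Q).T
  | .base => hQ
  | .prod s t => (Shape.sqInComm Q hQ s).prod (Shape.sqInComm Q hQ t)
  | .wr s => (Shape.sqInComm Q hQ s).wr2

section mat

variable {F : Type u} [Field F]

/-- `A` preserves the matrix `K` -/
def Pres {I : Type} [Fintype I] (K A : Matrix I I F) : Prop := A * K * Aᵀ = K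

theorem Pres.one {I : Type} [Fintype I] [DecidableEq I] (K : Matrix I I F) : Pres K 1 := by
  simp [Pres]

theorem Pres.mul {I : Type} [Fintype I] {K A B : Matrix I I F} (hA : Pres K A)
    (hB : Pres K B) : Pres K (A * B) := by
  unfold Pres at *
  rw [transpose_mul]
  calc A * B * K * (Bᵀ * Aᵀ) = A * (B * K * Bᵀ) * Aᵀ := by simp only [Matrix.mul_assoc]
    _ = K := by rw [hB, hA]

theorem Pres.block {I₁ I₂ : Type} [Fintype I₁] [Fintype I₂] {K₁ A : Matrix I₁ I₁ F}
    {K₂ B : Matrix I₂ I₂ F} (hA : Pres K₁ A) (hB : Pres K₂ B) :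
    Pres (fromBlocks K₁ 0 0 K₂) (fromBlocks A 0 0 B) := by
  unfold Pres at *
  rw [fromBlocks_transpose, fromBlocks_multiply, fromBlocks_multiply]
  simp [hA, hB]

theorem Pres.swap {I : Type} [Fintype I] [DecidableEq I] (K : Matrix I I F) :
    Pres (fromBlocks K 0 0 K) (fromBlocks 0 1 1 0) := by
  unfold Pres
  rw [fromBlocks_transpose, fromBlocks_multiply, fromBlocks_multiply]
  simp

theorem Pres.reindex {I I' : Type} [Fintype I] [Fintype I'] (e : I ≃ I') {K A : Matrix I I F}
    (hA : Pres K A) : Pres (Matrix.reindex e e K) (Matrix.reindex e e A) := by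
  unfold Pres at *
  rw [transpose_reindex]
  simp only [reindex_apply, submatrix_mul_equiv]
  rw [hA]

/-- block diagonal matrices as a monoid homomorphism -/
def blockHom (I₁ I₂ : Type) [Fintype I₁] [Fintype I₂] [DecidableEq I₁] [DecidableEq I₂] :
    Matrix I₁ I₁ F × Matrix I₂ I₂ F →* Matrix (I₁ ⊕ I₂) (I₁ ⊕ I₂) F where
  toFun p := fromBlocks p.1 0 0 p.2
  map_one' := fromBlocks_one
  map_mul' p q := by
    rw [fromBlocks_multiply]
    simp

/-- block diagonal invertible matrices -/
def blockGL (I₁ I₂ : Type) [Fintype I₁] [Fintype I₂] [DecidableEq I₁] [DecidableEq I₂] :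
    (Matrix I₁ I₁ F)ˣ × (Matrix I₂ I₂ F)ˣ →* (Matrix (I₁ ⊕ I₂) (I₁ ⊕ I₂) F)ˣ :=
  (Units.map (blockHom I₁ I₂)).comp (MulEquiv.prodUnits.symm.toMonoidHom)

theorem blockGL_val {I₁ I₂ : Type} [Fintype I₁] [Fintype I₂] [DecidableEq I₁] [DecidableEq I₂]
    (p : (Matrix I₁ I₁ F)ˣ × (Matrix I₂ I₂ F)ˣ) :
    ((blockGL I₁ I₂ p : (Matrix (I₁ ⊕ I₂) (I₁ ⊕ I₂) F)ˣ) : Matrix (I₁ ⊕ I₂) (I₁ ⊕ I₂) F) =
      fromBlocks (p.1 : Matrix I₁ I₁ F) 0 0 (p.2 : Matrix I₂ I₂ F) := rfl

theorem blockGL_injective {I₁ I₂ : Type} [Fintype I₁] [Fintype I₂] [DecidableEq I₁]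
    [DecidableEq I₂] : Function.Injective (blockGL (F := F) I₁ I₂) := by
  intro p q hpq
  have h1 := congrArg Units.val hpq
  rw [blockGL_val, blockGL_val, fromBlocks_inj] at h1
  exact Prod.ext (Units.ext h1.1) (Units.ext h1.2.2.2)

/-- the block swap as an invertible matrix -/
def swapUnit (I : Type) [Fintype I] [DecidableEq I] : (Matrix (I ⊕ I) (I ⊕ I) F)ˣ where
  val := fromBlocks 0 1 1 0
  inv := fromBlocks 0 1 1 0
  val_inv := by rw [fromBlocks_multiply]; simp [fromBlocks_one]
  inv_val := by rw [fromBlocks_multiply]; simp [fromBlocks_one]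

theorem swapUnit_mul_self (I : Type) [Fintype I] [DecidableEq I] :
    swapUnit (F := F) I * swapUnit I = 1 := by
  apply Units.ext
  exact (swapUnit (F := F) I).val_inv

theorem swapUnit_inv (I : Type) [Fintype I] [DecidableEq I] :
    (swapUnit (F := F) I)⁻¹ = swapUnit I := rfl

theorem swapUnit_conj {I : Type} [Fintype I] [DecidableEq I] (a b : (Matrix I I F)ˣ) :
    blockGL I I (b, a) = swapUnit I * blockGL I I (a, b) * (swapUnit I)⁻¹ := by
  apply Units.ext
  rw [swapUnit_inv, Units.val_mul, Units.val_mul, blockGL_val, blockGL_val]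
  show _ = fromBlocks 0 1 1 0 * _ * fromBlocks 0 1 1 0
  rw [fromBlocks_multiply, fromBlocks_multiply]
  simp

theorem swapUnit_notMem_range {I : Type} [Fintype I] [DecidableEq I] [Nonempty I] :
    swapUnit (F := F) I ∉ (blockGL (F := F) I I).range := by
  rintro ⟨p, hp⟩
  have h1 := congrArg Units.val hp
  rw [blockGL_val] at h1
  have h2 : fromBlocks (p.1 : Matrix I I F) 0 0 (p.2 : Matrix I I F) = fromBlocks 0 1 1 0 := h1
  rw [fromBlocks_inj] at h2
  exact zero_ne_one h2.2.1

/-- the group `R` embeds in the group of invertible matrices preserving `K` -/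
def EmbG (R : Type u) [Group R] {I : Type} [Fintype I] [DecidableEq I]
    (K : Matrix I I F) : Prop :=
  ∃ f : R →* (Matrix I I F)ˣ, Function.Injective f ∧
    ∀ r, Pres K ((f r : (Matrix I I F)ˣ) : Matrix I I F)

theorem EmbG.reindex {R : Type u} [Group R] {I I' : Type} [Fintype I]
    [DecidableEq I] [Fintype I'] [DecidableEq I'] {K : Matrix I I F} (e : I ≃ I')
    (h : EmbG R K) : EmbG R (Matrix.reindex e e K) := by
  obtain ⟨f, hf, hK⟩ := h
  refine ⟨(Units.mapEquiv (Matrix.reindexAlgEquiv F F e).toMulEquiv).toMonoidHom.comp f, ?_, ?_⟩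
  · exact (Units.mapEquiv (Matrix.reindexAlgEquiv F F e).toMulEquiv).injective.comp hf
  · intro r
    exact (hK r).reindex e

theorem EmbG.prod {R S : Type u} [Group R] [Group S] {I₁ I₂ : Type} [Fintype I₁]
    [DecidableEq I₁] [Fintype I₂] [DecidableEq I₂] {K₁ : Matrix I₁ I₁ F} {K₂ : Matrix I₂ I₂ F}
    (h₁ : EmbG R K₁) (h₂ : EmbG S K₂) : EmbG (R × S) (fromBlocks K₁ 0 0 K₂) := by
  obtain ⟨f₁, hf₁, hK₁⟩ := h₁
  obtain ⟨f₂, hf₂, hK₂⟩ := h₂
  refine ⟨(blockGL I₁ I₂).comp (f₁.prodMap f₂), ?_, ?_⟩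
  · exact blockGL_injective.comp (Prod.map_injective.2 ⟨hf₁, hf₂⟩)
  · intro r
    exact (hK₁ r.1).block (hK₂ r.2)

theorem EmbG.wr {R : Type u} [Group R] {I : Type} [Fintype I]
    [DecidableEq I] [Nonempty I] {K : Matrix I I F}
    (h : EmbG R K) : EmbG (Wr2 R) (fromBlocks K 0 0 K) := by
  obtain ⟨f, hf, hK⟩ := h
  have hc : ∀ a b : R, ((blockGL I I).comp (f.prodMap f)) (b, a) =
      swapUnit I * ((blockGL I I).comp (f.prodMap f)) (a, b) * (swapUnit I)⁻¹ := by
    intro a b
    exact swapUnit_conj (f a) (f b)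
  refine ⟨wr2Lift ((blockGL I I).comp (f.prodMap f)) (swapUnit I) (swapUnit_mul_self I) hc,
    ?_, ?_⟩
  · apply wr2Lift_injective
    · exact blockGL_injective.comp (Prod.map_injective.2 ⟨hf, hf⟩)
    · rintro ⟨p, hp⟩
      exact swapUnit_notMem_range ⟨_, hp⟩
  · intro r
    rw [wr2Lift_apply, Units.val_mul]
    apply Pres.mul
    · exact (hK r.left.1).block (hK r.left.2)
    · rcases Int.units_eq_one_or r.right with h | h
      · rw [h, invHom_one]
        exact Pres.one _
      · rw [h, invHom_neg_one]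
        exact Pres.swap K

/-- the group of shape `s` embeds in the group of invertible matrices preserving `K` -/
def Emb (Q : Type u) [Group Q] (s : Shape) {I : Type} [Fintype I] [DecidableEq I]
    (K : Matrix I I F) : Prop := EmbG (s.grp Q).T K

theorem Emb.reindex {Q : Type u} [Group Q] {s : Shape} {I I' : Type} [Fintype I]
    [DecidableEq I] [Fintype I'] [DecidableEq I'] {K : Matrix I I F} (e : I ≃ I')
    (h : Emb Q s K) : Emb Q s (Matrix.reindex e e K) := EmbG.reindex e h

theorem Emb.prod {Q : Type u} [Group Q] {s t : Shape} {I₁ I₂ : Type} [Fintype I₁]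
    [DecidableEq I₁] [Fintype I₂] [DecidableEq I₂] {K₁ : Matrix I₁ I₁ F} {K₂ : Matrix I₂ I₂ F}
    (h₁ : Emb Q s K₁) (h₂ : Emb Q t K₂) : Emb Q (.prod s t) (fromBlocks K₁ 0 0 K₂) :=
  EmbG.prod h₁ h₂

theorem Emb.wr {Q : Type u} [Group Q] {s : Shape} {I : Type} [Fintype I]
    [DecidableEq I] [Nonempty I] {K : Matrix I I F}
    (h : Emb Q s K) : Emb Q (.wr s) (fromBlocks K 0 0 K) := EmbG.wr h

end mat

end Cfsg.Agent.Helper23.SpShape
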