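import Mathlib
import Cfsg.Agent.Lib.Helper23.SpShape
import Cfsg.Agent.Lib.Helper12.SpSylow
import Cfsg.Agent.Lib.Helper16.UniqueInvolution
import Cfsg.Agent.Lib.Helper2.SympCard

set_option autoImplicit false
set_option linter.style.haveILetI false

/-!
# The shape of a Sylow 2-subgroup of the symplectic group in odd characteristic
-/

namespace Cfsg.Agent.Helper23.SpShape

open Matrix Cfsg.Agent.Helper23.SqComm

universe u

section J

variable {F : Type u} [Field F]

theorem J_sum (l₁ l₂ : Type) [Fintype l₁] [Fintype l₂] [DecidableEq l₁] [DecidableEq l₂] :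
    J (l₁ ⊕ l₂) F = Matrix.reindex (Equiv.sumSumSumComm l₁ l₁ l₂ l₂)
      (Equiv.sumSumSumComm l₁ l₁ l₂ l₂) (fromBlocks (J l₁ F) 0 0 (J l₂ F)) := by
  ext i j
  rcases i with (i | i) | (i | i) <;> rcases j with (j | j) | (j | j) <;>
    simp [J, Matrix.one_apply]

theorem J_congr {l l' : Type} [Fintype l] [Fintype l'] [DecidableEq l] [DecidableEq l']
    (e : l ≃ l') :
    J l' F = Matrix.reindex (e.sumCongr e) (e.sumCongr e) (J l F) := by
  ext i j
  rcases i with i | i <;> rcases j with j | j <;>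
    simp [J, Matrix.one_apply]

end J

section grp

/-- two elements of order dividing four, one inverting the other, generate a `2`-group -/
theorem isPGroup_two_sup {G : Type*} [Group G] (x y : G) (hx : x ^ 4 = 1) (hy : y ^ 4 = 1)
    (h : y * x * y⁻¹ = x⁻¹) :
    IsPGroup 2 (Subgroup.zpowers y ⊔ Subgroup.zpowers x : Subgroup G) := by
  have hz : ∀ w : G, w ^ 4 = 1 → IsPGroup 2 (Subgroup.zpowers w) := by
    intro w hw g
    refine ⟨2, ?_⟩
    obtain ⟨g, hg⟩ := g
    obtain ⟨m, rfl⟩ := Subgroup.mem_zpowers_iff.1 hg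
    apply Subtype.ext
    show (w ^ m) ^ 2 ^ 2 = 1
    have : (2 : ℕ) ^ 2 = 4 := by norm_num
    rw [this, ← zpow_natCast, ← _root_.zpow_mul, mul_comm, _root_.zpow_mul, zpow_natCast, hw,
      _root_.one_zpow]
  have h' : y⁻¹ * x * y = x⁻¹ := by
    have h1 : x = y⁻¹ * x⁻¹ * y := by rw [← h]; group
    have h2 : x⁻¹ = (y⁻¹ * x⁻¹ * y)⁻¹ := congrArg (fun v => v⁻¹) h1
    rw [h2]; group
  apply IsPGroup.to_sup_of_normal_right' (hz y hy) (hz x hx)
  rw [Subgroup.zpowers_le, Subgroup.mem_normalizer_iff]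
  intro g
  constructor
  · intro hg
    obtain ⟨m, rfl⟩ := Subgroup.mem_zpowers_iff.1 hg
    rw [← conj_zpow, h]
    exact Subgroup.zpow_mem _ (Subgroup.inv_mem _ (Subgroup.mem_zpowers x)) m
  · intro hg
    obtain ⟨m, hm⟩ := Subgroup.mem_zpowers_iff.1 hg
    have : g = y⁻¹ * (x ^ m) * y := by rw [hm]; group
    rw [this]
    have h3 : y⁻¹ * x ^ m * y = (y⁻¹ * x * y) ^ m := by
      have := conj_zpow (a := y⁻¹) (b := x) (i := m)
      rw [inv_inv] at this
      exact this.symm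
    rw [h3, h']
    exact Subgroup.zpow_mem _ (Subgroup.inv_mem _ (Subgroup.mem_zpowers x)) m

end grp

section base

variable {F : Type u} [Field F]

theorem sp1_sq_eq_one {A : Matrix (Fin 1 ⊕ Fin 1) (Fin 1 ⊕ Fin 1) F} (h2 : (2 : F) ≠ 0)
    (hA : A ∈ symplecticGroup (Fin 1) F) (hAA : A * A = 1) : A = 1 ∨ A = -1 := by
  rw [SymplecticGroup.mem_iff] at hA
  have e1 := congrFun (congrFun hA (Sum.inl 0)) (Sum.inr 0)
  have e2 := congrFun (congrFun hAA (Sum.inl 0)) (Sum.inl 0)
  have e3 := congrFun (congrFun hAA (Sum.inl 0)) (Sum.inr 0)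
  have e4 := congrFun (congrFun hAA (Sum.inr 0)) (Sum.inl 0)
  have e5 := congrFun (congrFun hAA (Sum.inr 0)) (Sum.inr 0)
  simp [Matrix.mul_apply, Fintype.sum_sum_type, J, Matrix.one_apply] at e1 e2 e3 e4 e5
  obtain ⟨a, ha⟩ : ∃ a, a = A (Sum.inl 0) (Sum.inl 0) := ⟨_, rfl⟩
  obtain ⟨b, hb⟩ : ∃ a, a = A (Sum.inl 0) (Sum.inr 0) := ⟨_, rfl⟩
  obtain ⟨c, hc⟩ : ∃ a, a = A (Sum.inr 0) (Sum.inl 0) := ⟨_, rfl⟩
  obtain ⟨d, hd⟩ : ∃ a, a = A (Sum.inr 0) (Sum.inr 0) := ⟨_, rfl⟩
  simp only [← ha, ← hb, ← hc, ← hd] at e1 e2 e3 e4 e5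
  have h1 : a * (a + d) = 2 := by linear_combination e2 - e1
  have h3 : a + d ≠ 0 := by
    intro h
    rw [h, mul_zero] at h1
    exact h2 h1.symm
  have hb0 : b = 0 := by
    have : b * (a + d) = 0 := by linear_combination e3
    rcases mul_eq_zero.1 this with h | h
    · exact h
    · exact absurd h h3
  have hc0 : c = 0 := by
    have : c * (a + d) = 0 := by linear_combination e4
    rcases mul_eq_zero.1 this with h | h
    · exact h
    · exact absurd h h3
  rw [hb0, hc0] at e1 e2 e5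
  have ha2 : (a - 1) * (a + 1) = 0 := by linear_combination e2
  have had : d = a := by linear_combination (-d) * e2 + (-a) * e1
  have key : ∀ e : F, a = e → A = Matrix.diagonal fun _ => e := by
    intro e hae
    ext i j
    rcases i with i | i <;> rcases j with j | j <;>
      rw [Subsingleton.elim i 0, Subsingleton.elim j 0]
    · rw [← ha, hae]; simp
    · rw [← hb, hb0]; simp
    · rw [← hc, hc0]; simp
    · rw [← hd, had, hae]; simp
  rcases mul_eq_zero.1 ha2 with h | h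
  · left
    rw [key 1 (by linear_combination h)]
    simp
  · right
    rw [key (-1) (by linear_combination h)]
    ext i j
    by_cases hij : i = j
    · subst hij; simp
    · simp [hij]

/-- a second element of order four -/
def qj (l : Type) [Fintype l] [DecidableEq l] (a b : F) : Matrix (l ⊕ l) (l ⊕ l) F :=
  fromBlocks (a • (1 : Matrix l l F)) (b • 1) (b • 1) ((-a) • 1)

theorem qj_mem (l : Type) [Fintype l] [DecidableEq l] {a b : F} (hab : a ^ 2 + b ^ 2 = -1) :
    qj l a b ∈ symplecticGroup l F := by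
  unfold qj
  rw [SymplecticGroup.fromBlocks_mem_iff]
  refine ⟨?_, ?_, ?_⟩
  · simp only [transpose_smul, transpose_one, smul_mul_smul_comm, mul_one]
    rw [mul_comm]
  · simp only [transpose_smul, transpose_one, smul_mul_smul_comm, mul_one]
    rw [mul_comm]
  · simp only [transpose_smul, transpose_one, smul_mul_smul_comm, mul_one, ← sub_smul]
    have : a * -a - b * b = 1 := by linear_combination -hab
    rw [this, one_smul]

theorem J_mul_qj (l : Type) [Fintype l] [DecidableEq l] (a b : F) :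
    J l F * qj l a b = fromBlocks ((-b) • (1 : Matrix l l F)) (a • 1) (a • 1) (b • 1) := by
  unfold qj J
  rw [fromBlocks_multiply]
  simp

theorem qj_mul_J (l : Type) [Fintype l] [DecidableEq l] (a b : F) :
    qj l a b * J l F = fromBlocks (b • (1 : Matrix l l F)) ((-a) • 1) ((-a) • 1) ((-b) • 1) := by
  unfold qj J
  rw [fromBlocks_multiply]
  simp

theorem qj_mul_qj (l : Type) [Fintype l] [DecidableEq l] {a b : F} (hab : a ^ 2 + b ^ 2 = -1) :
    qj l a b * qj l a b = -1 := by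
  unfold qj
  rw [fromBlocks_multiply]
  simp only [smul_mul_smul_comm, mul_one, ← add_smul]
  have h1 : a * a + b * b = -1 := by linear_combination hab
  have h2 : a * b + b * -a = 0 := by ring
  have h3 : b * a + -a * b = 0 := by ring
  have h4 : b * b + -a * -a = -1 := by linear_combination hab
  rw [h1, h2, h3, h4, zero_smul, neg_smul, one_smul]
  have : (-1 : Matrix (l ⊕ l) (l ⊕ l) F) = -(fromBlocks 1 0 0 1) := by rw [fromBlocks_one]
  rw [this, fromBlocks_neg]
  simp

/-- the Sylow 2-subgroups of `Sp_2(F)` are not commutative -/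
theorem exists_not_comm_sylow_sp1 [Fintype F] (hF : Odd (Fintype.card F))
    (Q : Sylow 2 (symplecticGroup (Fin 1) F)) :
    ∃ x y : (Q : Subgroup (symplecticGroup (Fin 1) F)), x * y ≠ y * x := by
  classical
  haveI : Fact (Nat.Prime 2) := ⟨Nat.prime_two⟩
  have h2 : (2 : F) ≠ 0 := by
    apply Ring.two_ne_zero
    intro h
    have := FiniteField.even_card_of_char_two h
    rcases hF with ⟨k, hk⟩
    omega
  obtain ⟨a, b, hab⟩ : ∃ a b : F, a ^ 2 + b ^ 2 = -1 := by
    haveI : Fact (ringChar F).Prime := ⟨CharP.char_is_prime F (ringChar F)⟩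
    haveI : NeZero (ringChar F) := ⟨(CharP.char_is_prime F (ringChar F)).ne_zero⟩
    obtain ⟨a, b, h⟩ := CharP.sq_add_sq F (ringChar F) (-1)
    exact ⟨a, b, by simpa using h⟩
  obtain ⟨gi, hgi⟩ : ∃ g : symplecticGroup (Fin 1) F, g = SymplecticGroup.symJ (Fin 1) F := ⟨_, rfl⟩
  obtain ⟨gj, hgj⟩ : ∃ g : symplecticGroup (Fin 1) F,
      g = ⟨qj (Fin 1) a b, qj_mem (Fin 1) hab⟩ := ⟨_, rfl⟩
  have vi : (gi : Matrix (Fin 1 ⊕ Fin 1) (Fin 1 ⊕ Fin 1) F) = J (Fin 1) F := by rw [hgi]; rfl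
  have vj : (gj : Matrix (Fin 1 ⊕ Fin 1) (Fin 1 ⊕ Fin 1) F) = qj (Fin 1) a b := by rw [hgj]
  have hi4 : gi ^ 4 = 1 := by
    apply Subtype.ext
    have : gi ^ 4 = (gi * gi) * (gi * gi) := by
      rw [show (4 : ℕ) = 2 + 2 from rfl, pow_add, pow_two]
    rw [this]
    show (gi : Matrix (Fin 1 ⊕ Fin 1) (Fin 1 ⊕ Fin 1) F) * gi * (gi * gi) = 1
    rw [vi, J_squared]
    simp
  have hj4 : gj ^ 4 = 1 := by
    apply Subtype.ext
    have : gj ^ 4 = (gj * gj) * (gj * gj) := by
      rw [show (4 : ℕ) = 2 + 2 from rfl, pow_add, pow_two]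
    rw [this]
    show (gj : Matrix (Fin 1 ⊕ Fin 1) (Fin 1 ⊕ Fin 1) F) * gj * (gj * gj) = 1
    rw [vj, qj_mul_qj (Fin 1) hab]
    simp
  have hiinv : gi⁻¹ = ⟨-J (Fin 1) F, SymplecticGroup.neg_mem (SymplecticGroup.J_mem (Fin 1) F)⟩ := by
    apply inv_eq_of_mul_eq_one_right
    apply Subtype.ext
    show (gi : Matrix (Fin 1 ⊕ Fin 1) (Fin 1 ⊕ Fin 1) F) * (-J (Fin 1) F) = 1
    rw [vi, Matrix.mul_neg, J_squared, neg_neg]
  have hconj : gj * gi * gj⁻¹ = gi⁻¹ := by
    rw [mul_inv_eq_iff_eq_mul, hiinv]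
    apply Subtype.ext
    show (gj : Matrix (Fin 1 ⊕ Fin 1) (Fin 1 ⊕ Fin 1) F) * gi = (-J (Fin 1) F) * gj
    rw [vi, vj, Matrix.neg_mul, J_mul_qj, qj_mul_J, fromBlocks_neg]
    simp
  have hnc : gi * gj ≠ gj * gi := by
    intro h
    have h1 : (gi : Matrix (Fin 1 ⊕ Fin 1) (Fin 1 ⊕ Fin 1) F) * gj = gj * gi :=
      congrArg Subtype.val h
    rw [vi, vj, J_mul_qj, qj_mul_J, fromBlocks_inj] at h1
    have e1 := congrFun (congrFun h1.1 0) 0
    have e2 := congrFun (congrFun h1.2.1 0) 0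
    simp at e1 e2
    have hb0 : b = 0 := by
      have : (2 : F) * b = 0 := by linear_combination -e1
      rcases mul_eq_zero.1 this with h | h
      · exact absurd h h2
      · exact h
    have ha0 : a = 0 := by
      have : (2 : F) * a = 0 := by linear_combination e2
      rcases mul_eq_zero.1 this with h | h
      · exact absurd h h2
      · exact h
    rw [ha0, hb0] at hab
    have : (1 : F) = 0 := by linear_combination hab
    exact one_ne_zero this
  have hN := isPGroup_two_sup gi gj hi4 hj4 hconj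
  obtain ⟨Q', hQ'⟩ := hN.exists_le_sylow
  have hiQ : gi ∈ (Q' : Subgroup (symplecticGroup (Fin 1) F)) :=
    hQ' (Subgroup.mem_sup_right (Subgroup.mem_zpowers gi))
  have hjQ : gj ∈ (Q' : Subgroup (symplecticGroup (Fin 1) F)) :=
    hQ' (Subgroup.mem_sup_left (Subgroup.mem_zpowers gj))
  let e := Sylow.equiv Q' Q
  refine ⟨e ⟨gi, hiQ⟩, e ⟨gj, hjQ⟩, ?_⟩
  intro h
  rw [← map_mul, ← map_mul] at h
  have := e.injective h
  exact hnc (congrArg Subtype.val this)

theorem two_ne_zero_of_odd_card [Fintype F] (hF : Odd (Fintype.card F)) : (2 : F) ≠ 0 := by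
  apply Ring.two_ne_zero
  intro h
  have := FiniteField.even_card_of_char_two h
  rcases hF with ⟨k, hk⟩
  omega

/-- the base group: a Sylow 2-subgroup of `Sp_2(F)` is generalized quaternion -/
theorem exists_quaternion_sylow_sp1 [Fintype F] (hF : Odd (Fintype.card F))
    (Q : Sylow 2 (symplecticGroup (Fin 1) F)) :
    ∃ n : ℕ, 1 ≤ n ∧
      Nonempty ((Q : Subgroup (symplecticGroup (Fin 1) F)) ≃* QuaternionGroup (2 ^ n)) := by
  classical
  haveI : Fact (Nat.Prime 2) := ⟨Nat.prime_two⟩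
  have h2 : (2 : F) ≠ 0 := two_ne_zero_of_odd_card hF
  have hval : ∀ x : (Q : Subgroup (symplecticGroup (Fin 1) F)), orderOf x = 2 →
      ((x : symplecticGroup (Fin 1) F) : Matrix (Fin 1 ⊕ Fin 1) (Fin 1 ⊕ Fin 1) F) = -1 := by
    intro x hx
    have h1 : x ^ 2 = 1 := by
      have := pow_orderOf_eq_one x
      rwa [hx] at this
    have h3 : ((x : symplecticGroup (Fin 1) F) : Matrix (Fin 1 ⊕ Fin 1) (Fin 1 ⊕ Fin 1) F) *
        ((x : symplecticGroup (Fin 1) F) : Matrix (Fin 1 ⊕ Fin 1) (Fin 1 ⊕ Fin 1) F) = 1 := by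
      have := congrArg (fun y : (Q : Subgroup (symplecticGroup (Fin 1) F)) =>
        ((y : symplecticGroup (Fin 1) F) : Matrix (Fin 1 ⊕ Fin 1) (Fin 1 ⊕ Fin 1) F)) h1
      rw [pow_two] at this
      exact this
    rcases sp1_sq_eq_one h2 (x : symplecticGroup (Fin 1) F).2 h3 with h | h
    · exfalso
      have hx1 : x = 1 := by
        apply Subtype.ext
        apply Subtype.ext
        exact h
      rw [hx1, orderOf_one] at hx
      omega
    · exact h
  have huniq : Cfsg.Agent.Helper16.UniqueOrderP 2 (Q : Subgroup (symplecticGroup (Fin 1) F)) := by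
    intro x y hx hy
    have : y = x := by
      apply Subtype.ext
      apply Subtype.ext
      rw [hval x hx, hval y hy]
    rw [this]
    exact Subgroup.mem_zpowers x
  obtain ⟨x, y, hxy⟩ := exists_not_comm_sylow_sp1 hF Q
  rcases Cfsg.Agent.Helper16.cyclic_or_quaternion_of_uniqueOrderP_two Q.isPGroup' huniq with
    hc | ⟨n, ⟨e⟩⟩
  · exfalso
    letI := IsCyclic.commGroup (α := (Q : Subgroup (symplecticGroup (Fin 1) F)))
    exact hxy (mul_comm x y)
  · refine ⟨n, ?_, ⟨e⟩⟩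
    by_contra hn
    have hn0 : n = 0 := by omega
    subst hn0
    have hc : IsCyclic (Q : Subgroup (symplecticGroup (Fin 1) F)) := by
      haveI : IsCyclic (QuaternionGroup (2 ^ 0)) := QuaternionGroup.quaternionGroup_one_isCyclic
      exact isCyclic_of_surjective e.symm.toMonoidHom e.symm.surjective
    letI := IsCyclic.commGroup (α := (Q : Subgroup (symplecticGroup (Fin 1) F)))
    exact hxy (mul_comm x y)

theorem sqInComm_sylow_sp1 [Fintype F] (hF : Odd (Fintype.card F))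
    (Q : Sylow 2 (symplecticGroup (Fin 1) F)) :
    SqInComm (Q : Subgroup (symplecticGroup (Fin 1) F)) := by
  obtain ⟨n, hn, ⟨e⟩⟩ := exists_quaternion_sylow_sp1 hF Q
  haveI : NeZero (2 ^ n) := ⟨by positivity⟩
  have h1 : SqInComm (QuaternionGroup (2 ^ n)) := by
    apply sqInComm_quaternion
    exact (Nat.even_pow' (by omega)).2 (by norm_num)
  exact h1.of_surjective e.symm.toMonoidHom e.symm.surjective

end base

section arith

open Nat

/-- the constant -/
def cq (q : ℕ) : ℕ := padicValNat 2 (q + 1) + padicValNat 2 (q - 1)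

/-- the 2-adic valuation of the order of `Sp_{2n}(q)` -/
def Kn (q n : ℕ) : ℕ := n * cq q + padicValNat 2 n !

theorem v2_term (q : ℕ) (hq : Odd q) (hq1 : 1 < q) (i : ℕ) :
    padicValNat 2 (q ^ (2 * (i + 1)) - 1) = cq q + padicValNat 2 (i + 1) := by
  have h := padicValNat.pow_two_sub_one hq1 (by rwa [← even_iff_two_dvd, Nat.not_even_iff_odd])
    (n := 2 * (i + 1)) (by omega) (even_two_mul _)
  rw [padicValNat.mul (by norm_num) (by omega), padicValNat_self] at h
  unfold cq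
  omega

theorem v2_prod (q : ℕ) (hq : Odd q) (hq1 : 1 < q) (n : ℕ) :
    padicValNat 2 (∏ i ∈ Finset.range n, (q ^ (2 * (i + 1)) - 1)) = Kn q n := by
  have hpos : ∀ i, q ^ (2 * (i + 1)) - 1 ≠ 0 := by
    intro i
    have : 1 < q ^ (2 * (i + 1)) := Nat.one_lt_pow (by omega) hq1
    omega
  induction n with
  | zero => simp [Kn]
  | succ n ih =>
    rw [Finset.prod_range_succ, padicValNat.mul (Finset.prod_ne_zero_iff.2 fun i _ => hpos i)
      (hpos n), ih, v2_term q hq hq1]
    unfold Kn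
    rw [Nat.factorial_succ, padicValNat.mul (by omega) (Nat.factorial_ne_zero n)]
    ring

theorem v2_card (q : ℕ) (hq : Odd q) (hq1 : 1 < q) (n : ℕ) :
    padicValNat 2 (q ^ (n ^ 2) * ∏ i ∈ Finset.range n, (q ^ (2 * (i + 1)) - 1)) = Kn q n := by
  have hpos : ∀ i, q ^ (2 * (i + 1)) - 1 ≠ 0 := by
    intro i
    have : 1 < q ^ (2 * (i + 1)) := Nat.one_lt_pow (by omega) hq1
    omega
  rw [padicValNat.mul (by positivity) (Finset.prod_ne_zero_iff.2 fun i _ => hpos i),
    v2_prod q hq hq1, padicValNat.pow,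
    padicValNat.eq_zero_of_not_dvd (by rwa [← even_iff_two_dvd, Nat.not_even_iff_odd])]
  simp

theorem v2_fact_two_pow (b : ℕ) : padicValNat 2 (2 ^ b)! + 1 = 2 ^ b := by
  induction b with
  | zero => simp
  | succ b ih =>
    rw [pow_succ, mul_comm, padicValNat_factorial_mul]
    omega

theorem Kn_double (q b : ℕ) : Kn q (2 * 2 ^ b) = 2 * Kn q (2 ^ b) + 1 := by
  unfold Kn
  rw [padicValNat_factorial_mul]
  have := v2_fact_two_pow b
  have h2 : 2 * 2 ^ b * cq q = 2 * (2 ^ b * cq q) := by ring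
  omega

theorem v2_add_two_pow (a j : ℕ) (hj : 0 < j) (hj' : j < 2 ^ a) :
    padicValNat 2 (2 ^ a + j) = padicValNat 2 j := by
  have key : ∀ t, 2 ^ t ∣ 2 ^ a + j ↔ 2 ^ t ∣ j := by
    intro t
    rcases le_or_gt t a with h | h
    · exact Nat.dvd_add_right (pow_dvd_pow 2 h)
    · have h1 : 2 ^ (a + 1) ≤ 2 ^ t := Nat.pow_le_pow_right (by norm_num) h
      rw [pow_succ] at h1
      constructor
      · intro hd
        have := Nat.le_of_dvd (by omega) hd
        omega
      · intro hd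
        have := Nat.le_of_dvd hj hd
        omega
  apply le_antisymm
  · rw [← padicValNat_dvd_iff_le (by omega), ← key]
    exact pow_padicValNat_dvd
  · rw [← padicValNat_dvd_iff_le (by omega), key]
    exact pow_padicValNat_dvd

theorem v2_fact_add (a m : ℕ) (hm : m < 2 ^ a) :
    padicValNat 2 (2 ^ a + m)! = padicValNat 2 (2 ^ a)! + padicValNat 2 m ! := by
  induction m with
  | zero => simp
  | succ m ih =>
    rw [← add_assoc, Nat.factorial_succ, padicValNat.mul (by omega) (Nat.factorial_ne_zero _),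
      ih (by omega), add_assoc, v2_add_two_pow a (m + 1) (by omega) hm, Nat.factorial_succ,
      padicValNat.mul (by omega) (Nat.factorial_ne_zero _)]
    ring

theorem Kn_add (q a m : ℕ) (hm : m < 2 ^ a) : Kn q (2 ^ a + m) = Kn q (2 ^ a) + Kn q m := by
  unfold Kn
  rw [v2_fact_add a m hm]
  ring
end arith

section main

variable {F : Type u} [Field F]

/-- the derived length of a shape over a base of derived length two -/
def Shape.dl : Shape → ℕ
  | .base => 2
  | .prod s t => max s.dl t.dl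
  | .wr s => s.dl + 1

theorem Emb.sp_prod {Q : Type u} [Group Q] {s t : Shape} {l₁ l₂ l : Type} [Fintype l₁]
    [DecidableEq l₁] [Fintype l₂] [DecidableEq l₂] [Fintype l] [DecidableEq l]
    (e : l₁ ⊕ l₂ ≃ l) (h₁ : Emb Q s (J l₁ F)) (h₂ : Emb Q t (J l₂ F)) :
    Emb Q (.prod s t) (J l F) := by
  have h3 := (h₁.prod h₂).reindex (Equiv.sumSumSumComm l₁ l₁ l₂ l₂)
  rw [← J_sum] at h3
  have h4 := h3.reindex (e.sumCongr e)
  rwa [← J_congr] at h4

theorem Emb.sp_wr {Q : Type u} [Group Q] {s : Shape} {l₁ l : Type} [Fintype l₁]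
    [DecidableEq l₁] [Nonempty l₁] [Fintype l] [DecidableEq l]
    (e : l₁ ⊕ l₁ ≃ l) (h : Emb Q s (J l₁ F)) :
    Emb Q (.wr s) (J l F) := by
  have h3 := h.wr.reindex (Equiv.sumSumSumComm l₁ l₁ l₁ l₁)
  rw [← J_sum] at h3
  have h4 := h3.reindex (e.sumCongr e)
  rwa [← J_congr] at h4

theorem exists_shape (q : ℕ) (Q : Type u) [Group Q] (hQ : Emb Q .base (J (Fin 1) F)) :
    ∀ n, 1 ≤ n → ∃ s : Shape, s.logcard (Kn q 1) = Kn q n ∧ s.dl = Nat.log 2 n + 2 ∧
      Emb Q s (J (Fin n) F) := by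
  intro n
  induction n using Nat.strong_induction_on with
  | _ n ih =>
    intro hn
    by_cases h1 : n = 1
    · subst h1
      exact ⟨.base, rfl, by simp [Shape.dl], hQ⟩
    obtain ⟨a, ha⟩ : ∃ a, a = Nat.log 2 n := ⟨_, rfl⟩
    have ha1 : 2 ^ a ≤ n := by rw [ha]; exact Nat.pow_log_le_self 2 (by omega)
    have ha2 : n < 2 ^ (a + 1) := by rw [ha]; exact Nat.lt_pow_succ_log_self (by norm_num) n
    have ha0 : 1 ≤ a := by
      rw [ha]
      exact Nat.log_pos (by norm_num) (by omega)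
    rcases eq_or_lt_of_le ha1 with h | h
    · -- `n = 2 ^ a`
      obtain ⟨b, rfl⟩ : ∃ b, a = b + 1 := ⟨a - 1, by omega⟩
      have hn2 : n = 2 * 2 ^ b := by rw [← h, pow_succ]; ring
      have hb1 : 1 ≤ 2 ^ b := Nat.one_le_two_pow
      obtain ⟨s, hs1, hs2, hs3⟩ := ih (2 ^ b) (by omega) hb1
      haveI : Nonempty (Fin (2 ^ b)) := ⟨⟨0, by omega⟩⟩
      refine ⟨.wr s, ?_, ?_, ?_⟩
      · show 2 * s.logcard (Kn q 1) + 1 = _
        rw [hs1, hn2, Kn_double]
      · show s.dl + 1 = _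
        rw [hs2, ← ha, Nat.log_pow (by norm_num)]
      · exact hs3.sp_wr (finSumFinEquiv.trans (finCongr (by omega)))
    · -- `2 ^ a < n`
      obtain ⟨m, hm⟩ : ∃ m, n = 2 ^ a + m := ⟨n - 2 ^ a, by omega⟩
      have hm0 : 0 < m := by omega
      have hm1 : m < 2 ^ a := by rw [pow_succ] at ha2; omega
      have hb1 : 1 ≤ 2 ^ a := Nat.one_le_two_pow
      obtain ⟨s, hs1, hs2, hs3⟩ := ih (2 ^ a) h hb1
      obtain ⟨t, ht1, ht2, ht3⟩ := ih m (by omega) hm0
      refine ⟨.prod s t, ?_, ?_, ?_⟩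
      · show s.logcard (Kn q 1) + t.logcard (Kn q 1) = _
        rw [hs1, ht1, hm, Kn_add q a m hm1]
      · show max s.dl t.dl = _
        rw [hs2, ht2, ← ha, Nat.log_pow (by norm_num)]
        have : Nat.log 2 m < a := Nat.log_lt_of_lt_pow (by omega) hm1
        omega
      · exact hs3.sp_prod (finSumFinEquiv.trans (finCongr (by omega))) ht3

theorem base_emb (Q : Sylow 2 (symplecticGroup (Fin 1) F)) :
    Emb (F := F) (Q : Subgroup (symplecticGroup (Fin 1) F)) .base (J (Fin 1) F) := by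
  show EmbG (Q : Subgroup (symplecticGroup (Fin 1) F)) (J (Fin 1) F)
  refine ⟨(Cfsg.Agent.Helper12.SpSyl.spToGL (F := F) (l := Fin 1)).comp
    (Q : Subgroup (symplecticGroup (Fin 1) F)).subtype, ?_, ?_⟩
  · exact Cfsg.Agent.Helper12.SpSyl.spToGL_injective.comp Subtype.coe_injective
  · intro r
    exact SymplecticGroup.mem_iff.1 (r : symplecticGroup (Fin 1) F).2

theorem EmbG.toSp {R : Type u} [Group R] {l : Type} [Fintype l] [DecidableEq l]
    (h : EmbG R (J l F)) : ∃ g : R →* symplecticGroup l F, Function.Injective g := by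
  obtain ⟨f, hf, hK⟩ := h
  refine ⟨MonoidHom.codRestrict ((Units.coeHom _).comp f) (symplecticGroup l F)
    (fun r => SymplecticGroup.mem_iff.2 (hK r)), ?_⟩
  intro x y hxy
  apply hf
  apply Units.ext
  exact congrArg Subtype.val hxy

/-- **The structure of a Sylow 2-subgroup of `Sp_{2n}(F)`, `|F|` odd**: it is isomorphic to an
iterated product/wreath product (of shape `s`) of a Sylow 2-subgroup of `Sp_2(F)`. -/
theorem sylow_sp_shape [Fintype F] (hF : Odd (Fintype.card F)) (n : ℕ) (hn : 1 ≤ n)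
    (Q : Sylow 2 (symplecticGroup (Fin 1) F)) (P : Sylow 2 (symplecticGroup (Fin n) F)) :
    ∃ s : Shape, s.dl = Nat.log 2 n + 2 ∧
      Nonempty ((s.grp (Q : Subgroup (symplecticGroup (Fin 1) F))).T ≃*
        (P : Subgroup (symplecticGroup (Fin n) F))) := by
  classical
  haveI : Fact (Nat.Prime 2) := ⟨Nat.prime_two⟩
  obtain ⟨q, hq⟩ : ∃ q, q = Fintype.card F := ⟨_, rfl⟩
  have hq1 : 1 < q := by rw [hq]; exact Fintype.one_lt_card
  have hqodd : Odd q := by rw [hq]; exact hF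
  have hcard : ∀ m : ℕ, (Nat.card (symplecticGroup (Fin m) F)).factorization 2 = Kn q m := by
    intro m
    rw [Cfsg.Agent.Helper2.Symp.card_symplecticGroup, ← hq, Nat.factorization_def _ Nat.prime_two,
      v2_card q hqodd hq1]
  obtain ⟨s, hs1, hs2, hs3⟩ := exists_shape q (Q : Subgroup (symplecticGroup (Fin 1) F))
    (base_emb Q) n hn
  refine ⟨s, hs2, ?_⟩
  obtain ⟨g, hg⟩ := EmbG.toSp hs3
  have hQc : Nat.card (Q : Subgroup (symplecticGroup (Fin 1) F)) = 2 ^ Kn q 1 := by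
    rw [Sylow.card_eq_multiplicity, hcard]
  have hc1 : Nat.card (s.grp (Q : Subgroup (symplecticGroup (Fin 1) F))).T = 2 ^ Kn q n := by
    rw [Shape.card_grp _ _ hQc, hs1]
  have hc2 : Nat.card g.range = 2 ^ (Nat.card (symplecticGroup (Fin n) F)).factorization 2 := by
    rw [hcard, ← hc1]
    exact (Nat.card_congr (MonoidHom.ofInjective hg).toEquiv).symm
  let P₀ : Sylow 2 (symplecticGroup (Fin n) F) := Sylow.ofCard g.range hc2
  exact ⟨(MonoidHom.ofInjective hg).trans (Sylow.equiv P₀ P)⟩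

/-- **The abelianization of a Sylow 2-subgroup of `Sp_{2n}(F)`, `|F|` odd, is elementary
abelian.** -/
theorem sqInComm_sylow_sp [Fintype F] (hF : Odd (Fintype.card F)) (n : ℕ) (hn : 1 ≤ n)
    (P : Sylow 2 (symplecticGroup (Fin n) F)) :
    SqInComm (P : Subgroup (symplecticGroup (Fin n) F)) := by
  classical
  haveI : Fact (Nat.Prime 2) := ⟨Nat.prime_two⟩
  obtain ⟨Q⟩ : Nonempty (Sylow 2 (symplecticGroup (Fin 1) F)) := inferInstance
  obtain ⟨s, -, ⟨e⟩⟩ := sylow_sp_shape hF n hn Q P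
  exact (Shape.sqInComm _ (sqInComm_sylow_sp1 hF Q) s).of_surjective e.toMonoidHom e.surjective

end main

end Cfsg.Agent.Helper23.SpShape
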