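import Mathlib
import Cfsg.Agent.Lib.Helper23.SpSylow2
import Cfsg.Agent.Lib.Helper23.EARank

set_option autoImplicit false
set_option linter.style.haveILetI false

/-!
# The 2-rank of a Sylow 2-subgroup of `Sp_{2n}(q)`, `q` odd
-/

namespace Cfsg.Agent.Helper23.SpShape

open Matrix Cfsg.Agent.Helper23.SqComm

universe u

/-- the number of leaves (copies of the base group) -/
def Shape.leaves : Shape → ℕ
  | .base => 1
  | .prod s t => s.leaves + t.leaves
  | .wr s => s.leaves + s.leaves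

theorem Shape.leaves_pos : ∀ s : Shape, 1 ≤ s.leaves
  | .base => le_refl 1
  | .prod s _ => le_trans (Shape.leaves_pos s) (Nat.le_add_right _ _)
  | .wr s => le_trans (Shape.leaves_pos s) (Nat.le_add_right _ _)

theorem Shape.finite (Q : Type u) [Group Q] [Finite Q] : ∀ s : Shape, Finite (s.grp Q).T
  | .base => (inferInstance : Finite Q)
  | .prod s t => by
    haveI := Shape.finite Q s
    haveI := Shape.finite Q t
    exact (inferInstance : Finite ((s.grp Q).T × (t.grp Q).T))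
  | .wr s => by
    haveI := Shape.finite Q s
    exact (Finite.of_equiv _ SemidirectProduct.equivProd.symm : Finite (Wr2 (s.grp Q).T))

theorem Shape.eab (Q : Type u) [Group Q] [Finite Q] (hQ : EAB Q 1) :
    ∀ s : Shape, EAB (s.grp Q).T s.leaves
  | .base => hQ
  | .prod s t => by
    haveI := Shape.finite Q s
    haveI := Shape.finite Q t
    exact (Shape.eab Q hQ s).prod (Shape.eab Q hQ t)
  | .wr s => by
    haveI := Shape.finite Q s
    exact (Shape.eab Q hQ s).wr2 (Shape.leaves_pos s)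

theorem Shape.hasNEA (Q : Type u) [Group Q] (hQ : HasNEA Q 1) :
    ∀ s : Shape, HasNEA (s.grp Q).T s.leaves
  | .base => hQ
  | .prod s t => (Shape.hasNEA Q hQ s).prod (Shape.hasNEA Q hQ t)
  | .wr s => (Shape.hasNEA Q hQ s).wr2

variable {F : Type u} [Field F]

theorem exists_shape_leaves (q : ℕ) (Q : Type u) [Group Q] (hQ : Emb Q .base (J (Fin 1) F)) :
    ∀ n, 1 ≤ n → ∃ s : Shape, s.logcard (Kn q 1) = Kn q n ∧ s.leaves = n ∧
      Emb Q s (J (Fin n) F) := by
  intro n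
  induction n using Nat.strong_induction_on with
  | _ n ih =>
    intro hn
    by_cases h1 : n = 1
    · subst h1
      exact ⟨.base, rfl, rfl, hQ⟩
    obtain ⟨a, ha⟩ : ∃ a, a = Nat.log 2 n := ⟨_, rfl⟩
    have ha1 : 2 ^ a ≤ n := by rw [ha]; exact Nat.pow_log_le_self 2 (by omega)
    have ha2 : n < 2 ^ (a + 1) := by rw [ha]; exact Nat.lt_pow_succ_log_self (by norm_num) n
    have ha0 : 1 ≤ a := by
      rw [ha]
      exact Nat.log_pos (by norm_num) (by omega)
    rcases eq_or_lt_of_le ha1 with h | h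
    · obtain ⟨b, rfl⟩ : ∃ b, a = b + 1 := ⟨a - 1, by omega⟩
      have hn2 : n = 2 * 2 ^ b := by rw [← h, pow_succ]; ring
      have hb1 : 1 ≤ 2 ^ b := Nat.one_le_two_pow
      obtain ⟨s, hs1, hs2, hs3⟩ := ih (2 ^ b) (by omega) hb1
      haveI : Nonempty (Fin (2 ^ b)) := ⟨⟨0, by omega⟩⟩
      refine ⟨.wr s, ?_, ?_, ?_⟩
      · show 2 * s.logcard (Kn q 1) + 1 = _
        rw [hs1, hn2, Kn_double]
      · show s.leaves + s.leaves = _
        rw [hs2]; omega
      · exact hs3.sp_wr (finSumFinEquiv.trans (finCongr (by omega)))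
    · obtain ⟨m, hm⟩ : ∃ m, n = 2 ^ a + m := ⟨n - 2 ^ a, by omega⟩
      have hm0 : 0 < m := by omega
      have hm1 : m < 2 ^ a := by rw [pow_succ] at ha2; omega
      have hb1 : 1 ≤ 2 ^ a := Nat.one_le_two_pow
      obtain ⟨s, hs1, hs2, hs3⟩ := ih (2 ^ a) h hb1
      obtain ⟨t, ht1, ht2, ht3⟩ := ih m (by omega) hm0
      refine ⟨.prod s t, ?_, ?_, ?_⟩
      · show s.logcard (Kn q 1) + t.logcard (Kn q 1) = _
        rw [hs1, ht1, hm, Kn_add q a m hm1]
      · show s.leaves + t.leaves = _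
        rw [hs2, ht2, hm]
      · exact hs3.sp_prod (finSumFinEquiv.trans (finCongr (by omega))) ht3

theorem sylow_sp_shape_leaves [Fintype F] (hF : Odd (Fintype.card F)) (n : ℕ) (hn : 1 ≤ n)
    (Q : Sylow 2 (symplecticGroup (Fin 1) F)) (P : Sylow 2 (symplecticGroup (Fin n) F)) :
    ∃ s : Shape, s.leaves = n ∧
      Nonempty ((s.grp (Q : Subgroup (symplecticGroup (Fin 1) F))).T ≃*
        (P : Subgroup (symplecticGroup (Fin n) F))) := by
  classical
  haveI : Fact (Nat.Prime 2) := ⟨Nat.prime_two⟩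
  obtain ⟨q, hq⟩ : ∃ q, q = Fintype.card F := ⟨_, rfl⟩
  have hq1 : 1 < q := by rw [hq]; exact Fintype.one_lt_card
  have hqodd : Odd q := by rw [hq]; exact hF
  have hcard : ∀ m : ℕ, (Nat.card (symplecticGroup (Fin m) F)).factorization 2 = Kn q m := by
    intro m
    rw [Cfsg.Agent.Helper2.Symp.card_symplecticGroup, ← hq, Nat.factorization_def _ Nat.prime_two,
      v2_card q hqodd hq1]
  obtain ⟨s, hs1, hs2, hs3⟩ := exists_shape_leaves q (Q : Subgroup (symplecticGroup (Fin 1) F))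
    (base_emb Q) n hn
  refine ⟨s, hs2, ?_⟩
  obtain ⟨g, hg⟩ := EmbG.toSp hs3
  have hQc : Nat.card (Q : Subgroup (symplecticGroup (Fin 1) F)) = 2 ^ Kn q 1 := by
    rw [Sylow.card_eq_multiplicity, hcard]
  have hc1 : Nat.card (s.grp (Q : Subgroup (symplecticGroup (Fin 1) F))).T = 2 ^ Kn q n := by
    rw [Shape.card_grp _ _ hQc, hs1]
  have hc2 : Nat.card g.range = 2 ^ (Nat.card (symplecticGroup (Fin n) F)).factorization 2 := by
    rw [hcard, ← hc1]
    exact (Nat.card_congr (MonoidHom.ofInjective hg).toEquiv).symm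
  let P₀ : Sylow 2 (symplecticGroup (Fin n) F) := Sylow.ofCard g.range hc2
  exact ⟨(MonoidHom.ofInjective hg).trans (Sylow.equiv P₀ P)⟩

theorem uniqInv_sylow_sp1 [Fintype F] (hF : Odd (Fintype.card F))
    (Q : Sylow 2 (symplecticGroup (Fin 1) F)) :
    UniqInv (Q : Subgroup (symplecticGroup (Fin 1) F)) := by
  classical
  haveI : Fact (Nat.Prime 2) := ⟨Nat.prime_two⟩
  have h2 : (2 : F) ≠ 0 := two_ne_zero_of_odd_card hF
  have hval : ∀ x : (Q : Subgroup (symplecticGroup (Fin 1) F)), x ^ 2 = 1 → x ≠ 1 →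
      ((x : symplecticGroup (Fin 1) F) : Matrix (Fin 1 ⊕ Fin 1) (Fin 1 ⊕ Fin 1) F) = -1 := by
    intro x h1 hx
    have h3 : ((x : symplecticGroup (Fin 1) F) : Matrix (Fin 1 ⊕ Fin 1) (Fin 1 ⊕ Fin 1) F) *
        ((x : symplecticGroup (Fin 1) F) : Matrix (Fin 1 ⊕ Fin 1) (Fin 1 ⊕ Fin 1) F) = 1 := by
      have := congrArg (fun y : (Q : Subgroup (symplecticGroup (Fin 1) F)) =>
        ((y : symplecticGroup (Fin 1) F) : Matrix (Fin 1 ⊕ Fin 1) (Fin 1 ⊕ Fin 1) F)) h1
      rw [pow_two] at this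
      exact this
    rcases sp1_sq_eq_one h2 (x : symplecticGroup (Fin 1) F).2 h3 with h | h
    · exfalso
      apply hx
      apply Subtype.ext
      apply Subtype.ext
      exact h
    · exact h
  obtain ⟨m, hm, ⟨e⟩⟩ := exists_quaternion_sylow_sp1 hF Q
  haveI : NeZero (2 ^ m) := ⟨by positivity⟩
  have hdvd : 2 ∣ Nat.card (Q : Subgroup (symplecticGroup (Fin 1) F)) := by
    rw [Nat.card_congr e.toEquiv, Nat.card_eq_fintype_card, QuaternionGroup.card]
    exact Dvd.dvd.mul_right (by norm_num) _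
  obtain ⟨z, hz⟩ := exists_prime_orderOf_dvd_card' 2 hdvd
  have hz1 : z ≠ 1 := by
    intro h
    rw [h, orderOf_one] at hz
    omega
  have hz2 : z ^ 2 = 1 := by
    have := pow_orderOf_eq_one z
    rwa [hz] at this
  refine ⟨z, hz1, hz2, ?_⟩
  intro x hx
  by_cases hx1 : x = 1
  · exact Or.inl hx1
  · right
    apply Subtype.ext
    apply Subtype.ext
    rw [hval x hx hx1, hval z hz2 hz1]

/-- the 2-rank and normal 2-rank of a Sylow 2-subgroup of `Sp_{2n}(F)` are both `n` -/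
theorem rank_sylow_sp [Fintype F] (hF : Odd (Fintype.card F)) (n : ℕ) (hn : 1 ≤ n)
    (P : Sylow 2 (symplecticGroup (Fin n) F)) :
    HasNEA (P : Subgroup (symplecticGroup (Fin n) F)) n ∧
      EAB (P : Subgroup (symplecticGroup (Fin n) F)) n := by
  classical
  haveI : Fact (Nat.Prime 2) := ⟨Nat.prime_two⟩
  obtain ⟨Q⟩ : Nonempty (Sylow 2 (symplecticGroup (Fin 1) F)) := inferInstance
  obtain ⟨s, hs, ⟨e⟩⟩ := sylow_sp_shape_leaves hF n hn Q P
  have hu := uniqInv_sylow_sp1 hF Q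
  have h1 := (Shape.hasNEA _ hu.hasNEA s).of_equiv e
  have h2 := (Shape.eab _ hu.eab s).of_equiv e
  rw [hs] at h1 h2
  exact ⟨h1, h2⟩

end Cfsg.Agent.Helper23.SpShape
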