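import Mathlib
import Cfsg.Agent.Lib.Helper23.EARank
import Cfsg.Agent.Lib.Helper23.SpSylow2Rank

set_option autoImplicit false
set_option linter.style.haveILetI false

/-!
# Normal elementary abelian subgroups of iterated wreath products
-/

namespace Cfsg.Agent.Helper23.SpShape

open Cfsg.Agent.Helper23.SqComm

universe u v

/-- every normal subgroup of exponent two has order at most `2 ^ k` -/
def NEAB (R : Type u) [Group R] (k : ℕ) : Prop :=
  ∀ E : Subgroup R, E.Normal → (∀ a ∈ E, a ^ 2 = 1) → Nat.card E ≤ 2 ^ k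

theorem EAB.neab {R : Type u} [Group R] {k : ℕ} (h : EAB R k) : NEAB R k :=
  fun E _ hE => h E hE

theorem NEAB.of_equiv {R : Type u} {S : Type v} [Group R] [Group S] {k : ℕ} (e : R ≃* S)
    (h : NEAB R k) : NEAB S k := by
  intro E hn hE
  have h1 := h (E.map e.symm.toMonoidHom) (hn.map _ e.symm.surjective) (by
    rintro a ⟨b, hb, rfl⟩
    rw [← map_pow, hE b hb, map_one])
  rwa [Subgroup.card_map_of_injective e.symm.injective] at h1

theorem NEAB.prod {R : Type u} {S : Type v} [Group R] [Group S] [Finite R] [Finite S]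
    {k₁ k₂ : ℕ} (h₁ : NEAB R k₁) (h₂ : NEAB S k₂) : NEAB (R × S) (k₁ + k₂) := by
  intro E hn hE
  have e1 := h₁ (E.map (MonoidHom.fst R S)) (hn.map _ Prod.fst_surjective) (by
    rintro a ⟨b, hb, rfl⟩
    rw [← map_pow, hE b hb, map_one])
  have e2 := h₂ (E.map (MonoidHom.snd R S)) (hn.map _ Prod.snd_surjective) (by
    rintro a ⟨b, hb, rfl⟩
    rw [← map_pow, hE b hb, map_one])
  have hle : E ≤ (E.map (MonoidHom.fst R S)).prod (E.map (MonoidHom.snd R S)) := by
    intro x hx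
    exact ⟨⟨x, hx, rfl⟩, ⟨x, hx, rfl⟩⟩
  calc Nat.card E ≤ Nat.card ((E.map (MonoidHom.fst R S)).prod (E.map (MonoidHom.snd R S))) :=
        Subgroup.card_le_of_le hle
    _ = Nat.card (E.map (MonoidHom.fst R S)) * Nat.card (E.map (MonoidHom.snd R S)) := by
        rw [Nat.card_congr (Subgroup.prodEquiv _ _).toEquiv, Nat.card_prod]
    _ ≤ 2 ^ k₁ * 2 ^ k₂ := Nat.mul_le_mul e1 e2
    _ = 2 ^ (k₁ + k₂) := (pow_add 2 k₁ k₂).symm

/-- the commutator of a base element with an element outside the base -/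
theorem wr2_comm_formula {R : Type u} [Group R] (g : R) (t : Wr2 R) (ht : t.right = -1) :
    (SemidirectProduct.inl (g, 1) : Wr2 R) * t * (SemidirectProduct.inl (g, 1) : Wr2 R)⁻¹ * t⁻¹ =
      SemidirectProduct.inl (g, t.left.2 * g⁻¹ * t.left.2⁻¹) := by
  have hsw : ∀ x : R × R, (swapHom R (-1)) x = (x.2, x.1) := by
    intro x
    simp only [swapHom, invHom_neg_one]
    rfl
  have hinv : ((-1 : ℤˣ))⁻¹ = -1 := by decide
  ext
  · simp [SemidirectProduct.mul_left, SemidirectProduct.inv_left, ht, hsw, hinv]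
  · simp [SemidirectProduct.mul_left, SemidirectProduct.inv_left, ht, hsw, hinv]
  · simp [ht]

theorem NEAB.wr2 {R : Type u} [Group R] [Finite R] {k : ℕ} (hne : ∃ g : R, g ^ 2 ≠ 1)
    (h : NEAB R k) : NEAB (Wr2 R) (k + k) := by
  intro E hn hE
  haveI : Finite (Wr2 R) := Finite.of_equiv _ SemidirectProduct.equivProd.symm
  obtain ⟨g₀, hg₀⟩ := hne
  have hall : ∀ x ∈ E, (x : Wr2 R).right = 1 := by
    intro t htE
    rcases Int.units_eq_one_or t.right with h1 | h1
    · exact h1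
    · exfalso
      have hy : (SemidirectProduct.inl (g₀, 1) : Wr2 R) * t *
          (SemidirectProduct.inl (g₀, 1) : Wr2 R)⁻¹ * t⁻¹ ∈ E :=
        E.mul_mem (hn.conj_mem t htE _) (E.inv_mem htE)
      rw [wr2_comm_formula g₀ t h1] at hy
      have h2 := hE _ hy
      rw [← map_pow] at h2
      have h3 : ((g₀, t.left.2 * g₀⁻¹ * t.left.2⁻¹) : R × R) ^ 2 = 1 :=
        SemidirectProduct.inl_injective (by rw [h2, map_one])
      exact hg₀ (congrArg Prod.fst h3)
  obtain ⟨E₀, hE₀⟩ : ∃ E₀ : Subgroup (R × R),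
      E₀ = E.comap (SemidirectProduct.inl : R × R →* Wr2 R) := ⟨_, rfl⟩
  have hE₀n : E₀.Normal := by rw [hE₀]; exact hn.comap _
  have hE₀2 : ∀ a ∈ E₀, a ^ 2 = 1 := by
    intro a ha
    rw [hE₀, Subgroup.mem_comap] at ha
    have := hE _ ha
    rw [← map_pow] at this
    exact SemidirectProduct.inl_injective (by rw [this, map_one])
  have hmem : ∀ x : E, (x.1 : Wr2 R).left ∈ E₀ := by
    intro x
    rw [hE₀, Subgroup.mem_comap]
    have : (SemidirectProduct.inl (x.1 : Wr2 R).left : Wr2 R) = x.1 := by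
      ext
      · rfl
      · rfl
      · simp [hall x.1 x.2]
    rw [this]
    exact x.2
  have hle : Nat.card E ≤ Nat.card E₀ := by
    apply Nat.card_le_card_of_injective (fun x : E => (⟨(x.1 : Wr2 R).left, hmem x⟩ : E₀))
    intro x y hxy
    have h1 : (x.1 : Wr2 R).left = (y.1 : Wr2 R).left := congrArg Subtype.val hxy
    apply Subtype.ext
    ext
    · rw [h1]
    · rw [h1]
    · rw [hall x.1 x.2, hall y.1 y.2]
  exact le_trans hle ((h.prod h) E₀ hE₀n hE₀2)

theorem notExp2_wr2 {R : Type u} [Group R] (hne : ∃ g : R, g ^ 2 ≠ 1) :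
    ∃ g : Wr2 R, g ^ 2 ≠ 1 := by
  obtain ⟨g, hg⟩ := hne
  refine ⟨SemidirectProduct.inl (g, 1), ?_⟩
  intro h
  rw [← map_pow] at h
  have h3 : ((g, 1) : R × R) ^ 2 = 1 := SemidirectProduct.inl_injective (by rw [h, map_one])
  exact hg (congrArg Prod.fst h3)

theorem notExp2_prod {R : Type u} {S : Type v} [Group R] [Group S] (hne : ∃ g : R, g ^ 2 ≠ 1) :
    ∃ g : R × S, g ^ 2 ≠ 1 := by
  obtain ⟨g, hg⟩ := hne
  exact ⟨(g, 1), fun h => hg (congrArg Prod.fst h)⟩

theorem Shape.neab (Q : Type u) [Group Q] [Finite Q] (hQ : NEAB Q 1) (hne : ∃ g : Q, g ^ 2 ≠ 1) :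
    ∀ s : Shape, NEAB (s.grp Q).T s.leaves ∧ ∃ g : (s.grp Q).T, g ^ 2 ≠ 1
  | .base => ⟨hQ, hne⟩
  | .prod s t => by
    haveI := Shape.finite Q s
    haveI := Shape.finite Q t
    exact ⟨(Shape.neab Q hQ hne s).1.prod (Shape.neab Q hQ hne t).1,
      notExp2_prod (Shape.neab Q hQ hne s).2⟩
  | .wr s => by
    haveI := Shape.finite Q s
    exact ⟨(Shape.neab Q hQ hne s).1.wr2 (Shape.neab Q hQ hne s).2,
      notExp2_wr2 (Shape.neab Q hQ hne s).2⟩

/-- a group of the order of a Sylow 2-subgroup embedded in `G` is isomorphic to every Sylow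
2-subgroup of `G` -/
theorem sylow_equiv_of_card_two {K G : Type*} [Group K] [Group G] [Finite G] (g : K →* G)
    (hg : Function.Injective g) (hc : Nat.card K = 2 ^ (Nat.card G).factorization 2)
    (P : Sylow 2 G) : Nonempty (K ≃* (P : Subgroup G)) := by
  classical
  haveI : Fact (Nat.Prime 2) := ⟨Nat.prime_two⟩
  have hcardrange : Nat.card g.range = Nat.card K :=
    (Nat.card_congr (MonoidHom.ofInjective hg).toEquiv).symm
  have hc2 : Nat.card g.range = 2 ^ (Nat.card G).factorization 2 := by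
    rw [hcardrange, hc]
  let P₀ : Sylow 2 G := Sylow.ofCard g.range hc2
  exact ⟨(MonoidHom.ofInjective hg).trans (Sylow.equiv P₀ P)⟩

end Cfsg.Agent.Helper23.SpShape
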