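import Mathlib
import Cfsg.Agent.Lib.Helper21.PolySeq

/-!
# The exact top term of the Hall--Petrescu expansion (first order)

On top of helper21's polynomial sequences (`Cfsg.Agent.Helper21.PolySeq`).  For a filtration `F` with
`⁅F i, F j⁆ ≤ F (i + j)` and `F (p + 2) = ⊥`, an element `s` with `⁅s, F m⁆ ⊆ F (m + 1)` (`m ≥ 2`) and
`x ∈ F 2` (so `x` has *weight two*), we get

`x⁻ᵖ (x s)ᵖ s⁻ᵖ ≡ ⁅s, ⁅s, … ⁅s, x⁆ … ⁆⁆` (`p - 1` brackets) modulo the `p`-th powers of `F 3`.
-/

set_option autoImplicit false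

namespace Cfsg.Agent.Helper23.ExactHP

open Cfsg.Agent.Helper21.PolySeq
open scoped commutatorElement

variable {G : Type*} [Group G] {F : ℕ → Subgroup G}

/-- polynomial of every order at level `l` -/
def PolyAt (F : ℕ → Subgroup G) (l : ℕ) (g : ℕ → G) : Prop := ∀ r, IsPoly F r l g

theorem PolyAt.mem {l : ℕ} {g : ℕ → G} (h : PolyAt F l g) (n : ℕ) : g n ∈ F l := (h 0) n

theorem PolyAt.diff {l : ℕ} {g : ℕ → G} (h : PolyAt F l g) : PolyAt F (l + 1) (D g) :=
  fun r => (h (r + 1)).2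

theorem PolyAt.mono (hF : Antitone F) {l l' : ℕ} {g : ℕ → G} (hl : l' ≤ l) (h : PolyAt F l g) :
    PolyAt F l' g := fun r => (h r).mono hF hl

theorem PolyAt.mul (hF : Antitone F) (hc : ∀ i j, ⁅F i, F j⁆ ≤ F (i + j)) {l : ℕ} {g h : ℕ → G}
    (hg : PolyAt F l g) (hh : PolyAt F l h) : PolyAt F l (g * h) :=
  fun r => (good hF hc r).mul _ _ _ (hg r) (hh r)

theorem PolyAt.inv (hF : Antitone F) (hc : ∀ i j, ⁅F i, F j⁆ ≤ F (i + j)) {l : ℕ} {g : ℕ → G}
    (hg : PolyAt F l g) : PolyAt F l g⁻¹ :=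
  fun r => (good hF hc r).inv _ _ (hg r)

theorem PolyAt.comm (hF : Antitone F) (hc : ∀ i j, ⁅F i, F j⁆ ≤ F (i + j)) {k l : ℕ} {g h : ℕ → G}
    (hg : PolyAt F k g) (hh : PolyAt F l h) : PolyAt F (k + l) ⁅g, h⁆ :=
  fun r => (good hF hc r).comm _ _ _ _ (hg r) (hh r)

theorem PolyAt.conj (hF : Antitone F) (hc : ∀ i j, ⁅F i, F j⁆ ≤ F (i + j)) {k l : ℕ} {g u : ℕ → G}
    (hg : PolyAt F k g) (hu : PolyAt F l u) : PolyAt F l (g * u * g⁻¹) :=
  fun r => (good hF hc r).conj hF (hg r) (hu r)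

theorem PolyAt.iterate_mem {l : ℕ} {g : ℕ → G} (h : PolyAt F l g) (k n : ℕ) :
    (D^[k] g) n ∈ F (k + l) := (h k).iterate_mem k le_rfl n

/-- a perturbation of higher level does not change the symbol -/
theorem symb_mul_err (hF : Antitone F) (hc : ∀ i j, ⁅F i, F j⁆ ≤ F (i + j)) :
    ∀ (k l : ℕ) (g e : ℕ → G), PolyAt F l g → PolyAt F (l + 1) e →
      ∀ n, ((D^[k] g) n)⁻¹ * (D^[k] (g * e)) n ∈ F (k + l + 1) := by
  intro k
  induction k with
  | zero =>
    intro l g e _ he n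
    simp only [Function.iterate_zero, id_eq, Pi.mul_apply, inv_mul_cancel_left]
    rw [Nat.zero_add]
    exact he.mem n
  | succ k ih =>
    intro l g e hg he n
    rw [Function.iterate_succ_apply, Function.iterate_succ_apply, D_mul, mul_assoc]
    have h1 : PolyAt F (l + 1 + 1) (⁅g, D e⁆ * D e) :=
      ((hg.comm hF hc he.diff).mono hF (by omega)).mul hF hc he.diff
    have h2 := ih (l + 1) (D g) (⁅g, D e⁆ * D e) hg.diff h1 n
    rwa [show k + (l + 1) + 1 = k + 1 + l + 1 by omega] at h2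

/-- the symbol is multiplicative on sequences of level at least one -/
theorem symb_mul (hF : Antitone F) (hc : ∀ i j, ⁅F i, F j⁆ ≤ F (i + j)) :
    ∀ (k l : ℕ) (g h : ℕ → G), 1 ≤ l → PolyAt F l g → PolyAt F l h →
      ∀ n, ((D^[k] g) n * (D^[k] h) n)⁻¹ * (D^[k] (g * h)) n ∈ F (k + l + 1) := by
  intro k
  induction k with
  | zero =>
    intro l g h _ _ _ n
    simp only [Function.iterate_zero, id_eq, Pi.mul_apply, inv_mul_cancel]
    exact one_mem _
  | succ k ih =>
    intro l g h hl hg hh n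
    rw [Function.iterate_succ_apply, Function.iterate_succ_apply, Function.iterate_succ_apply]
    have h0 : D (g * h) = (D g * D h) * ((D h)⁻¹ * ⁅g, D h⁆ * ((D h)⁻¹)⁻¹) := by
      rw [D_mul]
      group
    rw [h0]
    have hE : PolyAt F (l + 1 + 1) ((D h)⁻¹ * ⁅g, D h⁆ * ((D h)⁻¹)⁻¹) :=
      (hh.diff.inv hF hc).conj hF hc ((hg.comm hF hc hh.diff).mono hF (by omega))
    have hG : PolyAt F (l + 1) (D g * D h) := hg.diff.mul hF hc hh.diff
    have h1 := symb_mul_err hF hc k (l + 1) _ _ hG hE n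
    have h2 := ih (l + 1) (D g) (D h) (by omega) hg.diff hh.diff n
    have h3 := mul_mem h2 h1
    rw [show k + (l + 1) + 1 = k + 1 + l + 1 by omega] at h3
    convert h3 using 1
    group

/-! ### iterated differences of special sequences -/

theorem iterate_D_one : ∀ k : ℕ, D^[k] (1 : ℕ → G) = 1 := by
  intro k
  induction k with
  | zero => rfl
  | succ k ih => rw [Function.iterate_succ_apply, D_one, ih]

theorem D_choose_zero (z : G) : D (fun n => z ^ (n.choose 0)) = 1 := by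
  funext n
  simp [D]

theorem D_choose_succ (z : G) (j : ℕ) :
    D (fun n => z ^ (n.choose (j + 1))) = fun n => z ^ (n.choose j) := by
  funext n
  simp only [D]
  rw [Nat.choose_succ_succ, pow_add, mul_inv_cancel_right]

theorem iterate_D_choose (z : G) : ∀ (j k : ℕ), j < k →
    D^[k] (fun n => z ^ (n.choose j)) = 1 := by
  intro j
  induction j with
  | zero =>
    intro k hk
    obtain ⟨k, rfl⟩ : ∃ k', k = k' + 1 := ⟨k - 1, by omega⟩
    rw [Function.iterate_succ_apply, D_choose_zero, iterate_D_one]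
  | succ j ih =>
    intro k hk
    obtain ⟨k, rfl⟩ : ∃ k', k = k' + 1 := ⟨k - 1, by omega⟩
    rw [Function.iterate_succ_apply, D_choose_succ]
    exact ih k (by omega)

/-! ### exact peeling at level one -/

theorem exact_peel (hF : Antitone F) (hc : ∀ i j, ⁅F i, F j⁆ ≤ F (i + j)) {p : ℕ} (hp : p.Prime)
    (hFp : F (p + 2) = ⊥) (M : Subgroup G) (hM : ∀ z ∈ F 3, z ^ p ∈ M) :
    ∀ (d j : ℕ), j + d = p → 2 ≤ j → ∀ g : ℕ → G, PolyAt F 1 g → (∀ i, i < j → g i = 1) →
      ((D^[p] g) 0)⁻¹ * g p ∈ M := by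
  intro d
  induction d with
  | zero =>
    intro j hj _ g _ hv
    obtain rfl : j = p := by omega
    rw [iterate_D_zero j g hv, inv_mul_cancel]
    exact one_mem _
  | succ d ih =>
    intro j hj hj2 g hg hv
    have hx : g j ∈ F (j + 1) := by
      have h1 := hg.iterate_mem j 0
      rwa [iterate_D_zero j g hv] at h1
    set x := g j with hxdef
    set e : ℕ → G := fun n => x ^ (n.choose j) with hedef
    have he : PolyAt F 1 e := fun r => isPoly_choose hF r j 1 x hx
    have hg' : PolyAt F 1 (g * e⁻¹) := hg.mul hF hc (he.inv hF hc)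
    have hv' : ∀ i, i < j + 1 → (g * e⁻¹) i = 1 := by
      intro i hi
      rcases Nat.lt_succ_iff_lt_or_eq.1 hi with h | h
      · simp [hedef, hv i h, Nat.choose_eq_zero_of_lt h]
      · subst h
        simp [hedef, hxdef]
    have h2 := ih (j + 1) (by omega) (by omega) _ hg' hv'
    have h3 : g p = (g * e⁻¹) p * x ^ (p.choose j) := by
      simp [hedef]
    -- the top symbol does not change
    have h4 := symb_mul hF hc p 1 g e⁻¹ le_rfl hg (he.inv hF hc) 0
    rw [hFp, Subgroup.mem_bot] at h4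
    have h5 : e⁻¹ = fun n => (x⁻¹) ^ (n.choose j) := by
      funext n
      simp [hedef]
    have h6 : (D^[p] e⁻¹) 0 = 1 := by
      rw [h5, iterate_D_choose x⁻¹ j p (by omega)]
      rfl
    rw [h6, mul_one, inv_mul_eq_one] at h4
    rw [h4, h3, ← mul_assoc]
    refine mul_mem h2 ?_
    obtain ⟨m, hm⟩ := hp.dvd_choose_self (by omega : j ≠ 0) (by omega : j < p)
    rw [hm, mul_comm, pow_mul]
    exact hM _ (pow_mem (hF (by omega) hx) _)

/-! ### the sequences `s ^ n * z * s ^ (-n)` and `(x s) ^ n * s ^ (-n)` -/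

/-- `n ↦ s ^ n * z * (s ^ n)⁻¹` -/
def cj (s z : G) : ℕ → G := fun n => s ^ n * z * (s ^ n)⁻¹

/-- `⁅s, ⁅s, … ⁅s, z⁆ … ⁆⁆` with `k` brackets -/
def adIter (s z : G) (k : ℕ) : G := (fun w => ⁅s, w⁆)^[k] z

theorem adIter_zero (s z : G) : adIter s z 0 = z := rfl

theorem adIter_succ (s z : G) (k : ℕ) : adIter s z (k + 1) = ⁅s, adIter s z k⁆ := by
  unfold adIter
  rw [Function.iterate_succ_apply']

theorem adIter_succ' (s z : G) (k : ℕ) : adIter s z (k + 1) = adIter s ⁅s, z⁆ k := by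
  unfold adIter
  rw [Function.iterate_succ_apply]

theorem D_cj (s z : G) : D (cj s z) = cj s ⁅s, z⁆ := by
  funext n
  simp only [D, cj, commutatorElement_def, pow_succ]
  group

theorem iterate_D_cj (s : G) : ∀ (k : ℕ) (z : G), D^[k] (cj s z) = cj s (adIter s z k) := by
  intro k
  induction k with
  | zero => intro z; rfl
  | succ k ih =>
    intro z
    rw [Function.iterate_succ_apply, D_cj, ih, adIter_succ']

theorem cj_zero (s z : G) : cj s z 0 = z := by
  simp [cj]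

section main

variable (hF : Antitone F) (s : G) (hs : ∀ m, 2 ≤ m → ∀ z ∈ F m, ⁅s, z⁆ ∈ F (m + 1))

include hF hs in
theorem cj_mem {m : ℕ} (hm : 2 ≤ m) {z : G} (hz : z ∈ F m) : ∀ n, cj s z n ∈ F m := by
  intro n
  induction n with
  | zero => rw [cj_zero]; exact hz
  | succ n ih =>
    have h1 : cj s z (n + 1) = ⁅s, cj s z n⁆ * cj s z n := by
      simp only [cj, commutatorElement_def, pow_succ']
      group
    rw [h1]
    exact mul_mem (hF (Nat.le_succ m) (hs m hm _ ih)) ih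

include hF hs in
theorem cj_isPoly : ∀ (r m : ℕ) (z : G), 2 ≤ m → z ∈ F m → IsPoly F r m (cj s z) := by
  intro r
  induction r with
  | zero =>
    intro m z hm hz n
    exact cj_mem hF s hs hm hz n
  | succ r ih =>
    intro m z hm hz
    refine ⟨cj_mem hF s hs hm hz, ?_⟩
    rw [D_cj]
    exact ih (m + 1) _ (by omega) (hs m hm z hz)

/-- `n ↦ (x * s) ^ n * (s ^ n)⁻¹` -/
def pr (x s : G) : ℕ → G := fun n => (x * s) ^ n * (s ^ n)⁻¹

theorem pr_zero (x s : G) : pr x s 0 = 1 := by simp [pr]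

theorem pr_succ (x s : G) (n : ℕ) : pr x s (n + 1) = pr x s n * cj s x n := by
  simp only [pr, cj, pow_succ]
  group

theorem D_pr (x s : G) : D (pr x s) = pr x s * cj s x * (pr x s)⁻¹ := by
  funext n
  simp only [D, Pi.mul_apply, Pi.inv_apply, pr_succ]

include hF hs in
theorem pr_mem {x : G} (hx : x ∈ F 2) : ∀ n, pr x s n ∈ F 2 := by
  intro n
  induction n with
  | zero => rw [pr_zero]; exact one_mem _
  | succ n ih =>
    rw [pr_succ]
    exact mul_mem ih (cj_mem hF s hs le_rfl hx n)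

include hF hs in
theorem pr_isPoly (hc : ∀ i j, ⁅F i, F j⁆ ≤ F (i + j)) {x : G} (hx : x ∈ F 2) :
    ∀ r, IsPoly F r 1 (pr x s) := by
  intro r
  induction r with
  | zero =>
    intro n
    exact hF (by omega : 1 ≤ 2) (pr_mem hF s hs hx n)
  | succ r ih =>
    refine ⟨fun n => hF (by omega : 1 ≤ 2) (pr_mem hF s hs hx n), ?_⟩
    rw [D_pr]
    exact (good hF hc r).conj hF ih (cj_isPoly hF s hs r 2 x le_rfl hx)

include hF hs in
/-- **Exact top term of Hall--Petrescu**, first order. -/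
theorem exact_top (hc : ∀ i j, ⁅F i, F j⁆ ≤ F (i + j)) {p : ℕ} (hp : p.Prime)
    (hFp : F (p + 2) = ⊥) (M : Subgroup G) (hM : ∀ z ∈ F 3, z ^ p ∈ M) {x : G} (hx : x ∈ F 2) :
    (adIter s x (p - 1))⁻¹ * ((x ^ p)⁻¹ * (x * s) ^ p * (s ^ p)⁻¹) ∈ M := by
  have hp2 := hp.two_le
  have hP : PolyAt F 1 (pr x s) := pr_isPoly hF s hs hc hx
  have hU : PolyAt F 2 (cj s x) := fun r => cj_isPoly hF s hs r 2 x le_rfl hx
  set xi : ℕ → G := fun n => (x⁻¹) ^ n with hxi
  have hXi : PolyAt F 1 xi := by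
    intro r
    have := isPoly_choose hF r 1 1 x⁻¹ (inv_mem hx)
    simpa only [Nat.choose_one_right] using this
  have hq : PolyAt F 1 (xi * pr x s) := hXi.mul hF hc hP
  have hv : ∀ i, i < 2 → (xi * pr x s) i = 1 := by
    intro i hi
    interval_cases i
    · simp [hxi, pr]
    · simp [hxi, pr]
  have h1 := exact_peel hF hc hp hFp M hM (p - 2) 2 (by omega) le_rfl _ hq hv
  -- identify the symbol
  have h2 := symb_mul hF hc p 1 xi (pr x s) le_rfl hXi hP 0
  rw [hFp, Subgroup.mem_bot] at h2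
  have h3 : (D^[p] xi) 0 = 1 := by
    have : xi = fun n => (x⁻¹) ^ (n.choose 1) := by
      funext n
      simp [hxi]
    rw [this, iterate_D_choose x⁻¹ 1 p (by omega)]
    rfl
  rw [h3, one_mul, inv_mul_eq_one] at h2
  -- `D^[p] P 0 = D^[p-1] (D P) 0`
  have h4 : D (pr x s) = cj s x * ⁅(cj s x)⁻¹, pr x s⁆ := by
    rw [D_pr]
    simp only [commutatorElement_def]
    group
  have hE : PolyAt F (2 + 1) ⁅(cj s x)⁻¹, pr x s⁆ := (hU.inv hF hc).comm hF hc hP
  have h5 := symb_mul_err hF hc (p - 1) 2 (cj s x) _ hU hE 0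
  rw [show p - 1 + 2 + 1 = p + 2 by omega, hFp, Subgroup.mem_bot, inv_mul_eq_one, ← h4,
    iterate_D_cj, cj_zero] at h5
  have h6 : (D^[p] (pr x s)) 0 = (D^[p - 1] (D (pr x s))) 0 := by
    conv_lhs => rw [show p = (p - 1) + 1 by omega]
    rw [Function.iterate_succ_apply]
  rw [← h2, h6, ← h5] at h1
  convert h1 using 2
  simp only [Pi.mul_apply, hxi, pr, inv_pow]
  group

end main

end Cfsg.Agent.Helper23.ExactHP
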