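import Mathlib
import Cfsg.Agent.Lib.Helper21.PolySeq
import Cfsg.Agent.Lib.Helper23.ExactHP

/-!
# The second-order top term of the Hall--Petrescu expansion

Same calculus as `ExactHP.lean`.  For a filtration `F` with `F (p + 3) = ⊥`, `x ∈ F 2`, and `s` with
`⁅s, F m⁆ ⊆ F (m + 1)`, the defect of multiplicativity
`R = ((x s)ᵖ s⁻ᵖ)⁻² ((x² s)ᵖ s⁻ᵖ)` is congruent to `⁅x, ⁅s, … ⁅s, x⁆ … ⁆⁆` (`p - 2` inner brackets)
modulo the `p`-th powers of `F 4`, provided the commutators `⁅x, ad_s^j x⁆` die after `p - 2 - j`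
further brackets with `s`.
-/

set_option autoImplicit false

namespace Cfsg.Agent.Helper23.ExactHP

open Cfsg.Agent.Helper21.PolySeq
open scoped commutatorElement

variable {G : Type*} [Group G] {F : ℕ → Subgroup G}

theorem polyAt_one (l : ℕ) : PolyAt F l (1 : ℕ → G) := fun r => isPoly_one r l

/-- congruence of sequences modulo the polynomial sequences of level `l` -/
def Eqv (F : ℕ → Subgroup G) (l : ℕ) (g h : ℕ → G) : Prop := PolyAt F l (g⁻¹ * h)

theorem Eqv.refl (l : ℕ) (g : ℕ → G) : Eqv F l g g := by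
  unfold Eqv
  rw [inv_mul_cancel]
  exact polyAt_one l

section eqv

variable (hF : Antitone F) (hc : ∀ i j, ⁅F i, F j⁆ ≤ F (i + j))

include hF hc

theorem Eqv.symm {l : ℕ} {g h : ℕ → G} (h1 : Eqv F l g h) : Eqv F l h g := by
  unfold Eqv at *
  have := h1.inv hF hc
  rwa [mul_inv_rev, inv_inv] at this

theorem Eqv.trans {l : ℕ} {g h k : ℕ → G} (h1 : Eqv F l g h) (h2 : Eqv F l h k) : Eqv F l g k := by
  unfold Eqv at *
  have := h1.mul hF hc h2
  convert this using 1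
  group

theorem Eqv.mul {l a : ℕ} {g g' h h' : ℕ → G} (h1 : Eqv F l g g') (h2 : Eqv F l h h')
    (hh : PolyAt F a h) : Eqv F l (g * h) (g' * h') := by
  unfold Eqv at *
  have := ((hh.inv hF hc).conj hF hc h1).mul hF hc h2
  convert this using 1
  group

omit hF hc in
theorem Eqv.of_right {l : ℕ} {e : ℕ → G} (he : PolyAt F l e) (g : ℕ → G) : Eqv F l g (g * e) := by
  unfold Eqv
  rwa [inv_mul_cancel_left]

theorem Eqv.one_of {l : ℕ} {e : ℕ → G} (he : PolyAt F l e) : Eqv F l e 1 := by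
  unfold Eqv
  rw [mul_one]
  exact he.inv hF hc

theorem Eqv.conj {l a b : ℕ} {t g : ℕ → G} (ht : PolyAt F a t) (hg : PolyAt F b g)
    (hl : l ≤ a + b) : Eqv F l (t * g * t⁻¹) g := by
  unfold Eqv
  have := (ht.comm hF hc (hg.inv hF hc)).mono hF hl
  convert this using 1
  simp only [commutatorElement_def]
  group

theorem Eqv.comm_left {k a b : ℕ} {g g' h : ℕ → G} (h1 : Eqv F k g g') (hg : PolyAt F a g)
    (hh : PolyAt F b h) : Eqv F (k + b) ⁅g, h⁆ ⁅g', h⁆ := by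
  unfold Eqv at *
  have he := h1.comm hF hc hh
  have ht : PolyAt F 0 (⁅g, h⁆⁻¹ * g) :=
    (((hg.comm hF hc hh).inv hF hc).mono hF (Nat.zero_le _)).mul hF hc (hg.mono hF (Nat.zero_le _))
  have := ht.conj hF hc he
  convert this using 1
  simp only [commutatorElement_def]
  group

theorem Eqv.symb {l : ℕ} {g g' : ℕ → G} (hg : PolyAt F l g) (h : Eqv F (l + 1) g g') (k n : ℕ) :
    ((D^[k] g) n)⁻¹ * (D^[k] g') n ∈ F (k + l + 1) := by
  have := symb_mul_err hF hc k l g (g⁻¹ * g') hg h n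
  rwa [mul_inv_cancel_left] at this

/-- exact peeling at an arbitrary level `l ≥ 1` -/
theorem exact_peel_lvl {p : ℕ} (hp : p.Prime) (l : ℕ) (hl : 1 ≤ l)
    (hFp : F (p + l + 1) = ⊥) (M : Subgroup G) (hM : ∀ z ∈ F (l + 2), z ^ p ∈ M) :
    ∀ (d j : ℕ), j + d = p → 2 ≤ j → ∀ g : ℕ → G, PolyAt F l g → (∀ i, i < j → g i = 1) →
      ((D^[p] g) 0)⁻¹ * g p ∈ M := by
  intro d
  induction d with
  | zero =>
    intro j hj _ g _ hv
    obtain rfl : j = p := by omega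
    rw [iterate_D_zero j g hv, inv_mul_cancel]
    exact one_mem _
  | succ d ih =>
    intro j hj hj2 g hg hv
    have hx : g j ∈ F (j + l) := by
      have h1 := hg.iterate_mem j 0
      rwa [iterate_D_zero j g hv] at h1
    set x := g j with hxdef
    set e : ℕ → G := fun n => x ^ (n.choose j) with hedef
    have he : PolyAt F l e := fun r => isPoly_choose hF r j l x hx
    have hg' : PolyAt F l (g * e⁻¹) := hg.mul hF hc (he.inv hF hc)
    have hv' : ∀ i, i < j + 1 → (g * e⁻¹) i = 1 := by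
      intro i hi
      rcases Nat.lt_succ_iff_lt_or_eq.1 hi with h | h
      · simp [hedef, hv i h, Nat.choose_eq_zero_of_lt h]
      · subst h
        simp [hedef, hxdef]
    have h2 := ih (j + 1) (by omega) (by omega) _ hg' hv'
    have h3 : g p = (g * e⁻¹) p * x ^ (p.choose j) := by
      simp [hedef]
    have h4 := symb_mul hF hc p l g e⁻¹ hl hg (he.inv hF hc) 0
    rw [hFp, Subgroup.mem_bot] at h4
    have h5 : e⁻¹ = fun n => (x⁻¹) ^ (n.choose j) := by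
      funext n
      simp [hedef]
    have h6 : (D^[p] e⁻¹) 0 = 1 := by
      rw [h5, iterate_D_choose x⁻¹ j p (by omega)]
      rfl
    rw [h6, mul_one, inv_mul_eq_one] at h4
    rw [h4, h3, ← mul_assoc]
    refine mul_mem h2 ?_
    obtain ⟨m, hm⟩ := hp.dvd_choose_self (by omega : j ≠ 0) (by omega : j < p)
    rw [hm, mul_comm, pow_mul]
    exact hM _ (pow_mem (hF (by omega) hx) _)

end eqv

/-! ### conjugation sequences are multiplicative -/

theorem cj_mul (s a b : G) : cj s (a * b) = cj s a * cj s b := by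
  funext n
  simp only [cj, Pi.mul_apply]
  group

theorem cj_comm (s a b : G) : cj s ⁅a, b⁆ = ⁅cj s a, cj s b⁆ := by
  funext n
  simp only [cj, commutatorElement_def, Pi.mul_apply, Pi.inv_apply]
  group

section main2

variable (hF : Antitone F) (s : G) (hs : ∀ m, 2 ≤ m → ∀ z ∈ F m, ⁅s, z⁆ ∈ F (m + 1))

include hs in
theorem adIter_mem {x : G} (hx : x ∈ F 2) : ∀ j, adIter s x j ∈ F (j + 2) := by
  intro j
  induction j with
  | zero => simpa [adIter_zero] using hx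
  | succ j ih =>
    rw [adIter_succ]
    have := hs (j + 2) (by omega) _ ih
    rwa [show j + 2 + 1 = j + 1 + 2 by omega] at this

/-- `R = P⁻¹ P⁻¹ Q` -/
def rr (x s : G) : ℕ → G := (pr x s)⁻¹ * (pr x s)⁻¹ * pr (x * x) s

theorem D_rr (x s : G) :
    D (rr x s) = (cj s x)⁻¹ * ⁅(pr x s)⁻¹, (cj s x)⁻¹⁆ * ((cj s x)⁻¹)⁻¹ *
      ⁅(cj s x * cj s x)⁻¹, rr x s⁆ := by
  funext n
  simp only [D, rr, Pi.mul_apply, Pi.inv_apply, commutatorElement_def, pr_succ, cj_mul]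
  generalize pr x s n = a
  generalize cj s x n = b
  generalize pr (x * x) s n = c
  group
  simp only [zpow_two, mul_assoc]

include hF hs in
theorem rr_isPoly (hc : ∀ i j, ⁅F i, F j⁆ ≤ F (i + j)) {x : G} (hx : x ∈ F 2) :
    ∀ r, IsPoly F r 2 (rr x s) := by
  have hxx : x * x ∈ F 2 := mul_mem hx hx
  have hmem : ∀ n, rr x s n ∈ F 2 := by
    intro n
    simp only [rr, Pi.mul_apply, Pi.inv_apply]
    exact mul_mem (mul_mem (inv_mem (pr_mem hF s hs hx n)) (inv_mem (pr_mem hF s hs hx n)))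
      (pr_mem hF s hs hxx n)
  intro r
  induction r with
  | zero => exact hmem
  | succ r ih =>
    refine ⟨hmem, ?_⟩
    rw [D_rr]
    have H := good hF hc r
    have hP : IsPoly F r 1 (pr x s) := pr_isPoly hF s hs hc hx r
    have hU : IsPoly F r 2 (cj s x) := cj_isPoly hF s hs r 2 x le_rfl hx
    have h1 : IsPoly F r 3 ⁅(pr x s)⁻¹, (cj s x)⁻¹⁆ :=
      H.comm 1 2 _ _ (H.inv _ _ hP) (H.inv _ _ hU)
    have h2 : IsPoly F r 3 ((cj s x)⁻¹ * ⁅(pr x s)⁻¹, (cj s x)⁻¹⁆ * ((cj s x)⁻¹)⁻¹) :=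
      H.conj hF (H.inv _ _ hU) h1
    have h3 : IsPoly F r 3 ⁅(cj s x * cj s x)⁻¹, rr x s⁆ :=
      (H.comm 2 2 _ _ (H.inv _ _ (H.mul _ _ _ hU hU)) ih).mono hF (by omega)
    exact H.mul _ _ _ h2 h3

/-- `D R = ⁅P, u⁆ * E` with `E` of level four -/
theorem D_rr' (x s : G) :
    D (rr x s) = ⁅pr x s, cj s x⁆ *
      (⁅⁅pr x s, cj s x⁆⁻¹, (cj s x * pr x s)⁻¹⁆ *
        ⁅⁅(pr x s)⁻¹, (cj s x)⁻¹⁆⁻¹, (cj s x)⁻¹⁆ *
        ⁅(cj s x * cj s x)⁻¹, rr x s⁆) := by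
  rw [D_rr]
  simp only [commutatorElement_def]
  group

end main2

section main3

variable (hF : Antitone F) (s : G) (hs : ∀ m, 2 ≤ m → ∀ z ∈ F m, ⁅s, z⁆ ∈ F (m + 1))
  (hc : ∀ i j, ⁅F i, F j⁆ ≤ F (i + j))

include hF hs hc in
/-- the symbol Leibniz rule for `⁅P, w_j⁆` -/
theorem D_comm_pr_eqv {x : G} (hx : x ∈ F 2) (j : ℕ) :
    Eqv F (j + 5) (D ⁅pr x s, cj s (adIter s x j)⁆)
      (⁅pr x s, cj s (adIter s x (j + 1))⁆ * ⁅cj s x, cj s (adIter s x j)⁆) := by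
  have hP : PolyAt F 1 (pr x s) := pr_isPoly hF s hs hc hx
  have hU : PolyAt F 2 (cj s x) := fun r => cj_isPoly hF s hs r 2 x le_rfl hx
  have hw : PolyAt F (j + 2) (cj s (adIter s x j)) :=
    fun r => cj_isPoly hF s hs r (j + 2) _ (by omega) (adIter_mem s hs hx j)
  have hDw : D (cj s (adIter s x j)) = cj s (adIter s x (j + 1)) := by
    rw [D_cj, adIter_succ]
  rw [← hDw]
  generalize hPdef : pr x s = P at *
  generalize hwdef : cj s (adIter s x j) = w at *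
  generalize hudef : cj s x = u at *
  have hDP : PolyAt F 2 (D P) := hP.diff
  have hDw' : PolyAt F (j + 3) (D w) := hw.diff
  have hDPu : Eqv F 3 (D P) u := by
    have h4 : D P = u * ⁅u⁻¹, P⁆ := by
      rw [← hPdef, ← hudef, D_pr]
      simp only [commutatorElement_def]
      group
    rw [h4]
    exact (Eqv.of_right ((hU.inv hF hc).comm hF hc hP) u).symm hF hc
  rw [D_comm]
  have hA : PolyAt F (j + 4) ⁅P, D w⁆ := (hP.comm hF hc hDw').mono hF (by omega)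
  have hT1 : Eqv F (j + 5) (D P * ⁅P, D w⁆ * (D P)⁻¹) ⁅P, D w⁆ :=
    Eqv.conj hF hc hDP hA (by omega)
  have hPw : PolyAt F (j + 3) ⁅P, w⁆ := (hP.comm hF hc hw).mono hF (by omega)
  have hT2 : PolyAt F (j + 5) ⁅D P * D w, ⁅P, w⁆⁆ :=
    ((hDP.mul hF hc (hDw'.mono hF (by omega))).comm hF hc hPw).mono hF (by omega)
  have hB'' : PolyAt F (j + 4) ⁅D P, w⁆ := (hDP.comm hF hc hw).mono hF (by omega)
  have hT4a : PolyAt F (j + 5) ⁅D P, D w⁆ := (hDP.comm hF hc hDw').mono hF (by omega)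
  have hT4b : Eqv F (j + 5) (D w * ⁅D P, w⁆ * (D w)⁻¹) ⁅D P, w⁆ :=
    Eqv.conj hF hc hDw' hB'' (by omega)
  have hT4c : Eqv F (j + 5) ⁅D P, w⁆ ⁅u, w⁆ := by
    have := Eqv.comm_left hF hc hDPu hDP hw
    rwa [show 3 + (j + 2) = j + 5 by omega] at this
  have hT4bpoly : PolyAt F (j + 4) (D w * ⁅D P, w⁆ * (D w)⁻¹) := hDw'.conj hF hc hB''
  have hT4 : Eqv F (j + 5) (⁅D P, D w⁆ * (D w * ⁅D P, w⁆ * (D w)⁻¹)) (1 * ⁅u, w⁆) :=
    Eqv.mul hF hc (Eqv.one_of hF hc hT4a) (hT4b.trans hF hc hT4c) hT4bpoly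
  have hT4poly : PolyAt F (j + 4) (⁅D P, D w⁆ * (D w * ⁅D P, w⁆ * (D w)⁻¹)) :=
    (hT4a.mono hF (by omega)).mul hF hc hT4bpoly
  have hT3 : PolyAt F (j + 5) ⁅⁅P, w⁆, ⁅D P, D w⁆ * (D w * ⁅D P, w⁆ * (D w)⁻¹)⁆ :=
    (hPw.comm hF hc hT4poly).mono hF (by omega)
  have h12 := Eqv.mul hF hc hT1 (Eqv.one_of hF hc hT2) hT2
  have h123 := Eqv.mul hF hc h12 (Eqv.one_of hF hc hT3) hT3
  have h1234 := Eqv.mul hF hc h123 hT4 hT4poly
  simpa only [mul_one, one_mul] using h1234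

include hF hs hc in
/-- the top symbol of `⁅P, u⁆` -/
theorem top_comm {p : ℕ} (hFp : F (p + 3) = ⊥) {x : G} (hx : x ∈ F 2)
    (hkill : ∀ j k, j + k = p - 1 → 2 ≤ k → adIter s ⁅x, adIter s x j⁆ (k - 1) = 1)
    (hp2 : 2 ≤ p) :
    ∀ k j, j + k = p - 1 →
      (D^[k] ⁅pr x s, cj s (adIter s x j)⁆) 0 =
        if k = 0 then 1 else ⁅x, adIter s x (p - 2)⁆ := by
  intro k
  induction k with
  | zero =>
    intro j _
    simp [pr_zero, commutatorElement_def]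
  | succ k ih =>
    intro j hj
    rw [Function.iterate_succ_apply]
    have hP : PolyAt F 1 (pr x s) := pr_isPoly hF s hs hc hx
    have hU : PolyAt F 2 (cj s x) := fun r => cj_isPoly hF s hs r 2 x le_rfl hx
    have hw : PolyAt F (j + 2) (cj s (adIter s x j)) :=
      fun r => cj_isPoly hF s hs r (j + 2) _ (by omega) (adIter_mem s hs hx j)
    have hw1 : PolyAt F (j + 1 + 2) (cj s (adIter s x (j + 1))) :=
      fun r => cj_isPoly hF s hs r (j + 1 + 2) _ (by omega) (adIter_mem s hs hx (j + 1))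
    have hD : PolyAt F (j + 4) (D ⁅pr x s, cj s (adIter s x j)⁆) :=
      (hP.comm hF hc hw).diff.mono hF (by omega)
    have hrec := D_comm_pr_eqv hF s hs hc hx j
    have h1 := Eqv.symb hF hc hD hrec k 0
    have hA : PolyAt F (j + 4) ⁅pr x s, cj s (adIter s x (j + 1))⁆ :=
      (hP.comm hF hc hw1).mono hF (by omega)
    have hB : PolyAt F (j + 4) ⁅cj s x, cj s (adIter s x j)⁆ :=
      (hU.comm hF hc hw).mono hF (by omega)
    have h2 := symb_mul hF hc k (j + 4) _ _ (by omega) hA hB 0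
    have hlev : k + (j + 4) + 1 = p + 3 := by omega
    rw [hlev, hFp, Subgroup.mem_bot, inv_mul_eq_one] at h1 h2
    rw [h1, ← h2, ih (j + 1) (by omega)]
    have hBc : ⁅cj s x, cj s (adIter s x j)⁆ = cj s ⁅x, adIter s x j⁆ := (cj_comm s _ _).symm
    rw [hBc, iterate_D_cj, cj_zero]
    by_cases hk : k = 0
    · subst hk
      have hj' : j = p - 2 := by omega
      subst hj'
      simp [adIter_zero]
    · rw [if_neg hk, if_neg (Nat.succ_ne_zero k)]
      have := hkill j (k + 1) (by omega) (by omega)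
      rw [Nat.add_sub_cancel] at this
      rw [this, mul_one]

include hF hs hc in
/-- **Second-order top term of Hall--Petrescu.** -/
theorem exact_top2 {p : ℕ} (hp : p.Prime) (hFp : F (p + 3) = ⊥) (M : Subgroup G)
    (hM : ∀ z ∈ F 4, z ^ p ∈ M) {x : G} (hx : x ∈ F 2)
    (hkill : ∀ j k, j + k = p - 1 → 2 ≤ k → adIter s ⁅x, adIter s x j⁆ (k - 1) = 1) :
    (⁅x, adIter s x (p - 2)⁆)⁻¹ *
      (((x * s) ^ p * (s ^ p)⁻¹)⁻¹ * ((x * s) ^ p * (s ^ p)⁻¹)⁻¹ *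
        ((x * x * s) ^ p * (s ^ p)⁻¹)) ∈ M := by
  have hp2 := hp.two_le
  have hR : PolyAt F 2 (rr x s) := rr_isPoly hF s hs hc hx
  have hv : ∀ i, i < 2 → rr x s i = 1 := by
    intro i hi
    interval_cases i
    · simp [rr, pr]
    · simp [rr, pr]
  have h1 := exact_peel_lvl hF hc hp 2 (by omega)
    (by rw [show p + 2 + 1 = p + 3 by omega]; exact hFp) M hM (p - 2) 2 (by omega) le_rfl _ hR hv
  have hP : PolyAt F 1 (pr x s) := pr_isPoly hF s hs hc hx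
  have hU : PolyAt F 2 (cj s x) := fun r => cj_isPoly hF s hs r 2 x le_rfl hx
  have hC : PolyAt F 3 ⁅pr x s, cj s x⁆ := hP.comm hF hc hU
  have hC1 : PolyAt F 3 ⁅(pr x s)⁻¹, (cj s x)⁻¹⁆ := (hP.inv hF hc).comm hF hc (hU.inv hF hc)
  have hE : PolyAt F (3 + 1) (⁅⁅pr x s, cj s x⁆⁻¹, (cj s x * pr x s)⁻¹⁆ *
        ⁅⁅(pr x s)⁻¹, (cj s x)⁻¹⁆⁻¹, (cj s x)⁻¹⁆ *
        ⁅(cj s x * cj s x)⁻¹, rr x s⁆) := by
    have e1 : PolyAt F 4 ⁅⁅pr x s, cj s x⁆⁻¹, (cj s x * pr x s)⁻¹⁆ :=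
      (hC.inv hF hc).comm hF hc (((hU.mono hF (by omega)).mul hF hc hP).inv hF hc)
    have e2 : PolyAt F 4 ⁅⁅(pr x s)⁻¹, (cj s x)⁻¹⁆⁻¹, (cj s x)⁻¹⁆ :=
      ((hC1.inv hF hc).comm hF hc (hU.inv hF hc)).mono hF (by omega)
    have e3 : PolyAt F 4 ⁅(cj s x * cj s x)⁻¹, rr x s⁆ :=
      ((hU.mul hF hc hU).inv hF hc).comm hF hc hR
    exact (e1.mul hF hc e2).mul hF hc e3
  have h2 := symb_mul_err hF hc (p - 1) 3 _ _ hC hE 0
  rw [← D_rr', show p - 1 + 3 + 1 = p + 3 by omega, hFp, Subgroup.mem_bot, inv_mul_eq_one] at h2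
  have h3 := top_comm hF s hs hc hFp hx hkill hp2 (p - 1) 0 (by omega)
  rw [if_neg (by omega)] at h3
  have h6 : (D^[p] (rr x s)) 0 = (D^[p - 1] (D (rr x s))) 0 := by
    conv_lhs => rw [show p = (p - 1) + 1 by omega]
    rw [Function.iterate_succ_apply]
  have h7 : cj s (adIter s x 0) = cj s x := rfl
  rw [h7] at h3
  rw [h6, ← h2, h3] at h1
  convert h1 using 2
  simp only [rr, pr, Pi.mul_apply, Pi.inv_apply]

end main3

end Cfsg.Agent.Helper23.ExactHP
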