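import Mathlib
import Cfsg.Prelude.Def_G2

set_option autoImplicit false

/-!
# `G₂(F)` as a group of linear equivalences of `F⁸`
-/

namespace Cfsg.Agent.Helper23.G2

open Cfsg.Lie

variable {F : Type*} [Field F]

/-- `GL₈(F)` as linear equivalences -/
noncomputable def glEquiv (F : Type*) [Field F] :
    GL (Fin 8) F ≃* ((Fin 8 → F) ≃ₗ[F] (Fin 8 → F)) :=
  Matrix.GeneralLinearGroup.toLin.trans
    (LinearMap.GeneralLinearGroup.generalLinearEquiv F (Fin 8 → F))

theorem glEquiv_apply (g : GL (Fin 8) F) (x : Fin 8 → F) :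
    glEquiv F g x = (g : Matrix (Fin 8) (Fin 8) F).mulVec x := by
  simp [glEquiv, Matrix.GeneralLinearGroup.toLin, MulEquiv.trans_apply]

/-- the automorphism group of the Zorn algebra, as linear equivalences -/
def G2L (F : Type*) [Field F] : Subgroup ((Fin 8 → F) ≃ₗ[F] (Fin 8 → F)) where
  carrier := {f | ∀ x y, f (zornMul x y) = zornMul (f x) (f y)}
  mul_mem' {f g} hf hg := by
    intro x y
    show f (g (zornMul x y)) = zornMul (f (g x)) (f (g y))
    rw [hg, hf]
  one_mem' := by
    intro x y
    rfl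
  inv_mem' {f} hf := by
    intro x y
    show f.symm (zornMul x y) = zornMul (f.symm x) (f.symm y)
    apply f.injective
    rw [hf, f.apply_symm_apply, f.apply_symm_apply, f.apply_symm_apply]

theorem mem_G2L {f : (Fin 8 → F) ≃ₗ[F] (Fin 8 → F)} :
    f ∈ G2L F ↔ ∀ x y, f (zornMul x y) = zornMul (f x) (f y) := Iff.rfl

theorem mem_G2_iff (g : GL (Fin 8) F) : g ∈ G2 F ↔ glEquiv F g ∈ G2L F := by
  rw [mem_G2L]
  show (∀ x y, _) ↔ _
  constructor
  · intro h x y
    rw [glEquiv_apply, glEquiv_apply, glEquiv_apply]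
    exact h x y
  · intro h x y
    have := h x y
    rw [glEquiv_apply, glEquiv_apply, glEquiv_apply] at this
    exact this

/-- the two models agree -/
noncomputable def g2Equiv (F : Type*) [Field F] : G2 F ≃* G2L F where
  toFun g := ⟨glEquiv F g.1, (mem_G2_iff g.1).1 g.2⟩
  invFun f := ⟨(glEquiv F).symm f.1, by
    rw [mem_G2_iff, MulEquiv.apply_symm_apply]
    exact f.2⟩
  left_inv g := by
    apply Subtype.ext
    exact (glEquiv F).symm_apply_apply g.1
  right_inv f := by
    apply Subtype.ext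
    exact (glEquiv F).apply_symm_apply f.1
  map_mul' g h := by
    apply Subtype.ext
    exact map_mul (glEquiv F) g.1 h.1

end Cfsg.Agent.Helper23.G2
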