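import Mathlib
import Cfsg.Agent.Lib.Helper23.G2Basic

set_option autoImplicit false

/-!
# Explicit automorphisms of the Zorn algebra: root elements and the swap
-/

namespace Cfsg.Agent.Helper23.G2

open Cfsg.Lie

variable {F : Type*} [Field F]

/-- coordinates of the Zorn product -/
theorem zornMul_apply (x y : Fin 8 → F) :
    zornMul x y = ![x 0 * y 0 + (x 1 * y 4 + x 2 * y 5 + x 3 * y 6),
      x 0 * y 1 + y 7 * x 1 - (x 5 * y 6 - x 6 * y 5),
      x 0 * y 2 + y 7 * x 2 - (x 6 * y 4 - x 4 * y 6),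
      x 0 * y 3 + y 7 * x 3 - (x 4 * y 5 - x 5 * y 4),
      y 0 * x 4 + x 7 * y 4 + (x 2 * y 3 - x 3 * y 2),
      y 0 * x 5 + x 7 * y 5 + (x 3 * y 1 - x 1 * y 3),
      y 0 * x 6 + x 7 * y 6 + (x 1 * y 2 - x 2 * y 1),
      (x 4 * y 1 + x 5 * y 2 + x 6 * y 3) + x 7 * y 7] := by
  ext i
  fin_cases i <;> simp [zornMul, dot3, cross3]

/-- the root element, as a function -/
def phiFun (w : Fin 3 → F) (x : Fin 8 → F) : Fin 8 → F :=
  ![x 0 - (x 4 * w 0 + x 5 * w 1 + x 6 * w 2),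
    x 1 + (x 0 - x 7) * w 0 - (x 4 * w 0 + x 5 * w 1 + x 6 * w 2) * w 0,
    x 2 + (x 0 - x 7) * w 1 - (x 4 * w 0 + x 5 * w 1 + x 6 * w 2) * w 1,
    x 3 + (x 0 - x 7) * w 2 - (x 4 * w 0 + x 5 * w 1 + x 6 * w 2) * w 2,
    x 4 + (w 1 * x 3 - w 2 * x 2),
    x 5 + (w 2 * x 1 - w 0 * x 3),
    x 6 + (w 0 * x 2 - w 1 * x 1),
    x 7 + (x 4 * w 0 + x 5 * w 1 + x 6 * w 2)]

/-- the root element, as a linear map -/
def phiLin (w : Fin 3 → F) : (Fin 8 → F) →ₗ[F] (Fin 8 → F) where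
  toFun := phiFun w
  map_add' x y := by
    ext i
    fin_cases i <;> simp [phiFun] <;> ring
  map_smul' c x := by
    ext i
    fin_cases i <;> simp [phiFun] <;> ring

theorem phiLin_apply (w : Fin 3 → F) (x : Fin 8 → F) : phiLin w x = phiFun w x := rfl

theorem phiFun_neg_phiFun (w : Fin 3 → F) (x : Fin 8 → F) : phiFun (-w) (phiFun w x) = x := by
  ext i
  fin_cases i <;> simp [phiFun] <;> ring

/-- the root element, as a linear equivalence -/
def phiEquiv (w : Fin 3 → F) : (Fin 8 → F) ≃ₗ[F] (Fin 8 → F) :=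
  LinearEquiv.ofLinearMap (phiLin w) (phiLin (-w))
    (LinearMap.ext fun x => by
      have := phiFun_neg_phiFun (-w) x
      rw [neg_neg] at this
      exact this)
    (LinearMap.ext fun x => phiFun_neg_phiFun w x)

theorem phiEquiv_apply (w : Fin 3 → F) (x : Fin 8 → F) : phiEquiv w x = phiFun w x := rfl

theorem phiFun_mul (w : Fin 3 → F) (x y : Fin 8 → F) :
    phiFun w (zornMul x y) = zornMul (phiFun w x) (phiFun w y) := by
  rw [zornMul_apply, zornMul_apply]
  ext i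
  fin_cases i <;> simp [phiFun] <;> ring

theorem phiEquiv_mem (w : Fin 3 → F) : phiEquiv w ∈ G2L F := by
  intro x y
  exact phiFun_mul w x y

/-- the swap `(α, a, b, β) ↦ (β, -b, -a, α)` -/
def tauFun (x : Fin 8 → F) : Fin 8 → F :=
  ![x 7, -x 4, -x 5, -x 6, -x 1, -x 2, -x 3, x 0]

def tauLin : (Fin 8 → F) →ₗ[F] (Fin 8 → F) where
  toFun := tauFun
  map_add' x y := by
    ext i
    fin_cases i <;> simp [tauFun] <;> ring
  map_smul' c x := by
    ext i
    fin_cases i <;> simp [tauFun]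

theorem tauFun_tauFun (x : Fin 8 → F) : tauFun (tauFun x) = x := by
  ext i
  fin_cases i <;> simp [tauFun]

def tauEquiv : (Fin 8 → F) ≃ₗ[F] (Fin 8 → F) :=
  LinearEquiv.ofLinearMap tauLin tauLin (LinearMap.ext fun x => tauFun_tauFun x)
    (LinearMap.ext fun x => tauFun_tauFun x)

theorem tauEquiv_apply (x : Fin 8 → F) : tauEquiv x = tauFun x := rfl

theorem tauFun_mul (x y : Fin 8 → F) :
    tauFun (zornMul x y) = zornMul (tauFun x) (tauFun y) := by
  rw [zornMul_apply, zornMul_apply]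
  ext i
  fin_cases i <;> simp [tauFun] <;> ring

theorem tauEquiv_mem : (tauEquiv : (Fin 8 → F) ≃ₗ[F] (Fin 8 → F)) ∈ G2L F := by
  intro x y
  exact tauFun_mul x y

end Cfsg.Agent.Helper23.G2
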