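import Mathlib
import Cfsg.Agent.Lib.Helper23.G2Root

set_option autoImplicit false
set_option linter.unusedSectionVars false
set_option linter.unreachableTactic false
set_option linter.unusedTactic false

/-!
# The Zorn algebra as a Cayley–Dickson double of `M₂(F)`; the automorphisms
`(a, b) ↦ (g a g⁻¹, h b g⁻¹)` with `det g = det h`
-/

namespace Cfsg.Agent.Helper23.G2

open Cfsg.Lie Matrix

variable {F : Type*} [Field F]

/-- Cayley–Dickson product on `M₂(F) × M₂(F)` -/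
def cdMul (X Y : Matrix (Fin 2) (Fin 2) F × Matrix (Fin 2) (Fin 2) F) :
    Matrix (Fin 2) (Fin 2) F × Matrix (Fin 2) (Fin 2) F :=
  (X.1 * Y.1 + adjugate Y.2 * X.2, Y.2 * X.1 + X.2 * adjugate Y.1)

/-- Zorn coordinates of a pair of matrices -/
def iotaFun (X : Matrix (Fin 2) (Fin 2) F × Matrix (Fin 2) (Fin 2) F) : Fin 8 → F :=
  ![X.1 0 0, X.1 0 1, X.2 0 0, -X.2 1 0, X.1 1 0, X.2 1 1, X.2 0 1, X.1 1 1]

/-- the inverse of `iotaFun` -/
def iotaInv (x : Fin 8 → F) : Matrix (Fin 2) (Fin 2) F × Matrix (Fin 2) (Fin 2) F :=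
  (!![x 0, x 1; x 4, x 7], !![x 2, x 6; -x 3, x 5])

/-- the coordinate isomorphism -/
def iota : (Matrix (Fin 2) (Fin 2) F × Matrix (Fin 2) (Fin 2) F) ≃ₗ[F] (Fin 8 → F) where
  toFun := iotaFun
  invFun := iotaInv
  map_add' X Y := by
    ext i
    fin_cases i <;> simp [iotaFun]
    ring
  map_smul' c X := by
    ext i
    fin_cases i <;> simp [iotaFun]
  left_inv X := by
    apply Prod.ext
    · ext i j
      fin_cases i <;> fin_cases j <;> simp [iotaFun, iotaInv]
    · ext i j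
      fin_cases i <;> fin_cases j <;> simp [iotaFun, iotaInv]
  right_inv x := by
    ext i
    fin_cases i <;> simp [iotaFun, iotaInv]

theorem iota_apply (X : Matrix (Fin 2) (Fin 2) F × Matrix (Fin 2) (Fin 2) F) :
    iota X = iotaFun X := rfl

theorem iota_mul (X Y : Matrix (Fin 2) (Fin 2) F × Matrix (Fin 2) (Fin 2) F) :
    iota (cdMul X Y) = zornMul (iota X) (iota Y) := by
  rw [zornMul_apply, iota_apply, iota_apply, iota_apply]
  ext i
  fin_cases i <;>
    simp [cdMul, iotaFun, Matrix.mul_apply, Fin.sum_univ_two, Matrix.adjugate_fin_two,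
      Matrix.vecMul, dotProduct] <;> ring

theorem zornMul_eq_iota (x y : Fin 8 → F) :
    zornMul x y = iota (cdMul (iota.symm x) (iota.symm y)) := by
  rw [iota_mul, LinearEquiv.apply_symm_apply, LinearEquiv.apply_symm_apply]

/-- the map `(a, b) ↦ (g a g⁻¹, h b g⁻¹)` -/
def psi0 (g h : (Matrix (Fin 2) (Fin 2) F)ˣ) :
    (Matrix (Fin 2) (Fin 2) F × Matrix (Fin 2) (Fin 2) F) ≃ₗ[F]
      (Matrix (Fin 2) (Fin 2) F × Matrix (Fin 2) (Fin 2) F) where
  toFun X := ((g : Matrix (Fin 2) (Fin 2) F) * X.1 * (g⁻¹ : (Matrix (Fin 2) (Fin 2) F)ˣ),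
    (h : Matrix (Fin 2) (Fin 2) F) * X.2 * (g⁻¹ : (Matrix (Fin 2) (Fin 2) F)ˣ))
  invFun X := ((g⁻¹ : (Matrix (Fin 2) (Fin 2) F)ˣ) * X.1 * (g : Matrix (Fin 2) (Fin 2) F),
    (h⁻¹ : (Matrix (Fin 2) (Fin 2) F)ˣ) * X.2 * (g : Matrix (Fin 2) (Fin 2) F))
  map_add' X Y := by
    simp [mul_add, add_mul]
  map_smul' c X := by
    simp
  left_inv X := by
    apply Prod.ext
    · simp [mul_assoc]
    · simp [mul_assoc]
  right_inv X := by
    apply Prod.ext
    · simp [mul_assoc]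
    · simp [mul_assoc]

theorem psi0_apply (g h : (Matrix (Fin 2) (Fin 2) F)ˣ)
    (X : Matrix (Fin 2) (Fin 2) F × Matrix (Fin 2) (Fin 2) F) :
    psi0 g h X = ((g : Matrix (Fin 2) (Fin 2) F) * X.1 * (g⁻¹ : (Matrix (Fin 2) (Fin 2) F)ˣ),
      (h : Matrix (Fin 2) (Fin 2) F) * X.2 * (g⁻¹ : (Matrix (Fin 2) (Fin 2) F)ˣ)) := rfl

theorem conj3 {R : Type*} [Monoid R] (u v w : Rˣ) (x y : R) :
    ((u : R) * x * (v⁻¹ : Rˣ)) * ((v : R) * y * (w⁻¹ : Rˣ)) = (u : R) * (x * y) * (w⁻¹ : Rˣ) := by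
  simp [mul_assoc]

theorem adjugate_unit (g : (Matrix (Fin 2) (Fin 2) F)ˣ) :
    adjugate (g : Matrix (Fin 2) (Fin 2) F) =
      (g : Matrix (Fin 2) (Fin 2) F).det • ((g⁻¹ : (Matrix (Fin 2) (Fin 2) F)ˣ) :
        Matrix (Fin 2) (Fin 2) F) := by
  have h := Matrix.adjugate_mul (g : Matrix (Fin 2) (Fin 2) F)
  have h2 := congrArg (fun m => m * ((g⁻¹ : (Matrix (Fin 2) (Fin 2) F)ˣ) :
    Matrix (Fin 2) (Fin 2) F)) h
  simp only [mul_assoc, Units.mul_inv, mul_one, smul_mul_assoc, one_mul] at h2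
  exact h2

theorem det_unit_inv (g : (Matrix (Fin 2) (Fin 2) F)ˣ) :
    ((g⁻¹ : (Matrix (Fin 2) (Fin 2) F)ˣ) : Matrix (Fin 2) (Fin 2) F).det *
      (g : Matrix (Fin 2) (Fin 2) F).det = 1 := by
  rw [← Matrix.det_mul, Units.inv_mul, Matrix.det_one]

theorem adjugate_conj (g h : (Matrix (Fin 2) (Fin 2) F)ˣ)
    (hdet : (g : Matrix (Fin 2) (Fin 2) F).det = (h : Matrix (Fin 2) (Fin 2) F).det)
    (d : Matrix (Fin 2) (Fin 2) F) :
    adjugate (h.1 * d * g⁻¹.1) = g.1 * adjugate d * h⁻¹.1 := by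
  rw [Matrix.adjugate_mul_distrib, Matrix.adjugate_mul_distrib, adjugate_unit h,
    adjugate_unit g⁻¹, inv_inv]
  rw [smul_mul_assoc, Matrix.mul_smul, Matrix.mul_smul, smul_smul, ← hdet, det_unit_inv,
    one_smul, mul_assoc]

theorem psi0_mul (g h : (Matrix (Fin 2) (Fin 2) F)ˣ)
    (hdet : (g : Matrix (Fin 2) (Fin 2) F).det = (h : Matrix (Fin 2) (Fin 2) F).det)
    (X Y : Matrix (Fin 2) (Fin 2) F × Matrix (Fin 2) (Fin 2) F) :
    psi0 g h (cdMul X Y) = cdMul (psi0 g h X) (psi0 g h Y) := by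
  simp only [psi0_apply, cdMul]
  rw [adjugate_conj g h hdet, adjugate_conj g g rfl, conj3, conj3, conj3, conj3]
  apply Prod.ext
  · simp only [mul_add, add_mul]
  · simp only [mul_add, add_mul]

/-- the automorphism of the Zorn algebra attached to `(g, h)` -/
def psiL (g h : (Matrix (Fin 2) (Fin 2) F)ˣ) : (Fin 8 → F) ≃ₗ[F] (Fin 8 → F) :=
  iota.symm.trans ((psi0 g h).trans iota)

theorem psiL_apply (g h : (Matrix (Fin 2) (Fin 2) F)ˣ) (x : Fin 8 → F) :
    psiL g h x = iota (psi0 g h (iota.symm x)) := rfl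

theorem psiL_mem (g h : (Matrix (Fin 2) (Fin 2) F)ˣ)
    (hdet : (g : Matrix (Fin 2) (Fin 2) F).det = (h : Matrix (Fin 2) (Fin 2) F).det) :
    psiL g h ∈ G2L F := by
  intro x y
  rw [psiL_apply, psiL_apply, psiL_apply, zornMul_eq_iota x y, LinearEquiv.symm_apply_apply,
    psi0_mul g h hdet, iota_mul]

theorem psiL_mul (g h g' h' : (Matrix (Fin 2) (Fin 2) F)ˣ) :
    psiL (g * g') (h * h') = psiL g h * psiL g' h' := by
  apply LinearEquiv.ext
  intro x
  show iota (psi0 (g * g') (h * h') (iota.symm x)) =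
    iota (psi0 g h (iota.symm (iota (psi0 g' h' (iota.symm x)))))
  rw [LinearEquiv.symm_apply_apply]
  congr 1
  simp only [psi0_apply, Units.val_mul, _root_.mul_inv_rev]
  apply Prod.ext
  · simp only [mul_assoc]
  · simp only [mul_assoc]

theorem psiL_one : psiL (1 : (Matrix (Fin 2) (Fin 2) F)ˣ) 1 = 1 := by
  apply LinearEquiv.ext
  intro x
  show iota (psi0 1 1 (iota.symm x)) = x
  have : psi0 (1 : (Matrix (Fin 2) (Fin 2) F)ˣ) 1 (iota.symm x) = iota.symm x := by
    rw [psi0_apply]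
    simp
  rw [this, LinearEquiv.apply_symm_apply]

/-- the homomorphism on all pairs -/
def psiHom (F : Type*) [Field F] :
    (Matrix (Fin 2) (Fin 2) F)ˣ × (Matrix (Fin 2) (Fin 2) F)ˣ →*
      ((Fin 8 → F) ≃ₗ[F] (Fin 8 → F)) where
  toFun p := psiL p.1 p.2
  map_one' := psiL_one
  map_mul' p q := psiL_mul p.1 p.2 q.1 q.2

theorem psiHom_apply (p : (Matrix (Fin 2) (Fin 2) F)ˣ × (Matrix (Fin 2) (Fin 2) F)ˣ) :
    psiHom F p = psiL p.1 p.2 := rfl

/-- a matrix commuting with all matrices is scalar -/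
theorem scalar_of_commute (G : Matrix (Fin 2) (Fin 2) F)
    (h : ∀ a : Matrix (Fin 2) (Fin 2) F, G * a = a * G) : G = G 0 0 • 1 := by
  have h1 := h !![1, 0; 0, 0]
  have h2 := h !![0, 1; 0, 0]
  have a1 : G 0 1 = 0 := by
    have := congrFun (congrFun h1 0) 1
    simp [Matrix.mul_apply, Fin.sum_univ_two] at this
    first | exact this | exact this.symm
  have a2 : G 1 0 = 0 := by
    have := congrFun (congrFun h1 1) 0
    simp [Matrix.mul_apply, Fin.sum_univ_two] at this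
    first | exact this | exact this.symm
  have a3 : G 1 1 = G 0 0 := by
    have := congrFun (congrFun h2 0) 1
    simp [Matrix.mul_apply, Fin.sum_univ_two] at this
    first | exact this | exact this.symm
  ext i j
  fin_cases i <;> fin_cases j
  · simp
  · simpa using a1
  · simpa using a2
  · simpa using a3

/-- the kernel: `g` is scalar and `h = g` -/
theorem psiL_eq_one (g h : (Matrix (Fin 2) (Fin 2) F)ˣ) (hone : psiL g h = 1) :
    (g : Matrix (Fin 2) (Fin 2) F) = (g : Matrix (Fin 2) (Fin 2) F) 0 0 • 1 ∧ h = g := by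
  have hX : ∀ X, psi0 g h X = X := by
    intro X
    have := congrArg (fun f : (Fin 8 → F) ≃ₗ[F] (Fin 8 → F) => f (iota X)) hone
    simp only [psiL_apply, LinearEquiv.symm_apply_apply] at this
    exact iota.injective this
  constructor
  · apply scalar_of_commute
    intro a
    have := congrArg Prod.fst (hX (a, 0))
    simp only [psi0_apply] at this
    have h2 := congrArg (fun m => m * (g : Matrix (Fin 2) (Fin 2) F)) this
    simp only [mul_assoc, Units.inv_mul, mul_one] at h2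
    exact h2
  · have := congrArg Prod.snd (hX (0, 1))
    simp only [psi0_apply, mul_one] at this
    apply Units.ext
    have h2 := congrArg (fun m => m * (g : Matrix (Fin 2) (Fin 2) F)) this
    simp only [mul_assoc, Units.inv_mul, mul_one, one_mul] at h2
    exact h2

/-- scalar pairs act trivially -/
theorem psiL_scalar (g : (Matrix (Fin 2) (Fin 2) F)ˣ) (c : F)
    (hg : (g : Matrix (Fin 2) (Fin 2) F) = c • 1) : psiL g g = 1 := by
  apply LinearEquiv.ext
  intro x
  show iota (psi0 g g (iota.symm x)) = x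
  have hcomm : ∀ a : Matrix (Fin 2) (Fin 2) F, (g : Matrix (Fin 2) (Fin 2) F) * a *
      (g⁻¹ : (Matrix (Fin 2) (Fin 2) F)ˣ) = a := by
    intro a
    have : (g : Matrix (Fin 2) (Fin 2) F) * a = a * (g : Matrix (Fin 2) (Fin 2) F) := by
      rw [hg]
      simp
    rw [this, mul_assoc, Units.mul_inv, mul_one]
  have : psi0 g g (iota.symm x) = iota.symm x := by
    rw [psi0_apply, hcomm, hcomm]
  rw [this, LinearEquiv.apply_symm_apply]

end Cfsg.Agent.Helper23.G2
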