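import Mathlib
import Cfsg.Agent.Lib.Helper23.G2Root

set_option autoImplicit false

/-!
# Idempotents of the Zorn algebra; transitivity of the automorphism group
-/

namespace Cfsg.Agent.Helper23.G2

open Cfsg.Lie

variable {F : Type*} [Field F]

def e1 : Fin 8 → F := ![1, 0, 0, 0, 0, 0, 0, 0]
def e2 : Fin 8 → F := ![0, 0, 0, 0, 0, 0, 0, 1]
def oneO : Fin 8 → F := ![1, 0, 0, 0, 0, 0, 0, 1]

theorem oneO_mul (y : Fin 8 → F) : zornMul oneO y = y := by
  rw [zornMul_apply]
  ext i
  fin_cases i <;> simp [oneO]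

theorem mul_oneO (y : Fin 8 → F) : zornMul y oneO = y := by
  rw [zornMul_apply]
  ext i
  fin_cases i <;> simp [oneO]

theorem map_oneO {f : (Fin 8 → F) ≃ₗ[F] (Fin 8 → F)} (hf : f ∈ G2L F) : f oneO = oneO := by
  have h1 : zornMul (f oneO) oneO = oneO := by
    have := hf oneO (f.symm oneO)
    rw [oneO_mul, f.apply_symm_apply] at this
    exact this.symm
  rw [mul_oneO] at h1
  exact h1

/-- nontrivial idempotents -/
def IsIdem (x : Fin 8 → F) : Prop := zornMul x x = x ∧ x ≠ 0 ∧ x ≠ oneO

/-- coordinate description -/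
def IdemC (x : Fin 8 → F) : Prop :=
  x 0 + x 7 = 1 ∧ x 1 * x 4 + x 2 * x 5 + x 3 * x 6 = x 0 - x 0 ^ 2

theorem isIdem_iff (x : Fin 8 → F) : IsIdem x ↔ IdemC x := by
  constructor
  · rintro ⟨h, h0, h1⟩
    rw [zornMul_apply] at h
    have c0 := congrFun h 0
    have c1 := congrFun h 1
    have c2 := congrFun h 2
    have c3 := congrFun h 3
    have c4 := congrFun h 4
    have c5 := congrFun h 5
    have c6 := congrFun h 6
    have c7 := congrFun h 7
    simp at c0 c1 c2 c3 c4 c5 c6 c7
    by_cases hs : x 0 + x 7 = 1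
    · refine ⟨hs, ?_⟩
      linear_combination c0
    · exfalso
      have hs' : x 0 + x 7 - 1 ≠ 0 := fun hh => hs (by linear_combination hh)
      have z1 : x 1 = 0 := by
        have : (x 0 + x 7 - 1) * x 1 = 0 := by linear_combination c1
        rcases mul_eq_zero.1 this with hh | hh
        · exact absurd hh hs'
        · exact hh
      have z2 : x 2 = 0 := by
        have : (x 0 + x 7 - 1) * x 2 = 0 := by linear_combination c2
        rcases mul_eq_zero.1 this with hh | hh
        · exact absurd hh hs'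
        · exact hh
      have z3 : x 3 = 0 := by
        have : (x 0 + x 7 - 1) * x 3 = 0 := by linear_combination c3
        rcases mul_eq_zero.1 this with hh | hh
        · exact absurd hh hs'
        · exact hh
      have z4 : x 4 = 0 := by
        have : (x 0 + x 7 - 1) * x 4 = 0 := by linear_combination c4
        rcases mul_eq_zero.1 this with hh | hh
        · exact absurd hh hs'
        · exact hh
      have z5 : x 5 = 0 := by
        have : (x 0 + x 7 - 1) * x 5 = 0 := by linear_combination c5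
        rcases mul_eq_zero.1 this with hh | hh
        · exact absurd hh hs'
        · exact hh
      have z6 : x 6 = 0 := by
        have : (x 0 + x 7 - 1) * x 6 = 0 := by linear_combination c6
        rcases mul_eq_zero.1 this with hh | hh
        · exact absurd hh hs'
        · exact hh
      have q0 : x 0 * (x 0 - 1) = 0 := by
        rw [z1, z2, z3] at c0
        linear_combination c0
      have q7 : x 7 * (x 7 - 1) = 0 := by
        rw [z4, z5, z6] at c7
        linear_combination c7
      rcases mul_eq_zero.1 q0 with a0 | a0 <;> rcases mul_eq_zero.1 q7 with a7 | a7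
      · apply h0
        ext i
        fin_cases i <;> simp [a0, a7, z1, z2, z3, z4, z5, z6]
      · apply hs
        linear_combination a0 + a7
      · apply hs
        linear_combination a0 + a7
      · apply h1
        have b0 : x 0 = 1 := by linear_combination a0
        have b7 : x 7 = 1 := by linear_combination a7
        ext i
        fin_cases i <;> simp [oneO, b0, b7, z1, z2, z3, z4, z5, z6]
  · rintro ⟨hs, hd⟩
    refine ⟨?_, ?_, ?_⟩
    · rw [zornMul_apply]
      have h7 : x 7 = 1 - x 0 := by linear_combination hs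
      ext i
      fin_cases i <;> simp
      · linear_combination hd
      · linear_combination x 1 * hs
      · linear_combination x 2 * hs
      · linear_combination x 3 * hs
      · linear_combination x 4 * hs
      · linear_combination x 5 * hs
      · linear_combination x 6 * hs
      · rw [h7]
        linear_combination hd
    · intro h
      rw [h] at hs
      simp at hs
    · intro h
      rw [h] at hs
      simp [oneO] at hs

theorem isIdem_map {f : (Fin 8 → F) ≃ₗ[F] (Fin 8 → F)} (hf : f ∈ G2L F) {x : Fin 8 → F}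
    (hx : IsIdem x) : IsIdem (f x) := by
  obtain ⟨h, h0, h1⟩ := hx
  refine ⟨?_, ?_, ?_⟩
  · rw [← hf, h]
  · intro hh
    apply h0
    apply f.injective
    rw [hh, map_zero]
  · intro hh
    apply h1
    apply f.injective
    rw [hh, map_oneO hf]

/-- `x` can be moved to `e1` -/
def Reach (x : Fin 8 → F) : Prop := ∃ f ∈ G2L F, f x = e1

theorem Reach.of_map {f : (Fin 8 → F) ≃ₗ[F] (Fin 8 → F)} (hf : f ∈ G2L F) {x : Fin 8 → F}
    (h : Reach (f x)) : Reach x := by
  obtain ⟨g, hg, hgx⟩ := h
  exact ⟨g * f, (G2L F).mul_mem hg hf, hgx⟩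

theorem reach_e1 : Reach (e1 : Fin 8 → F) := ⟨1, (G2L F).one_mem, rfl⟩

theorem reach_e2 : Reach (e2 : Fin 8 → F) := by
  apply Reach.of_map tauEquiv_mem
  have : tauEquiv (e2 : Fin 8 → F) = e1 := by
    rw [tauEquiv_apply]
    ext i
    fin_cases i <;> simp [tauFun, e1, e2]
  rw [this]
  exact reach_e1

theorem reach_five (x : Fin 8 → F) (h0 : x 0 = 1) (h1 : x 1 = 0) (h2 : x 2 = 0) (h3 : x 3 = 0)
    (h7 : x 7 = 0) : Reach x := by
  apply Reach.of_map tauEquiv_mem
  apply Reach.of_map (phiEquiv_mem ![-x 4, -x 5, -x 6])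
  have : phiEquiv ![-x 4, -x 5, -x 6] (tauEquiv x) = e2 := by
    rw [tauEquiv_apply, phiEquiv_apply]
    ext i
    fin_cases i <;> simp [tauFun, phiFun, e2, h0, h1, h2, h3, h7]
    all_goals ring
  rw [this]
  exact reach_e2

theorem reach_four (x : Fin 8 → F) (h0 : x 0 = 1) (h7 : x 7 = 0)
    (hd : x 1 * x 4 + x 2 * x 5 + x 3 * x 6 = 0) : Reach x := by
  apply Reach.of_map (phiEquiv_mem ![-x 1, -x 2, -x 3])
  apply reach_five
  · show x 0 - (x 4 * -x 1 + x 5 * -x 2 + x 6 * -x 3) = 1
    linear_combination h0 + hd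
  · show x 1 + (x 0 - x 7) * -x 1 - (x 4 * -x 1 + x 5 * -x 2 + x 6 * -x 3) * -x 1 = 0
    linear_combination (-x 1) * h0 + x 1 * h7 + (-x 1) * hd
  · show x 2 + (x 0 - x 7) * -x 2 - (x 4 * -x 1 + x 5 * -x 2 + x 6 * -x 3) * -x 2 = 0
    linear_combination (-x 2) * h0 + x 2 * h7 + (-x 2) * hd
  · show x 3 + (x 0 - x 7) * -x 3 - (x 4 * -x 1 + x 5 * -x 2 + x 6 * -x 3) * -x 3 = 0
    linear_combination (-x 3) * h0 + x 3 * h7 + (-x 3) * hd
  · show x 7 + (x 4 * -x 1 + x 5 * -x 2 + x 6 * -x 3) = 0
    linear_combination h7 - hd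

theorem idemC_map {f : (Fin 8 → F) ≃ₗ[F] (Fin 8 → F)} (hf : f ∈ G2L F) {x : Fin 8 → F}
    (hx : IdemC x) : IdemC (f x) :=
  (isIdem_iff _).1 (isIdem_map hf ((isIdem_iff _).2 hx))

theorem reach_three (x : Fin 8 → F) (hx : IdemC x)
    (hb : x 4 ≠ 0 ∨ x 5 ≠ 0 ∨ x 6 ≠ 0) : Reach x := by
  obtain ⟨w, hw⟩ : ∃ w : Fin 3 → F, x 4 * w 0 + x 5 * w 1 + x 6 * w 2 = x 0 - 1 := by
    rcases hb with h | h | h
    · refine ⟨![(x 0 - 1) / x 4, 0, 0], ?_⟩
      simp
      field_simp
    · refine ⟨![0, (x 0 - 1) / x 5, 0], ?_⟩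
      simp
      field_simp
    · refine ⟨![0, 0, (x 0 - 1) / x 6], ?_⟩
      simp
      field_simp
  apply Reach.of_map (phiEquiv_mem w)
  have hy := idemC_map (phiEquiv_mem w) hx
  have y0 : phiEquiv w x 0 = 1 := by
    show x 0 - (x 4 * w 0 + x 5 * w 1 + x 6 * w 2) = 1
    linear_combination (-1 : F) * hw
  have y7 : phiEquiv w x 7 = 0 := by
    have := hy.1
    rw [y0] at this
    linear_combination this
  apply reach_four _ y0 y7
  have := hy.2
  rw [y0] at this
  linear_combination this

theorem reach_of_idemC (x : Fin 8 → F) (hx : IdemC x) : Reach x := by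
  by_cases hb : x 4 ≠ 0 ∨ x 5 ≠ 0 ∨ x 6 ≠ 0
  · exact reach_three x hx hb
  · simp only [not_or, not_not] at hb
    obtain ⟨b4, b5, b6⟩ := hb
    by_cases ha : x 1 ≠ 0 ∨ x 2 ≠ 0 ∨ x 3 ≠ 0
    · apply Reach.of_map tauEquiv_mem
      apply reach_three _ (idemC_map tauEquiv_mem hx)
      rw [tauEquiv_apply]
      simp [tauFun]
      exact ha
    · simp only [not_or, not_not] at ha
      obtain ⟨a1, a2, a3⟩ := ha
      obtain ⟨hs, hd⟩ := hx
      rw [a1, a2, a3] at hd
      have q0 : x 0 * (x 0 - 1) = 0 := by linear_combination hd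
      rcases mul_eq_zero.1 q0 with a0 | a0
      · have : x = e2 := by
          have h7 : x 7 = 1 := by linear_combination hs - a0
          ext i
          fin_cases i <;> simp [e2, a0, a1, a2, a3, b4, b5, b6, h7]
        rw [this]
        exact reach_e2
      · have h0 : x 0 = 1 := by linear_combination a0
        have : x = e1 := by
          have h7 : x 7 = 0 := by linear_combination hs - a0
          ext i
          fin_cases i <;> simp [e1, h0, a1, a2, a3, b4, b5, b6, h7]
        rw [this]
        exact reach_e1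

theorem reach_of_isIdem (x : Fin 8 → F) (hx : IsIdem x) : Reach x :=
  reach_of_idemC x ((isIdem_iff x).1 hx)

theorem isIdem_e1 : IsIdem (e1 : Fin 8 → F) := by
  rw [isIdem_iff]
  constructor <;> simp [e1]

end Cfsg.Agent.Helper23.G2
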