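import Mathlib
import Cfsg.Agent.Lib.Helper23.G2Idem

set_option autoImplicit false

/-!
# Counting the nontrivial idempotents of the Zorn algebra over a finite field
-/

namespace Cfsg.Agent.Helper23.G2

open Cfsg.Lie Finset

variable {F : Type*} [Field F] [Fintype F] [DecidableEq F]

/-- number of solutions of `a · b = c` -/
def Nsol (a : Fin 3 → F) (c : F) : ℕ :=
  #{b : Fin 3 → F | a 0 * b 0 + a 1 * b 1 + a 2 * b 2 = c}

/-- the linear functional `b ↦ a · b` -/
def dotHom (a : Fin 3 → F) : (Fin 3 → F) →+ F where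
  toFun b := a 0 * b 0 + a 1 * b 1 + a 2 * b 2
  map_zero' := by simp
  map_add' b b' := by
    simp only [Pi.add_apply]
    ring

theorem dotHom_surjective {a : Fin 3 → F} (ha : a ≠ 0) : Function.Surjective (dotHom a) := by
  intro c
  have : a 0 ≠ 0 ∨ a 1 ≠ 0 ∨ a 2 ≠ 0 := by
    by_contra h
    simp only [not_or, not_not] at h
    apply ha
    ext i
    fin_cases i
    · exact h.1
    · exact h.2.1
    · exact h.2.2
  rcases this with h | h | h
  · refine ⟨![c / a 0, 0, 0], ?_⟩
    simp [dotHom]
    field_simp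
  · refine ⟨![0, c / a 1, 0], ?_⟩
    simp [dotHom]
    field_simp
  · refine ⟨![0, 0, c / a 2], ?_⟩
    simp [dotHom]
    field_simp

theorem Nsol_of_ne {a : Fin 3 → F} (ha : a ≠ 0) (c : F) :
    Nsol a c = Fintype.card F ^ 2 := by
  have hs := dotHom_surjective ha
  have heq : ∀ c' : F, Nsol a c' = Nsol a c := by
    intro c'
    exact AddMonoidHom.card_fiber_eq_of_mem_range (dotHom a) (hs c') (hs c)
  have hsum : ∑ c' : F, Nsol a c' = Fintype.card (Fin 3 → F) := by
    have := Finset.card_eq_sum_card_fiberwise (s := (Finset.univ : Finset (Fin 3 → F)))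
      (t := (Finset.univ : Finset F)) (f := fun b => dotHom a b) (fun _ _ => Finset.mem_univ _)
    rw [Finset.card_univ] at this
    rw [this]
    rfl
  rw [Finset.sum_congr rfl (fun c' _ => heq c'), Finset.sum_const, Finset.card_univ,
    smul_eq_mul, Fintype.card_pi_const] at hsum
  have hq : 0 < Fintype.card F := Fintype.card_pos
  have : Fintype.card F * Nsol a c = Fintype.card F * Fintype.card F ^ 2 := by
    rw [hsum]
    ring
  exact Nat.eq_of_mul_eq_mul_left hq this

theorem Nsol_zero (c : F) :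
    Nsol (0 : Fin 3 → F) c = if c = 0 then Fintype.card F ^ 3 else 0 := by
  unfold Nsol
  split_ifs with h
  · subst h
    have : (Finset.univ.filter fun b : Fin 3 → F =>
        (0 : Fin 3 → F) 0 * b 0 + (0 : Fin 3 → F) 1 * b 1 + (0 : Fin 3 → F) 2 * b 2 = 0) =
        Finset.univ := by
      ext b
      simp
    rw [this, Finset.card_univ, Fintype.card_pi_const]
  · rw [Finset.card_eq_zero]
    apply Finset.filter_eq_empty_iff.2
    intro b _ hh
    apply h
    rw [← hh]
    simp

theorem sum_Nsol (c : F) :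
    ∑ a : Fin 3 → F, Nsol a c + Fintype.card F ^ 2 =
      Fintype.card F ^ 5 + Nsol (0 : Fin 3 → F) c := by
  have h1 : ∀ a : Fin 3 → F, Nsol a c + (if a = 0 then Fintype.card F ^ 2 else 0) =
      Fintype.card F ^ 2 + (if a = 0 then Nsol (0 : Fin 3 → F) c else 0) := by
    intro a
    split_ifs with h
    · subst h
      ring
    · rw [Nsol_of_ne h]
  have h2 := Finset.sum_congr (s₁ := (Finset.univ : Finset (Fin 3 → F))) rfl (fun a _ => h1 a)
  rw [Finset.sum_add_distrib, Finset.sum_add_distrib, Finset.sum_ite_eq' , Finset.sum_ite_eq',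
    Finset.sum_const, Finset.card_univ, Fintype.card_pi_const] at h2
  simp only [Finset.mem_univ, if_true, smul_eq_mul] at h2
  rw [h2]
  ring

theorem card_roots_idem : #{α : F | α - α ^ 2 = 0} = 2 := by
  have : (Finset.univ.filter fun α : F => α - α ^ 2 = 0) = {0, 1} := by
    ext α
    simp only [Finset.mem_filter, Finset.mem_univ, true_and, Finset.mem_insert,
      Finset.mem_singleton]
    constructor
    · intro h
      have : α * (α - 1) = 0 := by linear_combination (-1 : F) * h
      rcases mul_eq_zero.1 this with h' | h'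
      · exact Or.inl h'
      · exact Or.inr (by linear_combination h')
    · rintro (h | h) <;> subst h <;> ring
  rw [this, Finset.card_pair zero_ne_one]

/-- the triples `(α, a, b)` with `a · b = α - α²` -/
def TripC (p : F × (Fin 3 → F) × (Fin 3 → F)) : Prop :=
  p.2.1 0 * p.2.2 0 + p.2.1 1 * p.2.2 1 + p.2.1 2 * p.2.2 2 = p.1 - p.1 ^ 2

instance : DecidablePred (TripC (F := F)) := fun p => by
  unfold TripC
  infer_instance

theorem card_trip :
    #{p : F × (Fin 3 → F) × (Fin 3 → F) | TripC p} = Fintype.card F ^ 6 + Fintype.card F ^ 3 := by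
  have h1 : #{p : F × (Fin 3 → F) × (Fin 3 → F) | TripC p} =
      ∑ α : F, ∑ a : Fin 3 → F, Nsol a (α - α ^ 2) := by
    rw [Finset.card_filter, Fintype.sum_prod_type]
    apply Finset.sum_congr rfl
    intro α _
    rw [Fintype.sum_prod_type]
    apply Finset.sum_congr rfl
    intro a _
    unfold Nsol
    rw [Finset.card_filter]
    rfl
  have h2 : ∑ α : F, (∑ a : Fin 3 → F, Nsol a (α - α ^ 2) + Fintype.card F ^ 2) =
      ∑ α : F, (Fintype.card F ^ 5 + Nsol (0 : Fin 3 → F) (α - α ^ 2)) :=
    Finset.sum_congr rfl (fun α _ => sum_Nsol (α - α ^ 2))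
  rw [Finset.sum_add_distrib, Finset.sum_add_distrib, Finset.sum_const, Finset.sum_const,
    Finset.card_univ, smul_eq_mul, smul_eq_mul] at h2
  have h3 : ∑ α : F, Nsol (0 : Fin 3 → F) (α - α ^ 2) = 2 * Fintype.card F ^ 3 := by
    rw [Finset.sum_congr rfl (fun α _ => Nsol_zero (α - α ^ 2)), ← Finset.sum_filter,
      Finset.sum_const, card_roots_idem, smul_eq_mul]
  rw [h3] at h2
  rw [h1]
  have e1 : Fintype.card F * Fintype.card F ^ 2 = Fintype.card F ^ 3 := by ring
  have e2 : Fintype.card F * Fintype.card F ^ 5 = Fintype.card F ^ 6 := by ring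
  rw [e1, e2] at h2
  omega

/-- idempotents correspond to triples -/
def idemEquiv : {x : Fin 8 → F // IdemC x} ≃ {p : F × (Fin 3 → F) × (Fin 3 → F) // TripC p} where
  toFun x := ⟨(x.1 0, ![x.1 1, x.1 2, x.1 3], ![x.1 4, x.1 5, x.1 6]), x.2.2⟩
  invFun p := ⟨![p.1.1, p.1.2.1 0, p.1.2.1 1, p.1.2.1 2, p.1.2.2 0, p.1.2.2 1, p.1.2.2 2,
    1 - p.1.1], by
      constructor
      · show p.1.1 + (1 - p.1.1) = 1
        ring
      · exact p.2⟩
  left_inv x := by
    apply Subtype.ext
    have h7 : x.1 7 = 1 - x.1 0 := by linear_combination x.2.1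
    ext i
    fin_cases i <;> simp [h7]
  right_inv p := by
    apply Subtype.ext
    apply Prod.ext
    · rfl
    · apply Prod.ext
      · ext i
        fin_cases i <;> rfl
      · ext i
        fin_cases i <;> rfl

theorem card_isIdem :
    Nat.card {x : Fin 8 → F // IsIdem x} = Fintype.card F ^ 6 + Fintype.card F ^ 3 := by
  have e : {x : Fin 8 → F // IsIdem x} ≃ {x : Fin 8 → F // IdemC x} :=
    Equiv.subtypeEquivRight isIdem_iff
  rw [Nat.card_congr e, Nat.card_congr idemEquiv, Nat.card_eq_fintype_card, Fintype.card_subtype,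
    card_trip]

end Cfsg.Agent.Helper23.G2
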