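import Mathlib
import Cfsg.Agent.Lib.Helper23.G2CD

set_option autoImplicit false
set_option linter.unusedSectionVars false

/-!
# The subgroup `SL₂ ∘ SL₂` of `G₂(F)` and an involution normalizing it
-/

namespace Cfsg.Agent.Helper23.G2

open Cfsg.Lie Matrix

variable {F : Type*} [Field F]

/-- `SL₂(F) × SL₂(F) → G₂(F)` -/
def rho (F : Type*) [Field F] :
    Matrix.SpecialLinearGroup (Fin 2) F × Matrix.SpecialLinearGroup (Fin 2) F →* G2L F :=
  ((psiHom F).comp (MonoidHom.prodMap Matrix.SpecialLinearGroup.toGL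
    Matrix.SpecialLinearGroup.toGL)).codRestrict (G2L F) (by
      intro p
      show psiL (Matrix.SpecialLinearGroup.toGL p.1) (Matrix.SpecialLinearGroup.toGL p.2) ∈ G2L F
      apply psiL_mem
      show (p.1 : Matrix (Fin 2) (Fin 2) F).det = (p.2 : Matrix (Fin 2) (Fin 2) F).det
      rw [p.1.2, p.2.2])

theorem rho_apply (p : Matrix.SpecialLinearGroup (Fin 2) F × Matrix.SpecialLinearGroup (Fin 2) F) :
    (rho F p : (Fin 8 → F) ≃ₗ[F] (Fin 8 → F)) =
      psiL (Matrix.SpecialLinearGroup.toGL p.1) (Matrix.SpecialLinearGroup.toGL p.2) := rfl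

/-- the kernel consists of `±(1, 1)` -/
theorem rho_eq_one (p : Matrix.SpecialLinearGroup (Fin 2) F × Matrix.SpecialLinearGroup (Fin 2) F)
    (h : rho F p = 1) :
    p.2 = p.1 ∧ ((p.1 : Matrix (Fin 2) (Fin 2) F) = 1 ∨ (p.1 : Matrix (Fin 2) (Fin 2) F) = -1) := by
  have h1 : psiL (Matrix.SpecialLinearGroup.toGL p.1) (Matrix.SpecialLinearGroup.toGL p.2) = 1 := by
    rw [← rho_apply, h]
    rfl
  obtain ⟨hs, he⟩ := psiL_eq_one _ _ h1
  refine ⟨Matrix.SpecialLinearGroup.toGL_injective he, ?_⟩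
  have hs' : (p.1 : Matrix (Fin 2) (Fin 2) F) = (p.1 : Matrix (Fin 2) (Fin 2) F) 0 0 • 1 := hs
  have hd := p.1.2
  rw [hs', Matrix.det_smul, Matrix.det_one, Fintype.card_fin, mul_one] at hd
  have : ((p.1 : Matrix (Fin 2) (Fin 2) F) 0 0 - 1) * ((p.1 : Matrix (Fin 2) (Fin 2) F) 0 0 + 1) =
      0 := by
    linear_combination hd
  rcases mul_eq_zero.1 this with hc | hc
  · left
    have : (p.1 : Matrix (Fin 2) (Fin 2) F) 0 0 = 1 := by linear_combination hc
    rw [hs', this, one_smul]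
  · right
    have : (p.1 : Matrix (Fin 2) (Fin 2) F) 0 0 = -1 := by linear_combination hc
    rw [hs', this, neg_smul, one_smul]

theorem card_ker_rho_le [Fintype F] : Nat.card (rho F).ker ≤ 2 := by
  classical
  let φ : (rho F).ker → Bool := fun p => decide ((p.1.1 : Matrix (Fin 2) (Fin 2) F) = 1)
  have hφ : Function.Injective φ := by
    intro p q hpq
    obtain ⟨hp2, hp1⟩ := rho_eq_one p.1 (MonoidHom.mem_ker.1 p.2)
    obtain ⟨hq2, hq1⟩ := rho_eq_one q.1 (MonoidHom.mem_ker.1 q.2)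
    have h1 : (p.1.1 : Matrix (Fin 2) (Fin 2) F) = (q.1.1 : Matrix (Fin 2) (Fin 2) F) := by
      by_cases hp : (p.1.1 : Matrix (Fin 2) (Fin 2) F) = 1
      · have : φ q = true := by
          rw [← hpq]
          exact decide_eq_true hp
        rw [hp, of_decide_eq_true this]
      · have hq : ¬ (q.1.1 : Matrix (Fin 2) (Fin 2) F) = 1 := by
          intro hq
          have : φ p = true := by
            rw [hpq]
            exact decide_eq_true hq
          exact hp (of_decide_eq_true this)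
        rcases hp1 with h | h
        · exact absurd h hp
        · rcases hq1 with h' | h'
          · exact absurd h' hq
          · rw [h, h']
    have h2 : p.1.1 = q.1.1 := Subtype.ext h1
    apply Subtype.ext
    apply Prod.ext
    · exact h2
    · rw [hp2, hq2, h2]
  have := Nat.card_le_card_of_injective φ hφ
  rwa [Nat.card_eq_fintype_card (α := Bool), Fintype.card_bool] at this

/-- the matrix `[[0, 1], [-ν, 0]]` -/
def g0 (ν : F) (hν : ν ≠ 0) : (Matrix (Fin 2) (Fin 2) F)ˣ where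
  val := !![0, 1; -ν, 0]
  inv := !![0, -ν⁻¹; 1, 0]
  val_inv := by
    ext i j
    fin_cases i <;> fin_cases j <;> simp [Matrix.mul_apply, Fin.sum_univ_two, hν]
  inv_val := by
    ext i j
    fin_cases i <;> fin_cases j <;> simp [Matrix.mul_apply, Fin.sum_univ_two, hν]

theorem g0_val (ν : F) (hν : ν ≠ 0) : (g0 ν hν).1 = !![0, 1; -ν, 0] := rfl

theorem det_g0 (ν : F) (hν : ν ≠ 0) : (g0 ν hν).1.det = ν := by
  rw [g0_val, Matrix.det_fin_two_of]
  ring

theorem g0_sq (ν : F) (hν : ν ≠ 0) : (g0 ν hν * g0 ν hν).1 = (-ν) • 1 := by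
  rw [Units.val_mul, g0_val]
  ext i j
  fin_cases i <;> fin_cases j <;> simp [Matrix.mul_apply, Fin.sum_univ_two]

/-- the involution -/
def tEl (ν : F) (hν : ν ≠ 0) : G2L F := ⟨psiL (g0 ν hν) (g0 ν hν), psiL_mem _ _ rfl⟩

theorem tEl_val (ν : F) (hν : ν ≠ 0) :
    ((tEl ν hν : G2L F) : (Fin 8 → F) ≃ₗ[F] (Fin 8 → F)) = psiL (g0 ν hν) (g0 ν hν) := rfl

theorem tEl_mul_self (ν : F) (hν : ν ≠ 0) : tEl ν hν * tEl ν hν = 1 := by
  apply Subtype.ext
  show psiL (g0 ν hν) (g0 ν hν) * psiL (g0 ν hν) (g0 ν hν) = 1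
  rw [← psiL_mul]
  exact psiL_scalar _ (-ν) (g0_sq ν hν)

/-- conjugation by `g0` on `SL₂` -/
def conjSL (ν : F) (hν : ν ≠ 0) (s : Matrix.SpecialLinearGroup (Fin 2) F) :
    Matrix.SpecialLinearGroup (Fin 2) F :=
  ⟨(g0 ν hν).1 * s.1 * (g0 ν hν)⁻¹.1, by
    rw [Matrix.det_mul, Matrix.det_mul, s.2, mul_one, ← Matrix.det_mul, Units.mul_inv,
      Matrix.det_one]⟩

theorem toGL_conjSL (ν : F) (hν : ν ≠ 0) (s : Matrix.SpecialLinearGroup (Fin 2) F) :
    Matrix.SpecialLinearGroup.toGL (conjSL ν hν s) =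
      g0 ν hν * Matrix.SpecialLinearGroup.toGL s * (g0 ν hν)⁻¹ := by
  apply Units.ext
  rfl

theorem tEl_conj (ν : F) (hν : ν ≠ 0)
    (p : Matrix.SpecialLinearGroup (Fin 2) F × Matrix.SpecialLinearGroup (Fin 2) F) :
    tEl ν hν * rho F p * tEl ν hν = rho F (conjSL ν hν p.1, conjSL ν hν p.2) := by
  apply Subtype.ext
  show psiL (g0 ν hν) (g0 ν hν) * psiL (Matrix.SpecialLinearGroup.toGL p.1)
      (Matrix.SpecialLinearGroup.toGL p.2) * psiL (g0 ν hν) (g0 ν hν) =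
    psiL (Matrix.SpecialLinearGroup.toGL (conjSL ν hν p.1))
      (Matrix.SpecialLinearGroup.toGL (conjSL ν hν p.2))
  rw [toGL_conjSL, toGL_conjSL, ← psiL_mul, ← psiL_mul]
  have e : ∀ x : (Matrix (Fin 2) (Fin 2) F)ˣ,
      g0 ν hν * x * g0 ν hν = (g0 ν hν * x * (g0 ν hν)⁻¹) * (g0 ν hν * g0 ν hν) := by
    intro x
    group
  rw [e, e, psiL_mul, psiL_scalar _ (-ν) (g0_sq ν hν), mul_one]

theorem tEl_not_mem (ν : F) (hν : ν ≠ 0) (hsq : ¬ IsSquare ν) : tEl ν hν ∉ (rho F).range := by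
  rintro ⟨p, hp⟩
  have h1 : psiL (Matrix.SpecialLinearGroup.toGL p.1) (Matrix.SpecialLinearGroup.toGL p.2) =
      psiL (g0 ν hν) (g0 ν hν) := by
    rw [← rho_apply, hp]
    rfl
  have h2 : psiL ((Matrix.SpecialLinearGroup.toGL p.1)⁻¹ * g0 ν hν)
      ((Matrix.SpecialLinearGroup.toGL p.2)⁻¹ * g0 ν hν) = 1 := by
    rw [psiL_mul, ← h1, ← psiL_mul, inv_mul_cancel, inv_mul_cancel, psiL_one]
  obtain ⟨hs, -⟩ := psiL_eq_one _ _ h2
  obtain ⟨c, hc⟩ : ∃ c : F, ((Matrix.SpecialLinearGroup.toGL p.1)⁻¹ * g0 ν hν).1 = c • 1 :=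
    ⟨_, hs⟩
  have h3 : (g0 ν hν).1 = c • (p.1 : Matrix (Fin 2) (Fin 2) F) := by
    have : (g0 ν hν).1 = (Matrix.SpecialLinearGroup.toGL p.1).1 *
        ((Matrix.SpecialLinearGroup.toGL p.1)⁻¹ * g0 ν hν).1 := by
      rw [← Units.val_mul, mul_inv_cancel_left]
    rw [this, hc]
    simp
  have h4 := congrArg Matrix.det h3
  rw [det_g0, Matrix.det_smul, p.1.2, Fintype.card_fin, mul_one] at h4
  exact hsq ⟨c, by rw [h4]; ring⟩

end Cfsg.Agent.Helper23.G2
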