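import Mathlib
import Cfsg.Agent.Lib.Helper23.G2Idem

set_option autoImplicit false
set_option linter.unusedSectionVars false

/-!
# The stabilizer of the idempotent `e1` embeds in `SL₃(F)`
-/

namespace Cfsg.Agent.Helper23.G2

open Cfsg.Lie

variable {F : Type*} [Field F]

/-- `a ↦ (0, a, 0, 0)` -/
def uLin : (Fin 3 → F) →ₗ[F] (Fin 8 → F) where
  toFun a := ![0, a 0, a 1, a 2, 0, 0, 0, 0]
  map_add' a b := by
    ext i
    fin_cases i <;> simp
  map_smul' c a := by
    ext i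
    fin_cases i <;> simp

/-- `b ↦ (0, 0, b, 0)` -/
def vLin : (Fin 3 → F) →ₗ[F] (Fin 8 → F) where
  toFun b := ![0, 0, 0, 0, b 0, b 1, b 2, 0]
  map_add' a b := by
    ext i
    fin_cases i <;> simp
  map_smul' c a := by
    ext i
    fin_cases i <;> simp

/-- projection to the `a`-part -/
def pA : (Fin 8 → F) →ₗ[F] (Fin 3 → F) where
  toFun x := ![x 1, x 2, x 3]
  map_add' a b := by
    ext i
    fin_cases i <;> simp
  map_smul' c a := by
    ext i
    fin_cases i <;> simp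

/-- projection to the `b`-part -/
def pB : (Fin 8 → F) →ₗ[F] (Fin 3 → F) where
  toFun x := ![x 4, x 5, x 6]
  map_add' a b := by
    ext i
    fin_cases i <;> simp
  map_smul' c a := by
    ext i
    fin_cases i <;> simp

theorem uLin_apply (a : Fin 3 → F) : uLin a = ![0, a 0, a 1, a 2, 0, 0, 0, 0] := rfl
theorem vLin_apply (b : Fin 3 → F) : vLin b = ![0, 0, 0, 0, b 0, b 1, b 2, 0] := rfl
theorem pA_apply (x : Fin 8 → F) : pA x = ![x 1, x 2, x 3] := rfl
theorem pB_apply (x : Fin 8 → F) : pB x = ![x 4, x 5, x 6] := rfl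

theorem pA_uLin (a : Fin 3 → F) : pA (uLin a) = a := by
  ext i
  fin_cases i <;> rfl

theorem pB_vLin (a : Fin 3 → F) : pB (vLin a) = a := by
  ext i
  fin_cases i <;> rfl

/-- the Peirce space `U` -/
def InU (x : Fin 8 → F) : Prop := zornMul e1 x = x ∧ zornMul x e1 = 0

/-- the Peirce space `V` -/
def InV (x : Fin 8 → F) : Prop := zornMul e2 x = x ∧ zornMul x e2 = 0

theorem inU_iff (x : Fin 8 → F) : InU x ↔ x = uLin (pA x) := by
  unfold InU
  rw [zornMul_apply, zornMul_apply, uLin_apply, pA_apply]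
  constructor
  · rintro ⟨h1, h2⟩
    have c4 := congrFun h1 4
    have c5 := congrFun h1 5
    have c6 := congrFun h1 6
    have c7 := congrFun h1 7
    have c0 := congrFun h2 0
    simp [e1] at c0 c4 c5 c6 c7
    ext i
    fin_cases i <;> simp [c0, ← c4, ← c5, ← c6, ← c7]
  · intro h
    have c0 := congrFun h 0
    have c4 := congrFun h 4
    have c5 := congrFun h 5
    have c6 := congrFun h 6
    have c7 := congrFun h 7
    simp at c0 c4 c5 c6 c7
    constructor
    · ext i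
      fin_cases i <;> simp [e1, c0, c4, c5, c6, c7]
    · ext i
      fin_cases i <;> simp [e1, c0, c4, c5, c6, c7]

theorem inV_iff (x : Fin 8 → F) : InV x ↔ x = vLin (pB x) := by
  unfold InV
  rw [zornMul_apply, zornMul_apply, vLin_apply, pB_apply]
  constructor
  · rintro ⟨h1, h2⟩
    have c0 := congrFun h1 0
    have c1 := congrFun h1 1
    have c2 := congrFun h1 2
    have c3 := congrFun h1 3
    have c7 := congrFun h2 7
    simp [e2] at c0 c1 c2 c3 c7
    ext i
    fin_cases i <;> simp [c7, ← c0, ← c1, ← c2, ← c3]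
  · intro h
    have c0 := congrFun h 0
    have c1 := congrFun h 1
    have c2 := congrFun h 2
    have c3 := congrFun h 3
    have c7 := congrFun h 7
    simp at c0 c1 c2 c3 c7
    constructor
    · ext i
      fin_cases i <;> simp [e2, c0, c1, c2, c3, c7]
    · ext i
      fin_cases i <;> simp [e2, c0, c1, c2, c3, c7]

theorem e2_eq : (e2 : Fin 8 → F) = oneO - e1 := by
  ext i
  fin_cases i <;> simp [e1, e2, oneO]

theorem map_e2 {f : (Fin 8 → F) ≃ₗ[F] (Fin 8 → F)} (hf : f ∈ G2L F) (h1 : f e1 = e1) :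
    f e2 = e2 := by
  rw [e2_eq, map_sub, map_oneO hf, h1]

theorem inU_map {f : (Fin 8 → F) ≃ₗ[F] (Fin 8 → F)} (hf : f ∈ G2L F) (h1 : f e1 = e1)
    {x : Fin 8 → F} (hx : InU x) : InU (f x) := by
  obtain ⟨a, b⟩ := hx
  constructor
  · have := hf e1 x
    rw [a, h1] at this
    exact this.symm
  · have := hf x e1
    rw [b, h1, map_zero] at this
    exact this.symm

theorem inV_map {f : (Fin 8 → F) ≃ₗ[F] (Fin 8 → F)} (hf : f ∈ G2L F) (h1 : f e1 = e1)
    {x : Fin 8 → F} (hx : InV x) : InV (f x) := by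
  have h2 := map_e2 hf h1
  obtain ⟨a, b⟩ := hx
  constructor
  · have := hf e2 x
    rw [a, h2] at this
    exact this.symm
  · have := hf x e2
    rw [b, h2, map_zero] at this
    exact this.symm

theorem inU_uLin (a : Fin 3 → F) : InU (uLin a) := by
  rw [inU_iff, pA_uLin]

theorem inV_vLin (a : Fin 3 → F) : InV (vLin a) := by
  rw [inV_iff, pB_vLin]

/-- the action on `U` -/
def actA (f : (Fin 8 → F) ≃ₗ[F] (Fin 8 → F)) : (Fin 3 → F) →ₗ[F] (Fin 3 → F) :=
  pA ∘ₗ f.toLinearMap ∘ₗ uLin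

/-- the action on `V` -/
def actB (f : (Fin 8 → F) ≃ₗ[F] (Fin 8 → F)) : (Fin 3 → F) →ₗ[F] (Fin 3 → F) :=
  pB ∘ₗ f.toLinearMap ∘ₗ vLin

theorem actA_apply (f : (Fin 8 → F) ≃ₗ[F] (Fin 8 → F)) (a : Fin 3 → F) :
    actA f a = pA (f (uLin a)) := rfl

theorem actB_apply (f : (Fin 8 → F) ≃ₗ[F] (Fin 8 → F)) (a : Fin 3 → F) :
    actB f a = pB (f (vLin a)) := rfl

theorem map_uLin {f : (Fin 8 → F) ≃ₗ[F] (Fin 8 → F)} (hf : f ∈ G2L F) (h1 : f e1 = e1)
    (a : Fin 3 → F) : f (uLin a) = uLin (actA f a) :=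
  (inU_iff _).1 (inU_map hf h1 (inU_uLin a))

theorem map_vLin {f : (Fin 8 → F) ≃ₗ[F] (Fin 8 → F)} (hf : f ∈ G2L F) (h1 : f e1 = e1)
    (a : Fin 3 → F) : f (vLin a) = vLin (actB f a) :=
  (inV_iff _).1 (inV_map hf h1 (inV_vLin a))

theorem uLin_mul_vLin (a b : Fin 3 → F) : zornMul (uLin a) (vLin b) = dot3 a b • e1 := by
  rw [zornMul_apply, uLin_apply, vLin_apply]
  ext i
  fin_cases i <;> simp [e1, dot3]

theorem uLin_mul_uLin (a b : Fin 3 → F) : zornMul (uLin a) (uLin b) = vLin (cross3 a b) := by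
  rw [zornMul_apply, uLin_apply, uLin_apply, vLin_apply]
  ext i
  fin_cases i <;> simp [cross3]

theorem dot_act {f : (Fin 8 → F) ≃ₗ[F] (Fin 8 → F)} (hf : f ∈ G2L F) (h1 : f e1 = e1)
    (a b : Fin 3 → F) : dot3 (actA f a) (actB f b) = dot3 a b := by
  have := hf (uLin a) (vLin b)
  rw [uLin_mul_vLin, map_uLin hf h1, map_vLin hf h1, uLin_mul_vLin, map_smul, h1] at this
  have c := congrFun this 0
  simp [e1] at c
  exact c.symm

theorem cross_act {f : (Fin 8 → F) ≃ₗ[F] (Fin 8 → F)} (hf : f ∈ G2L F) (h1 : f e1 = e1)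
    (a b : Fin 3 → F) : cross3 (actA f a) (actA f b) = actB f (cross3 a b) := by
  have := hf (uLin a) (uLin b)
  rw [uLin_mul_uLin, map_uLin hf h1, map_uLin hf h1, uLin_mul_uLin, map_vLin hf h1] at this
  have := congrArg pB this
  rw [pB_vLin, pB_vLin] at this
  exact this.symm

/-- determinant as a triple product -/
theorem det_eq_triple (A : (Fin 3 → F) →ₗ[F] (Fin 3 → F)) :
    (LinearMap.toMatrix' A).det =
      dot3 (cross3 (A ![1, 0, 0]) (A ![0, 1, 0])) (A ![0, 0, 1]) := by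
  have e0 : (![1, 0, 0] : Fin 3 → F) = Pi.single 0 1 := by
    ext i; fin_cases i <;> simp
  have e1' : (![0, 1, 0] : Fin 3 → F) = Pi.single 1 1 := by
    ext i; fin_cases i <;> simp
  have e2' : (![0, 0, 1] : Fin 3 → F) = Pi.single 2 1 := by
    ext i; fin_cases i <;> simp
  rw [Matrix.det_fin_three, e0, e1', e2']
  simp only [LinearMap.toMatrix'_apply, dot3, cross3, Matrix.cons_val_zero, Matrix.cons_val_one,
    Matrix.cons_val]
  ring

theorem det_actA {f : (Fin 8 → F) ≃ₗ[F] (Fin 8 → F)} (hf : f ∈ G2L F) (h1 : f e1 = e1) :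
    (LinearMap.toMatrix' (actA f)).det = 1 := by
  rw [det_eq_triple, cross_act hf h1]
  have : cross3 (![1, 0, 0] : Fin 3 → F) ![0, 1, 0] = ![0, 0, 1] := by
    ext i
    fin_cases i <;> simp [cross3]
  rw [this]
  have h := dot_act hf h1 ![0, 0, 1] ![0, 0, 1]
  have hc : ∀ u v : Fin 3 → F, dot3 u v = dot3 v u := by
    intro u v
    unfold dot3
    ring
  rw [hc, h]
  simp [dot3]

theorem actA_mul {f g : (Fin 8 → F) ≃ₗ[F] (Fin 8 → F)} (hg : g ∈ G2L F) (h1 : g e1 = e1) :
    actA (f * g) = actA f ∘ₗ actA g := by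
  apply LinearMap.ext
  intro a
  show pA (f (g (uLin a))) = pA (f (uLin (actA g a)))
  rw [map_uLin hg h1]

theorem decomp (x : Fin 8 → F) : x = x 0 • e1 + uLin (pA x) + vLin (pB x) + x 7 • e2 := by
  rw [uLin_apply, vLin_apply, pA_apply, pB_apply]
  ext i
  fin_cases i <;> simp [e1, e2]

theorem eq_one_of_actA {f : (Fin 8 → F) ≃ₗ[F] (Fin 8 → F)} (hf : f ∈ G2L F) (h1 : f e1 = e1)
    (hA : actA f = LinearMap.id) : f = 1 := by
  have hB : ∀ b, actB f b = b := by
    intro b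
    have h := fun a => dot_act hf h1 a b
    rw [hA] at h
    have c0 := h ![1, 0, 0]
    have c1 := h ![0, 1, 0]
    have c2 := h ![0, 0, 1]
    simp [dot3] at c0 c1 c2
    ext i
    fin_cases i
    · exact c0
    · exact c1
    · exact c2
  apply LinearEquiv.ext
  intro x
  show f x = x
  conv_lhs => rw [decomp x]
  rw [map_add, map_add, map_add, map_smul, map_smul, h1, map_e2 hf h1, map_uLin hf h1,
    map_vLin hf h1, hA, hB]
  exact (decomp x).symm

end Cfsg.Agent.Helper23.G2
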