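import Mathlib
import Cfsg.Agent.Lib.Helper23.SpSylow2
import Cfsg.Agent.Lib.Helper23.DerLen

set_option autoImplicit false
set_option linter.style.haveILetI false

/-!
# Derived length of a Sylow 2-subgroup of `Sp_{2n}(q)`, `q` odd
-/

namespace Cfsg.Agent.Helper23.SpShape

open Matrix Cfsg.Agent.Helper23.SqComm

universe u

theorem Shape.isDL (Q : Type u) [Group Q] (hQ : IsDL Q 2) :
    ∀ s : Shape, IsDL (s.grp Q).T s.dl
  | .base => hQ
  | .prod s t => (Shape.isDL Q hQ s).prod (Shape.isDL Q hQ t)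
  | .wr s => (Shape.isDL Q hQ s).wr2

variable {F : Type u} [Field F]

/-- the derived length of a Sylow 2-subgroup of `Sp_{2n}(F)` is `⌊log₂ n⌋ + 2` -/
theorem isDL_sylow_sp [Fintype F] (hF : Odd (Fintype.card F)) (n : ℕ) (hn : 1 ≤ n)
    (P : Sylow 2 (symplecticGroup (Fin n) F)) :
    IsDL (P : Subgroup (symplecticGroup (Fin n) F)) (Nat.log 2 n + 2) := by
  classical
  haveI : Fact (Nat.Prime 2) := ⟨Nat.prime_two⟩
  obtain ⟨Q⟩ : Nonempty (Sylow 2 (symplecticGroup (Fin 1) F)) := inferInstance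
  obtain ⟨s, hs, ⟨e⟩⟩ := sylow_sp_shape hF n hn Q P
  obtain ⟨m, hm, ⟨e'⟩⟩ := exists_quaternion_sylow_sp1 hF Q
  haveI : NeZero (2 ^ m) := ⟨by positivity⟩
  have h2 : 2 ≤ 2 ^ m := by
    calc 2 = 2 ^ 1 := by norm_num
      _ ≤ 2 ^ m := Nat.pow_le_pow_right (by norm_num) hm
  have hQ : IsDL (Q : Subgroup (symplecticGroup (Fin 1) F)) 2 :=
    (isDL_quaternion (2 ^ m) h2).of_equiv e'.symm
  rw [← hs]
  exact (Shape.isDL _ hQ s).of_equiv e

end Cfsg.Agent.Helper23.SpShape
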