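import Mathlib
import Cfsg.Agent.Lib.Helper23.SpSylow2Rank
import Cfsg.Agent.Lib.Helper23.SpSylow2DL

set_option autoImplicit false
set_option linter.style.haveILetI false

/-!
# The generic binary recursion producing the shape with `n` leaves
-/

namespace Cfsg.Agent.Helper23.SpShape

open Nat

/-- `n * c + v₂(n!)` -/
def Kc (c n : ℕ) : ℕ := n * c + padicValNat 2 n !

theorem Kc_double (c b : ℕ) : Kc c (2 * 2 ^ b) = 2 * Kc c (2 ^ b) + 1 := by
  unfold Kc
  rw [padicValNat_factorial_mul]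
  have := v2_fact_two_pow b
  have h2 : 2 * 2 ^ b * c = 2 * (2 ^ b * c) := by ring
  omega

theorem Kc_add (c a m : ℕ) (hm : m < 2 ^ a) : Kc c (2 ^ a + m) = Kc c (2 ^ a) + Kc c m := by
  unfold Kc
  rw [v2_fact_add a m hm]
  ring

theorem Kc_one (c : ℕ) : Kc c 1 = c := by
  simp [Kc]

/-- the generic recursion -/
theorem Shape.exists_of_closed (PP : Shape → ℕ → Prop) (c : ℕ) (hbase : PP .base 1)
    (hprod : ∀ s t a b, 1 ≤ a → 1 ≤ b → PP s a → PP t b → PP (.prod s t) (a + b))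
    (hwr : ∀ s a, 1 ≤ a → PP s a → PP (.wr s) (a + a)) :
    ∀ n, 1 ≤ n → ∃ s : Shape, s.logcard c = Kc c n ∧ s.leaves = n ∧
      s.dl = Nat.log 2 n + 2 ∧ PP s n := by
  intro n
  induction n using Nat.strong_induction_on with
  | _ n ih =>
    intro hn
    by_cases h1 : n = 1
    · subst h1
      exact ⟨.base, (Kc_one c).symm, rfl, by simp [Shape.dl], hbase⟩
    obtain ⟨a, ha⟩ : ∃ a, a = Nat.log 2 n := ⟨_, rfl⟩
    have ha1 : 2 ^ a ≤ n := by rw [ha]; exact Nat.pow_log_le_self 2 (by omega)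
    have ha2 : n < 2 ^ (a + 1) := by rw [ha]; exact Nat.lt_pow_succ_log_self (by norm_num) n
    have ha0 : 1 ≤ a := by
      rw [ha]
      exact Nat.log_pos (by norm_num) (by omega)
    rcases eq_or_lt_of_le ha1 with h | h
    · obtain ⟨b, rfl⟩ : ∃ b, a = b + 1 := ⟨a - 1, by omega⟩
      have hn2 : n = 2 * 2 ^ b := by rw [← h, pow_succ]; ring
      have hb1 : 1 ≤ 2 ^ b := Nat.one_le_two_pow
      obtain ⟨s, hs1, hs2, hs3, hs4⟩ := ih (2 ^ b) (by omega) hb1
      refine ⟨.wr s, ?_, ?_, ?_, ?_⟩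
      · show 2 * s.logcard c + 1 = _
        rw [hs1, hn2, Kc_double]
      · show s.leaves + s.leaves = _
        rw [hs2]; omega
      · show s.dl + 1 = _
        rw [hs3, ← ha, Nat.log_pow (by norm_num)]
      · have := hwr s (2 ^ b) hb1 hs4
        have e : 2 ^ b + 2 ^ b = n := by omega
        rwa [e] at this
    · obtain ⟨m, hm⟩ : ∃ m, n = 2 ^ a + m := ⟨n - 2 ^ a, by omega⟩
      have hm0 : 0 < m := by omega
      have hm1 : m < 2 ^ a := by rw [pow_succ] at ha2; omega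
      have hb1 : 1 ≤ 2 ^ a := Nat.one_le_two_pow
      obtain ⟨s, hs1, hs2, hs3, hs4⟩ := ih (2 ^ a) h hb1
      obtain ⟨t, ht1, ht2, ht3, ht4⟩ := ih m (by omega) hm0
      refine ⟨.prod s t, ?_, ?_, ?_, ?_⟩
      · show s.logcard c + t.logcard c = _
        rw [hs1, ht1, hm, Kc_add c a m hm1]
      · show s.leaves + t.leaves = _
        rw [hs2, ht2, hm]
      · show max s.dl t.dl = _
        rw [hs3, ht3, ← ha, Nat.log_pow (by norm_num)]
        have : Nat.log 2 m < a := Nat.log_lt_of_lt_pow (by omega) hm1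
        omega
      · have := hprod s t (2 ^ a) m hb1 hm0 hs4 ht4
        rwa [← hm] at this

end Cfsg.Agent.Helper23.SpShape
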