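import Mathlib
import Cfsg.Agent.Lib.Helper23.ShapeRec

set_option autoImplicit false
set_option linter.style.haveILetI false

/-!
# 2-adic valuation of the order of `GL_n(q)`, `q` odd
-/

namespace Cfsg.Agent.Helper23.SpShape

open Nat

/-- `Σ_{j=1}^n v₂(q^j − 1)` -/
def gv (q n : ℕ) : ℕ := ∑ j ∈ Finset.range n, padicValNat 2 (q ^ (j + 1) - 1)

theorem padicValNat_finset_prod {ι : Type*} (s : Finset ι) (f : ι → ℕ) (hf : ∀ i ∈ s, f i ≠ 0) :
    padicValNat 2 (∏ i ∈ s, f i) = ∑ i ∈ s, padicValNat 2 (f i) := by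
  classical
  induction s using Finset.induction_on with
  | empty => simp
  | insert a s ha ih =>
    rw [Finset.prod_insert ha, Finset.sum_insert ha,
      padicValNat.mul (hf a (Finset.mem_insert_self a s))
        (Finset.prod_ne_zero_iff.2 fun i hi => hf i (Finset.mem_insert_of_mem hi)),
      ih fun i hi => hf i (Finset.mem_insert_of_mem hi)]

theorem v2_prod_GL (q n : ℕ) (hq : Odd q) (hq1 : 1 < q) :
    padicValNat 2 (∏ i : Fin n, (q ^ n - q ^ (i : ℕ))) = gv q n := by
  rw [Fin.prod_univ_eq_prod_range (fun i => q ^ n - q ^ i) n]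
  have hq2 : ¬ 2 ∣ q := by rwa [← even_iff_two_dvd, Nat.not_even_iff_odd]
  have hterm : ∀ i ∈ Finset.range n, q ^ n - q ^ i = q ^ i * (q ^ (n - 1 - i + 1) - 1) := by
    intro i hi
    rw [Finset.mem_range] at hi
    have e : n - 1 - i + 1 = n - i := by omega
    rw [e, Nat.mul_sub, mul_one, ← pow_add]
    congr 2
    omega
  have hne : ∀ i ∈ Finset.range n, q ^ n - q ^ i ≠ 0 := by
    intro i hi
    rw [Finset.mem_range] at hi
    have : q ^ i < q ^ n := Nat.pow_lt_pow_right hq1 hi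
    omega
  rw [padicValNat_finset_prod _ _ hne]
  unfold gv
  rw [← Finset.sum_range_reflect]
  apply Finset.sum_congr rfl
  intro i hi
  rw [Finset.mem_range] at hi
  rw [hterm (n - 1 - i) (Finset.mem_range.2 (by omega))]
  have e : n - 1 - (n - 1 - i) = i := by omega
  rw [e]
  have h1 : q ^ (i + 1) - 1 ≠ 0 := by
    have : 1 < q ^ (i + 1) := Nat.one_lt_pow (by omega) hq1
    omega
  rw [padicValNat.mul (by positivity) h1, padicValNat.pow,
    padicValNat.eq_zero_of_not_dvd hq2]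
  simp

theorem v2_of_mod_four_eq_two {n : ℕ} (h : n % 4 = 2) : padicValNat 2 n = 1 := by
  obtain ⟨k, hk⟩ : ∃ k, n = 2 * (2 * k + 1) := ⟨n / 4, by omega⟩
  rw [hk, padicValNat.mul (by norm_num) (by omega), padicValNat_self,
    padicValNat.eq_zero_of_not_dvd (by omega)]

theorem pow_mod_four_of_three {q : ℕ} (hq : q % 4 = 3) (j : ℕ) :
    q ^ (2 * j + 1) % 4 = 3 := by
  induction j with
  | zero => simpa using hq
  | succ j ih =>
    have e : q ^ (2 * (j + 1) + 1) = q ^ (2 * j + 1) * (q * q) := by ring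
    rw [e, Nat.mul_mod, ih, Nat.mul_mod q q, hq]

/-- `q ≡ 3 (mod 4)`: the valuation for `GL_{2m}` -/
theorem gv_even_three (q : ℕ) (hq : q % 4 = 3) (m : ℕ) :
    gv q (2 * m) = Kc (cq q + 1) m := by
  have hodd : Odd q := Nat.odd_iff.2 (by omega)
  have hq1 : 1 < q := by omega
  induction m with
  | zero => simp [gv, Kc]
  | succ m ih =>
    have e : 2 * (m + 1) = 2 * m + 1 + 1 := by ring
    unfold gv at ih ⊢
    rw [e, Finset.sum_range_succ, Finset.sum_range_succ, ih]
    have h1 : padicValNat 2 (q ^ (2 * m + 1) - 1) = 1 := by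
      apply v2_of_mod_four_eq_two
      have := pow_mod_four_of_three hq m
      omega
    have h2 : padicValNat 2 (q ^ (2 * m + 1 + 1) - 1) = cq q + padicValNat 2 (m + 1) := by
      have := v2_term q hodd hq1 m
      have e2 : 2 * (m + 1) = 2 * m + 1 + 1 := by ring
      rwa [e2] at this
    rw [h1, h2]
    unfold Kc
    rw [Nat.factorial_succ, padicValNat.mul (by omega) (Nat.factorial_ne_zero m)]
    ring

theorem gv_odd_three (q : ℕ) (hq : q % 4 = 3) (m : ℕ) :
    gv q (2 * m + 1) = Kc (cq q + 1) m + 1 := by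
  rw [← gv_even_three q hq m]
  unfold gv
  rw [Finset.sum_range_succ]
  congr 1
  apply v2_of_mod_four_eq_two
  have := pow_mod_four_of_three hq m
  omega

theorem odd_geom_sum {q : ℕ} (hq : Odd q) (k : ℕ) :
    Odd (∑ i ∈ Finset.range (2 * k + 1), q ^ i) := by
  induction k with
  | zero => simp
  | succ k ih =>
    have e : 2 * (k + 1) + 1 = 2 * k + 1 + 1 + 1 := by ring
    rw [e, Finset.sum_range_succ, Finset.sum_range_succ, add_assoc]
    exact ih.add_even (Odd.add_odd hq.pow hq.pow)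

/-- `q ≡ 1 (mod 4)`: `v₂(q^j − 1) = v₂(q − 1) + v₂(j)` -/
theorem v2_pow_sub_one_of_one {q : ℕ} (hq : q % 4 = 1) (hq1 : 1 < q) (j : ℕ) (hj : 1 ≤ j) :
    padicValNat 2 (q ^ j - 1) = padicValNat 2 (q - 1) + padicValNat 2 j := by
  have hodd : Odd q := Nat.odd_iff.2 (by omega)
  have hq2 : ¬ 2 ∣ q := by rwa [← even_iff_two_dvd, Nat.not_even_iff_odd]
  rcases Nat.even_or_odd j with he | ho
  · have h := padicValNat.pow_two_sub_one hq1 hq2 (n := j) (by omega) he
    have h1 : padicValNat 2 (q + 1) = 1 := v2_of_mod_four_eq_two (by omega)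
    omega
  · obtain ⟨k, hk⟩ := ho
    have h1 : q ^ j - 1 = (∑ i ∈ Finset.range j, q ^ i) * (q - 1) :=
      (geom_sum_mul_of_one_le (by omega) j).symm
    have h2 : Odd (∑ i ∈ Finset.range j, q ^ i) := by
      rw [hk]; exact odd_geom_sum hodd k
    have h3 : ¬ 2 ∣ ∑ i ∈ Finset.range j, q ^ i := by
      rwa [← even_iff_two_dvd, Nat.not_even_iff_odd]
    have h4 : ¬ 2 ∣ j := by
      rw [← even_iff_two_dvd, Nat.not_even_iff_odd]; exact ⟨k, hk⟩
    rw [h1, padicValNat.mul (by intro h; rw [h] at h3; exact h3 (dvd_zero 2)) (by omega),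
      padicValNat.eq_zero_of_not_dvd h3, padicValNat.eq_zero_of_not_dvd h4]
    omega

theorem gv_of_one (q : ℕ) (hq : q % 4 = 1) (hq1 : 1 < q) (n : ℕ) :
    gv q n = Kc (padicValNat 2 (q - 1)) n := by
  induction n with
  | zero => simp [gv, Kc]
  | succ n ih =>
    unfold gv at ih ⊢
    rw [Finset.sum_range_succ, ih, v2_pow_sub_one_of_one hq hq1 (n + 1) (by omega)]
    unfold Kc
    rw [Nat.factorial_succ, padicValNat.mul (by omega) (Nat.factorial_ne_zero n)]
    ring

end Cfsg.Agent.Helper23.SpShape
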