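import Mathlib
import Cfsg.Agent.Lib.Helper23.SpSylow2
import Cfsg.Agent.Lib.Helper23.EARank

set_option autoImplicit false
set_option linter.style.haveILetI false

/-!
# Sylow 2-subgroups of `SL₂(F)`, `|F|` odd, are generalized quaternion
-/

namespace Cfsg.Agent.Helper23.SpShape

open Matrix Cfsg.Agent.Helper23.SqComm

universe u

variable {F : Type u} [Field F]

theorem sl2_sq_eq_one (h2 : (2 : F) ≠ 0) (A : Matrix (Fin 2) (Fin 2) F) (hdet : A.det = 1)
    (hAA : A * A = 1) : A = 1 ∨ A = -1 := by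
  have e2 := congrFun (congrFun hAA 0) 0
  have e3 := congrFun (congrFun hAA 0) 1
  have e4 := congrFun (congrFun hAA 1) 0
  have e5 := congrFun (congrFun hAA 1) 1
  rw [Matrix.det_fin_two] at hdet
  simp [Matrix.mul_apply, Fin.sum_univ_two] at e2 e3 e4 e5
  obtain ⟨a, ha⟩ : ∃ a, a = A 0 0 := ⟨_, rfl⟩
  obtain ⟨b, hb⟩ : ∃ a, a = A 0 1 := ⟨_, rfl⟩
  obtain ⟨c, hc⟩ : ∃ a, a = A 1 0 := ⟨_, rfl⟩
  obtain ⟨d, hd⟩ : ∃ a, a = A 1 1 := ⟨_, rfl⟩
  simp only [← ha, ← hb, ← hc, ← hd] at hdet e2 e3 e4 e5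
  have h1 : a * (a + d) = 2 := by linear_combination e2 + hdet
  have h3 : a + d ≠ 0 := by
    intro h
    rw [h, mul_zero] at h1
    exact h2 h1.symm
  have hb0 : b = 0 := by
    have : b * (a + d) = 0 := by linear_combination e3
    rcases mul_eq_zero.1 this with h | h
    · exact h
    · exact absurd h h3
  have hc0 : c = 0 := by
    have : c * (a + d) = 0 := by linear_combination e4
    rcases mul_eq_zero.1 this with h | h
    · exact h
    · exact absurd h h3
  rw [hb0, hc0] at hdet e2 e5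
  have ha2 : (a - 1) * (a + 1) = 0 := by linear_combination e2
  have had : d = a := by linear_combination (-d) * e2 + a * hdet
  have key : ∀ e : F, a = e → A = Matrix.diagonal fun _ => e := by
    intro e hae
    ext i j
    fin_cases i <;> fin_cases j
    · show A 0 0 = _
      rw [← ha, hae]; simp
    · show A 0 1 = _
      rw [← hb, hb0]; simp
    · show A 1 0 = _
      rw [← hc, hc0]; simp
    · show A 1 1 = _
      rw [← hd, had, hae]; simp
  rcases mul_eq_zero.1 ha2 with h | h
  · left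
    rw [key 1 (by linear_combination h)]
    simp
  · right
    rw [key (-1) (by linear_combination h)]
    ext i j
    by_cases hij : i = j
    · subst hij; simp
    · simp [hij]

/-- the first quaternion generator -/
def slI : Matrix.SpecialLinearGroup (Fin 2) F :=
  ⟨!![0, -1; 1, 0], by simp [Matrix.det_fin_two]⟩

/-- the second quaternion generator -/
def slJ (a b : F) (hab : a ^ 2 + b ^ 2 = -1) : Matrix.SpecialLinearGroup (Fin 2) F :=
  ⟨!![a, b; b, -a], by rw [Matrix.det_fin_two]; simp; linear_combination -hab⟩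

/-- the Sylow 2-subgroups of `SL₂(F)` are not commutative -/
theorem exists_not_comm_sylow_sl2 [Fintype F] (hF : Odd (Fintype.card F))
    (Q : Sylow 2 (Matrix.SpecialLinearGroup (Fin 2) F)) :
    ∃ x y : (Q : Subgroup (Matrix.SpecialLinearGroup (Fin 2) F)), x * y ≠ y * x := by
  classical
  haveI : Fact (Nat.Prime 2) := ⟨Nat.prime_two⟩
  have h2 : (2 : F) ≠ 0 := two_ne_zero_of_odd_card hF
  obtain ⟨a, b, hab⟩ : ∃ a b : F, a ^ 2 + b ^ 2 = -1 := by
    haveI : Fact (ringChar F).Prime := ⟨CharP.char_is_prime F (ringChar F)⟩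
    haveI : NeZero (ringChar F) := ⟨(CharP.char_is_prime F (ringChar F)).ne_zero⟩
    obtain ⟨a, b, h⟩ := CharP.sq_add_sq F (ringChar F) (-1)
    exact ⟨a, b, by simpa using h⟩
  obtain ⟨gi, hgi⟩ : ∃ g : Matrix.SpecialLinearGroup (Fin 2) F, g = slI := ⟨_, rfl⟩
  obtain ⟨gj, hgj⟩ : ∃ g : Matrix.SpecialLinearGroup (Fin 2) F, g = slJ a b hab := ⟨_, rfl⟩
  have vi : (gi : Matrix (Fin 2) (Fin 2) F) = !![0, -1; 1, 0] := by rw [hgi]; rfl
  have vj : (gj : Matrix (Fin 2) (Fin 2) F) = !![a, b; b, -a] := by rw [hgj]; rfl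
  have hi2 : (gi * gi : Matrix.SpecialLinearGroup (Fin 2) F).1 = -1 := by
    rw [Matrix.SpecialLinearGroup.coe_mul, vi]
    ext i j
    fin_cases i <;> fin_cases j <;> simp
  have hj2 : (gj * gj : Matrix.SpecialLinearGroup (Fin 2) F).1 = -1 := by
    rw [Matrix.SpecialLinearGroup.coe_mul, vj]
    ext i j
    fin_cases i <;> fin_cases j <;> simp
    · linear_combination hab
    · ring
    · ring
    · linear_combination hab
  have hi4 : gi ^ 4 = 1 := by
    apply Subtype.ext
    have : gi ^ 4 = (gi * gi) * (gi * gi) := by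
      rw [show (4 : ℕ) = 2 + 2 from rfl, pow_add, pow_two]
    rw [this, Matrix.SpecialLinearGroup.coe_mul, hi2]
    simp
  have hj4 : gj ^ 4 = 1 := by
    apply Subtype.ext
    have : gj ^ 4 = (gj * gj) * (gj * gj) := by
      rw [show (4 : ℕ) = 2 + 2 from rfl, pow_add, pow_two]
    rw [this, Matrix.SpecialLinearGroup.coe_mul, hj2]
    simp
  have hiinv : gi⁻¹ = gi * gi * gi := by
    apply inv_eq_of_mul_eq_one_right
    have : gi * (gi * gi * gi) = gi ^ 4 := by
      rw [show (4 : ℕ) = 1 + 1 + 1 + 1 from rfl, pow_add, pow_add, pow_add, pow_one]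
      group
    rw [this, hi4]
  have hji : (gj * gi : Matrix.SpecialLinearGroup (Fin 2) F).1 =
      -(gi * gj : Matrix.SpecialLinearGroup (Fin 2) F).1 := by
    rw [Matrix.SpecialLinearGroup.coe_mul, Matrix.SpecialLinearGroup.coe_mul, vi, vj]
    ext i j
    fin_cases i <;> fin_cases j <;> simp
  have hconj : gj * gi * gj⁻¹ = gi⁻¹ := by
    rw [mul_inv_eq_iff_eq_mul, hiinv]
    apply Subtype.ext
    have e1 : (gi * gi * gi * gj : Matrix.SpecialLinearGroup (Fin 2) F).1 =
        (gi * gi : Matrix.SpecialLinearGroup (Fin 2) F).1 *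
          (gi * gj : Matrix.SpecialLinearGroup (Fin 2) F).1 := by
      have : gi * gi * gi * gj = (gi * gi) * (gi * gj) := by group
      rw [this, Matrix.SpecialLinearGroup.coe_mul]
    rw [e1, hi2, hji]
    simp
  have hnc : gi * gj ≠ gj * gi := by
    intro h
    have h1 := congrArg Subtype.val h
    rw [hji] at h1
    have h3 : (gi * gj : Matrix.SpecialLinearGroup (Fin 2) F).1 = 0 := by
      have : (2 : F) • (gi * gj : Matrix.SpecialLinearGroup (Fin 2) F).1 = 0 := by
        rw [two_smul]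
        nth_rewrite 1 [h1]
        exact neg_add_cancel _
      rcases smul_eq_zero.1 this with h | h
      · exact absurd h h2
      · exact h
    have h4 := (gi * gj : Matrix.SpecialLinearGroup (Fin 2) F).2
    rw [h3] at h4
    simp at h4
  have hN := isPGroup_two_sup gi gj hi4 hj4 hconj
  obtain ⟨Q', hQ'⟩ := hN.exists_le_sylow
  have hiQ : gi ∈ (Q' : Subgroup (Matrix.SpecialLinearGroup (Fin 2) F)) :=
    hQ' (Subgroup.mem_sup_right (Subgroup.mem_zpowers gi))
  have hjQ : gj ∈ (Q' : Subgroup (Matrix.SpecialLinearGroup (Fin 2) F)) :=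
    hQ' (Subgroup.mem_sup_left (Subgroup.mem_zpowers gj))
  let e := Sylow.equiv Q' Q
  refine ⟨e ⟨gi, hiQ⟩, e ⟨gj, hjQ⟩, ?_⟩
  intro h
  rw [← map_mul, ← map_mul] at h
  have := e.injective h
  exact hnc (congrArg Subtype.val this)

theorem uniqInv_of_two_group_sl2 [Fintype F] (hF : Odd (Fintype.card F))
    (Q : Subgroup (Matrix.SpecialLinearGroup (Fin 2) F)) (hQ : 2 ∣ Nat.card Q) :
    UniqInv Q := by
  classical
  haveI : Fact (Nat.Prime 2) := ⟨Nat.prime_two⟩
  have h2 : (2 : F) ≠ 0 := two_ne_zero_of_odd_card hF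
  have hval : ∀ x : Q, x ^ 2 = 1 → x ≠ 1 →
      ((x : Matrix.SpecialLinearGroup (Fin 2) F) : Matrix (Fin 2) (Fin 2) F) = -1 := by
    intro x h1 hx
    have h3 : ((x : Matrix.SpecialLinearGroup (Fin 2) F) : Matrix (Fin 2) (Fin 2) F) *
        ((x : Matrix.SpecialLinearGroup (Fin 2) F) : Matrix (Fin 2) (Fin 2) F) = 1 := by
      have := congrArg (fun y : Q =>
        ((y : Matrix.SpecialLinearGroup (Fin 2) F) : Matrix (Fin 2) (Fin 2) F)) h1
      rw [pow_two] at this
      exact this
    rcases sl2_sq_eq_one h2 _ (x : Matrix.SpecialLinearGroup (Fin 2) F).2 h3 with h | h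
    · exfalso
      apply hx
      apply Subtype.ext
      apply Subtype.ext
      exact h
    · exact h
  obtain ⟨z, hz⟩ := exists_prime_orderOf_dvd_card' 2 hQ
  have hz1 : z ≠ 1 := by
    intro h
    rw [h, orderOf_one] at hz
    omega
  have hz2 : z ^ 2 = 1 := by
    have := pow_orderOf_eq_one z
    rwa [hz] at this
  refine ⟨z, hz1, hz2, ?_⟩
  intro x hx
  by_cases hx1 : x = 1
  · exact Or.inl hx1
  · right
    apply Subtype.ext
    apply Subtype.ext
    rw [hval x hx hx1, hval z hz2 hz1]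

/-- a Sylow 2-subgroup of `SL₂(F)` is generalized quaternion -/
theorem exists_quaternion_sylow_sl2 [Fintype F] (hF : Odd (Fintype.card F))
    (Q : Sylow 2 (Matrix.SpecialLinearGroup (Fin 2) F)) :
    ∃ n : ℕ, 1 ≤ n ∧
      Nonempty ((Q : Subgroup (Matrix.SpecialLinearGroup (Fin 2) F)) ≃*
        QuaternionGroup (2 ^ n)) := by
  classical
  haveI : Fact (Nat.Prime 2) := ⟨Nat.prime_two⟩
  obtain ⟨x, y, hxy⟩ := exists_not_comm_sylow_sl2 hF Q
  have hdvd : 2 ∣ Nat.card (Q : Subgroup (Matrix.SpecialLinearGroup (Fin 2) F)) := by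
    obtain ⟨k, hk⟩ := IsPGroup.iff_card.1 Q.isPGroup'
    rw [hk]
    rcases Nat.eq_zero_or_pos k with h0 | h0
    · exfalso
      rw [h0, pow_zero] at hk
      have hss : Subsingleton (Q : Subgroup (Matrix.SpecialLinearGroup (Fin 2) F)) :=
        (Nat.card_eq_one_iff_unique.1 hk).1
      exact hxy (Subsingleton.elim _ _)
    · exact dvd_pow_self 2 (by omega)
  obtain ⟨z, hz1, hz2, hz⟩ := uniqInv_of_two_group_sl2 hF
    (Q : Subgroup (Matrix.SpecialLinearGroup (Fin 2) F)) hdvd
  have huniq : Cfsg.Agent.Helper16.UniqueOrderP 2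
      (Q : Subgroup (Matrix.SpecialLinearGroup (Fin 2) F)) := by
    intro x y hx hy
    have hx2 : x ^ 2 = 1 := by
      have := pow_orderOf_eq_one x
      rwa [hx] at this
    have hy2 : y ^ 2 = 1 := by
      have := pow_orderOf_eq_one y
      rwa [hy] at this
    have hx1 : x ≠ 1 := by
      intro h
      rw [h, orderOf_one] at hx
      omega
    have hy1 : y ≠ 1 := by
      intro h
      rw [h, orderOf_one] at hy
      omega
    have e1 : x = z := (hz x hx2).resolve_left hx1
    have e2 : y = z := (hz y hy2).resolve_left hy1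
    rw [e1, e2]
    exact Subgroup.mem_zpowers z
  rcases Cfsg.Agent.Helper16.cyclic_or_quaternion_of_uniqueOrderP_two Q.isPGroup' huniq with
    hc | ⟨n, ⟨e⟩⟩
  · exfalso
    letI := IsCyclic.commGroup (α := (Q : Subgroup (Matrix.SpecialLinearGroup (Fin 2) F)))
    exact hxy (mul_comm x y)
  · refine ⟨n, ?_, ⟨e⟩⟩
    by_contra hn
    have hn0 : n = 0 := by omega
    subst hn0
    have hc : IsCyclic (Q : Subgroup (Matrix.SpecialLinearGroup (Fin 2) F)) := by
      haveI : IsCyclic (QuaternionGroup (2 ^ 0)) := QuaternionGroup.quaternionGroup_one_isCyclic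
      exact isCyclic_of_surjective e.symm.toMonoidHom e.symm.surjective
    letI := IsCyclic.commGroup (α := (Q : Subgroup (Matrix.SpecialLinearGroup (Fin 2) F)))
    exact hxy (mul_comm x y)

theorem sqInComm_sylow_sl2 [Fintype F] (hF : Odd (Fintype.card F))
    (Q : Sylow 2 (Matrix.SpecialLinearGroup (Fin 2) F)) :
    SqInComm (Q : Subgroup (Matrix.SpecialLinearGroup (Fin 2) F)) := by
  obtain ⟨n, hn, ⟨e⟩⟩ := exists_quaternion_sylow_sl2 hF Q
  haveI : NeZero (2 ^ n) := ⟨by positivity⟩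
  have h1 : SqInComm (QuaternionGroup (2 ^ n)) := by
    apply sqInComm_quaternion
    exact (Nat.even_pow' (by omega)).2 (by norm_num)
  exact h1.of_surjective e.symm.toMonoidHom e.symm.surjective

end Cfsg.Agent.Helper23.SpShape
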