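import Mathlib
import Cfsg.Agent.Lib.Helper23.SqComm

set_option autoImplicit false
set_option linter.style.haveILetI false

/-!
# Kernels of characters of products and wreath products: squares in the derived subgroup
-/

namespace Cfsg.Agent.Helper23.SqComm

universe u v

open scoped commutatorElement

theorem map_subtype_commutator {G : Type u} [Group G] (K : Subgroup G) :
    (commutator K).map K.subtype = ⁅K, K⁆ := by
  rw [commutator_def, Subgroup.map_commutator, ← MonoidHom.range_eq_map, Subgroup.range_subtype]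

theorem sq_mem_of_sqInComm {G : Type u} [Group G] {K : Subgroup G} (h : SqInComm K) {k : G}
    (hk : k ∈ K) : k ^ 2 ∈ ⁅K, K⁆ := by
  have h1 := h ⟨k, hk⟩
  rw [← map_subtype_commutator]
  exact ⟨_, h1, rfl⟩

/-- generating-set criterion for a subgroup -/
theorem sqInComm_subgroup_of_closure {G : Type u} [Group G] (K : Subgroup G) (S : Set G)
    (hS : Subgroup.closure S = K) (h : ∀ g ∈ S, g ^ 2 ∈ ⁅K, K⁆) : SqInComm K := by
  subst hS
  apply sqInComm_of_closure (((↑) : Subgroup.closure S → G) ⁻¹' S)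
    Subgroup.closure_closure_coe_preimage
  intro g hg
  have h1 := h g.1 hg
  rw [← map_subtype_commutator] at h1
  obtain ⟨y, hy, hy'⟩ := h1
  have : y = g ^ 2 := Subtype.ext hy'
  rwa [this] at hy

/-- the character of the wreath product with value `s` on the swap -/
def wr2Char {R : Type u} {A : Type v} [Group R] [CommGroup A] (χ : R →* A) (s : A)
    (hs : s * s = 1) : Wr2 R →* A :=
  wr2Lift (χ.coprod χ) s hs (by
    intro a b
    rw [MonoidHom.coprod_apply, MonoidHom.coprod_apply, mul_comm s, mul_assoc, mul_inv_cancel,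
      mul_one, mul_comm])

theorem wr2Char_inl {R : Type u} {A : Type v} [Group R] [CommGroup A] (χ : R →* A) (s : A)
    (hs : s * s = 1) (n : R × R) :
    wr2Char χ s hs (SemidirectProduct.inl n) = χ n.1 * χ n.2 := by
  rw [wr2Char, wr2Lift_apply]
  simp

theorem wr2Char_inr_neg {R : Type u} {A : Type v} [Group R] [CommGroup A] (χ : R →* A) (s : A)
    (hs : s * s = 1) :
    wr2Char χ s hs (SemidirectProduct.inr (-1)) = s := by
  rw [wr2Char, wr2Lift_apply]
  simp

theorem inr_conj_inl {R : Type u} [Group R] (a b : R) :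
    (SemidirectProduct.inr (-1 : ℤˣ) : Wr2 R) * SemidirectProduct.inl (a, b) *
      (SemidirectProduct.inr (-1 : ℤˣ))⁻¹ = SemidirectProduct.inl (b, a) := by
  rw [← map_inv, ← SemidirectProduct.inl_aut]
  congr 1

theorem sqInComm_ker_wr2Char {R : Type u} {A : Type v} [Group R] [CommGroup A] (χ : R →* A)
    (s : A) (hs : s * s = 1) (hK : SqInComm χ.ker) (d c : R) (hd : ∀ a, d * a = a * d)
    (hχd : χ d = s) (hc : c ^ 2 = d) (hc' : c⁻¹ ^ 2 = d) :
    SqInComm (wr2Char χ s hs).ker := by
  obtain ⟨σ, hσ⟩ : ∃ σ : Wr2 R, σ = SemidirectProduct.inl (d, 1) * SemidirectProduct.inr (-1) :=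
    ⟨_, rfl⟩
  have hσK : σ ∈ (wr2Char χ s hs).ker := by
    rw [MonoidHom.mem_ker, hσ, map_mul, wr2Char_inl, wr2Char_inr_neg]
    simp [hχd, hs]
  have hyK : ∀ a : R, (SemidirectProduct.inl (a, a⁻¹) : Wr2 R) ∈ (wr2Char χ s hs).ker := by
    intro a
    rw [MonoidHom.mem_ker, wr2Char_inl]
    simp
  have hkK : ∀ k₁ ∈ χ.ker, ∀ k₂ ∈ χ.ker,
      (SemidirectProduct.inl (k₁, k₂) : Wr2 R) ∈ (wr2Char χ s hs).ker := by
    intro k₁ h₁ k₂ h₂
    rw [MonoidHom.mem_ker, wr2Char_inl]
    rw [MonoidHom.mem_ker] at h₁ h₂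
    simp [h₁, h₂]
  -- conjugation of `y` by `σ`
  have hconj : ∀ a : R, σ * SemidirectProduct.inl (a⁻¹, a) * σ⁻¹ =
      SemidirectProduct.inl (a, a⁻¹) := by
    intro a
    have e1 : σ * SemidirectProduct.inl (a⁻¹, a) * σ⁻¹ =
        SemidirectProduct.inl (d, 1) * ((SemidirectProduct.inr (-1 : ℤˣ) : Wr2 R) *
          SemidirectProduct.inl (a⁻¹, a) * (SemidirectProduct.inr (-1 : ℤˣ))⁻¹) *
          (SemidirectProduct.inl (d, 1))⁻¹ := by
      rw [hσ]; group
    rw [e1, inr_conj_inl, ← map_inv, ← map_mul, ← map_mul]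
    congr 1
    ext
    · show d * a * d⁻¹ = a
      rw [hd a, mul_assoc, mul_inv_cancel, mul_one]
    · show 1 * a⁻¹ * 1⁻¹ = a⁻¹
      simp
  have hy2 : ∀ a : R, (SemidirectProduct.inl (a, a⁻¹) : Wr2 R) ^ 2 ∈
      ⁅(wr2Char χ s hs).ker, (wr2Char χ s hs).ker⁆ := by
    intro a
    have h1 : ⁅σ, (SemidirectProduct.inl (a⁻¹, a) : Wr2 R)⁆ ∈
        ⁅(wr2Char χ s hs).ker, (wr2Char χ s hs).ker⁆ := by
      apply Subgroup.commutator_mem_commutator hσK
      have := hyK a⁻¹
      rwa [inv_inv] at this
    have h2 : ⁅σ, (SemidirectProduct.inl (a⁻¹, a) : Wr2 R)⁆ =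
        (SemidirectProduct.inl (a, a⁻¹) : Wr2 R) ^ 2 := by
      rw [commutatorElement_def, hconj, ← map_inv, pow_two]
      congr 2
      ext <;> simp
    rwa [h2] at h1
  have hσ2 : σ ^ 2 ∈ ⁅(wr2Char χ s hs).ker, (wr2Char χ s hs).ker⁆ := by
    have h1 : σ ^ 2 = (SemidirectProduct.inl (c, c⁻¹) : Wr2 R) ^ 2 := by
      have e1 : σ ^ 2 = SemidirectProduct.inl (d, 1) * ((SemidirectProduct.inr (-1 : ℤˣ) : Wr2 R) *
          SemidirectProduct.inl (d, 1) * (SemidirectProduct.inr (-1 : ℤˣ))⁻¹) *
          (SemidirectProduct.inr (-1 : ℤˣ) * SemidirectProduct.inr (-1 : ℤˣ)) := by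
        rw [hσ, pow_two]; group
      rw [e1, inr_conj_inl, ← map_mul (SemidirectProduct.inr : ℤˣ →* Wr2 R)]
      have : (-1 : ℤˣ) * -1 = 1 := by decide
      rw [this, map_one, mul_one, ← map_mul, ← map_pow]
      congr 1
      ext
      · show d * 1 = c ^ 2
        rw [mul_one, hc]
      · show 1 * d = c⁻¹ ^ 2
        rw [one_mul, hc']
    rw [h1]
    exact hy2 c
  apply sqInComm_subgroup_of_closure _
    ({x | ∃ k₁ ∈ χ.ker, ∃ k₂ ∈ χ.ker, x = (SemidirectProduct.inl (k₁, k₂) : Wr2 R)} ∪
      {x | ∃ a : R, x = (SemidirectProduct.inl (a, a⁻¹) : Wr2 R)} ∪ {σ})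
  · apply le_antisymm
    · rw [Subgroup.closure_le]
      rintro x ((⟨k₁, h₁, k₂, h₂, rfl⟩ | ⟨a, rfl⟩) | hx)
      · exact hkK k₁ h₁ k₂ h₂
      · exact hyK a
      · rw [Set.mem_singleton_iff] at hx
        rw [hx]; exact hσK
    · -- every element of the kernel is a product of generators
      have key : ∀ x : Wr2 R, x ∈ (wr2Char χ s hs).ker → x.right = 1 → x ∈ Subgroup.closure
          ({x | ∃ k₁ ∈ χ.ker, ∃ k₂ ∈ χ.ker, x = (SemidirectProduct.inl (k₁, k₂) : Wr2 R)} ∪
            {x | ∃ a : R, x = (SemidirectProduct.inl (a, a⁻¹) : Wr2 R)} ∪ {σ}) := by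
        intro x hx hr
        have e1 : x = SemidirectProduct.inl (x.left.1, x.left.1⁻¹) *
            SemidirectProduct.inl (1, x.left.1 * x.left.2) := by
          rw [← map_mul]
          ext
          · simp
          · simp
          · simp [hr]
        have hx' : χ x.left.1 * χ x.left.2 = 1 := by
          have h1 : x = SemidirectProduct.inl x.left := by
            ext
            · rfl
            · rfl
            · simp [hr]
          rw [MonoidHom.mem_ker, h1, wr2Char_inl] at hx
          exact hx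
        rw [e1]
        apply Subgroup.mul_mem
        · exact Subgroup.subset_closure (Or.inl (Or.inr ⟨_, rfl⟩))
        · refine Subgroup.subset_closure (Or.inl (Or.inl ⟨1, Subgroup.one_mem _, _, ?_, rfl⟩))
          rw [MonoidHom.mem_ker, map_mul, hx']
      intro x hx
      rcases Int.units_eq_one_or x.right with hr | hr
      · exact key x hx hr
      · have h1 : x = (x * σ⁻¹) * σ := by group
        rw [h1]
        apply Subgroup.mul_mem
        · apply key
          · exact Subgroup.mul_mem _ hx (Subgroup.inv_mem _ hσK)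
          · rw [SemidirectProduct.mul_right, SemidirectProduct.inv_right, hr, hσ]
            simp
        · exact Subgroup.subset_closure (Or.inr rfl)
  · rintro g ((⟨k₁, h₁, k₂, h₂, rfl⟩ | ⟨a, rfl⟩) | hg)
    · -- squares of elements of `K × K`
      have e1 : (SemidirectProduct.inl (k₁, k₂) : Wr2 R) ^ 2 =
          (SemidirectProduct.inl.comp (MonoidHom.inl R R) : R →* Wr2 R) (k₁ ^ 2) *
          (SemidirectProduct.inl.comp (MonoidHom.inr R R) : R →* Wr2 R) (k₂ ^ 2) := by
        rw [MonoidHom.comp_apply, MonoidHom.comp_apply, ← map_mul, ← map_pow]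
        congr 1
        ext <;> simp
      rw [e1]
      apply Subgroup.mul_mem
      · have h3 : (⁅χ.ker, χ.ker⁆).map
            (SemidirectProduct.inl.comp (MonoidHom.inl R R) : R →* Wr2 R) ≤
            ⁅(wr2Char χ s hs).ker, (wr2Char χ s hs).ker⁆ := by
          rw [Subgroup.map_commutator]
          apply Subgroup.commutator_mono <;>
          · rintro _ ⟨k, hk, rfl⟩
            exact hkK k hk 1 (Subgroup.one_mem _)
        exact h3 (Subgroup.mem_map_of_mem _ (sq_mem_of_sqInComm hK h₁))
      · have h3 : (⁅χ.ker, χ.ker⁆).map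
            (SemidirectProduct.inl.comp (MonoidHom.inr R R) : R →* Wr2 R) ≤
            ⁅(wr2Char χ s hs).ker, (wr2Char χ s hs).ker⁆ := by
          rw [Subgroup.map_commutator]
          apply Subgroup.commutator_mono <;>
          · rintro _ ⟨k, hk, rfl⟩
            exact hkK 1 (Subgroup.one_mem _) k hk
        exact h3 (Subgroup.mem_map_of_mem _ (sq_mem_of_sqInComm hK h₂))
    · exact hy2 a
    · rw [Set.mem_singleton_iff] at hg
      rw [hg]; exact hσ2

/-- data for a two-valued character: the kernel has squares in its derived subgroup, the values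
are `1` or `ε`, and some involution has value `ε` -/
structure PhiData {R : Type u} {A : Type v} [Group R] [CommGroup A] (χ : R →* A) (ε : A) :
    Prop where
  sq : SqInComm χ.ker
  vals : ∀ r, χ r = 1 ∨ χ r = ε
  inv : ∃ t : R, t * t = 1 ∧ χ t = ε

theorem PhiData.sqInComm_top {R : Type u} {A : Type v} [Group R] [CommGroup A] {χ : R →* A}
    {ε : A} (h : PhiData χ ε) : SqInComm R := by
  obtain ⟨t, ht, htε⟩ := h.inv
  apply sqInComm_of_closure ((χ.ker : Set R) ∪ {t})
  · rw [eq_top_iff]
    intro x _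
    rcases h.vals x with hx | hx
    · exact Subgroup.subset_closure (Or.inl hx)
    · have h1 : x = (x * t) * t := by rw [mul_assoc, ht, mul_one]
      rw [h1]
      apply Subgroup.mul_mem
      · -- `x * t` has value `ε * ε`; use that `χ (x * t * (x * t)) = ...`; go through `t`
        rcases h.vals (x * t) with h2 | h2
        · exact Subgroup.subset_closure (Or.inl h2)
        · -- then `χ x = ε`, `χ (x t) = ε` force `χ t = 1`, so `ε = 1` and `x ∈ ker`
          have h3 : χ t = 1 := by
            have : χ (x * t) = χ x * χ t := map_mul _ _ _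
            rw [h2, hx] at this
            exact (mul_eq_left.1 this.symm)
          have h4 : ε = 1 := by rw [← htε, h3]
          have h5 : χ (x * t) = 1 := by rw [h2, h4]
          exact Subgroup.subset_closure (Or.inl h5)
      · exact Subgroup.subset_closure (Or.inr rfl)
  · rintro x (hx | hx)
    · have h1 := sq_mem_of_sqInComm h.sq hx
      rw [commutator_def]
      exact Subgroup.commutator_mono le_top le_top h1
    · rw [Set.mem_singleton_iff] at hx
      rw [hx, pow_two, ht]
      exact Subgroup.one_mem _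

theorem PhiData.prod {R : Type u} {S : Type u} {A : Type v} [Group R] [Group S] [CommGroup A]
    {χ₁ : R →* A} {χ₂ : S →* A} {ε : A} (hε : ε * ε = 1) (h₁ : PhiData χ₁ ε)
    (h₂ : PhiData χ₂ ε) : PhiData (χ₁.coprod χ₂) ε := by
  obtain ⟨t₁, ht₁, htε₁⟩ := h₁.inv
  obtain ⟨t₂, ht₂, htε₂⟩ := h₂.inv
  refine ⟨?_, ?_, ?_⟩
  · have hkK : ∀ k₁ ∈ χ₁.ker, ∀ k₂ ∈ χ₂.ker, (k₁, k₂) ∈ (χ₁.coprod χ₂).ker := by
      intro k₁ hk₁ k₂ hk₂
      rw [MonoidHom.mem_ker] at hk₁ hk₂ ⊢
      rw [MonoidHom.coprod_apply, hk₁, hk₂, one_mul]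
    have htK : (t₁, t₂) ∈ (χ₁.coprod χ₂).ker := by
      rw [MonoidHom.mem_ker, MonoidHom.coprod_apply]
      show χ₁ t₁ * χ₂ t₂ = 1
      rw [htε₁, htε₂, hε]
    apply sqInComm_subgroup_of_closure _
      ({x | x.1 ∈ χ₁.ker ∧ x.2 ∈ χ₂.ker} ∪ {(t₁, t₂)})
    · apply le_antisymm
      · rw [Subgroup.closure_le]
        rintro x (⟨hx1, hx2⟩ | hx)
        · exact hkK x.1 hx1 x.2 hx2
        · rw [Set.mem_singleton_iff] at hx
          rw [hx]; exact htK
      · intro x hx
        have hx' : χ₁ x.1 * χ₂ x.2 = 1 := by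
          rw [MonoidHom.mem_ker, MonoidHom.coprod_apply] at hx
          exact hx
        rcases h₁.vals x.1 with h1 | h1
        · refine Subgroup.subset_closure (Or.inl ⟨h1, ?_⟩)
          rw [h1, one_mul] at hx'
          exact hx'
        · -- both values are `ε`
          have h2 : χ₂ x.2 = ε := by
            rw [h1] at hx'
            have : ε * χ₂ x.2 = ε * ε := by rw [hx', hε]
            exact mul_left_cancel this
          have e1 : x = (x * (t₁, t₂)) * (t₁, t₂) := by
            rw [mul_assoc]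
            have : ((t₁, t₂) : R × S) * (t₁, t₂) = 1 := by
              ext
              · exact ht₁
              · exact ht₂
            rw [this, mul_one]
          rw [e1]
          apply Subgroup.mul_mem
          · refine Subgroup.subset_closure (Or.inl ⟨?_, ?_⟩)
            · show χ₁ (x.1 * t₁) = 1
              rw [map_mul, h1, htε₁, hε]
            · show χ₂ (x.2 * t₂) = 1
              rw [map_mul, h2, htε₂, hε]
          · exact Subgroup.subset_closure (Or.inr rfl)
    · rintro g (⟨hg1, hg2⟩ | hg)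
      · have e1 : g ^ 2 = (MonoidHom.inl R S) (g.1 ^ 2) * (MonoidHom.inr R S) (g.2 ^ 2) := by
          ext <;> simp
        rw [e1]
        apply Subgroup.mul_mem
        · have h3 : (⁅χ₁.ker, χ₁.ker⁆).map (MonoidHom.inl R S) ≤
              ⁅(χ₁.coprod χ₂).ker, (χ₁.coprod χ₂).ker⁆ := by
            rw [Subgroup.map_commutator]
            apply Subgroup.commutator_mono <;>
            · rintro _ ⟨k, hk, rfl⟩
              exact hkK k hk 1 (Subgroup.one_mem _)
          exact h3 (Subgroup.mem_map_of_mem _ (sq_mem_of_sqInComm h₁.sq hg1))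
        · have h3 : (⁅χ₂.ker, χ₂.ker⁆).map (MonoidHom.inr R S) ≤
              ⁅(χ₁.coprod χ₂).ker, (χ₁.coprod χ₂).ker⁆ := by
            rw [Subgroup.map_commutator]
            apply Subgroup.commutator_mono <;>
            · rintro _ ⟨k, hk, rfl⟩
              exact hkK 1 (Subgroup.one_mem _) k hk
          exact h3 (Subgroup.mem_map_of_mem _ (sq_mem_of_sqInComm h₂.sq hg2))
      · rw [Set.mem_singleton_iff] at hg
        have : g ^ 2 = 1 := by
          rw [hg, pow_two]
          ext
          · exact ht₁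
          · exact ht₂
        rw [this]
        exact Subgroup.one_mem _
  · intro r
    rw [MonoidHom.coprod_apply]
    rcases h₁.vals r.1 with h1 | h1 <;> rcases h₂.vals r.2 with h2 | h2 <;> rw [h1, h2]
    · left; rw [one_mul]
    · right; rw [one_mul]
    · right; rw [mul_one]
    · left; exact hε
  · refine ⟨(t₁, 1), ?_, ?_⟩
    · ext
      · exact ht₁
      · simp
    · rw [MonoidHom.coprod_apply]
      show χ₁ t₁ * χ₂ 1 = ε
      rw [map_one, mul_one, htε₁]

theorem PhiData.wr2 {R : Type u} {A : Type v} [Group R] [CommGroup A]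
    {χ : R →* A} {ε : A} (hε : ε * ε = 1) (h : PhiData χ ε) :
    PhiData (wr2Char χ 1 (one_mul 1)) ε := by
  obtain ⟨t, ht, htε⟩ := h.inv
  refine ⟨?_, ?_, ?_⟩
  · exact sqInComm_ker_wr2Char χ 1 (one_mul 1) h.sq 1 1 (fun a => by rw [one_mul, mul_one])
      (map_one χ) (one_pow 2) (by rw [inv_one, one_pow])
  · intro r
    have e1 : wr2Char χ 1 (one_mul 1) r = χ r.left.1 * χ r.left.2 := by
      conv_lhs => rw [← SemidirectProduct.inl_left_mul_inr_right r]
      rw [map_mul, wr2Char_inl]
      rcases Int.units_eq_one_or r.right with hr | hr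
      · rw [hr, map_one, map_one, mul_one]
      · rw [hr, wr2Char_inr_neg, mul_one]
    rw [e1]
    rcases h.vals r.left.1 with h1 | h1 <;> rcases h.vals r.left.2 with h2 | h2 <;> rw [h1, h2]
    · left; rw [one_mul]
    · right; rw [one_mul]
    · right; rw [mul_one]
    · left; exact hε
  · refine ⟨SemidirectProduct.inl (t, 1), ?_, ?_⟩
    · rw [← map_mul]
      have : ((t, 1) : R × R) * (t, 1) = 1 := by
        ext
        · exact ht
        · simp
      rw [this, map_one]
    · rw [wr2Char_inl]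
      show χ t * χ 1 = ε
      rw [map_one, mul_one, htε]

end Cfsg.Agent.Helper23.SqComm
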