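import Mathlib
import Cfsg.Agent.Lib.Helper23.SpShape
import Cfsg.Agent.Lib.Helper23.KerSq

set_option autoImplicit false
set_option linter.style.haveILetI false

/-!
# Embeddings into general linear groups with prescribed determinant character
-/

namespace Cfsg.Agent.Helper23.SpShape

open Matrix Cfsg.Agent.Helper23.SqComm

universe u

variable {F : Type u} [Field F]

theorem det_swap_blocks (I : Type) [Fintype I] [DecidableEq I] :
    Matrix.det (fromBlocks (0 : Matrix I I F) (1 : Matrix I I F) (1 : Matrix I I F)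
      (0 : Matrix I I F)) = (-1) ^ Fintype.card I := by
  have h : fromBlocks (0 : Matrix I I F) (1 : Matrix I I F) (1 : Matrix I I F)
      (0 : Matrix I I F) =
      fromBlocks (1 : Matrix I I F) (-1 : Matrix I I F) (0 : Matrix I I F) (1 : Matrix I I F) *
        fromBlocks (1 : Matrix I I F) (0 : Matrix I I F) (1 : Matrix I I F) (1 : Matrix I I F) *
        fromBlocks (1 : Matrix I I F) (1 : Matrix I I F) (0 : Matrix I I F)
          (-1 : Matrix I I F) := by
    rw [fromBlocks_multiply, fromBlocks_multiply]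
    simp
  rw [h, det_mul, det_mul, det_fromBlocks_zero₂₁, det_fromBlocks_zero₁₂, det_fromBlocks_zero₂₁,
    det_one, det_neg, det_one]
  simp

/-- `R` embeds in `GL(I)` with determinant given by `χ` -/
def EmbD (R : Type u) [Group R] (χ : R →* Fˣ) (I : Type) [Fintype I] [DecidableEq I] : Prop :=
  ∃ f : R →* (Matrix I I F)ˣ, Function.Injective f ∧
    ∀ r, Matrix.det ((f r : (Matrix I I F)ˣ) : Matrix I I F) = ((χ r : Fˣ) : F)

theorem EmbD.reindex {R : Type u} [Group R] {χ : R →* Fˣ} {I I' : Type} [Fintype I]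
    [DecidableEq I] [Fintype I'] [DecidableEq I'] (e : I ≃ I') (h : EmbD R χ I) :
    EmbD R χ I' := by
  obtain ⟨f, hf, hd⟩ := h
  refine ⟨(Units.mapEquiv (Matrix.reindexAlgEquiv F F e).toMulEquiv).toMonoidHom.comp f, ?_, ?_⟩
  · exact (Units.mapEquiv (Matrix.reindexAlgEquiv F F e).toMulEquiv).injective.comp hf
  · intro r
    show Matrix.det (Matrix.reindex e e ((f r : (Matrix I I F)ˣ) : Matrix I I F)) = _
    rw [Matrix.det_reindex_self, hd]

theorem EmbD.prod {R S : Type u} [Group R] [Group S] {χ₁ : R →* Fˣ} {χ₂ : S →* Fˣ}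
    {I₁ I₂ : Type} [Fintype I₁] [DecidableEq I₁] [Fintype I₂] [DecidableEq I₂]
    (h₁ : EmbD R χ₁ I₁) (h₂ : EmbD S χ₂ I₂) : EmbD (R × S) (χ₁.coprod χ₂) (I₁ ⊕ I₂) := by
  obtain ⟨f₁, hf₁, hd₁⟩ := h₁
  obtain ⟨f₂, hf₂, hd₂⟩ := h₂
  refine ⟨(blockGL I₁ I₂).comp (f₁.prodMap f₂), ?_, ?_⟩
  · exact blockGL_injective.comp (Prod.map_injective.2 ⟨hf₁, hf₂⟩)
  · intro r
    show Matrix.det (fromBlocks ((f₁ r.1 : (Matrix I₁ I₁ F)ˣ) : Matrix I₁ I₁ F) 0 0
      ((f₂ r.2 : (Matrix I₂ I₂ F)ˣ) : Matrix I₂ I₂ F)) = _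
    rw [det_fromBlocks_zero₂₁, hd₁, hd₂, MonoidHom.coprod_apply, Units.val_mul]

theorem EmbD.wr {R : Type u} [Group R] {χ : R →* Fˣ} {I : Type} [Fintype I] [DecidableEq I]
    [Nonempty I] (s : Fˣ) (hs : s * s = 1) (hsI : ((s : Fˣ) : F) = (-1) ^ Fintype.card I)
    (h : EmbD R χ I) : EmbD (Wr2 R) (wr2Char χ s hs) (I ⊕ I) := by
  obtain ⟨f, hf, hd⟩ := h
  have hc : ∀ a b : R, ((blockGL I I).comp (f.prodMap f)) (b, a) =
      swapUnit I * ((blockGL I I).comp (f.prodMap f)) (a, b) * (swapUnit I)⁻¹ := by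
    intro a b
    exact swapUnit_conj (f a) (f b)
  refine ⟨wr2Lift ((blockGL I I).comp (f.prodMap f)) (swapUnit I) (swapUnit_mul_self I) hc,
    ?_, ?_⟩
  · apply wr2Lift_injective
    · exact blockGL_injective.comp (Prod.map_injective.2 ⟨hf, hf⟩)
    · rintro ⟨p, hp⟩
      exact swapUnit_notMem_range ⟨_, hp⟩
  · intro r
    rw [wr2Lift_apply, Units.val_mul, det_mul]
    have e1 : Matrix.det ((((blockGL I I).comp (f.prodMap f)) r.left :
        (Matrix (I ⊕ I) (I ⊕ I) F)ˣ) : Matrix (I ⊕ I) (I ⊕ I) F) =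
        ((χ r.left.1 : Fˣ) : F) * ((χ r.left.2 : Fˣ) : F) := by
      show Matrix.det (fromBlocks ((f r.left.1 : (Matrix I I F)ˣ) : Matrix I I F) 0 0
        ((f r.left.2 : (Matrix I I F)ˣ) : Matrix I I F)) = _
      rw [det_fromBlocks_zero₂₁, hd, hd]
    rw [e1]
    have e2 : wr2Char χ s hs r = χ r.left.1 * χ r.left.2 * invHom s hs r.right := by
      rw [wr2Char, wr2Lift_apply, MonoidHom.coprod_apply]
    rw [e2, Units.val_mul, Units.val_mul]
    congr 1
    rcases Int.units_eq_one_or r.right with hr | hr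
    · rw [hr, invHom_one, invHom_one]
      simp
    · rw [hr, invHom_neg_one, invHom_neg_one, hsI]
      exact det_swap_blocks I

end Cfsg.Agent.Helper23.SpShape
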