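import Mathlib
import Cfsg.Agent.Lib.Helper23.GLShape
import Cfsg.Agent.Lib.Helper2.CardSL

set_option autoImplicit false
set_option linter.style.haveILetI false

/-!
# From a 2-subgroup of `GL_n(F)` of full order to a Sylow 2-subgroup of `SL_n(F)`
-/

namespace Cfsg.Agent.Helper23.SpShape

open Matrix Cfsg.Agent.Helper23.SqComm

universe u

variable {F : Type u} [Field F]

theorem EmbD.kerToSL {R : Type u} [Group R] {χ : R →* Fˣ} {n : ℕ} (h : EmbD R χ (Fin n)) :
    ∃ g : χ.ker →* Matrix.SpecialLinearGroup (Fin n) F, Function.Injective g := by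
  obtain ⟨f, hf, hd⟩ := h
  have hdet : ∀ r : χ.ker, Matrix.det ((f r.1 : (Matrix (Fin n) (Fin n) F)ˣ) :
      Matrix (Fin n) (Fin n) F) = 1 := by
    intro r
    rw [hd, MonoidHom.mem_ker.1 r.2, Units.val_one]
  refine ⟨{ toFun := fun r => ⟨((f r.1 : (Matrix (Fin n) (Fin n) F)ˣ) :
      Matrix (Fin n) (Fin n) F), hdet r⟩
            map_one' := by
              apply Subtype.ext
              show ((f (1 : R) : (Matrix (Fin n) (Fin n) F)ˣ) : Matrix (Fin n) (Fin n) F) = 1
              rw [map_one, Units.val_one]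
            map_mul' := by
              intro a b
              apply Subtype.ext
              show ((f (a.1 * b.1) : (Matrix (Fin n) (Fin n) F)ˣ) : Matrix (Fin n) (Fin n) F) = _
              rw [map_mul, Units.val_mul]
              rfl }, ?_⟩
  intro a b hab
  apply Subtype.ext
  apply hf
  apply Units.ext
  exact congrArg Subtype.val hab

/-- a 2-group of the order of a Sylow 2-subgroup of `GL_n(F)`, embedded in `GL_n(F)`: the kernel
of the determinant is isomorphic to every Sylow 2-subgroup of `SL_n(F)` -/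
theorem sylow_SL_of_emb [Fintype F] {R : Type u} [Group R] [Finite R] {χ : R →* Fˣ} {n : ℕ}
    (hn : 1 ≤ n) (h : EmbD R χ (Fin n))
    (hcard : Nat.card R = 2 ^ (Nat.card (GL (Fin n) F)).factorization 2)
    (P : Sylow 2 (Matrix.SpecialLinearGroup (Fin n) F)) :
    Nonempty (χ.ker ≃* (P : Subgroup (Matrix.SpecialLinearGroup (Fin n) F))) := by
  classical
  haveI : Fact (Nat.Prime 2) := ⟨Nat.prime_two⟩
  haveI : Nonempty (Fin n) := ⟨⟨0, by omega⟩⟩
  obtain ⟨g, hg⟩ := h.kerToSL
  have hGL := Cfsg.Agent.Helper2.card_GL_eq_card_SL_mul (n := Fin n) (F := F)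
  have hSL0 : Nat.card (Matrix.SpecialLinearGroup (Fin n) F) ≠ 0 := Nat.card_pos.ne'
  have hU0 : Nat.card Fˣ ≠ 0 := Nat.card_pos.ne'
  have hfac : (Nat.card (GL (Fin n) F)).factorization 2 =
      (Nat.card (Matrix.SpecialLinearGroup (Fin n) F)).factorization 2 +
        (Nat.card Fˣ).factorization 2 := by
    rw [hGL, Nat.factorization_mul hSL0 hU0]
    rfl
  have hmul : Nat.card χ.ker * Nat.card χ.range = Nat.card R := by
    rw [← Subgroup.index_ker, Subgroup.card_mul_index]
  have hker_dvd : Nat.card χ.ker ∣ 2 ^ (Nat.card (GL (Fin n) F)).factorization 2 := by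
    rw [← hcard, ← hmul]; exact dvd_mul_right _ _
  have hrange_dvd : Nat.card χ.range ∣ 2 ^ (Nat.card (GL (Fin n) F)).factorization 2 := by
    rw [← hcard, ← hmul]; exact dvd_mul_left _ _
  obtain ⟨k₁, -, hk₁⟩ := (Nat.dvd_prime_pow Nat.prime_two).1 hker_dvd
  obtain ⟨k₂, -, hk₂⟩ := (Nat.dvd_prime_pow Nat.prime_two).1 hrange_dvd
  have hsum : k₁ + k₂ = (Nat.card (GL (Fin n) F)).factorization 2 := by
    have : 2 ^ (k₁ + k₂) = 2 ^ (Nat.card (GL (Fin n) F)).factorization 2 := by
      rw [pow_add, ← hk₁, ← hk₂, hmul, hcard]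
    exact Nat.pow_right_injective (le_refl 2) this
  have hk₂le : k₂ ≤ (Nat.card Fˣ).factorization 2 := by
    rw [← Nat.Prime.pow_dvd_iff_le_factorization Nat.prime_two hU0, ← hk₂]
    exact Subgroup.card_subgroup_dvd_card _
  have hcardrange : Nat.card g.range = Nat.card χ.ker :=
    (Nat.card_congr (MonoidHom.ofInjective hg).toEquiv).symm
  have hk₁le : k₁ ≤ (Nat.card (Matrix.SpecialLinearGroup (Fin n) F)).factorization 2 := by
    rw [← Nat.Prime.pow_dvd_iff_le_factorization Nat.prime_two hSL0, ← hk₁, ← hcardrange]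
    exact Subgroup.card_subgroup_dvd_card _
  have hk₁eq : k₁ = (Nat.card (Matrix.SpecialLinearGroup (Fin n) F)).factorization 2 := by
    omega
  have hc2 : Nat.card g.range =
      2 ^ (Nat.card (Matrix.SpecialLinearGroup (Fin n) F)).factorization 2 := by
    rw [hcardrange, hk₁, hk₁eq]
  let P₀ : Sylow 2 (Matrix.SpecialLinearGroup (Fin n) F) := Sylow.ofCard g.range hc2
  exact ⟨(MonoidHom.ofInjective hg).trans (Sylow.equiv P₀ P)⟩

/-- variant: the order of the kernel is known -/
theorem sylow_SL_of_ker_card [Fintype F] {R : Type u} [Group R] {χ : R →* Fˣ} {n : ℕ}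
    (h : EmbD R χ (Fin n))
    (hcard : Nat.card χ.ker =
      2 ^ (Nat.card (Matrix.SpecialLinearGroup (Fin n) F)).factorization 2)
    (P : Sylow 2 (Matrix.SpecialLinearGroup (Fin n) F)) :
    Nonempty (χ.ker ≃* (P : Subgroup (Matrix.SpecialLinearGroup (Fin n) F))) := by
  classical
  haveI : Fact (Nat.Prime 2) := ⟨Nat.prime_two⟩
  obtain ⟨g, hg⟩ := h.kerToSL
  have hcardrange : Nat.card g.range = Nat.card χ.ker :=
    (Nat.card_congr (MonoidHom.ofInjective hg).toEquiv).symm
  have hc2 : Nat.card g.range =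
      2 ^ (Nat.card (Matrix.SpecialLinearGroup (Fin n) F)).factorization 2 := by
    rw [hcardrange, hcard]
  let P₀ : Sylow 2 (Matrix.SpecialLinearGroup (Fin n) F) := Sylow.ofCard g.range hc2
  exact ⟨(MonoidHom.ofInjective hg).trans (Sylow.equiv P₀ P)⟩

/-- adding a `1 × 1` block making the determinant trivial -/
theorem EmbD.augment {R : Type u} [Group R] {χ : R →* Fˣ} {I : Type} [Fintype I]
    [DecidableEq I] (h : EmbD R χ I) : EmbD R (1 : R →* Fˣ) (I ⊕ Unit) := by
  obtain ⟨f, hf, hd⟩ := h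
  let sc : Fˣ →* (Matrix Unit Unit F)ˣ := Units.map (Matrix.scalar Unit : F →+* Matrix Unit Unit F)
  refine ⟨(blockGL I Unit).comp (f.prod (sc.comp χ⁻¹)), ?_, ?_⟩
  · intro a b hab
    have := blockGL_injective hab
    exact hf (congrArg Prod.fst this)
  · intro r
    show Matrix.det (fromBlocks ((f r : (Matrix I I F)ˣ) : Matrix I I F) 0 0
      (Matrix.scalar Unit (((χ⁻¹ r : Fˣ)) : F))) = _
    rw [det_fromBlocks_zero₂₁, hd, Matrix.scalar_apply, Matrix.det_diagonal]
    simp

end Cfsg.Agent.Helper23.SpShape
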