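import Mathlib
import Cfsg.Agent.Lib.Helper23.SL2Sylow2
import Cfsg.Agent.Lib.Helper23.GLVal
import Cfsg.Agent.Lib.Helper23.SLKer

set_option autoImplicit false
set_option linter.style.haveILetI false

/-!
# Sylow 2-subgroups of `SL_n(F)`, `|F|` odd: squares lie in the derived subgroup
-/

namespace Cfsg.Agent.Helper23.SpShape

open Matrix Cfsg.Agent.Helper23.SqComm

universe u

variable {F : Type u} [Field F]

theorem v2_card_GL [Fintype F] (hF : Odd (Fintype.card F)) (n : ℕ) :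
    (Nat.card (GL (Fin n) F)).factorization 2 = gv (Fintype.card F) n := by
  rw [Matrix.card_GL_field, Nat.factorization_def _ Nat.prime_two]
  exact v2_prod_GL _ n hF Fintype.one_lt_card

theorem sqInComm_ker_one {T : Type u} {A : Type*} [Group T] [Group A] (h : SqInComm T) :
    SqInComm (1 : T →* A).ker := by
  have hmem : ∀ x : T, x ∈ (1 : T →* A).ker := fun x => by
    rw [MonoidHom.mem_ker]; rfl
  let g : T →* (1 : T →* A).ker :=
    { toFun := fun x => ⟨x, hmem x⟩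
      map_one' := rfl
      map_mul' := fun _ _ => rfl }
  apply h.of_surjective g
  rintro ⟨x, hx⟩
  exact ⟨x, rfl⟩

theorem sqInComm_of_ker_eq_bot {T : Type u} {A : Type*} [Group T] [Group A] (χ : T →* A)
    (h : Function.Injective χ) : SqInComm χ.ker := by
  intro x
  have : x = 1 := by
    apply Subtype.ext
    apply h
    rw [MonoidHom.mem_ker.1 x.2, Subgroup.coe_one, map_one]
  rw [this, one_pow]
  exact Subgroup.one_mem _

/-- `diag(1, -1)` as an invertible matrix -/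
def t0 : (Matrix (Fin 2) (Fin 2) F)ˣ where
  val := !![1, 0; 0, -1]
  inv := !![1, 0; 0, -1]
  val_inv := by ext i j; fin_cases i <;> fin_cases j <;> simp
  inv_val := by ext i j; fin_cases i <;> fin_cases j <;> simp

theorem t0_mul_self : (t0 : (Matrix (Fin 2) (Fin 2) F)ˣ) * t0 = 1 := by
  apply Units.ext
  exact t0.val_inv

theorem units_sq_eq_one {y : Fˣ} (h : y ^ 2 = 1) : y = 1 ∨ y = -1 := by
  have h1 : ((y : Fˣ) : F) ^ 2 = 1 := by
    rw [← Units.val_pow_eq_pow_val, h, Units.val_one]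
  have h2 : (((y : Fˣ) : F) - 1) * (((y : Fˣ) : F) + 1) = 0 := by linear_combination h1
  rcases mul_eq_zero.1 h2 with h3 | h3
  · left
    apply Units.ext
    rw [Units.val_one]
    linear_combination h3
  · right
    apply Units.ext
    rw [Units.val_neg, Units.val_one]
    linear_combination h3

/-- a `2`-element of `Fˣ` when `q ≡ 3 (mod 4)` is `±1` -/
theorem two_elt_units_of_three [Fintype F] (hq : Fintype.card F % 4 = 3) (y : Fˣ) (k : ℕ)
    (hy : y ^ 2 ^ k = 1) : y = 1 ∨ y = -1 := by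
  classical
  apply units_sq_eq_one
  have h1 : orderOf y ∣ 2 ^ k := orderOf_dvd_of_pow_eq_one hy
  have h2 : orderOf y ∣ Fintype.card F - 1 := by
    rw [← Fintype.card_units]
    exact orderOf_dvd_card
  obtain ⟨i, -, hi⟩ := (Nat.dvd_prime_pow Nat.prime_two).1 h1
  have hi1 : i ≤ 1 := by
    by_contra hcon
    have h4 : 4 ∣ orderOf y := by
      rw [hi]
      exact pow_dvd_pow 2 (show 2 ≤ i by omega)
    have := dvd_trans h4 h2
    omega
  have h3 : orderOf y ∣ 2 := by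
    rw [hi]
    exact pow_dvd_pow 2 hi1
  exact orderOf_dvd_iff_pow_eq_one.1 h3

theorem base_three [Fintype F] (hF : Odd (Fintype.card F)) (hq : Fintype.card F % 4 = 3) :
    ∃ (R : Sylow 2 (GL (Fin 2) F)) (χ : (R : Subgroup (GL (Fin 2) F)) →* Fˣ),
      EmbD (R : Subgroup (GL (Fin 2) F)) χ (Fin 2) ∧ PhiData χ (-1) ∧
      Nat.card (R : Subgroup (GL (Fin 2) F)) = 2 ^ (cq (Fintype.card F) + 1) := by
  classical
  haveI : Fact (Nat.Prime 2) := ⟨Nat.prime_two⟩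
  have hp : IsPGroup 2 (Subgroup.zpowers (t0 : GL (Fin 2) F)) := by
    rintro ⟨g, hg⟩
    obtain ⟨i, rfl⟩ := Subgroup.mem_zpowers_iff.1 hg
    refine ⟨1, ?_⟩
    apply Subtype.ext
    show ((t0 : GL (Fin 2) F) ^ i) ^ 2 ^ 1 = 1
    rw [pow_one, ← zpow_natCast, ← _root_.zpow_mul, mul_comm, _root_.zpow_mul]
    have : (t0 : GL (Fin 2) F) ^ ((2 : ℕ) : ℤ) = 1 := by
      rw [zpow_natCast, pow_two]
      exact t0_mul_self
    rw [this, _root_.one_zpow]
  obtain ⟨R, hR⟩ := hp.exists_le_sylow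
  have ht0R : (t0 : GL (Fin 2) F) ∈ (R : Subgroup (GL (Fin 2) F)) :=
    hR (Subgroup.mem_zpowers _)
  obtain ⟨χ, hχ⟩ : ∃ χ : (R : Subgroup (GL (Fin 2) F)) →* Fˣ,
      χ = (Matrix.GeneralLinearGroup.det).comp (R : Subgroup (GL (Fin 2) F)).subtype := ⟨_, rfl⟩
  have hemb : EmbD (R : Subgroup (GL (Fin 2) F)) χ (Fin 2) := by
    refine ⟨(R : Subgroup (GL (Fin 2) F)).subtype, Subtype.val_injective, ?_⟩
    intro r
    rw [hχ]
    rfl
  have hcardR : Nat.card (R : Subgroup (GL (Fin 2) F)) =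
      2 ^ (Nat.card (GL (Fin 2) F)).factorization 2 := R.card_eq_multiplicity
  refine ⟨R, χ, hemb, ⟨?_, ?_, ?_⟩, ?_⟩
  · obtain ⟨e⟩ := sylow_SL_of_emb (by norm_num : 1 ≤ 2) hemb hcardR
        (default : Sylow 2 (Matrix.SpecialLinearGroup (Fin 2) F))
    exact (sqInComm_sylow_sl2 hF default).of_surjective e.symm.toMonoidHom e.symm.surjective
  · intro r
    obtain ⟨k, hk⟩ := R.isPGroup' r
    apply two_elt_units_of_three hq (χ r) k
    rw [← map_pow, hk, map_one]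
  · refine ⟨⟨t0, ht0R⟩, ?_, ?_⟩
    · apply Subtype.ext
      exact t0_mul_self
    · rw [hχ]
      apply Units.ext
      show Matrix.det (!![1, 0; 0, -1] : Matrix (Fin 2) (Fin 2) F) = _
      rw [Matrix.det_fin_two]
      simp
  · rw [hcardR, v2_card_GL hF]
    have := gv_even_three (Fintype.card F) hq 1
    rw [Kc_one] at this
    rw [show (2 : ℕ) = 2 * 1 from rfl, this]

/-- the recursion for `q ≡ 3 (mod 4)`: a 2-group of the order of a Sylow 2-subgroup of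
`GL_{2m}(F)` inside `GL_{2m}(F)` with the kernel data -/
theorem shape_three [Fintype F] (hF : Odd (Fintype.card F)) (hq : Fintype.card F % 4 = 3)
    (m : ℕ) (hm : 1 ≤ m) :
    ∃ (B : BGrp.{u}) (χ : B.T →* Fˣ), Finite B.T ∧ EmbD B.T χ (Fin (2 * m)) ∧
      PhiData χ (-1) ∧ Nat.card B.T = 2 ^ Kc (cq (Fintype.card F) + 1) m := by
  classical
  obtain ⟨R, χ₀, hemb₀, hphi₀, hcard₀⟩ := base_three hF hq
  have hε : (-1 : Fˣ) * (-1) = 1 := by simp
  obtain ⟨s, hs1, -, -, χ, hemb, hphi⟩ := Shape.exists_of_closed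
    (fun s a => ∃ χ : (s.grp (R : Subgroup (GL (Fin 2) F))).T →* Fˣ,
      EmbD (s.grp (R : Subgroup (GL (Fin 2) F))).T χ (Fin (2 * a)) ∧ PhiData χ (-1))
    (cq (Fintype.card F) + 1)
    ⟨χ₀, hemb₀.reindex (finCongr (by norm_num)), hphi₀⟩
    (by
      rintro s t a b ha hb ⟨χ₁, e₁, p₁⟩ ⟨χ₂, e₂, p₂⟩
      refine ⟨χ₁.coprod χ₂, ?_, PhiData.prod hε p₁ p₂⟩
      exact (EmbD.prod e₁ e₂).reindex (finSumFinEquiv.trans (finCongr (by ring))))
    (by
      rintro s a ha ⟨χ₁, e₁, p₁⟩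
      haveI : Nonempty (Fin (2 * a)) := ⟨⟨0, by omega⟩⟩
      refine ⟨wr2Char χ₁ 1 (one_mul 1), ?_, PhiData.wr2 hε p₁⟩
      have hsI : (((1 : Fˣ) : Fˣ) : F) = (-1) ^ Fintype.card (Fin (2 * a)) := by
        rw [Fintype.card_fin, pow_mul]
        simp
      exact (EmbD.wr 1 (one_mul 1) hsI e₁).reindex (finSumFinEquiv.trans (finCongr (by ring))))
    m hm
  refine ⟨s.grp (R : Subgroup (GL (Fin 2) F)), χ, Shape.finite _ s, hemb, hphi, ?_⟩
  rw [Shape.card_grp _ _ hcard₀ s, hs1]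

theorem sqInComm_sylow_SL_even_three [Fintype F] (hF : Odd (Fintype.card F))
    (hq : Fintype.card F % 4 = 3) (m : ℕ) (hm : 1 ≤ m)
    (P : Sylow 2 (Matrix.SpecialLinearGroup (Fin (2 * m)) F)) :
    SqInComm (P : Subgroup (Matrix.SpecialLinearGroup (Fin (2 * m)) F)) := by
  obtain ⟨B, χ, hfin, hemb, hphi, hcard⟩ := shape_three hF hq m hm
  have hc : Nat.card B.T = 2 ^ (Nat.card (GL (Fin (2 * m)) F)).factorization 2 := by
    rw [hcard, v2_card_GL hF, gv_even_three _ hq]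
  obtain ⟨e⟩ := sylow_SL_of_emb (by omega) hemb hc P
  exact hphi.sq.of_surjective e.toMonoidHom e.surjective

theorem v2_card_SL [Fintype F] (hF : Odd (Fintype.card F)) (n : ℕ) (hn : 1 ≤ n) :
    (Nat.card (Matrix.SpecialLinearGroup (Fin n) F)).factorization 2 +
      padicValNat 2 (Fintype.card F - 1) = gv (Fintype.card F) n := by
  classical
  haveI : Nonempty (Fin n) := ⟨⟨0, by omega⟩⟩
  have hGL := Cfsg.Agent.Helper2.card_GL_eq_card_SL_mul (n := Fin n) (F := F)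
  have hSL0 : Nat.card (Matrix.SpecialLinearGroup (Fin n) F) ≠ 0 := Nat.card_pos.ne'
  have hU0 : Nat.card Fˣ ≠ 0 := Nat.card_pos.ne'
  rw [← v2_card_GL hF, hGL, Nat.factorization_mul hSL0 hU0, Cfsg.Agent.Helper2.card_units_field,
    Nat.factorization_def _ Nat.prime_two]
  rfl

theorem sqInComm_sylow_SL_odd_three [Fintype F] (hF : Odd (Fintype.card F))
    (hq : Fintype.card F % 4 = 3) (m : ℕ) (hm : 1 ≤ m)
    (P : Sylow 2 (Matrix.SpecialLinearGroup (Fin (2 * m + 1)) F)) :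
    SqInComm (P : Subgroup (Matrix.SpecialLinearGroup (Fin (2 * m + 1)) F)) := by
  obtain ⟨B, χ, hfin, hemb, hphi, hcard⟩ := shape_three hF hq m hm
  have hemb' : EmbD B.T (1 : B.T →* Fˣ) (Fin (2 * m + 1)) :=
    hemb.augment.reindex
      ((Equiv.sumCongr (Equiv.refl _) (Equiv.ofUnique Unit (Fin 1))).trans finSumFinEquiv)
  have hv := v2_card_SL hF (2 * m + 1) (by omega)
  rw [gv_odd_three _ hq, v2_of_mod_four_eq_two (by omega : (Fintype.card F - 1) % 4 = 2)] at hv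
  have hc : Nat.card (1 : B.T →* Fˣ).ker =
      2 ^ (Nat.card (Matrix.SpecialLinearGroup (Fin (2 * m + 1)) F)).factorization 2 := by
    rw [MonoidHom.ker_one, Subgroup.card_top, hcard]
    congr 1
    omega
  obtain ⟨e⟩ := sylow_SL_of_ker_card hemb' hc P
  exact (sqInComm_ker_one hphi.sqInComm_top).of_surjective e.toMonoidHom e.surjective

/-! ### the case `q ≡ 1 (mod 4)`, `n` a power of two -/

theorem mem_sylow_units [Fintype F] (C : Sylow 2 Fˣ) (y : Fˣ) (k : ℕ) (hy : y ^ 2 ^ k = 1) :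
    y ∈ (C : Subgroup Fˣ) := by
  classical
  haveI : Fact (Nat.Prime 2) := ⟨Nat.prime_two⟩
  have hp : IsPGroup 2 (Subgroup.zpowers y) := by
    rintro ⟨g, hg⟩
    obtain ⟨i, rfl⟩ := Subgroup.mem_zpowers_iff.1 hg
    refine ⟨k, ?_⟩
    apply Subtype.ext
    show (y ^ i) ^ 2 ^ k = 1
    rw [← zpow_natCast, ← _root_.zpow_mul, mul_comm, _root_.zpow_mul, zpow_natCast, hy,
      _root_.one_zpow]
  obtain ⟨Q, hQ⟩ := hp.exists_le_sylow
  haveI := Sylow.unique_of_normal C (Subgroup.normal_of_isMulCommutative _)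
  have : Q = C := Subsingleton.elim _ _
  rw [← this]
  exact hQ (Subgroup.mem_zpowers y)

theorem embD_units {R : Type u} [Group R] (χ : R →* Fˣ) (hχ : Function.Injective χ) :
    EmbD R χ (Fin 1) := by
  refine ⟨(Units.map (Matrix.scalar (Fin 1) : F →+* Matrix (Fin 1) (Fin 1) F)).comp χ, ?_, ?_⟩
  · intro a b hab
    apply hχ
    apply Units.ext
    have h1 := congrArg (fun x : (Matrix (Fin 1) (Fin 1) F)ˣ =>
      (x : Matrix (Fin 1) (Fin 1) F) 0 0) hab
    simpa using h1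
  · intro r
    show Matrix.det (Matrix.scalar (Fin 1) (((χ r : Fˣ)) : F)) = _
    rw [Matrix.scalar_apply, Matrix.det_diagonal]
    simp

theorem base_one [Fintype F] (hq : Fintype.card F % 4 = 1) :
    ∃ (B : BGrp.{u}) (χ : B.T →* Fˣ), Finite B.T ∧ EmbD B.T χ (Fin (2 ^ 1)) ∧
      SqInComm χ.ker ∧ Nat.card B.T = 2 ^ Kc (padicValNat 2 (Fintype.card F - 1)) (2 ^ 1) := by
  classical
  haveI : Fact (Nat.Prime 2) := ⟨Nat.prime_two⟩
  obtain ⟨C, -⟩ : ∃ C : Sylow 2 Fˣ, C = default := ⟨_, rfl⟩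
  obtain ⟨i, hi⟩ := FiniteField.isSquare_neg_one_iff.2 (by omega : Fintype.card F % 4 ≠ 3)
  have hi0 : i ≠ 0 := by
    intro h
    rw [h, mul_zero] at hi
    have : (1 : F) = 0 := by linear_combination -hi
    exact one_ne_zero this
  have hs : (-1 : Fˣ) * (-1) = 1 := by simp
  have hd_mem : (-1 : Fˣ) ∈ (C : Subgroup Fˣ) := mem_sylow_units C (-1) 1 (by simp)
  have hc_mem : Units.mk0 i hi0 ∈ (C : Subgroup Fˣ) := by
    apply mem_sylow_units C _ 2
    apply Units.ext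
    rw [Units.val_pow_eq_pow_val, Units.val_mk0, Units.val_one]
    have : i ^ 2 ^ 2 = (i * i) * (i * i) := by ring
    rw [this, ← hi]
    ring
  have hK : SqInComm ((C : Subgroup Fˣ).subtype).ker :=
    sqInComm_of_ker_eq_bot _ Subtype.val_injective
  have hsq : ((⟨Units.mk0 i hi0, hc_mem⟩ : (C : Subgroup Fˣ)) ^ 2 = ⟨-1, hd_mem⟩) := by
    apply Subtype.ext
    apply Units.ext
    show (i ^ 2 : F) = ((-1 : Fˣ) : F)
    rw [Units.val_neg, Units.val_one, hi]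
    ring
  have hdd : (⟨-1, hd_mem⟩ : (C : Subgroup Fˣ))⁻¹ = ⟨-1, hd_mem⟩ := by
    apply Subtype.ext
    show (-1 : Fˣ)⁻¹ = -1
    rw [inv_eq_iff_mul_eq_one, hs]
  have h1 := sqInComm_ker_wr2Char (C : Subgroup Fˣ).subtype (-1) hs hK ⟨-1, hd_mem⟩
    ⟨Units.mk0 i hi0, hc_mem⟩ (fun a => mul_comm _ _) rfl hsq (by rw [inv_pow, hsq, hdd])
  have hsI : (((-1 : Fˣ) : Fˣ) : F) = (-1) ^ Fintype.card (Fin 1) := by simp
  have h2 := (EmbD.wr (-1 : Fˣ) hs hsI
    (embD_units (C : Subgroup Fˣ).subtype Subtype.val_injective)).reindex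
    (finSumFinEquiv.trans (finCongr (by norm_num : 1 + 1 = 2 ^ 1)))
  refine ⟨⟨Wr2 (C : Subgroup Fˣ)⟩, wr2Char (C : Subgroup Fˣ).subtype (-1) hs,
    (Finite.of_equiv _ SemidirectProduct.equivProd.symm : Finite (Wr2 (C : Subgroup Fˣ))),
    h2, h1, ?_⟩
  show Nat.card (Wr2 (C : Subgroup Fˣ)) = _
  rw [card_Wr2, C.card_eq_multiplicity, Cfsg.Agent.Helper2.card_units_field,
    Nat.factorization_def _ Nat.prime_two]
  have := Kc_double (padicValNat 2 (Fintype.card F - 1)) 0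
  rw [pow_zero, mul_one, Kc_one] at this
  rw [pow_one, this]
  ring

theorem step_one {k : ℕ} (hk : 1 ≤ k) (a : ℕ)
    (h : ∃ (B : BGrp.{u}) (χ : B.T →* Fˣ), Finite B.T ∧ EmbD B.T χ (Fin (2 ^ k)) ∧
      SqInComm χ.ker ∧ Nat.card B.T = 2 ^ Kc a (2 ^ k)) :
    ∃ (B : BGrp.{u}) (χ : B.T →* Fˣ), Finite B.T ∧ EmbD B.T χ (Fin (2 ^ (k + 1))) ∧
      SqInComm χ.ker ∧ Nat.card B.T = 2 ^ Kc a (2 ^ (k + 1)) := by
  obtain ⟨B, χ, hfin, hemb, hsq, hcard⟩ := h
  haveI : Nonempty (Fin (2 ^ k)) := ⟨⟨0, by positivity⟩⟩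
  have hsI : (((1 : Fˣ) : Fˣ) : F) = (-1) ^ Fintype.card (Fin (2 ^ k)) := by
    obtain ⟨b, rfl⟩ : ∃ b, k = b + 1 := ⟨k - 1, by omega⟩
    rw [Fintype.card_fin, pow_succ, mul_comm, pow_mul]
    simp
  refine ⟨⟨Wr2 B.T⟩, wr2Char χ 1 (one_mul 1),
    (Finite.of_equiv _ SemidirectProduct.equivProd.symm : Finite (Wr2 B.T)),
    (EmbD.wr 1 (one_mul 1) hsI hemb).reindex
      (finSumFinEquiv.trans (finCongr (by ring))),
    sqInComm_ker_wr2Char χ 1 (one_mul 1) hsq 1 1 (fun a => by rw [one_mul, mul_one])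
      (map_one χ) (one_pow 2) (by rw [inv_one, one_pow]), ?_⟩
  show Nat.card (Wr2 B.T) = _
  rw [card_Wr2, hcard, pow_succ, mul_comm (2 ^ k) 2, Kc_double]
  ring

theorem shape_one [Fintype F] (hq : Fintype.card F % 4 = 1) (j : ℕ) :
    ∃ (B : BGrp.{u}) (χ : B.T →* Fˣ), Finite B.T ∧ EmbD B.T χ (Fin (2 ^ (j + 1))) ∧
      SqInComm χ.ker ∧
      Nat.card B.T = 2 ^ Kc (padicValNat 2 (Fintype.card F - 1)) (2 ^ (j + 1)) := by
  induction j with
  | zero => exact base_one hq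
  | succ j ih => exact step_one (by omega) _ ih

theorem sqInComm_sylow_SL_pow_one [Fintype F] (hF : Odd (Fintype.card F))
    (hq : Fintype.card F % 4 = 1) (j : ℕ)
    (P : Sylow 2 (Matrix.SpecialLinearGroup (Fin (2 * 2 ^ j)) F)) :
    SqInComm (P : Subgroup (Matrix.SpecialLinearGroup (Fin (2 * 2 ^ j)) F)) := by
  obtain ⟨B, χ, hfin, hemb, hsq, hcard⟩ := shape_one (F := F) hq j
  have hemb' : EmbD B.T χ (Fin (2 * 2 ^ j)) := hemb.reindex (finCongr (by ring))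
  have hc : Nat.card B.T = 2 ^ (Nat.card (GL (Fin (2 * 2 ^ j)) F)).factorization 2 := by
    rw [hcard, v2_card_GL hF, gv_of_one _ hq Fintype.one_lt_card]
    congr 2
    ring
  have hpos : 1 ≤ 2 * 2 ^ j := by
    have : 1 ≤ 2 ^ j := Nat.one_le_two_pow
    omega
  obtain ⟨e⟩ := sylow_SL_of_emb hpos hemb' hc P
  exact hsq.of_surjective e.toMonoidHom e.surjective

end Cfsg.Agent.Helper23.SpShape
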