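import Mathlib
import Cfsg.Agent.Lib.Helper23.G2Stab
import Cfsg.Agent.Lib.Helper23.G2Count
import Cfsg.Agent.Lib.Helper23.SLSylow2

set_option autoImplicit false
set_option linter.unusedSectionVars false

/-!
# The 2-part of the order of `G₂(q)` is at most `2^(2c)`
-/

namespace Cfsg.Agent.Helper23.G2

open Cfsg.Lie Cfsg.Agent.Helper23.SpShape

variable {F : Type*} [Field F]

theorem smul_G2L (f : G2L F) (x : Fin 8 → F) : f • x = f.1 x := rfl

theorem orbit_e1 : MulAction.orbit (G2L F) (e1 : Fin 8 → F) = {x | IsIdem x} := by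
  ext x
  constructor
  · rintro ⟨f, rfl⟩
    exact isIdem_map f.2 isIdem_e1
  · intro hx
    obtain ⟨f, hf, hfx⟩ := reach_of_isIdem x hx
    refine ⟨⟨f, hf⟩⁻¹, ?_⟩
    show f.symm e1 = x
    rw [← hfx, f.symm_apply_apply]

theorem actA_one : actA (1 : (Fin 8 → F) ≃ₗ[F] (Fin 8 → F)) = LinearMap.id := by
  apply LinearMap.ext
  intro a
  show pA (uLin a) = a
  exact pA_uLin a

/-- the stabilizer of `e1` maps to `SL₃(F)` -/
noncomputable def stabHom (F : Type*) [Field F] :
    MulAction.stabilizer (G2L F) (e1 : Fin 8 → F) →* Matrix.SpecialLinearGroup (Fin 3) F where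
  toFun f := ⟨LinearMap.toMatrix' (actA f.1.1), det_actA f.1.2 f.2⟩
  map_one' := by
    apply Subtype.ext
    show LinearMap.toMatrix' (actA (1 : (Fin 8 → F) ≃ₗ[F] (Fin 8 → F))) = 1
    rw [actA_one, LinearMap.toMatrix'_id]
  map_mul' f g := by
    apply Subtype.ext
    show LinearMap.toMatrix' (actA (f.1.1 * g.1.1)) =
      LinearMap.toMatrix' (actA f.1.1) * LinearMap.toMatrix' (actA g.1.1)
    rw [actA_mul g.1.2 g.2, LinearMap.toMatrix'_comp]

theorem stabHom_injective : Function.Injective (stabHom F) := by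
  rw [injective_iff_map_eq_one]
  intro f hf
  have h1 : LinearMap.toMatrix' (actA f.1.1) = 1 := congrArg Subtype.val hf
  have h2 : actA f.1.1 = LinearMap.id := by
    apply LinearMap.toMatrix'.injective
    rw [h1, LinearMap.toMatrix'_id]
  apply Subtype.ext
  apply Subtype.ext
  exact eq_one_of_actA f.1.2 f.2 h2

section fin

variable [Fintype F]

instance : Finite (G2L F) := by
  classical
  exact Finite.of_equiv _ (g2Equiv F).toEquiv

theorem card_G2L :
    Nat.card (G2L F) = (Fintype.card F ^ 6 + Fintype.card F ^ 3) *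
      Nat.card (MulAction.stabilizer (G2L F) (e1 : Fin 8 → F)) := by
  classical
  rw [← Nat.card_congr (MulAction.orbitProdStabilizerEquivGroup (G2L F) (e1 : Fin 8 → F)),
    Nat.card_prod, orbit_e1]
  congr 1
  exact card_isIdem

theorem v2_idem_count {q : ℕ} (hq : Odd q) :
    padicValNat 2 (q ^ 6 + q ^ 3) = padicValNat 2 (q + 1) := by
  have hq0 : q ≠ 0 := by
    rintro rfl
    simp at hq
  have hfac : q ^ 6 + q ^ 3 = q ^ 3 * ((q * (q - 1) + 1) * (q + 1)) := by
    obtain ⟨k, rfl⟩ : ∃ k, q = k + 1 := ⟨q - 1, by omega⟩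
    simp only [Nat.add_sub_cancel]
    ring
  have hodd1 : ¬ 2 ∣ q ^ 3 := by
    rw [← even_iff_two_dvd, Nat.not_even_iff_odd]
    exact hq.pow
  have hodd2 : ¬ 2 ∣ q * (q - 1) + 1 := by
    rw [← even_iff_two_dvd, Nat.not_even_iff_odd]
    apply Even.add_one
    have : Even (q - 1) := by
      obtain ⟨k, hk⟩ := hq
      exact ⟨k, by omega⟩
    exact this.mul_left q
  rw [hfac, padicValNat.mul (by positivity) (by positivity),
    padicValNat.mul (by positivity) (by positivity),
    padicValNat.eq_zero_of_not_dvd hodd1, padicValNat.eq_zero_of_not_dvd hodd2]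
  ring

theorem gv_three {q : ℕ} (hq : Odd q) (hq1 : 1 < q) :
    gv q 3 = padicValNat 2 (q - 1) + cq q + padicValNat 2 (q - 1) := by
  unfold gv
  rw [Finset.sum_range_succ, Finset.sum_range_succ, Finset.sum_range_one]
  have h2 := v2_term q hq hq1 0
  simp only [zero_add, mul_one, padicValNat_one_right, add_zero] at h2
  have h3 : padicValNat 2 (q ^ 3 - 1) = padicValNat 2 (q - 1) := by
    have h1 : q ^ 3 - 1 = (∑ i ∈ Finset.range 3, q ^ i) * (q - 1) :=
      (geom_sum_mul_of_one_le (by omega) 3).symm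
    have ho : Odd (∑ i ∈ Finset.range 3, q ^ i) := odd_geom_sum hq 1
    have hnd : ¬ 2 ∣ ∑ i ∈ Finset.range 3, q ^ i := by
      rwa [← even_iff_two_dvd, Nat.not_even_iff_odd]
    rw [h1, padicValNat.mul (by intro h; rw [h] at hnd; exact hnd (dvd_zero 2)) (by omega),
      padicValNat.eq_zero_of_not_dvd hnd, zero_add]
  simp only [zero_add, pow_one]
  rw [show (1 + 1 : ℕ) = 2 from rfl, show (2 + 1 : ℕ) = 3 from rfl, h2, h3]

/-- the upper bound -/
theorem v2_card_G2L_le (hF : Odd (Fintype.card F)) :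
    (Nat.card (G2L F)).factorization 2 ≤ 2 * cq (Fintype.card F) := by
  classical
  haveI : Fact (Nat.Prime 2) := ⟨Nat.prime_two⟩
  have hq1 : 1 < Fintype.card F := Fintype.one_lt_card
  have hS : Nat.card (MulAction.stabilizer (G2L F) (e1 : Fin 8 → F)) ∣
      Nat.card (Matrix.SpecialLinearGroup (Fin 3) F) :=
    Subgroup.card_dvd_of_injective (stabHom F) stabHom_injective
  have hSL := v2_card_SL hF 3 (by omega)
  rw [gv_three hF hq1] at hSL
  have hS0 : Nat.card (MulAction.stabilizer (G2L F) (e1 : Fin 8 → F)) ≠ 0 := Nat.card_pos.ne'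
  have hSL0 : Nat.card (Matrix.SpecialLinearGroup (Fin 3) F) ≠ 0 := Nat.card_pos.ne'
  have h1 : (Nat.card (MulAction.stabilizer (G2L F) (e1 : Fin 8 → F))).factorization 2 ≤
      (Nat.card (Matrix.SpecialLinearGroup (Fin 3) F)).factorization 2 :=
    (Nat.factorization_le_iff_dvd hS0 hSL0).2 hS 2
  have hc0 : Fintype.card F ^ 6 + Fintype.card F ^ 3 ≠ 0 := by positivity
  rw [card_G2L, Nat.factorization_mul hc0 hS0, Finsupp.add_apply,
    Nat.factorization_def _ Nat.prime_two, v2_idem_count hF]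
  unfold cq at hSL ⊢
  omega

end fin

end Cfsg.Agent.Helper23.G2
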