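import Mathlib
import Cfsg.Agent.Lib.Helper23.SqComm

set_option autoImplicit false
set_option linter.style.haveILetI false
set_option linter.unusedSectionVars false

/-!
# Extensions by an involution and the property `SqInComm` for Sylow 2-subgroups
-/

namespace Cfsg.Agent.Helper23.SqComm

universe u v

/-- the property passes to Sylow subgroups of surjective images -/
theorem sqInComm_sylow_of_surjective {A : Type u} {B : Type v} [Group A] [Group B] [Finite A]
    (f : A →* B) (hf : Function.Surjective f)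
    (h : ∀ P : Sylow 2 A, SqInComm (P : Subgroup A)) (S : Sylow 2 B) :
    SqInComm (S : Subgroup B) := by
  haveI : Fact (Nat.Prime 2) := ⟨Nat.prime_two⟩
  obtain ⟨P, rfl⟩ := Sylow.mapSurjective_surjective hf 2 S
  have h1 : SqInComm ((P : Subgroup A).map f) :=
    (h P).of_surjective (f.subgroupMap (P : Subgroup A)) (f.subgroupMap_surjective _)
  exact h1

/-- a normal subgroup covered by two cosets of an involution -/
theorem sqInComm_sylow_of_cover {K : Type u} [Group K] [Finite K] (N : Subgroup K) [hNn : N.Normal]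
    (t : K) (ht : t * t = 1) (hcov : ∀ x : K, x ∈ N ∨ x * t ∈ N)
    (hN : ∀ S : Sylow 2 N, SqInComm (S : Subgroup N)) (T : Sylow 2 K) :
    SqInComm (T : Subgroup K) := by
  classical
  haveI : Fact (Nat.Prime 2) := ⟨Nat.prime_two⟩
  have hpt : IsPGroup 2 (Subgroup.zpowers t) := by
    rintro ⟨g, hg⟩
    obtain ⟨m, rfl⟩ := Subgroup.mem_zpowers_iff.1 hg
    refine ⟨1, ?_⟩
    apply Subtype.ext
    show (t ^ m) ^ 2 ^ 1 = 1
    rw [pow_one, ← zpow_natCast, ← zpow_mul, mul_comm, zpow_mul, zpow_natCast, pow_two, ht,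
      one_zpow]
  obtain ⟨T₁, hT₁⟩ := hpt.exists_le_sylow
  have htT : t ∈ (T₁ : Subgroup K) := hT₁ (Subgroup.mem_zpowers t)
  suffices h : SqInComm (T₁ : Subgroup K) from
    h.of_surjective (Sylow.equiv T₁ T).toMonoidHom (Sylow.equiv T₁ T).surjective
  -- the intersection with `N`
  obtain ⟨Q, hQdef⟩ : ∃ Q : Subgroup N, Q = (T₁ : Subgroup K).subgroupOf N := ⟨_, rfl⟩
  have hQmem : ∀ n : N, n ∈ Q ↔ (n : K) ∈ (T₁ : Subgroup K) := by
    intro n
    rw [hQdef, Subgroup.mem_subgroupOf]
  have hQp : IsPGroup 2 Q := by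
    rw [hQdef]
    exact T₁.isPGroup'.comap_of_injective N.subtype N.subtype_injective
  obtain ⟨S₁, hS₁⟩ := hQp.exists_le_sylow
  have hQS : Q = (S₁ : Subgroup N) := by
    apply Subgroup.eq_of_le_of_card_ge hS₁
    -- conjugate `S₁` into `T₁`
    have hp2 : IsPGroup 2 ((S₁ : Subgroup N).map N.subtype) := S₁.isPGroup'.map _
    obtain ⟨T₂, hT₂⟩ := hp2.exists_le_sylow
    obtain ⟨k, hk⟩ := MulAction.exists_smul_eq K T₂ T₁
    have hmem : ∀ s : (S₁ : Subgroup N), k * (s.1.1) * k⁻¹ ∈ (T₁ : Subgroup K) := by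
      intro s
      rw [← hk, Sylow.coe_subgroup_smul, Subgroup.mem_pointwise_smul_iff_inv_smul_mem]
      have : (MulAut.conj k)⁻¹ • (k * (s.1.1) * k⁻¹) = (s.1.1 : K) := by
        rw [MulAut.smul_def, ← map_inv, MulAut.conj_apply]
        group
      rw [this]
      exact hT₂ (Subgroup.mem_map_of_mem N.subtype s.2)
    have hmemN : ∀ s : (S₁ : Subgroup N), k * (s.1.1) * k⁻¹ ∈ N := fun s =>
      hNn.conj_mem _ s.1.2 k
    let φ : ↥(S₁ : Subgroup N) → ↥Q := fun s => ⟨⟨k * (s.1.1) * k⁻¹, hmemN s⟩,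
      (hQmem _).2 (hmem s)⟩
    apply Nat.card_le_card_of_injective φ
    intro s s' hss
    have h1 : k * (s.1.1) * k⁻¹ = k * (s'.1.1) * k⁻¹ :=
      congrArg (fun q : Q => ((q : N) : K)) hss
    have h2 : (s.1.1 : K) = s'.1.1 := by
      have := mul_right_cancel h1
      exact mul_left_cancel this
    exact Subtype.ext (Subtype.ext h2)
  have hQsq : SqInComm Q := by
    rw [hQS]
    exact hN S₁
  -- inclusion of `Q` into `T₁`
  let ι : Q →* (T₁ : Subgroup K) :=
    { toFun := fun q => ⟨q.1.1, (hQmem _).1 q.2⟩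
      map_one' := rfl
      map_mul' := fun _ _ => rfl }
  apply sqInComm_of_closure ({y : (T₁ : Subgroup K) | (y : K) ∈ N} ∪ {⟨t, htT⟩})
  · rw [eq_top_iff]
    intro y _
    rcases hcov y.1 with h | h
    · exact Subgroup.subset_closure (Or.inl h)
    · have e : y = (y * ⟨t, htT⟩) * ⟨t, htT⟩ := by
        apply Subtype.ext
        show (y : K) = y * t * t
        rw [mul_assoc, ht, mul_one]
      rw [e]
      apply Subgroup.mul_mem
      · exact Subgroup.subset_closure (Or.inl h)
      · exact Subgroup.subset_closure (Or.inr rfl)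
  · rintro y (hy | hy)
    · have hyQ : (⟨y.1, hy⟩ : N) ∈ Q := by
        rw [hQdef, Subgroup.mem_subgroupOf]
        exact y.2
      have e : y = ι ⟨⟨y.1, hy⟩, hyQ⟩ := rfl
      rw [e, ← map_pow]
      exact map_commutator_le ι (Subgroup.mem_map_of_mem ι (hQsq _))
    · rw [Set.mem_singleton_iff] at hy
      have : y ^ 2 = 1 := by
        rw [hy]
        apply Subtype.ext
        show t ^ 2 = 1
        rw [pow_two, ht]
      rw [this]
      exact Subgroup.one_mem _

/-- conjugation by an involution normalizing `N` -/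
def conjInv {G : Type u} [Group G] (N : Subgroup G) (t : G) (ht : t * t = 1)
    (hn : ∀ n ∈ N, t * n * t ∈ N) : MulAut N where
  toFun n := ⟨t * n.1 * t, hn n.1 n.2⟩
  invFun n := ⟨t * n.1 * t, hn n.1 n.2⟩
  left_inv n := by
    apply Subtype.ext
    show t * (t * n.1 * t) * t = n.1
    rw [mul_assoc t n.1 t, ← mul_assoc t t, ht, one_mul, mul_assoc, ht, mul_one]
  right_inv n := by
    apply Subtype.ext
    show t * (t * n.1 * t) * t = n.1
    rw [mul_assoc t n.1 t, ← mul_assoc t t, ht, one_mul, mul_assoc, ht, mul_one]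
  map_mul' a b := by
    apply Subtype.ext
    show t * (a.1 * b.1) * t = (t * a.1 * t) * (t * b.1 * t)
    rw [mul_assoc (t * a.1) t, ← mul_assoc t (t * b.1), ← mul_assoc t t, ht, one_mul]
    simp only [mul_assoc]

theorem conjInv_mul_self {G : Type u} [Group G] (N : Subgroup G) (t : G) (ht : t * t = 1)
    (hn : ∀ n ∈ N, t * n * t ∈ N) : conjInv N t ht hn * conjInv N t ht hn = 1 := by
  ext n
  show t * (t * n.1 * t) * t = n.1
  rw [mul_assoc t n.1 t, ← mul_assoc t t, ht, one_mul, mul_assoc, ht, mul_one]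

/-- a subgroup `N` normalized by an involution `t ∉ N`: the group `N⟨t⟩` contains a 2-subgroup of
twice the order of a Sylow 2-subgroup of `N` whose squares are commutators -/
theorem exists_two_group_ext {G : Type u} [Group G] (N : Subgroup G) [Finite N] (t : G)
    (ht : t * t = 1) (htN : t ∉ N) (hn : ∀ n ∈ N, t * n * t ∈ N)
    (hS : ∀ S : Sylow 2 N, SqInComm (S : Subgroup N)) :
    ∃ (T : Type u) (_ : Group T) (j : T →* G), Function.Injective j ∧
      Nat.card T = 2 * 2 ^ (Nat.card N).factorization 2 ∧ SqInComm T := by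
  classical
  haveI : Fact (Nat.Prime 2) := ⟨Nat.prime_two⟩
  obtain ⟨φ, hφ⟩ : ∃ φ : ℤˣ →* MulAut N, φ = invHom (conjInv N t ht hn)
    (conjInv_mul_self N t ht hn) := ⟨_, rfl⟩
  have hφ1 : ∀ n : N, ((φ (-1)) n : G) = t * n.1 * t := by
    intro n
    rw [hφ, invHom_neg_one]
    rfl
  haveI : Finite (N ⋊[φ] ℤˣ) := Finite.of_equiv _ SemidirectProduct.equivProd.symm
  have hinv : t⁻¹ = t := inv_eq_of_mul_eq_one_right ht
  let jK : N ⋊[φ] ℤˣ →* G := SemidirectProduct.lift N.subtype (invHom t ht) (by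
    intro g
    rcases Int.units_eq_one_or g with rfl | rfl
    · ext x
      simp
    · ext x
      simp only [invHom_neg_one, MonoidHom.comp_apply, MulEquiv.coe_toMonoidHom,
        MulAut.conj_apply, Subgroup.coe_subtype]
      rw [hφ1, hinv])
  have hjK : ∀ x : N ⋊[φ] ℤˣ, jK x = x.left.1 * invHom t ht x.right := fun x => rfl
  have hjinj : Function.Injective jK := by
    rw [injective_iff_map_eq_one]
    intro x hx
    rw [hjK] at hx
    rcases Int.units_eq_one_or x.right with h | h
    · rw [h, invHom_one, mul_one] at hx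
      have h1 : x.left = 1 := Subtype.ext hx
      ext <;> simp [h, h1]
    · exfalso
      rw [h, invHom_neg_one] at hx
      apply htN
      have : t = (x.left.1)⁻¹ := (inv_eq_of_mul_eq_one_right hx).symm
      rw [this]
      exact N.inv_mem x.left.2
  haveI hnorm : ((SemidirectProduct.inl : N →* N ⋊[φ] ℤˣ).range).Normal := by
    rw [SemidirectProduct.range_inl_eq_ker_rightHom]
    infer_instance
  have hcov : ∀ x : N ⋊[φ] ℤˣ, x ∈ (SemidirectProduct.inl : N →* N ⋊[φ] ℤˣ).range ∨
      x * SemidirectProduct.inr (-1) ∈ (SemidirectProduct.inl : N →* N ⋊[φ] ℤˣ).range := by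
    intro x
    rcases Int.units_eq_one_or x.right with h | h
    · left
      refine ⟨x.left, ?_⟩
      ext <;> simp [h]
    · right
      refine ⟨x.left, ?_⟩
      ext <;> simp [h]
  have hN' : ∀ S : Sylow 2 (SemidirectProduct.inl : N →* N ⋊[φ] ℤˣ).range,
      SqInComm (S : Subgroup (SemidirectProduct.inl : N →* N ⋊[φ] ℤˣ).range) :=
    sqInComm_sylow_of_surjective (SemidirectProduct.inl : N →* N ⋊[φ] ℤˣ).rangeRestrict
      (MonoidHom.rangeRestrict_surjective _) hS
  have hall := sqInComm_sylow_of_cover (SemidirectProduct.inl : N →* N ⋊[φ] ℤˣ).range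
    (SemidirectProduct.inr (-1)) (by rw [← map_mul]; simp) hcov hN'
  obtain ⟨T'⟩ : Nonempty (Sylow 2 (N ⋊[φ] ℤˣ)) := inferInstance
  refine ⟨(T' : Subgroup (N ⋊[φ] ℤˣ)), inferInstance,
    jK.comp (T' : Subgroup (N ⋊[φ] ℤˣ)).subtype, ?_, ?_, hall T'⟩
  · exact hjinj.comp Subtype.val_injective
  · rw [T'.card_eq_multiplicity, SemidirectProduct.card]
    have h2 : Nat.card ℤˣ = 2 := by
      rw [Nat.card_eq_fintype_card]; rfl
    have hN0 : Nat.card N ≠ 0 := Nat.card_pos.ne'
    rw [h2, Nat.factorization_mul hN0 (by norm_num), Finsupp.add_apply,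
      Nat.Prime.factorization_self Nat.prime_two, pow_succ]
    ring

end Cfsg.Agent.Helper23.SqComm
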