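import Mathlib
import Cfsg.Agent.Lib.Helper23.G2Quat
import Cfsg.Agent.Lib.Helper23.G2Upper
import Cfsg.Agent.Lib.Helper23.SqExt
import Cfsg.Agent.Lib.Helper23.EARank2

set_option autoImplicit false
set_option linter.unusedSectionVars false
set_option linter.style.haveILetI false

/-!
# Sylow 2-subgroups of `G₂(q)`, `q` odd: squares are commutators
-/

namespace Cfsg.Agent.Helper23.G2

open Cfsg.Lie Cfsg.Agent.Helper23.SpShape Cfsg.Agent.Helper23.SqComm

universe u

variable {F : Type u} [Field F] [Fintype F]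

theorem v2_card_sl2 (hF : Odd (Fintype.card F)) :
    (Nat.card (Matrix.SpecialLinearGroup (Fin 2) F)).factorization 2 = cq (Fintype.card F) := by
  have hq1 : 1 < Fintype.card F := Fintype.one_lt_card
  have h := v2_card_SL hF 2 (by omega)
  have h2 := v2_term (Fintype.card F) hF hq1 0
  simp only [zero_add, mul_one, padicValNat_one_right, add_zero] at h2
  unfold gv at h
  rw [Finset.sum_range_succ, Finset.sum_range_one] at h
  simp only [zero_add, pow_one] at h
  rw [show (1 + 1 : ℕ) = 2 from rfl, h2] at h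
  omega

theorem sqInComm_sylow_sl2_prod (hF : Odd (Fintype.card F))
    (S : Sylow 2 (Matrix.SpecialLinearGroup (Fin 2) F × Matrix.SpecialLinearGroup (Fin 2) F)) :
    SqInComm (S : Subgroup
      (Matrix.SpecialLinearGroup (Fin 2) F × Matrix.SpecialLinearGroup (Fin 2) F)) := by
  classical
  haveI : Fact (Nat.Prime 2) := ⟨Nat.prime_two⟩
  obtain ⟨Q⟩ : Nonempty (Sylow 2 (Matrix.SpecialLinearGroup (Fin 2) F)) := inferInstance
  have hQ := sqInComm_sylow_sl2 hF Q
  have hcQ := Q.card_eq_multiplicity
  have h0 : Nat.card (Matrix.SpecialLinearGroup (Fin 2) F) ≠ 0 := Nat.card_pos.ne'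
  obtain ⟨e⟩ := sylow_equiv_of_card_two
    (MonoidHom.prodMap (Q : Subgroup (Matrix.SpecialLinearGroup (Fin 2) F)).subtype
      (Q : Subgroup (Matrix.SpecialLinearGroup (Fin 2) F)).subtype)
    (by
      intro x y hxy
      have h1 := congrArg Prod.fst hxy
      have h2 := congrArg Prod.snd hxy
      exact Prod.ext (Subtype.ext h1) (Subtype.ext h2))
    (by
      rw [Nat.card_prod, Nat.card_prod, hcQ, Nat.factorization_mul h0 h0, Finsupp.add_apply,
        pow_add])
    S
  exact (hQ.prod hQ).of_surjective e.toMonoidHom e.surjective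

theorem v2_range_rho (hF : Odd (Fintype.card F)) :
    2 * cq (Fintype.card F) ≤ (Nat.card (rho F).range).factorization 2 + 1 := by
  classical
  have h1 : Nat.card (rho F).ker * Nat.card (rho F).range =
      Nat.card (Matrix.SpecialLinearGroup (Fin 2) F × Matrix.SpecialLinearGroup (Fin 2) F) := by
    rw [← Subgroup.index_ker]
    exact Subgroup.card_mul_index _
  have hk0 : Nat.card (rho F).ker ≠ 0 := Nat.card_pos.ne'
  have hr0 : Nat.card (rho F).range ≠ 0 := Nat.card_pos.ne'
  have h0 : Nat.card (Matrix.SpecialLinearGroup (Fin 2) F) ≠ 0 := Nat.card_pos.ne'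
  have h2 : (Nat.card (rho F).ker * Nat.card (rho F).range).factorization 2 =
      (Nat.card (Matrix.SpecialLinearGroup (Fin 2) F ×
        Matrix.SpecialLinearGroup (Fin 2) F)).factorization 2 := by rw [h1]
  rw [Nat.factorization_mul hk0 hr0, Finsupp.add_apply, Nat.card_prod,
    Nat.factorization_mul h0 h0, Finsupp.add_apply, v2_card_sl2 hF] at h2
  have hk : (Nat.card (rho F).ker).factorization 2 ≤ 1 := by
    have hle := card_ker_rho_le (F := F)
    have hpos : 0 < Nat.card (rho F).ker := Nat.card_pos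
    have : Nat.card (rho F).ker = 1 ∨ Nat.card (rho F).ker = 2 := by omega
    rcases this with h | h
    · rw [h]
      simp
    · rw [h, Nat.Prime.factorization_self Nat.prime_two]
  omega

theorem sqInComm_sylow_G2L (hF : Odd (Fintype.card F)) (P : Sylow 2 (G2L F)) :
    SqInComm (P : Subgroup (G2L F)) := by
  classical
  haveI : Fact (Nat.Prime 2) := ⟨Nat.prime_two⟩
  have hchar : ringChar F ≠ 2 := by
    intro h
    have := FiniteField.even_card_of_char_two h
    rcases hF with ⟨k, hk⟩
    omega
  obtain ⟨ν, hν⟩ := FiniteField.exists_nonsquare hchar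
  have hν0 : ν ≠ 0 := by
    rintro rfl
    exact hν ⟨0, by simp⟩
  haveI : Finite (rho F).range := inferInstance
  have hS : ∀ S : Sylow 2 (rho F).range, SqInComm (S : Subgroup (rho F).range) :=
    sqInComm_sylow_of_surjective (rho F).rangeRestrict (MonoidHom.rangeRestrict_surjective _)
      (sqInComm_sylow_sl2_prod hF)
  obtain ⟨T, hTg, j, hj, hcard, hsq⟩ := exists_two_group_ext (rho F).range (tEl ν hν0)
    (tEl_mul_self ν hν0) (tEl_not_mem ν hν0 hν)
    (by
      rintro n ⟨p, rfl⟩
      rw [tEl_conj]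
      exact ⟨_, rfl⟩) hS
  -- the order of `T` is the full 2-part
  have hdvd : Nat.card T ∣ Nat.card (G2L F) := Subgroup.card_dvd_of_injective j hj
  have hG0 : Nat.card (G2L F) ≠ 0 := Nat.card_pos.ne'
  have hup := v2_card_G2L_le (F := F) hF
  have hlow := v2_range_rho (F := F) hF
  have hcard' : Nat.card T = 2 ^ ((Nat.card (rho F).range).factorization 2 + 1) := by
    rw [hcard, pow_succ]
    ring
  have hle : (Nat.card (rho F).range).factorization 2 + 1 ≤ (Nat.card (G2L F)).factorization 2 := by
    rw [hcard'] at hdvd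
    exact (Nat.Prime.pow_dvd_iff_le_factorization Nat.prime_two hG0).1 hdvd
  have heq : Nat.card T = 2 ^ (Nat.card (G2L F)).factorization 2 := by
    rw [hcard']
    congr 1
    omega
  obtain ⟨e⟩ := sylow_equiv_of_card_two j hj heq P
  exact hsq.of_surjective e.toMonoidHom e.surjective

theorem sqInComm_sylow_G2 (hF : Odd (Fintype.card F)) (P : Sylow 2 (G2 F)) :
    SqInComm (P : Subgroup (G2 F)) := by
  classical
  haveI : Fact (Nat.Prime 2) := ⟨Nat.prime_two⟩
  obtain ⟨P'⟩ : Nonempty (Sylow 2 (G2L F)) := inferInstance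
  have h := sqInComm_sylow_G2L hF P'
  have hc : Nat.card (P' : Subgroup (G2L F)) = 2 ^ (Nat.card (G2 F)).factorization 2 := by
    rw [P'.card_eq_multiplicity, Nat.card_congr (g2Equiv F).toEquiv]
  obtain ⟨e⟩ := sylow_equiv_of_card_two
    ((g2Equiv F).symm.toMonoidHom.comp (P' : Subgroup (G2L F)).subtype)
    ((g2Equiv F).symm.injective.comp Subtype.val_injective) hc P
  exact h.of_surjective e.toMonoidHom e.surjective

end Cfsg.Agent.Helper23.G2
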