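import Mathlib
import Cfsg.Prelude.Def_Solvable
import Cfsg.Agent.Lib.Helper21.GAG39Defs

/-!
# S4839, piece G39-FROBKER: the Frobenius kernel of a fixed-point-free complement of an abelian normal
subgroup `N` is `N`.
-/

set_option autoImplicit false
set_option linter.unusedSectionVars false
set_option linter.unusedVariables false

namespace Cfsg.Agent.Helper21.GAG39

open Cfsg
open scoped Pointwise

variable {G : Type*} [Group G] [Finite G] {p : ℕ} [Fact p.Prime] (N : Subgroup G) [N.Normal]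

/-- PIECE G39-FROBKER [L0]. -/
theorem kernel_of_fpf (hcomm : ∀ a ∈ N, ∀ b ∈ N, a * b = b * a) (H : Subgroup G)
    (hH : Subgroup.IsComplement' N H)
    (hfpf : ∀ h ∈ H, h ≠ 1 → ∀ v ∈ N, h * v * h⁻¹ = v → v = 1) :
    frobeniusKernel H = (N : Set G) := by
  have hdisj : N ⊓ H = ⊥ := hH.disjoint.eq_bot
  ext x
  constructor
  · intro hx
    by_contra hxN
    have hxN' : x ∉ N := hxN
    obtain ⟨⟨⟨v, hv⟩, ⟨h, hh⟩⟩, hvh⟩ := hH.2 x
    have hvh' : v * h = x := hvh
    have hh1 : h ≠ 1 := by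
      rintro rfl
      apply hxN'
      rw [← hvh', mul_one]
      exact hv
    -- the map `u ↦ u * (h * u⁻¹ * h⁻¹)` is injective on `N`, hence surjective
    have hconj : ∀ u ∈ N, h * u * h⁻¹ ∈ N := fun u hu => ‹N.Normal›.conj_mem u hu h
    let f : ↥N → ↥N := fun u =>
      ⟨(u : G) * (h * (u : G)⁻¹ * h⁻¹), N.mul_mem u.2 (hconj _ (N.inv_mem u.2))⟩
    have hf : Function.Injective f := by
      rintro ⟨u, hu⟩ ⟨w, hw⟩ huw
      have h1 : u * (h * u⁻¹ * h⁻¹) = w * (h * w⁻¹ * h⁻¹) := congrArg Subtype.val huw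
      have ht : w⁻¹ * u ∈ N := N.mul_mem (N.inv_mem hw) hu
      have hfix : h * (w⁻¹ * u) * h⁻¹ = w⁻¹ * u := by
        have h2 : w⁻¹ * u = (h * w⁻¹ * h⁻¹) * (h * u⁻¹ * h⁻¹)⁻¹ := by
          have h3 : w⁻¹ * (u * (h * u⁻¹ * h⁻¹)) = h * w⁻¹ * h⁻¹ := by
            rw [h1]; group
          rw [← h3]; group
        calc h * (w⁻¹ * u) * h⁻¹ = (h * w⁻¹ * h⁻¹) * (h * u⁻¹ * h⁻¹)⁻¹ := by group
          _ = w⁻¹ * u := h2.symm
      have h4 := hfpf h hh hh1 _ ht hfix
      apply Subtype.ext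
      show u = w
      have : u = w * (w⁻¹ * u) := by group
      rw [this, h4, mul_one]
    have hsurj : Function.Surjective f := Finite.surjective_of_injective hf
    obtain ⟨⟨u, hu⟩, hfu⟩ := hsurj ⟨v, hv⟩
    have hu' : u * (h * u⁻¹ * h⁻¹) = v := congrArg Subtype.val hfu
    -- `u⁻¹ * x * u = h`
    have hxu : x = u * h * u⁻¹ := by
      rw [← hvh', ← hu']; group
    rcases hx with hx1 | hx2
    · apply hxN'
      rw [hx1]
      exact N.one_mem
    · apply hx2 u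
      rw [Subgroup.mem_pointwise_smul_iff_inv_smul_mem]
      show (MulAut.conj u)⁻¹ x ∈ H
      rw [← map_inv, MulAut.conj_apply, hxu]
      have : u⁻¹ * (u * h * u⁻¹) * u⁻¹⁻¹ = h := by group
      rw [this]
      exact hh
  · intro hx
    have hxN : x ∈ N := hx
    by_cases hx1 : x = 1
    · exact Or.inl hx1
    · right
      intro g hg
      apply hx1
      rw [Subgroup.mem_pointwise_smul_iff_inv_smul_mem] at hg
      have hg' : (MulAut.conj g)⁻¹ x ∈ H := hg
      rw [← map_inv, MulAut.conj_apply] at hg'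
      have hgN : g⁻¹ * x * g⁻¹⁻¹ ∈ N := ‹N.Normal›.conj_mem x hxN g⁻¹
      have h1 : g⁻¹ * x * g⁻¹⁻¹ ∈ N ⊓ H := ⟨hgN, hg'⟩
      rw [hdisj, Subgroup.mem_bot] at h1
      have : x = g * (g⁻¹ * x * g⁻¹⁻¹) * g⁻¹ := by group
      rw [this, h1]; group

end Cfsg.Agent.Helper21.GAG39
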