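import Mathlib
import Cfsg.Agent.Lib.Helper23.EARank2
import Cfsg.Agent.Lib.Helper23.SLSylow2

set_option autoImplicit false
set_option linter.style.haveILetI false

/-!
# Sylow 2-subgroups of `GL_2(q)`, `q ≡ 3 (mod 4)`: normal elementary abelian subgroups
-/

namespace Cfsg.Agent.Helper23.SpShape

open Matrix Cfsg.Agent.Helper23.SqComm

universe u

variable {F : Type u} [Field F]

/-- a non-scalar involution in `M_2(F)` has trace zero -/
theorem inv2_entries {t : Matrix (Fin 2) (Fin 2) F} (ht : t * t = 1) (h1 : t ≠ 1)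
    (hm1 : t ≠ -1) : t 1 1 = - t 0 0 ∧ t 0 0 * t 0 0 + t 0 1 * t 1 0 = 1 := by
  have e00 := congrFun (congrFun ht 0) 0
  have e01 := congrFun (congrFun ht 0) 1
  have e10 := congrFun (congrFun ht 1) 0
  have e11 := congrFun (congrFun ht 1) 1
  simp [Matrix.mul_apply, Fin.sum_univ_two] at e00 e01 e10 e11
  refine ⟨?_, e00⟩
  by_contra hcon
  have hσ : t 0 0 + t 1 1 ≠ 0 := by
    intro h
    apply hcon
    linear_combination h
  have h01 : t 0 1 = 0 := by
    have : t 0 1 * (t 0 0 + t 1 1) = 0 := by linear_combination e01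
    exact (mul_eq_zero.1 this).resolve_right hσ
  have h10 : t 1 0 = 0 := by
    have : t 1 0 * (t 0 0 + t 1 1) = 0 := by linear_combination e10
    exact (mul_eq_zero.1 this).resolve_right hσ
  rw [h01, h10] at e00 e11
  have hp : t 0 0 = 1 ∨ t 0 0 = -1 := mul_self_eq_one_iff.1 (by linear_combination e00)
  have hu : t 1 1 = 1 ∨ t 1 1 = -1 := mul_self_eq_one_iff.1 (by linear_combination e11)
  rcases hp with hp | hp <;> rcases hu with hu | hu
  · apply h1
    ext i j
    fin_cases i <;> fin_cases j <;> simp [hp, hu, h01, h10]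
  · apply hσ; rw [hp, hu]; ring
  · apply hσ; rw [hp, hu]; ring
  · apply hm1
    ext i j
    fin_cases i <;> fin_cases j <;> simp [hp, hu, h01, h10]

/-- the centralizer of a non-scalar involution in `M_2(F)` -/
theorem comm_inv2 (h2 : (2 : F) ≠ 0) {t g : Matrix (Fin 2) (Fin 2) F} (ht : t * t = 1)
    (h1 : t ≠ 1) (hm1 : t ≠ -1) (hc : g * t = t * g) :
    ∃ a b : F, g = a • (1 : Matrix (Fin 2) (Fin 2) F) + b • t := by
  obtain ⟨hu, hE⟩ := inv2_entries ht h1 hm1
  have c00 := congrFun (congrFun hc 0) 0
  have c01 := congrFun (congrFun hc 0) 1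
  have c10 := congrFun (congrFun hc 1) 0
  simp [Matrix.mul_apply, Fin.sum_univ_two] at c00 c01 c10
  rw [hu] at c01 c10
  refine ⟨(g 0 0 + g 1 1) / 2, t 0 0 * (g 0 0 - g 1 1) / 2 + g 0 1 * t 1 0, ?_⟩
  ext i j
  fin_cases i <;> fin_cases j
  · simp
    field_simp
    linear_combination t 1 0 * c01 - (g 0 0 - g 1 1) * hE
  · simp
    field_simp
    linear_combination (-2 * g 0 1) * hE - t 0 0 * c01
  · simp
    field_simp
    linear_combination (-2 * g 1 0) * hE + t 0 0 * c10 - 2 * t 1 0 * c00
  · simp [hu]
    field_simp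
    linear_combination (g 0 0 - g 1 1) * hE - t 1 0 * c01

theorem lin_mul_one_add {t : Matrix (Fin 2) (Fin 2) F} (ht : t * t = 1) (a b : F) :
    (a • (1 : Matrix (Fin 2) (Fin 2) F) + b • t) * (1 + t) = (a + b) • (1 + t) := by
  rw [add_mul, mul_add, mul_add, Matrix.smul_mul, Matrix.smul_mul, Matrix.smul_mul,
    Matrix.smul_mul, one_mul, one_mul, mul_one, ht]
  simp only [add_smul, smul_add]
  abel

theorem lin_mul_one_sub {t : Matrix (Fin 2) (Fin 2) F} (ht : t * t = 1) (a b : F) :
    (a • (1 : Matrix (Fin 2) (Fin 2) F) + b • t) * (1 - t) = (a - b) • (1 - t) := by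
  rw [add_mul, mul_sub, mul_sub, Matrix.smul_mul, Matrix.smul_mul, Matrix.smul_mul,
    Matrix.smul_mul, one_mul, one_mul, mul_one, ht]
  simp only [sub_smul, smul_sub]
  abel

theorem pow_lin_mul_one_add {t : Matrix (Fin 2) (Fin 2) F} (ht : t * t = 1) (a b : F) (n : ℕ) :
    (a • (1 : Matrix (Fin 2) (Fin 2) F) + b • t) ^ n * (1 + t) = (a + b) ^ n • (1 + t) := by
  induction n with
  | zero => simp
  | succ n ih =>
    rw [pow_succ, mul_assoc, lin_mul_one_add ht, Matrix.mul_smul, ih, smul_smul, pow_succ,
      mul_comm]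

theorem pow_lin_mul_one_sub {t : Matrix (Fin 2) (Fin 2) F} (ht : t * t = 1) (a b : F) (n : ℕ) :
    (a • (1 : Matrix (Fin 2) (Fin 2) F) + b • t) ^ n * (1 - t) = (a - b) ^ n • (1 - t) := by
  induction n with
  | zero => simp
  | succ n ih =>
    rw [pow_succ, mul_assoc, lin_mul_one_sub ht, Matrix.mul_smul, ih, smul_smul, pow_succ,
      mul_comm]

theorem eq_one_of_smul_eq {M : Matrix (Fin 2) (Fin 2) F} (hM : M ≠ 0) {c : F}
    (h : c • M = M) : c = 1 := by
  by_contra hc
  apply hM
  ext i j
  have := congrFun (congrFun h i) j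
  rw [Matrix.smul_apply, smul_eq_mul] at this
  have h' : (c - 1) * M i j = 0 := by linear_combination this
  rcases mul_eq_zero.1 h' with h'' | h''
  · exact absurd (by linear_combination h'') hc
  · exact h''

/-- a `2`-element commuting with a non-scalar involution, `q ≡ 3 (mod 4)` -/
theorem two_elt_comm_inv2 [Fintype F] (hq : Fintype.card F % 4 = 3)
    {t g : Matrix (Fin 2) (Fin 2) F} (ht : t * t = 1) (h1 : t ≠ 1) (hm1 : t ≠ -1)
    (hc : g * t = t * g) (k : ℕ) (hg : g ^ 2 ^ k = 1) :
    g = 1 ∨ g = -1 ∨ g = t ∨ g = -t := by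
  have hodd : Odd (Fintype.card F) := Nat.odd_iff.2 (by omega)
  have h2 : (2 : F) ≠ 0 := two_ne_zero_of_odd_card hodd
  obtain ⟨a, b, rfl⟩ := comm_inv2 h2 ht h1 hm1 hc
  have hp : (1 : Matrix (Fin 2) (Fin 2) F) + t ≠ 0 := by
    intro h
    apply hm1
    exact eq_neg_of_add_eq_zero_right h
  have hm : (1 : Matrix (Fin 2) (Fin 2) F) - t ≠ 0 := by
    intro h
    apply h1
    exact (sub_eq_zero.1 h).symm
  have e1 : (a + b) ^ 2 ^ k = 1 := by
    apply eq_one_of_smul_eq hp
    rw [← pow_lin_mul_one_add ht, hg, one_mul]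
  have e2 : (a - b) ^ 2 ^ k = 1 := by
    apply eq_one_of_smul_eq hm
    rw [← pow_lin_mul_one_sub ht, hg, one_mul]
  have key : ∀ c : F, c ^ 2 ^ k = 1 → c = 1 ∨ c = -1 := by
    intro c hcp
    have hc0 : c ≠ 0 := by
      intro h
      rw [h, zero_pow (by positivity)] at hcp
      exact zero_ne_one hcp
    have := two_elt_units_of_three hq (Units.mk0 c hc0) k (by
      apply Units.ext
      rw [Units.val_pow_eq_pow_val, Units.val_mk0, hcp, Units.val_one])
    rcases this with h | h
    · left
      have := congrArg Units.val h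
      simpa using this
    · right
      have := congrArg Units.val h
      simpa using this
  rcases key _ e1 with f1 | f1 <;> rcases key _ e2 with f2 | f2
  · left
    have hb : b = 0 := by
      have : 2 * b = 0 := by linear_combination f1 - f2
      exact (mul_eq_zero.1 this).resolve_left h2
    have ha : a = 1 := by rw [hb] at f1; linear_combination f1
    rw [ha, hb]; simp
  · right; right; left
    have ha : a = 0 := by
      have : 2 * a = 0 := by linear_combination f1 + f2
      exact (mul_eq_zero.1 this).resolve_left h2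
    have hb : b = 1 := by rw [ha] at f1; linear_combination f1
    rw [ha, hb]; simp
  · right; right; right
    have ha : a = 0 := by
      have : 2 * a = 0 := by linear_combination f1 + f2
      exact (mul_eq_zero.1 this).resolve_left h2
    have hb : b = -1 := by rw [ha] at f1; linear_combination f1
    rw [ha, hb]; simp
  · right; left
    have hb : b = 0 := by
      have : 2 * b = 0 := by linear_combination f1 - f2
      exact (mul_eq_zero.1 this).resolve_left h2
    have ha : a = -1 := by rw [hb] at f1; linear_combination f1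
    rw [ha, hb]; simp

theorem card_sylow_gl2_three [Fintype F] (hF : Odd (Fintype.card F))
    (hq : Fintype.card F % 4 = 3) (R : Sylow 2 (GL (Fin 2) F)) :
    Nat.card (R : Subgroup (GL (Fin 2) F)) = 2 ^ (cq (Fintype.card F) + 1) := by
  classical
  haveI : Fact (Nat.Prime 2) := ⟨Nat.prime_two⟩
  rw [R.card_eq_multiplicity, v2_card_GL hF]
  have := gv_even_three (Fintype.card F) hq 1
  rw [Kc_one] at this
  rw [show (2 : ℕ) = 2 * 1 from rfl, this]

theorem three_le_cq {q : ℕ} (hq : q % 4 = 3) : 3 ≤ cq q := by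
  unfold cq
  have h1 : padicValNat 2 (q - 1) = 1 := v2_of_mod_four_eq_two (by omega)
  have h2 : 2 ≤ padicValNat 2 (q + 1) := by
    have hd : 2 ^ 2 ∣ q + 1 := by
      norm_num
      omega
    exact (padicValNat_dvd_iff_le (by omega)).1 hd
  omega

/-- normal subgroups of exponent two of a Sylow 2-subgroup of `GL_2(q)`, `q ≡ 3 (mod 4)`, have
order at most two -/
theorem neab_sylow_gl2_three [Fintype F] (hF : Odd (Fintype.card F))
    (hq : Fintype.card F % 4 = 3) (R : Sylow 2 (GL (Fin 2) F)) :
    NEAB (R : Subgroup (GL (Fin 2) F)) 1 := by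
  classical
  haveI : Fact (Nat.Prime 2) := ⟨Nat.prime_two⟩
  intro E hn hE
  by_contra hcon
  obtain ⟨cm, hcm⟩ : ∃ cm : ↥(R : Subgroup (GL (Fin 2) F)) → Matrix (Fin 2) (Fin 2) F,
      cm = fun x => (((x : ↥(R : Subgroup (GL (Fin 2) F))) : GL (Fin 2) F) :
        Matrix (Fin 2) (Fin 2) F) := ⟨_, rfl⟩
  have cm_inj : Function.Injective cm := by
    intro x y h
    rw [hcm] at h
    exact Subtype.ext (Units.ext h)
  have cm_mul : ∀ x y, cm (x * y) = cm x * cm y := by
    intro x y; rw [hcm]; rfl
  have cm_one : cm 1 = 1 := by rw [hcm]; rfl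
  have cm_pow : ∀ x (n : ℕ), cm (x ^ n) = cm x ^ n := by
    intro x n
    induction n with
    | zero => rw [pow_zero, pow_zero, cm_one]
    | succ n ih => rw [pow_succ, pow_succ, cm_mul, ih]
  have cm_two : ∀ x : (R : Subgroup (GL (Fin 2) F)), ∃ k : ℕ, cm x ^ 2 ^ k = 1 := by
    intro x
    obtain ⟨k, hk⟩ := R.isPGroup' x
    exact ⟨k, by rw [← cm_pow, hk, cm_one]⟩
  -- an element of `E` which is not a scalar
  have hex : ∃ t ∈ E, cm t ≠ 1 ∧ cm t ≠ -1 := by
    by_contra hno
    push Not at hno
    apply hcon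
    have hinj : Function.Injective (fun x : E => decide (cm x.1 = 1)) := by
      intro x y hxy
      have hxy' : decide (cm x.1 = 1) = decide (cm y.1 = 1) := hxy
      apply Subtype.ext
      apply cm_inj
      by_cases hx : cm x.1 = 1
      · have hy : cm y.1 = 1 := by
          have : decide (cm y.1 = 1) = true := by rw [← hxy']; exact decide_eq_true hx
          exact of_decide_eq_true this
        rw [hx, hy]
      · have hy : cm y.1 ≠ 1 := by
          intro hy
          have : decide (cm x.1 = 1) = true := by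
            rw [hxy']; exact decide_eq_true hy
          exact hx (of_decide_eq_true this)
        have hx' : cm x.1 = -1 := by
          by_contra h
          exact h (hno x.1 x.2 hx)
        have hy' : cm y.1 = -1 := by
          by_contra h
          exact h (hno y.1 y.2 hy)
        rw [hx', hy']
    have := Nat.card_le_card_of_injective _ hinj
    rw [Nat.card_eq_fintype_card (α := Bool), Fintype.card_bool] at this
    simpa using this
  obtain ⟨t, htE, ht1, htm1⟩ := hex
  have htt : cm t * cm t = 1 := by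
    rw [← cm_mul, ← pow_two, hE t htE, cm_one]
  -- everything commuting with `t` is in `{1, -1, t, -t}`
  have hfour : ∀ x : (R : Subgroup (GL (Fin 2) F)), x * t = t * x →
      cm x = 1 ∨ cm x = -1 ∨ cm x = cm t ∨ cm x = -cm t := by
    intro x hx
    obtain ⟨k, hk⟩ := cm_two x
    exact two_elt_comm_inv2 hq htt ht1 htm1 (by rw [← cm_mul, ← cm_mul, hx]) k hk
  obtain ⟨N, hN⟩ : ∃ N : Subgroup (R : Subgroup (GL (Fin 2) F)),
      N = Subgroup.centralizer {t} := ⟨_, rfl⟩
  have hNmem : ∀ x, x ∈ N ↔ x * t = t * x := by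
    intro x
    rw [hN, Subgroup.mem_centralizer_iff]
    constructor
    · intro h
      exact (h t rfl).symm
    · intro h y hy
      rw [Set.mem_singleton_iff.1 hy]
      exact h.symm
  have hNcard : Nat.card N ≤ 4 := by
    have hsub : cm '' (N : Set (R : Subgroup (GL (Fin 2) F))) ⊆
        ({1, -1, cm t, -cm t} : Set (Matrix (Fin 2) (Fin 2) F)) := by
      rintro _ ⟨x, hx, rfl⟩
      rcases hfour x ((hNmem x).1 hx) with h | h | h | h
      · rw [h]; simp
      · rw [h]; simp
      · rw [h]; simp
      · rw [h]; simp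
    have h1 : Nat.card N = (cm '' (N : Set (R : Subgroup (GL (Fin 2) F)))).ncard := by
      rw [Set.ncard_image_of_injective _ cm_inj]
      exact (Nat.card_coe_set_eq _)
    rw [h1]
    refine le_trans (Set.ncard_le_ncard hsub (Set.toFinite _)) ?_
    refine le_trans (Set.ncard_insert_le _ _) ?_
    refine le_trans (Nat.add_le_add_right (Set.ncard_insert_le _ _) 1) ?_
    refine le_trans (Nat.add_le_add_right (Nat.add_le_add_right (Set.ncard_insert_le _ _) 1) 1) ?_
    rw [Set.ncard_singleton]
  -- conjugates of `t`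
  have hconj : ∀ r : (R : Subgroup (GL (Fin 2) F)), r ∉ N → cm (r * t * r⁻¹) = -cm t := by
    intro r hr
    have hmemE : r * t * r⁻¹ ∈ E := hn.conj_mem t htE r
    have hc := comm_of_sq_eq_one hE hmemE htE
    rcases hfour _ hc with h | h | h | h
    · exfalso
      apply ht1
      have : r * t * r⁻¹ = 1 := cm_inj (by rw [h, cm_one])
      have : t = 1 := by
        have h' : t = r⁻¹ * (r * t * r⁻¹) * r := by group
        rw [h', this]; group
      rw [this, cm_one]
    · exfalso
      apply htm1
      have h' : cm t = cm r⁻¹ * cm (r * t * r⁻¹) * cm r := by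
        rw [← cm_mul, ← cm_mul]; congr 1; group
      rw [h', h, mul_neg, mul_one, neg_mul, ← cm_mul, inv_mul_cancel, cm_one]
    · exfalso
      apply hr
      rw [hNmem]
      have : r * t * r⁻¹ = t := cm_inj h
      calc r * t = r * t * r⁻¹ * r := by group
        _ = t * r := by rw [this]
    · exact h
  have hidx : N.index ≤ 2 := by
    by_cases htop : N = ⊤
    · rw [htop, Subgroup.index_top]; norm_num
    · obtain ⟨a, ha⟩ : ∃ a, a ∉ N := by
        by_contra h
        push Not at h
        exact htop (eq_top_iff.2 fun x _ => h x)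
      have : N.index = 2 := by
        rw [Subgroup.index_eq_two_iff]
        refine ⟨a, fun b => ?_⟩
        by_cases hb : b ∈ N
        · refine Or.inr ⟨hb, ?_⟩
          intro hba
          apply ha
          have : a = b⁻¹ * (b * a) := by group
          rw [this]
          exact N.mul_mem (N.inv_mem hb) hba
        · refine Or.inl ⟨?_, hb⟩
          rw [hNmem]
          have h1 := hconj a ha
          have h2 := hconj b hb
          have h3 : cm (b * a * t * (b * a)⁻¹) = cm t := by
            have e : b * a * t * (b * a)⁻¹ = b * (a * t * a⁻¹) * b⁻¹ := by group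
            rw [e, cm_mul, cm_mul, h1, mul_neg, neg_mul, ← cm_mul, ← cm_mul, h2, neg_neg]
          have h4 : b * a * t * (b * a)⁻¹ = t := cm_inj h3
          calc b * a * t = b * a * t * (b * a)⁻¹ * (b * a) := by group
            _ = t * (b * a) := by rw [h4]
      rw [this]
  have hR := card_sylow_gl2_three hF hq R
  have hc3 := three_le_cq hq
  have hmul := Subgroup.card_mul_index N
  have h16 : 16 ≤ Nat.card (R : Subgroup (GL (Fin 2) F)) := by
    rw [hR]
    calc 16 = 2 ^ 4 := by norm_num
      _ ≤ 2 ^ (cq (Fintype.card F) + 1) := Nat.pow_le_pow_right (by norm_num) (by omega)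
  have : Nat.card N * N.index ≤ 4 * 2 := Nat.mul_le_mul hNcard hidx
  omega

end Cfsg.Agent.Helper23.SpShape
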