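import Mathlib
import Cfsg.Agent.Lib.Helper23.GL2Base

set_option autoImplicit false
set_option linter.style.haveILetI false

/-!
# The normal 2-rank of a Sylow 2-subgroup of `GL_n(q)`, `q` odd
-/

namespace Cfsg.Agent.Helper23.SpShape

open Matrix Cfsg.Agent.Helper23.SqComm

universe u

/-- a nontrivial finite 2-group has a normal subgroup of order two -/
theorem hasNEA_one_of_pgroup {R : Type u} [Group R] [Finite R] [Nontrivial R]
    (hp : IsPGroup 2 R) : HasNEA R 1 := by
  classical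
  haveI : Fact (Nat.Prime 2) := ⟨Nat.prime_two⟩
  haveI := hp.center_nontrivial
  have hpc : IsPGroup 2 (Subgroup.center R) := hp.to_subgroup _
  obtain ⟨n, hn⟩ := (IsPGroup.iff_card.1 hpc)
  have hn0 : n ≠ 0 := by
    intro h
    rw [h, pow_zero] at hn
    have := Finite.one_lt_card (α := Subgroup.center R)
    omega
  have hdvd : 2 ∣ Nat.card (Subgroup.center R) := by
    rw [hn]; exact dvd_pow_self 2 hn0
  obtain ⟨z, hz⟩ := exists_prime_orderOf_dvd_card' 2 hdvd
  have hz' : orderOf (z : R) = 2 := by rw [Subgroup.orderOf_coe, hz]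
  have hcen : ∀ g : R, g * (z : R) * g⁻¹ = z := by
    intro g
    have := Subgroup.mem_center_iff.1 z.2 g
    rw [this]; group
  refine ⟨Subgroup.zpowers (z : R), ?_, ?_, ?_⟩
  · constructor
    intro x hx g
    obtain ⟨m, rfl⟩ := Subgroup.mem_zpowers_iff.1 hx
    rw [← conj_zpow, hcen]
    exact Subgroup.zpow_mem _ (Subgroup.mem_zpowers _) m
  · intro a ha
    obtain ⟨m, rfl⟩ := Subgroup.mem_zpowers_iff.1 ha
    have h2 : (z : R) ^ 2 = 1 := by rw [← hz']; exact pow_orderOf_eq_one _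
    rw [← zpow_natCast, ← _root_.zpow_mul, mul_comm, _root_.zpow_mul, zpow_natCast, h2, _root_.one_zpow]
  · rw [Nat.card_zpowers, hz']; norm_num

variable {F : Type u} [Field F]

theorem EmbD.toEmbG {R : Type u} [Group R] {χ : R →* Fˣ} {I : Type} [Fintype I] [DecidableEq I]
    (h : EmbD R χ I) : EmbG R (0 : Matrix I I F) := by
  obtain ⟨f, hf, -⟩ := h
  exact ⟨f, hf, fun r => by unfold Pres; simp⟩

theorem embG_zero_reindex {R : Type u} [Group R] {I I' : Type} [Fintype I] [DecidableEq I]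
    [Fintype I'] [DecidableEq I'] (e : I ≃ I') (h : EmbG R (0 : Matrix I I F)) :
    EmbG R (0 : Matrix I' I' F) := by
  have := h.reindex e
  simpa using this

theorem embG_zero_prod {R S : Type u} [Group R] [Group S] {I₁ I₂ : Type} [Fintype I₁]
    [DecidableEq I₁] [Fintype I₂] [DecidableEq I₂] (h₁ : EmbG R (0 : Matrix I₁ I₁ F))
    (h₂ : EmbG S (0 : Matrix I₂ I₂ F)) : EmbG (R × S) (0 : Matrix (I₁ ⊕ I₂) (I₁ ⊕ I₂) F) := by
  have := h₁.prod h₂
  rwa [Matrix.fromBlocks_zero] at this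

theorem embG_zero_wr {R : Type u} [Group R] {I : Type} [Fintype I] [DecidableEq I] [Nonempty I]
    (h : EmbG R (0 : Matrix I I F)) : EmbG (Wr2 R) (0 : Matrix (I ⊕ I) (I ⊕ I) F) := by
  have := h.wr
  rwa [Matrix.fromBlocks_zero] at this

/-- the recursion: `m` copies of a group embedded in `GL_d` -/
theorem shape_gl (Q : Type u) [Group Q] (d : ℕ) (hd : 1 ≤ d)
    (hQ : EmbG Q (0 : Matrix (Fin d) (Fin d) F)) (c : ℕ) (m : ℕ) (hm : 1 ≤ m) :
    ∃ s : Shape, s.logcard c = Kc c m ∧ s.leaves = m ∧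
      EmbG (s.grp Q).T (0 : Matrix (Fin (d * m)) (Fin (d * m)) F) := by
  obtain ⟨s, hs1, hs2, -, hs3⟩ := Shape.exists_of_closed
    (fun s a => EmbG (s.grp Q).T (0 : Matrix (Fin (d * a)) (Fin (d * a)) F)) c
    (embG_zero_reindex (finCongr (by ring)) hQ)
    (by
      intro s t a b _ _ h₁ h₂
      exact embG_zero_reindex (finSumFinEquiv.trans (finCongr (by ring))) (embG_zero_prod h₁ h₂))
    (by
      intro s a ha h₁
      haveI : Nonempty (Fin (d * a)) := ⟨⟨0, Nat.mul_pos (by omega) (by omega)⟩⟩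
      exact embG_zero_reindex (finSumFinEquiv.trans (finCongr (by ring))) (embG_zero_wr h₁))
    m hm
  exact ⟨s, hs1, hs2, hs3⟩

/-- transfer to the Sylow 2-subgroups -/
theorem rank_of_embG [Fintype F] {T : Type u} [Group T] {n k : ℕ}
    (h : EmbG T (0 : Matrix (Fin n) (Fin n) F))
    (hcard : Nat.card T = 2 ^ (Nat.card (GL (Fin n) F)).factorization 2)
    (h1 : HasNEA T k) (h2 : NEAB T k) (S : Sylow 2 (GL (Fin n) F)) :
    HasNEA (S : Subgroup (GL (Fin n) F)) k ∧ NEAB (S : Subgroup (GL (Fin n) F)) k := by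
  obtain ⟨f, hf, -⟩ := h
  obtain ⟨e⟩ := sylow_equiv_of_card_two (G := GL (Fin n) F) f hf hcard S
  exact ⟨h1.of_equiv e, h2.of_equiv e⟩

section units

variable [Fintype F]

theorem card_sylow_units (C : Sylow 2 Fˣ) :
    Nat.card (C : Subgroup Fˣ) = 2 ^ padicValNat 2 (Fintype.card F - 1) := by
  classical
  haveI : Fact (Nat.Prime 2) := ⟨Nat.prime_two⟩
  rw [C.card_eq_multiplicity, Cfsg.Agent.Helper2.card_units_field,
    Nat.factorization_def _ Nat.prime_two]

theorem neg_one_mem_sylow_units (C : Sylow 2 Fˣ) : (-1 : Fˣ) ∈ (C : Subgroup Fˣ) :=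
  mem_sylow_units C (-1) 1 (by simp)

theorem uniqInv_sylow_units (h2 : (2 : F) ≠ 0) (C : Sylow 2 Fˣ) :
    UniqInv (C : Subgroup Fˣ) := by
  refine ⟨⟨-1, neg_one_mem_sylow_units C⟩, ?_, ?_, ?_⟩
  · intro h
    have h1 := congrArg (fun x : (C : Subgroup Fˣ) => ((x : Fˣ) : F)) h
    simp only [Units.val_neg, Units.val_one, Subgroup.coe_one] at h1
    apply h2
    linear_combination -h1
  · apply Subtype.ext
    simp
  · intro x hx
    have hx' : (x : Fˣ) ^ 2 = 1 := by
      have := congrArg Subtype.val hx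
      simpa using this
    rcases units_sq_eq_one hx' with h | h
    · left; exact Subtype.ext h
    · right; exact Subtype.ext h

omit [Fintype F] in
theorem embG_sylow_units (C : Sylow 2 Fˣ) :
    EmbG (C : Subgroup Fˣ) (0 : Matrix (Fin 1) (Fin 1) F) :=
  (embD_units (C : Subgroup Fˣ).subtype Subtype.val_injective).toEmbG

end units

/-- `q ≡ 1 (mod 4)` -/
theorem normal_rank_GL_one [Fintype F] (hF : Odd (Fintype.card F))
    (hq : Fintype.card F % 4 = 1) (n : ℕ) (hn : 1 ≤ n) (S : Sylow 2 (GL (Fin n) F)) :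
    HasNEA (S : Subgroup (GL (Fin n) F)) n ∧ NEAB (S : Subgroup (GL (Fin n) F)) n := by
  classical
  haveI : Fact (Nat.Prime 2) := ⟨Nat.prime_two⟩
  have h2 : (2 : F) ≠ 0 := two_ne_zero_of_odd_card hF
  obtain ⟨C, -⟩ : ∃ C : Sylow 2 Fˣ, C = default := ⟨_, rfl⟩
  have hU := uniqInv_sylow_units h2 C
  obtain ⟨i, hi⟩ := FiniteField.isSquare_neg_one_iff.2 (by omega : Fintype.card F % 4 ≠ 3)
  have hi0 : i ≠ 0 := by
    intro h
    rw [h, mul_zero] at hi
    have : (1 : F) = 0 := by linear_combination -hi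
    exact one_ne_zero this
  have hc_mem : Units.mk0 i hi0 ∈ (C : Subgroup Fˣ) := by
    apply mem_sylow_units C _ 2
    apply Units.ext
    rw [Units.val_pow_eq_pow_val, Units.val_mk0, Units.val_one]
    have : i ^ 2 ^ 2 = (i * i) * (i * i) := by ring
    rw [this, ← hi]
    ring
  have hne : ∃ g : (C : Subgroup Fˣ), g ^ 2 ≠ 1 := by
    refine ⟨⟨Units.mk0 i hi0, hc_mem⟩, ?_⟩
    intro h
    have h1 := congrArg (fun x : (C : Subgroup Fˣ) => ((x : Fˣ) : F)) h
    simp only [Subgroup.coe_pow, Units.val_pow_eq_pow_val, Units.val_mk0, Subgroup.coe_one,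
      Units.val_one] at h1
    apply h2
    linear_combination -h1 - hi
  obtain ⟨s, hs1, hs2, hs3⟩ := shape_gl (F := F) (C : Subgroup Fˣ) 1 (le_refl 1)
    (embG_sylow_units C) (padicValNat 2 (Fintype.card F - 1)) n hn
  have hs3' : EmbG (s.grp (C : Subgroup Fˣ)).T (0 : Matrix (Fin n) (Fin n) F) :=
    embG_zero_reindex (finCongr (by ring)) hs3
  have hcard : Nat.card (s.grp (C : Subgroup Fˣ)).T =
      2 ^ (Nat.card (GL (Fin n) F)).factorization 2 := by
    rw [Shape.card_grp _ _ (card_sylow_units C) s, hs1, v2_card_GL hF,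
      gv_of_one _ hq Fintype.one_lt_card]
  have hnea := Shape.hasNEA _ hU.hasNEA s
  have hneab := (Shape.neab _ (EAB.neab hU.eab) hne s).1
  rw [hs2] at hnea hneab
  exact rank_of_embG hs3' hcard hnea hneab S

/-- `q ≡ 3 (mod 4)` -/
theorem normal_rank_GL_three [Fintype F] (hF : Odd (Fintype.card F))
    (hq : Fintype.card F % 4 = 3) (n : ℕ) (hn : 1 ≤ n) (S : Sylow 2 (GL (Fin n) F)) :
    HasNEA (S : Subgroup (GL (Fin n) F)) ((n + 1) / 2) ∧
      NEAB (S : Subgroup (GL (Fin n) F)) ((n + 1) / 2) := by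
  classical
  haveI : Fact (Nat.Prime 2) := ⟨Nat.prime_two⟩
  have h2 : (2 : F) ≠ 0 := two_ne_zero_of_odd_card hF
  obtain ⟨C, -⟩ : ∃ C : Sylow 2 Fˣ, C = default := ⟨_, rfl⟩
  have hU := uniqInv_sylow_units h2 C
  have hCcard : Nat.card (C : Subgroup Fˣ) = 2 ^ 1 := by
    rw [card_sylow_units, v2_of_mod_four_eq_two (by omega : (Fintype.card F - 1) % 4 = 2)]
  obtain ⟨R, -⟩ : ∃ R : Sylow 2 (GL (Fin 2) F), R = default := ⟨_, rfl⟩
  have hRcard := card_sylow_gl2_three hF hq R
  have hc3 := three_le_cq hq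
  have hRneab := neab_sylow_gl2_three hF hq R
  haveI : Nontrivial (R : Subgroup (GL (Fin 2) F)) := by
    rw [← Finite.one_lt_card_iff_nontrivial, hRcard]
    exact Nat.one_lt_two_pow (by omega)
  have hRnea : HasNEA (R : Subgroup (GL (Fin 2) F)) 1 := hasNEA_one_of_pgroup R.isPGroup'
  have hRne : ∃ g : (R : Subgroup (GL (Fin 2) F)), g ^ 2 ≠ 1 := by
    by_contra hno
    push Not at hno
    have := hRneab ⊤ inferInstance (fun a _ => hno a)
    rw [Subgroup.card_top, hRcard] at this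
    have h16 : 2 ^ 4 ≤ 2 ^ (cq (Fintype.card F) + 1) :=
      Nat.pow_le_pow_right (by norm_num) (by omega)
    omega
  have hRemb : EmbG (R : Subgroup (GL (Fin 2) F)) (0 : Matrix (Fin 2) (Fin 2) F) :=
    ⟨(R : Subgroup (GL (Fin 2) F)).subtype, Subtype.val_injective, fun r => by unfold Pres; simp⟩
  obtain ⟨m, hm | hm⟩ := Nat.even_or_odd' n
  · -- `n = 2 m`
    have hm1 : 1 ≤ m := by omega
    obtain ⟨s, hs1, hs2, hs3⟩ := shape_gl (F := F) (R : Subgroup (GL (Fin 2) F)) 2 (by norm_num)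
      hRemb (cq (Fintype.card F) + 1) m hm1
    have hs3' : EmbG (s.grp (R : Subgroup (GL (Fin 2) F))).T (0 : Matrix (Fin n) (Fin n) F) :=
      embG_zero_reindex (finCongr (by omega)) hs3
    have hcard : Nat.card (s.grp (R : Subgroup (GL (Fin 2) F))).T =
        2 ^ (Nat.card (GL (Fin n) F)).factorization 2 := by
      rw [Shape.card_grp _ _ hRcard s, hs1, v2_card_GL hF, hm, gv_even_three _ hq]
    have hnea := Shape.hasNEA _ hRnea s
    have hneab := (Shape.neab _ hRneab hRne s).1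
    have hk : (n + 1) / 2 = m := by omega
    rw [hs2, ← hk] at hnea hneab
    exact rank_of_embG hs3' hcard hnea hneab S
  · rcases Nat.eq_zero_or_pos m with hm0 | hm1
    · -- `n = 1`
      have hn1 : n = 1 := by omega
      subst hn1
      have hcard : Nat.card (C : Subgroup Fˣ) =
          2 ^ (Nat.card (GL (Fin 1) F)).factorization 2 := by
        rw [hCcard, v2_card_GL hF]
        have := gv_odd_three (Fintype.card F) hq 0
        rw [show 2 * 0 + 1 = 1 from rfl] at this
        rw [this]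
        simp [Kc]
      exact rank_of_embG (embG_sylow_units C) hcard hU.hasNEA (EAB.neab hU.eab) S
    · -- `n = 2 m + 1`
      obtain ⟨s, hs1, hs2, hs3⟩ := shape_gl (F := F) (R : Subgroup (GL (Fin 2) F)) 2
        (by norm_num) hRemb (cq (Fintype.card F) + 1) m hm1
      have hemb : EmbG ((s.grp (R : Subgroup (GL (Fin 2) F))).T × (C : Subgroup Fˣ))
          (0 : Matrix (Fin n) (Fin n) F) :=
        embG_zero_reindex (finSumFinEquiv.trans (finCongr (by omega)))
          (embG_zero_prod hs3 (embG_sylow_units C))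
      haveI := Shape.finite (R : Subgroup (GL (Fin 2) F)) s
      have hcard : Nat.card ((s.grp (R : Subgroup (GL (Fin 2) F))).T × (C : Subgroup Fˣ)) =
          2 ^ (Nat.card (GL (Fin n) F)).factorization 2 := by
        rw [Nat.card_prod, Shape.card_grp _ _ hRcard s, hs1, hCcard, v2_card_GL hF, hm,
          gv_odd_three _ hq, ← pow_add]
      have hnea := (Shape.hasNEA _ hRnea s).prod hU.hasNEA
      have hneab := (Shape.neab _ hRneab hRne s).1.prod (EAB.neab hU.eab)
      have hk : (n + 1) / 2 = m + 1 := by omega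
      rw [hs2, ← hk] at hnea hneab
      exact rank_of_embG hemb hcard hnea hneab S

end Cfsg.Agent.Helper23.SpShape
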