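import Mathlib
import Cfsg.Agent.Lib.Helper8.GRDefs

/-!
# S3085 piece GR-NONAB (helper23, for helper8): a subgroup with extraspecial data and at least 8 elements is nonabelian.
-/

set_option autoImplicit false
set_option linter.unusedVariables false

namespace Cfsg.Agent.Helper8.GR

open Cfsg.Agent.Helper8.XS

theorem nonab {Q : Type*} [Group Q] [Finite Q] {z : Q} (C : Subgroup Q) (h : XSp C z)
    (hc : 8 ≤ Nat.card C) : ∃ a ∈ C, ∃ b ∈ C, a * b ≠ b * a := by
  by_contra hcon
  push Not at hcon
  have hsub : ∀ w ∈ C, w = 1 ∨ w = z := fun w hw => h.hcenter w hw (fun x hx => hcon w hw x hx)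
  have hle : (C : Set Q) ⊆ ({1, z} : Set Q) := by
    intro w hw
    rcases hsub w hw with rfl | rfl
    · exact Set.mem_insert _ _
    · exact Set.mem_insert_of_mem _ rfl
  have h1 : Nat.card C ≤ Nat.card (({1, z} : Set Q)) := by
    have : Nat.card C = Nat.card ((C : Set Q)) := rfl
    rw [this]
    exact Nat.card_mono (Set.toFinite _) hle
  have h2 : Nat.card (({1, z} : Set Q)) ≤ 2 := by
    classical
    rw [Nat.card_eq_fintype_card, ← Set.toFinset_card]
    have : ({1, z} : Set Q).toFinset = ({1, z} : Finset Q) := by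
      ext x; simp
    rw [this]
    exact Finset.card_le_two
  omega

end Cfsg.Agent.Helper8.GR
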