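import Mathlib

/-!
# Piece ARITH for helper24 (S4463)
-/

set_option autoImplicit false

namespace Cfsg.Agent.Helper23.IPArith

open scoped Nat

theorem arith_a (b : ℕ) (hb : 1 ≤ b) : b ^ 2 * ((b - 1)!) ^ 2 = (b !) ^ 2 := by
  rw [← Nat.mul_factorial_pred (by omega : b ≠ 0), mul_pow]

theorem arith_b (b f : ℕ) (hb : 1 ≤ b) (hf : f ≤ b) : f * ((b - 1)!) ^ 2 ≤ (b !) ^ 2 := by
  rw [← arith_a b hb]
  apply Nat.mul_le_mul_right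
  calc f ≤ b := hf
    _ = b ^ 1 := (pow_one b).symm
    _ ≤ b ^ 2 := Nat.pow_le_pow_right hb (by norm_num)

theorem arith_c (b m : ℕ) (hb : 3 ≤ b) (hm : m ≤ b ^ 3) : m * ((b / 2)!) ^ 2 ≤ (b !) ^ 2 := by
  obtain ⟨k, rfl⟩ : ∃ k, b = k + 3 := ⟨b - 3, by omega⟩
  have hh : (k + 3) / 2 ≤ k + 1 := by omega
  have h1 : ((k + 3) / 2)! ≤ (k + 1)! := Nat.factorial_le hh
  have h2 : (k + 3)! = (k + 3) * ((k + 2) * (k + 1)!) := by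
    rw [Nat.factorial_succ (k + 2), Nat.factorial_succ (k + 1)]
  have h3 : (k + 3) ^ 3 ≤ ((k + 3) * (k + 2)) ^ 2 := by nlinarith [sq_nonneg (k + 1)]
  calc m * (((k + 3) / 2)!) ^ 2 ≤ (k + 3) ^ 3 * ((k + 1)!) ^ 2 :=
        Nat.mul_le_mul hm (Nat.pow_le_pow_left h1 2)
    _ ≤ ((k + 3) * (k + 2)) ^ 2 * ((k + 1)!) ^ 2 := Nat.mul_le_mul_right _ h3
    _ = ((k + 3)!) ^ 2 := by rw [h2]; ring

theorem arith_d (b m : ℕ) (hb : 5 ≤ b) (hm : m ≤ b ^ 4) : m * ((b / 2)!) ^ 2 ≤ (b !) ^ 2 := by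
  obtain ⟨k, rfl⟩ : ∃ k, b = k + 5 := ⟨b - 5, by omega⟩
  have hh : (k + 5) / 2 ≤ k + 2 := by omega
  have h1 : ((k + 5) / 2)! ≤ (k + 2)! := Nat.factorial_le hh
  have h2 : (k + 5)! = (k + 5) * ((k + 4) * ((k + 3) * (k + 2)!)) := by
    rw [Nat.factorial_succ (k + 4), Nat.factorial_succ (k + 3), Nat.factorial_succ (k + 2)]
  have h4 : k + 5 ≤ (k + 4) * (k + 3) := by nlinarith
  have h3 : (k + 5) ^ 4 ≤ ((k + 5) * ((k + 4) * (k + 3))) ^ 2 := by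
    calc (k + 5) ^ 4 = ((k + 5) * (k + 5)) ^ 2 := by ring
      _ ≤ ((k + 5) * ((k + 4) * (k + 3))) ^ 2 :=
        Nat.pow_le_pow_left (Nat.mul_le_mul_left _ h4) 2
  calc m * (((k + 5) / 2)!) ^ 2 ≤ (k + 5) ^ 4 * ((k + 2)!) ^ 2 :=
        Nat.mul_le_mul hm (Nat.pow_le_pow_left h1 2)
    _ ≤ ((k + 5) * ((k + 4) * (k + 3))) ^ 2 * ((k + 2)!) ^ 2 := Nat.mul_le_mul_right _ h3
    _ = ((k + 5)!) ^ 2 := by rw [h2]; ring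

end Cfsg.Agent.Helper23.IPArith
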