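import Mathlib
import Cfsg.Agent.Lib.Helper24.IPDefs

/-!
# Piece CNT for helper24 (S4463): a small conjugacy class
-/

set_option autoImplicit false
set_option linter.style.haveILetI false

namespace Cfsg.Agent.Helper23.IPCnt

open Cfsg Cfsg.Agent.Helper24 Cfsg.Agent.Helper24.IP

universe u

/-- class size = index of the centralizer -/
theorem ncard_carrier_eq_index {G : Type*} [Group G] [Finite G] (g : G) :
    (ConjClasses.mk g).carrier.ncard = (Subgroup.centralizer ({g} : Set G)).index := by
  have h1 : Nat.card (ConjClasses.mk g).carrier *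
      Nat.card (Subgroup.centralizer ({g} : Set G)) = Nat.card G := by
    rw [Subgroup.nat_card_centralizer_nat_card_stabilizer,
      ← ConjAct.orbit_eq_carrier_conjClasses, Nat.card_coe_set_eq, ← MulAction.index_stabilizer,
      Subgroup.index_mul_card]
    exact Nat.card_congr ConjAct.toConjAct.toEquiv.symm
  have h2 := Subgroup.index_mul_card (Subgroup.centralizer ({g} : Set G))
  rw [← h2] at h1
  rw [← Nat.card_coe_set_eq]
  exact Nat.eq_of_mul_eq_mul_right Nat.card_pos h1

theorem exists_small_class {Q : Type u} [Group Q] [Finite Q] [Nontrivial Q] {b : ℕ}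
    (hb : Bdd Q b) :
    ∃ x : Q, x ≠ 1 ∧ (Subgroup.centralizer ({x} : Set Q)).index ≤ b ^ 2 := by
  classical
  by_contra hcon
  push Not at hcon
  haveI : Fintype Q := Fintype.ofFinite Q
  letI : Fintype (IrrCharacter Q) := irrFintype
  haveI : Fintype (ConjClasses Q) := Fintype.ofFinite _
  -- the degree sum
  have hsum := sum_charDegree_sq (G := Q)
  rw [← Finset.add_sum_erase Finset.univ _ (Finset.mem_univ (principalChar Q))] at hsum
  have h1 : charDegree ((principalChar Q : IrrCharacter Q) : Q → ℂ) = 1 := by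
    apply charDegree_natCast 1
    simp [principalChar]
  rw [h1, one_pow] at hsum
  have hle : ∑ χ ∈ Finset.univ.erase (principalChar Q), charDegree (χ : Q → ℂ) ^ 2 ≤
      (Fintype.card (IrrCharacter Q) - 1) * b ^ 2 := by
    have := Finset.sum_le_card_nsmul (Finset.univ.erase (principalChar Q))
      (fun χ : IrrCharacter Q => charDegree (χ : Q → ℂ) ^ 2) (b ^ 2)
      (fun χ _ => Nat.pow_le_pow_left (hb χ.1 χ.2) 2)
    rw [Finset.card_erase_of_mem (Finset.mem_univ _), Finset.card_univ, smul_eq_mul] at this
    exact this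
  have hk : Fintype.card (IrrCharacter Q) = Fintype.card (ConjClasses Q) := by
    have := card_irr_eq_card_conjClasses (G := Q)
    rwa [Nat.card_eq_fintype_card, Nat.card_eq_fintype_card] at this
  -- the class equation
  have hcl := Group.sum_card_conj_classes_eq_card Q
  rw [finsum_eq_sum_of_fintype,
    ← Finset.add_sum_erase Finset.univ _ (Finset.mem_univ (ConjClasses.mk (1 : Q)))] at hcl
  have h2 : 1 ≤ (ConjClasses.mk (1 : Q)).carrier.ncard := by
    rw [Nat.one_le_iff_ne_zero, Ne, Set.ncard_eq_zero (Set.toFinite _)]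
    intro h0
    have : (1 : Q) ∈ (ConjClasses.mk (1 : Q)).carrier := ConjClasses.mem_carrier_mk
    rw [h0] at this
    exact this
  have hge : (Fintype.card (ConjClasses Q) - 1) * (b ^ 2 + 1) ≤
      ∑ c ∈ Finset.univ.erase (ConjClasses.mk (1 : Q)), c.carrier.ncard := by
    have := Finset.card_nsmul_le_sum (Finset.univ.erase (ConjClasses.mk (1 : Q)))
      (fun c : ConjClasses Q => c.carrier.ncard) (b ^ 2 + 1) ?_
    · rw [Finset.card_erase_of_mem (Finset.mem_univ _), Finset.card_univ, smul_eq_mul] at this
      exact this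
    · intro c hc
      rw [Finset.mem_erase] at hc
      obtain ⟨x, rfl⟩ := ConjClasses.mk_surjective c
      have hx : x ≠ 1 := by
        rintro rfl
        exact hc.1 rfl
      show b ^ 2 + 1 ≤ (ConjClasses.mk x).carrier.ncard
      rw [ncard_carrier_eq_index]
      exact hcon x hx
  -- at least two classes
  have hk2 : 2 ≤ Fintype.card (ConjClasses Q) := by
    obtain ⟨x, hx⟩ := exists_ne (1 : Q)
    have hne : ConjClasses.mk x ≠ ConjClasses.mk (1 : Q) := by
      intro h
      rw [ConjClasses.mk_eq_mk_iff_isConj] at h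
      exact hx (isConj_one_left.1 h)
    have : 1 < Fintype.card (ConjClasses Q) :=
      Fintype.one_lt_card_iff.2 ⟨_, _, hne⟩
    omega
  rw [Nat.card_eq_fintype_card] at hsum hcl
  rw [hk] at hle
  set k := Fintype.card (ConjClasses Q) with hkdef
  set S1 := ∑ χ ∈ Finset.univ.erase (principalChar Q), charDegree (χ : Q → ℂ) ^ 2
  set S2 := ∑ c ∈ Finset.univ.erase (ConjClasses.mk (1 : Q)), c.carrier.ncard
  have h3 : (k - 1) * (b ^ 2 + 1) ≤ (k - 1) * b ^ 2 := by omega
  have h4 : k - 1 ≥ 1 := by omega
  nlinarith
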