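import Mathlib
import Cfsg.Prelude.Def_Characters
import Cfsg.Agent.Lib.Helper24.CharOrtho
import Cfsg.Agent.Lib.Helper24.CharAlgebra

/-!
# Characters of representations over a subfield of `ℂ` (helper23's library)

`kchar ρ` is the complex-valued character of a representation over a field `K` with an algebra
structure `K → ℂ`.  We show that it is a complex character (scalar extension, at the level of
matrices), and the cancellation lemma: if `χ + kchar σ = kchar ρ` then `χ` is afforded by a
`K`-representation.
-/

set_option autoImplicit false
set_option linter.style.haveILetI false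

namespace Cfsg.Agent.Helper23.KChar

open Cfsg Cfsg.Agent.Helper24 Module

universe u v w

open scoped ComplexConjugate

section Basic

variable {K : Type w} [Field K] [Algebra K ℂ]
variable {G : Type u} [Group G]

/-- The complex-valued character of a representation over `K`. -/
noncomputable def kchar {V : Type v} [AddCommGroup V] [Module K V] (ρ : Representation K G V) :
    G → ℂ :=
  fun g => algebraMap K ℂ (ρ.character g)

theorem kchar_apply {V : Type v} [AddCommGroup V] [Module K V] (ρ : Representation K G V)
    (g : G) : kchar ρ g = algebraMap K ℂ (ρ.character g) := rfl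

/-- The complex representation obtained from a matrix representation over `K`. -/
noncomputable def matRepC {n : ℕ} (M : G →* Matrix (Fin n) (Fin n) K) :
    Representation ℂ G (Fin n → ℂ) where
  toFun g := Matrix.toLin' ((M g).map (algebraMap K ℂ))
  map_one' := by
    rw [map_one, Matrix.map_one _ (map_zero _) (map_one _), Matrix.toLin'_one]
    rfl
  map_mul' g h := by
    rw [map_mul, Matrix.map_mul, Matrix.toLin'_mul]
    rfl

theorem matRepC_apply {n : ℕ} (M : G →* Matrix (Fin n) (Fin n) K) (g : G) :
    matRepC M g = Matrix.toLin' ((M g).map (algebraMap K ℂ)) := rfl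

theorem toMatrix'_matRepC {n : ℕ} (M : G →* Matrix (Fin n) (Fin n) K) (g : G) (i j : Fin n) :
    LinearMap.toMatrix' (matRepC M g) i j = algebraMap K ℂ (M g i j) := by
  rw [matRepC_apply, LinearMap.toMatrix'_toLin']
  rfl

theorem character_matRepC {n : ℕ} (M : G →* Matrix (Fin n) (Fin n) K) (g : G) :
    (matRepC M).character g = algebraMap K ℂ (Matrix.trace (M g)) := by
  unfold Representation.character
  rw [matRepC_apply, Matrix.trace_toLin'_eq]
  simp [Matrix.trace, map_sum]

/-- The matrix form of a representation with respect to a basis. -/
noncomputable def matOfBasis {V : Type v} [AddCommGroup V] [Module K V] {n : ℕ}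
    (b : Basis (Fin n) K V) (ρ : Representation K G V) : G →* Matrix (Fin n) (Fin n) K :=
  ((LinearMap.toMatrixAlgEquiv b : (V →ₗ[K] V) ≃ₐ[K] Matrix (Fin n) (Fin n) K) :
    (V →ₗ[K] V) →* Matrix (Fin n) (Fin n) K).comp ρ

omit [Algebra K ℂ] in
theorem matOfBasis_apply {V : Type v} [AddCommGroup V] [Module K V] {n : ℕ}
    (b : Basis (Fin n) K V) (ρ : Representation K G V) (g : G) :
    matOfBasis b ρ g = LinearMap.toMatrix b b (ρ g) := rfl

theorem character_matRepC_matOfBasis {V : Type v} [AddCommGroup V] [Module K V] {n : ℕ}
    (b : Basis (Fin n) K V) (ρ : Representation K G V) :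
    (matRepC (matOfBasis b ρ)).character = kchar ρ := by
  funext g
  rw [character_matRepC, matOfBasis_apply, kchar_apply, Representation.character,
    LinearMap.trace_eq_matrix_trace K b]

/-- The character of a finite-dimensional `K`-representation is a complex character. -/
theorem isCharacter_kchar {V : Type v} [AddCommGroup V] [Module K V] [FiniteDimensional K V]
    (ρ : Representation K G V) : IsCharacter G (kchar ρ) :=
  ⟨_, matRepC (matOfBasis (Module.finBasis K V) ρ), character_matRepC_matOfBasis _ ρ⟩

theorem kchar_one {V : Type v} [AddCommGroup V] [Module K V] [FiniteDimensional K V]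
    (ρ : Representation K G V) : kchar ρ 1 = (finrank K V : ℂ) := by
  rw [kchar_apply, Representation.char_one, map_natCast]

theorem kchar_prod {V : Type v} [AddCommGroup V] [Module K V] [FiniteDimensional K V]
    {W : Type v} [AddCommGroup W] [Module K W] [FiniteDimensional K W]
    (ρ : Representation K G V) (σ : Representation K G W) :
    kchar (ρ.prod σ) = kchar ρ + kchar σ := by
  funext g
  simp only [kchar_apply, Representation.character, Pi.add_apply, ← map_add]
  congr 1
  exact LinearMap.trace_prodMap' _ _

theorem kchar_equiv {V : Type v} [AddCommGroup V] [Module K V] [FiniteDimensional K V]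
    {W : Type v} [AddCommGroup W] [Module K W] [FiniteDimensional K W]
    {ρ : Representation K G V} {σ : Representation K G W} (e : ρ.Equiv σ) :
    kchar ρ = kchar σ := by
  funext g
  rw [kchar_apply, kchar_apply, Representation.char_iso e]

theorem kchar_inv [Finite G] {V : Type v} [AddCommGroup V] [Module K V] [FiniteDimensional K V]
    (ρ : Representation K G V) (g : G) : kchar ρ g⁻¹ = conj (kchar ρ g) := by
  rw [← character_matRepC_matOfBasis (Module.finBasis K V) ρ]
  exact char_inv _ g

/-- `χ` is afforded by a matrix representation over `K`. -/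
def IsKChar (K : Type w) [Field K] [Algebra K ℂ] {G : Type u} [Group G] (χ : G → ℂ) : Prop :=
  ∃ (m : ℕ) (M : G →* Matrix (Fin m) (Fin m) K), (matRepC M).character = χ

theorem isKChar_kchar {V : Type v} [AddCommGroup V] [Module K V] [FiniteDimensional K V]
    (ρ : Representation K G V) : IsKChar K (kchar ρ) :=
  ⟨_, matOfBasis (Module.finBasis K V) ρ, character_matRepC_matOfBasis _ ρ⟩

/-- The `K`-representation given by a matrix representation. -/
noncomputable def matRepK {n : ℕ} (M : G →* Matrix (Fin n) (Fin n) K) :
    Representation K G (Fin n → K) where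
  toFun g := Matrix.toLin' (M g)
  map_one' := by
    rw [map_one, Matrix.toLin'_one]
    rfl
  map_mul' g h := by
    rw [map_mul, Matrix.toLin'_mul]
    rfl

theorem kchar_matRepK {n : ℕ} (M : G →* Matrix (Fin n) (Fin n) K) :
    kchar (matRepK M) = (matRepC M).character := by
  funext g
  rw [character_matRepC, kchar_apply]
  congr 1
  exact Matrix.trace_toLin'_eq _

theorem isKChar_iff {χ : G → ℂ} :
    IsKChar K χ ↔ ∃ (m : ℕ) (ρ : Representation K G (Fin m → K)), kchar ρ = χ := by
  constructor
  · rintro ⟨m, M, hM⟩
    exact ⟨m, matRepK M, by rw [kchar_matRepK, hM]⟩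
  · rintro ⟨m, ρ, rfl⟩
    exact isKChar_kchar ρ

theorem IsKChar.isCharacter {χ : G → ℂ} (h : IsKChar K χ) : IsCharacter G χ := by
  obtain ⟨m, M, hM⟩ := h
  exact ⟨m, matRepC M, hM⟩

theorem isKChar_zero : IsKChar K (0 : G → ℂ) := by
  refine ⟨0, 1, ?_⟩
  funext g
  rw [character_matRepC]
  simp [Matrix.trace]

theorem IsKChar.add {χ ψ : G → ℂ} (hχ : IsKChar K χ) (hψ : IsKChar K ψ) :
    IsKChar K (χ + ψ) := by
  obtain ⟨m, ρ, rfl⟩ := isKChar_iff.mp hχ
  obtain ⟨m', ρ', rfl⟩ := isKChar_iff.mp hψ
  rw [← kchar_prod]
  exact isKChar_kchar _

theorem IsKChar.nsmul {χ : G → ℂ} (hχ : IsKChar K χ) (n : ℕ) : IsKChar K (n • χ) := by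
  induction n with
  | zero => rw [zero_smul]; exact isKChar_zero
  | succ n ih => rw [succ_nsmul]; exact ih.add hχ

theorem isKChar_sum {ι : Type*} (s : Finset ι) (f : ι → G → ℂ)
    (h : ∀ i ∈ s, IsKChar K (f i)) : IsKChar K (∑ i ∈ s, f i) := by
  classical
  induction s using Finset.induction_on with
  | empty => rw [Finset.sum_empty]; exact isKChar_zero
  | insert a s ha ih =>
    rw [Finset.sum_insert ha]
    exact (h a (Finset.mem_insert_self a s)).add
      (ih fun i hi => h i (Finset.mem_insert_of_mem hi))

end Basic

section Cancel

variable {K : Type w} [Field K] [Algebra K ℂ]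
variable {G : Type u} [Group G]

/-- A representation is equivalent to the product of two complementary subrepresentations. -/
noncomputable def complEquivK {V : Type v} [AddCommGroup V] [Module K V]
    {ρ : Representation K G V} (A B : Subrepresentation ρ)
    (hc : IsCompl A.toSubmodule B.toSubmodule) :
    (A.toRepresentation.prod B.toRepresentation).Equiv ρ :=
  Representation.Equiv.mk (Submodule.prodEquivOfIsCompl _ _ hc) (by
    intro g
    ext ⟨v, hv⟩ <;> simp [Representation.prod, Subrepresentation.toRepresentation])

theorem kchar_of_isCompl {V : Type v} [AddCommGroup V] [Module K V] [FiniteDimensional K V]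
    {ρ : Representation K G V} (A B : Subrepresentation ρ)
    (hc : IsCompl A B) :
    kchar ρ = kchar A.toRepresentation + kchar B.toRepresentation := by
  have hc' : IsCompl A.toSubmodule B.toSubmodule := by
    constructor
    · rw [disjoint_iff]
      exact congrArg Subrepresentation.toSubmodule hc.inf_eq_bot
    · rw [codisjoint_iff]
      exact congrArg Subrepresentation.toSubmodule hc.sup_eq_top
  rw [← kchar_prod]
  exact (kchar_equiv (complEquivK A B hc')).symm

theorem kchar_of_subsingleton {V : Type v} [AddCommGroup V] [Module K V] [Subsingleton V]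
    (ρ : Representation K G V) : kchar ρ = 0 := by
  funext g
  rw [kchar_apply, Representation.character]
  have : ρ g = 0 := by
    ext v
    exact Subsingleton.elim _ _
  rw [this, map_zero, map_zero]
  rfl

variable [Fintype G]

/-- The inner product of `K`-characters is the dimension of the space of intertwiners. -/
theorem classInner_kchar {V W : Type v} [AddCommGroup V] [Module K V] [FiniteDimensional K V]
    [AddCommGroup W] [Module K W] [FiniteDimensional K W]
    (ρ : Representation K G V) (σ : Representation K G W) :
    classInner (kchar σ) (kchar ρ) =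
      (finrank K (Representation.IntertwiningMap ρ σ) : ℂ) := by
  haveI hK : CharZero K := RingHom.charZero (algebraMap K ℂ)
  have hcard : (Nat.card G : K) ≠ 0 := by exact_mod_cast (Nat.card_pos (α := G)).ne'
  haveI : Invertible (Nat.card G : K) := invertibleOfNonzero hcard
  have h := Representation.card_inv_mul_sum_char_mul_char_eq_finrank ρ σ
  have h2 := congrArg (algebraMap K ℂ) h
  rw [map_mul, map_inv₀, map_natCast, map_sum, map_natCast] at h2
  rw [← h2]
  unfold classInner
  congr 1
  refine Finset.sum_congr rfl fun g _ => ?_
  rw [map_mul, ← kchar_inv]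
  rfl

theorem cancel_aux {χ : G → ℂ} (hχ : IsCharacter G χ) (n : ℕ) :
    ∀ (V : Type v) [AddCommGroup V] [Module K V] [FiniteDimensional K V]
      (W : Type v) [AddCommGroup W] [Module K W] [FiniteDimensional K W]
      (ρ : Representation K G V) (σ : Representation K G W),
      finrank K V = n → kchar ρ = χ + kchar σ → IsKChar K χ := by
  classical
  induction n using Nat.strong_induction_on with
  | _ n ih =>
    intro V _ _ _ W _ _ _ ρ σ hn hchar
    haveI hK : CharZero K := RingHom.charZero (algebraMap K ℂ)
    haveI : NeZero (Nat.card G : K) :=
      ⟨by exact_mod_cast (Nat.card_pos (α := G)).ne'⟩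
    letI : Fintype (IrrCharacter G) := irrFintype
    by_cases hW : Nontrivial W
    · have hpos : finrank K (Representation.IntertwiningMap σ ρ) ≠ 0 := by
        have h1 := classInner_kchar σ ρ
        rw [hchar, classInner_add_left] at h1
        obtain ⟨a, ha⟩ := classInner_char_nat hχ (isCharacter_kchar σ)
        obtain ⟨b, hb⟩ := classInner_char_nat (isCharacter_kchar σ) (isCharacter_kchar σ)
        have hb0 : b ≠ 0 := by
          intro hb0
          rw [hb0, Nat.cast_zero] at hb
          have h2 := congrFun (classInner_self_eq_zero hb) 1
          rw [kchar_one, Pi.zero_apply] at h2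
          have h3 : finrank K W = 0 := by exact_mod_cast h2
          have h4 : 0 < finrank K W := finrank_pos
          omega
        rw [ha, hb] at h1
        intro h0
        rw [h0] at h1
        have h5 : a + b = 0 := by exact_mod_cast h1
        omega
      obtain ⟨f, hf⟩ : ∃ f : Representation.IntertwiningMap σ ρ, f ≠ 0 := by
        haveI := finrank_pos_iff.mp (Nat.pos_of_ne_zero hpos)
        exact exists_ne 0
      obtain ⟨N', hN'⟩ := exists_isCompl f.ker
      have hcharW := kchar_of_isCompl f.ker N' hN'
      -- the restriction of `f` to the complement of its kernel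
      let incl : Representation.IntertwiningMap N'.toRepresentation σ :=
        ⟨N'.toSubmodule.subtype, by intro g; ext v; rfl⟩
      let f' : Representation.IntertwiningMap N'.toRepresentation ρ := f.comp incl
      have hf'inj : Function.Injective f' := by
        rw [injective_iff_map_eq_zero]
        intro x hx
        have h1 : (x : W) ∈ (f.ker ⊓ N').toSubmodule := by
          refine ⟨?_, x.2⟩
          exact (Representation.IntertwiningMap.mem_ker σ ρ f _).mpr hx
        rw [hN'.inf_eq_bot] at h1
        exact Subtype.ext h1
      have hN'ne : Nontrivial N'.toSubmodule := by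
        by_contra hnt
        rw [not_nontrivial_iff_subsingleton] at hnt
        apply hf
        ext w
        have h1 : w ∈ (f.ker ⊔ N').toSubmodule := by
          rw [hN'.sup_eq_top]
          trivial
        obtain ⟨a, ha, b, hb, rfl⟩ := Submodule.mem_sup.mp h1
        have hb0 : b = 0 := congrArg Subtype.val (Subsingleton.elim (⟨b, hb⟩ : N'.toSubmodule) 0)
        have ha0 : f a = 0 := (Representation.IntertwiningMap.mem_ker σ ρ f _).mp ha
        simp [hb0, ha0]
      obtain ⟨V', hV'⟩ := exists_isCompl f'.range
      have hcharV := kchar_of_isCompl f'.range V' hV'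
      have e1 : N'.toRepresentation.Equiv f'.range.toRepresentation :=
        Representation.Equiv.mk (LinearEquiv.ofInjective f'.toLinearMap hf'inj) (by
          intro g
          ext v
          exact Representation.IntertwiningMap.isIntertwining _ _ f' g v)
      have hchar1 := kchar_equiv e1
      have hcharV' : kchar V'.toRepresentation = χ + kchar f.ker.toRepresentation := by
        have h3 := hchar
        rw [hcharV, hcharW, ← hchar1] at h3
        have h4 : kchar N'.toRepresentation + kchar V'.toRepresentation =
            kchar N'.toRepresentation + (χ + kchar f.ker.toRepresentation) := by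
          rw [h3]
          abel
        exact add_left_cancel h4
      have hlt : finrank K V'.toSubmodule < n := by
        have hc' : IsCompl f'.range.toSubmodule V'.toSubmodule := by
          constructor
          · rw [disjoint_iff]
            exact congrArg Subrepresentation.toSubmodule hV'.inf_eq_bot
          · rw [codisjoint_iff]
            exact congrArg Subrepresentation.toSubmodule hV'.sup_eq_top
        have h4 := Submodule.finrank_add_eq_of_isCompl hc'
        have h5 : 0 < finrank K N'.toSubmodule := finrank_pos
        have h6 : finrank K N'.toSubmodule = finrank K f'.range.toSubmodule :=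
          e1.toLinearEquiv.finrank_eq
        omega
      exact ih _ hlt V'.toSubmodule f.ker.toSubmodule V'.toRepresentation
        f.ker.toRepresentation rfl hcharV'
    · rw [not_nontrivial_iff_subsingleton] at hW
      rw [kchar_of_subsingleton σ, add_zero] at hchar
      rw [← hchar]
      exact isKChar_kchar ρ

/-- **Cancellation**: if `χ + ψ₂ = ψ₁` with `ψ₁, ψ₂` afforded by `K`-representations and `χ`
a complex character, then `χ` is afforded by a `K`-representation. -/
theorem isKChar_of_add_eq {χ ψ₁ ψ₂ : G → ℂ} (hχ : IsCharacter G χ) (h₁ : IsKChar K ψ₁)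
    (h₂ : IsKChar K ψ₂) (h : ψ₁ = χ + ψ₂) : IsKChar K χ := by
  obtain ⟨m, ρ, rfl⟩ := isKChar_iff.mp h₁
  obtain ⟨m', σ, rfl⟩ := isKChar_iff.mp h₂
  exact cancel_aux hχ _ (Fin m → K) (Fin m' → K) ρ σ rfl h

end Cancel

end Cfsg.Agent.Helper23.KChar
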