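import Mathlib
import Cfsg.Prelude.Def_Characters
import Cfsg.Agent.Lib.Helper24.CharInduced
import Cfsg.Agent.Lib.Helper23.KCharBasic

/-!
# Induced monomial representations over a subfield of `ℂ` (helper23's library)

For a subgroup `E` of a finite group `G` and a homomorphism `μ : E →* K`, the space of functions
`f : G → K` with `f (e * x) = μ e * f x`, with `G` acting by right translation, affords the
induced class function `indFun E μ`.
-/

set_option autoImplicit false
set_option linter.style.haveILetI false

namespace Cfsg.Agent.Helper23.KChar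

open Cfsg Cfsg.Agent.Helper24 Module

universe u w

section Induced

variable {K : Type w} [Field K]
variable {G : Type u} [Group G]

/-- The right regular representation on functions. -/
def rightReg (K : Type w) [Field K] (G : Type u) [Group G] : Representation K G (G → K) where
  toFun g :=
    { toFun := fun f x => f (x * g)
      map_add' := fun _ _ => rfl
      map_smul' := fun _ _ => rfl }
  map_one' := by
    ext f x
    simp
  map_mul' g h := by
    ext f x
    simp [mul_assoc]

@[simp] theorem rightReg_apply (g : G) (f : G → K) (x : G) : rightReg K G g f x = f (x * g) := rfl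

/-- The space of `μ`-equivariant functions, as a subrepresentation of the right regular
representation. -/
def indSub (E : Subgroup G) (μ : E →* K) : Subrepresentation (rightReg K G) where
  toSubmodule :=
    { carrier := {f | ∀ (e : E) (x : G), f ((e : G) * x) = μ e * f x}
      add_mem' := by
        intro a b ha hb e x
        simp only [Pi.add_apply, ha e x, hb e x, mul_add]
      zero_mem' := by
        intro e x
        simp
      smul_mem' := by
        intro c a ha e x
        simp only [Pi.smul_apply, ha e x, smul_eq_mul]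
        ring }
  apply_mem_toSubmodule := by
    intro g f hf e x
    simp only [rightReg_apply]
    rw [mul_assoc]
    exact hf e (x * g)

theorem mem_indSub {E : Subgroup G} {μ : E →* K} {f : G → K} :
    f ∈ (indSub E μ).toSubmodule ↔ ∀ (e : E) (x : G), f ((e : G) * x) = μ e * f x := Iff.rfl

/-- The averaging projection onto the equivariant functions. -/
noncomputable def indProj (E : Subgroup G) [Fintype E] (μ : E →* K) : (G → K) →ₗ[K] (G → K) where
  toFun f x := (Fintype.card E : K)⁻¹ * ∑ e : E, μ e⁻¹ * f ((e : G) * x)
  map_add' := by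
    intro a b
    funext x
    simp only [Pi.add_apply, mul_add, Finset.sum_add_distrib]
  map_smul' := by
    intro c a
    funext x
    simp only [Pi.smul_apply, smul_eq_mul, RingHom.id_apply, Finset.mul_sum]
    refine Finset.sum_congr rfl fun e _ => ?_
    ring

theorem indProj_apply (E : Subgroup G) [Fintype E] (μ : E →* K) (f : G → K) (x : G) :
    indProj E μ f x = (Fintype.card E : K)⁻¹ * ∑ e : E, μ e⁻¹ * f ((e : G) * x) := rfl

theorem indProj_mem (E : Subgroup G) [Fintype E] (μ : E →* K) (f : G → K) :
    indProj E μ f ∈ (indSub E μ).toSubmodule := by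
  intro e' x
  rw [indProj_apply, indProj_apply]
  have h1 : ∑ e : E, μ e⁻¹ * f ((e : G) * ((e' : G) * x)) =
      μ e' * ∑ e : E, μ e⁻¹ * f ((e : G) * x) := by
    rw [Finset.mul_sum]
    refine Fintype.sum_equiv (Equiv.mulRight e') (fun e => μ e⁻¹ * f ((e : G) * ((e' : G) * x)))
      (fun e => μ e' * (μ e⁻¹ * f ((e : G) * x))) fun e => ?_
    simp only [Equiv.coe_mulRight, mul_inv_rev, map_mul, Subgroup.coe_mul]
    rw [← mul_assoc (μ e'), ← mul_assoc (μ e'), ← map_mul, mul_inv_cancel, map_one, one_mul,
      mul_assoc]
  rw [h1]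
  ring

theorem indProj_of_mem [CharZero K] (E : Subgroup G) [Fintype E] (μ : E →* K) {f : G → K}
    (hf : f ∈ (indSub E μ).toSubmodule) : indProj E μ f = f := by
  funext x
  rw [indProj_apply]
  have h1 : ∀ e : E, μ e⁻¹ * f ((e : G) * x) = f x := by
    intro e
    rw [hf e x, ← mul_assoc, ← map_mul, inv_mul_cancel, map_one, one_mul]
  simp only [h1, Finset.sum_const, Finset.card_univ, nsmul_eq_mul]
  have h2 : (Fintype.card E : K) ≠ 0 := by exact_mod_cast Fintype.card_ne_zero
  rw [← mul_assoc, inv_mul_cancel₀ h2, one_mul]

variable [Fintype G]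

omit [Group G] in
theorem trace_pi (T : (G → K) →ₗ[K] (G → K)) [DecidableEq G] :
    LinearMap.trace K (G → K) T = ∑ x : G, T (Pi.single x 1) x := by
  rw [LinearMap.trace_eq_matrix_trace K (Pi.basisFun K G), LinearMap.toMatrix_eq_toMatrix',
    Matrix.trace]
  refine Finset.sum_congr rfl fun x _ => ?_
  rw [Matrix.diag_apply, LinearMap.toMatrix'_apply]

theorem character_indSub [CharZero K] [DecidableEq G] (E : Subgroup G) [Fintype E]
    [DecidablePred (· ∈ E)] (μ : E →* K) (g : G) :
    (indSub E μ).toRepresentation.character g =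
      (Fintype.card E : K)⁻¹ *
        ∑ x : G, (if h : x * g * x⁻¹ ∈ E then μ ⟨x * g * x⁻¹, h⟩ else 0) := by
  obtain ⟨V, hV⟩ : ∃ V, V = (indSub E μ).toSubmodule := ⟨_, rfl⟩
  let π : (G → K) →ₗ[K] (indSub E μ).toSubmodule :=
    (indProj E μ).codRestrict (indSub E μ).toSubmodule (indProj_mem E μ)
  have h1 : (indSub E μ).toRepresentation g =
      π ∘ₗ (rightReg K G g ∘ₗ (indSub E μ).toSubmodule.subtype) := by
    ext f x
    have hmem : rightReg K G g (f : G → K) ∈ (indSub E μ).toSubmodule :=
      (indSub E μ).apply_mem_toSubmodule g f.2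
    have h2 := indProj_of_mem E μ hmem
    exact (congrFun h2 x).symm
  unfold Representation.character
  rw [h1, LinearMap.trace_comp_comm', trace_pi, Finset.mul_sum]
  refine Finset.sum_congr rfl fun x _ => ?_
  have h3 : ((rightReg K G g ∘ₗ (indSub E μ).toSubmodule.subtype) ∘ₗ π) (Pi.single x 1) x =
      (Fintype.card E : K)⁻¹ * ∑ e : E, μ e⁻¹ * (Pi.single x 1 : G → K) ((e : G) * (x * g)) := rfl
  rw [h3]
  congr 1
  by_cases h : x * g * x⁻¹ ∈ E
  · rw [dif_pos h]
    rw [Finset.sum_eq_single (⟨x * g * x⁻¹, h⟩⁻¹ : E)]
    · rw [inv_inv]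
      have : (((⟨x * g * x⁻¹, h⟩⁻¹ : E) : G)) * (x * g) = x := by
        simp [mul_assoc]
      rw [this, Pi.single_eq_same, mul_one]
    · intro e _ he
      have : (e : G) * (x * g) ≠ x := by
        intro h4
        apply he
        apply Subtype.ext
        have : (e : G) = x * (x * g)⁻¹ := eq_mul_inv_of_mul_eq h4
        rw [this]
        simp [mul_assoc]
      rw [Pi.single_eq_of_ne this, mul_zero]
    · intro h5
      exact absurd (Finset.mem_univ _) h5
  · rw [dif_neg h]
    apply Finset.sum_eq_zero
    intro e _
    have : (e : G) * (x * g) ≠ x := by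
      intro h4
      apply h
      have h5 : x * g * x⁻¹ = ((e⁻¹ : E) : G) := by
        have : (e : G) = x * (x * g)⁻¹ := eq_mul_inv_of_mul_eq h4
        rw [Subgroup.coe_inv, this]
        group
      rw [h5]
      exact (e⁻¹).2
    rw [Pi.single_eq_of_ne this, mul_zero]

/-- The class function induced from a `K`-valued homomorphism of a subgroup is afforded by a
`K`-representation. -/
theorem isKChar_indFun [Algebra K ℂ] (E : Subgroup G) (μ : E →* K) :
    IsKChar K (indFun E (fun e => algebraMap K ℂ (μ e))) := by
  classical
  haveI : Fintype E := Fintype.ofFinite E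
  haveI : CharZero K := RingHom.charZero (algebraMap K ℂ)
  have h := isKChar_kchar (K := K) (indSub E μ).toRepresentation
  have heq : kchar (indSub E μ).toRepresentation =
      indFun E (fun e => algebraMap K ℂ (μ e)) := by
    funext g
    rw [kchar_apply, character_indSub, indFun, map_mul, map_inv₀, map_natCast, map_sum,
      Nat.card_eq_fintype_card]
    congr 1
    refine Fintype.sum_equiv (Equiv.inv G) _ _ fun x => ?_
    simp only [Equiv.inv_apply, inv_inv]
    by_cases hx : x * g * x⁻¹ ∈ E
    · rw [dif_pos hx, extendByZero_of_mem E _ hx]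
    · rw [dif_neg hx, extendByZero_of_not_mem E _ hx, map_zero]
  rw [← heq]
  exact h

/-- Version for a homomorphism into `ℂˣ` with values in the image of `K`. -/
theorem isKChar_indFun_of_range [Algebra K ℂ] (E : Subgroup G) (lam : E →* ℂˣ)
    (hlam : ∀ e, ((lam e : ℂˣ) : ℂ) ∈ Set.range (algebraMap K ℂ)) :
    IsKChar K (indFun E (fun e => ((lam e : ℂˣ) : ℂ))) := by
  classical
  choose μ hμ using hlam
  have hinj : Function.Injective (algebraMap K ℂ) := (algebraMap K ℂ).injective
  let μ' : E →* K :=
    { toFun := μ
      map_one' := by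
        apply hinj
        rw [hμ, map_one, map_one, Units.val_one]
      map_mul' := by
        intro a b
        apply hinj
        rw [hμ, map_mul, map_mul, hμ, hμ, Units.val_mul] }
  have h := isKChar_indFun (K := K) E μ'
  have heq : (fun e => algebraMap K ℂ (μ' e)) = fun e => ((lam e : ℂˣ) : ℂ) := by
    funext e
    exact hμ e
  rw [heq] at h
  exact h

end Induced

end Cfsg.Agent.Helper23.KChar
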