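import Mathlib
import Cfsg.Prelude.Def_JComponents
import Cfsg.Agent.Lib.Helper27.KVDefs2
import Cfsg.Agent.Lib.Helper14.Ambient
import Cfsg.Agent.Lib.Helper10.Sims1

/-!
# KS12c / S2954' piece AMAL (helper23): the amalgam theorem S2858 inside `G₀ = P₁ ⊔ P₂`

`amalgam_iso`: apply the `Amalgam` hypothesis (= the statement of S2858) in the group `↥(P₁ ⊔ P₂)` to
`Pᵢ.subgroupOf (P₁ ⊔ P₂)`, `T.subgroupOf (P₁ ⊔ P₂)` and transport the isomorphisms back.
-/

set_option autoImplicit false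
set_option linter.unusedVariables false
set_option linter.unusedSectionVars false
set_option linter.style.haveILetI false

namespace Cfsg.Agent.Helper27.KV

open Cfsg
open scoped commutatorElement

universe u

/-- a nonabelian group of order six is `S₃` -/
theorem amal_s3 {M : Type u} [Group M] [Finite M] (hcard : Nat.card M = 6)
    (hnab : ¬ ∀ a b : M, a * b = b * a) : Nonempty (M ≃* Equiv.Perm (Fin 3)) := by
  haveI : Fact (Nat.Prime 2) := ⟨Nat.prime_two⟩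
  obtain ⟨A⟩ : Nonempty (Sylow 2 M) := inferInstance
  have hA : Nat.card (A : Subgroup M) = 2 := by
    obtain ⟨k, hk⟩ := IsPGroup.iff_card.mp A.isPGroup'
    have hdvd : Nat.card (A : Subgroup M) ∣ 6 := by
      rw [← hcard]; exact Subgroup.card_subgroup_dvd_card _
    have hne : (A : Subgroup M) ≠ ⊥ := A.ne_bot_of_dvd_card (by rw [hcard]; norm_num)
    rw [hk] at hdvd ⊢
    have hk1 : k ≤ 1 := by
      by_contra hcon
      have h4 : 2 ^ 2 ∣ 2 ^ k := pow_dvd_pow 2 (by omega)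
      have := h4.trans hdvd
      norm_num at this
    have hk0 : k ≠ 0 := by
      intro h0
      rw [h0, pow_zero] at hk
      exact hne (Subgroup.eq_bot_of_card_eq _ hk)
    have : k = 1 := by omega
    rw [this, pow_one]
  apply Cfsg.Agent.Helper10.Sims.s3_recog hcard (A : Subgroup M) hA
  intro hAn
  apply hnab
  -- `A` is normal of order two, so central
  obtain ⟨a, ha1, hau⟩ := (Nat.card_eq_two_iff' (1 : ↥(A : Subgroup M))).mp hA
  have hcen : (A : Subgroup M) ≤ Subgroup.center M := by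
    intro x hx
    rw [Subgroup.mem_center_iff]
    intro g
    by_cases hx1 : x = 1
    · rw [hx1]; simp
    · have hxa : (⟨x, hx⟩ : ↥(A : Subgroup M)) = a := hau _ (fun h => hx1 (congrArg Subtype.val h))
      have hconj : g * x * g⁻¹ ∈ (A : Subgroup M) := hAn.conj_mem x hx g
      have hc1 : (⟨g * x * g⁻¹, hconj⟩ : ↥(A : Subgroup M)) ≠ 1 := by
        intro h
        have h' : g * x * g⁻¹ = 1 := congrArg Subtype.val h
        apply hx1
        have : x = g⁻¹ * (g * x * g⁻¹) * g := by group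
        rw [this, h']; group
      have hca := hau _ hc1
      have : g * x * g⁻¹ = x := by
        have := congrArg Subtype.val (hca.trans hxa.symm)
        exact this
      calc g * x = g * x * g⁻¹ * g := by group
        _ = x * g := by rw [this]
  -- the quotient by `A` has order three, so is cyclic
  have hidx : (A : Subgroup M).index = 3 := by
    have := (A : Subgroup M).card_mul_index
    rw [hA, hcard] at this
    omega
  haveI : Fact (Nat.Prime 3) := ⟨Nat.prime_three⟩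
  haveI : IsCyclic (M ⧸ (A : Subgroup M)) := isCyclic_of_prime_card (p := 3) hidx
  have hcm := MonoidHom.isMulCommutative_of_isCyclic_of_ker_le_center
    (QuotientGroup.mk' (A : Subgroup M)) (by rw [QuotientGroup.ker_mk']; exact hcen)
  exact fun a b => hcm.is_comm.comm a b

variable {G : Type u} [Group G] [Finite G]

/-- `h₁` of `Amalgam` in `↥G₀` -/
theorem amal_h1 {G₀ P : Subgroup G} (hle : P ≤ G₀)
    (h : Subgroup.centralizer (pCoreOf 2 P : Set G) ≤ pCoreOf 2 P) :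
    P.subgroupOf G₀ ⊓ Subgroup.centralizer (pCoreOf 2 (P.subgroupOf G₀) : Set ↥G₀) ≤
      pCoreOf 2 (P.subgroupOf G₀) := by
  rw [← Cfsg.Agent.Helper14.charP_iff_ambient]
  have e := Subgroup.subgroupOfEquivOfLe hle
  apply Cfsg.Agent.Helper14.charP_of_mulEquiv e.symm
  rw [Cfsg.Agent.Helper14.charP_iff_ambient]
  exact inf_le_right.trans h

/-- `h₂` of `Amalgam` in `↥G₀` -/
theorem amal_h2 {G₀ P T : Subgroup G} (hle : P ≤ G₀) (h : IsSylowTwoIn T P) :
    ∃ S : Sylow 2 ↥(P.subgroupOf G₀),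
      (S : Subgroup ↥(P.subgroupOf G₀)) = (T.subgroupOf G₀).subgroupOf (P.subgroupOf G₀) := by
  haveI : Fact (Nat.Prime 2) := ⟨Nat.prime_two⟩
  obtain ⟨hTP, hT2, hodd⟩ := h
  have hp : IsPGroup 2 ↥((T.subgroupOf G₀).subgroupOf (P.subgroupOf G₀)) :=
    (hT2.comap_of_injective G₀.subtype (Subgroup.subtype_injective _)).comap_of_injective
      (P.subgroupOf G₀).subtype (Subgroup.subtype_injective _)
  have hidx : ¬ 2 ∣ ((T.subgroupOf G₀).subgroupOf (P.subgroupOf G₀)).index := by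
    change ¬ 2 ∣ (T.subgroupOf G₀).relIndex (P.subgroupOf G₀)
    rw [Subgroup.relIndex_subgroupOf hle]
    exact hodd.not_two_dvd_nat
  exact ⟨hp.toSylow hidx, IsPGroup.toSylow_coe hp hidx⟩

/-- `h₃` of `Amalgam` in `↥G₀` -/
theorem amal_h3 {G₀ T : Subgroup G} (hT2 : IsPGroup 2 ↥T) (hO : pCoreOf 2 G₀ = ⊥)
    (N : Subgroup ↥G₀) (hN : N.Normal) (hNT : N ≤ T.subgroupOf G₀) : N = ⊥ := by
  have hNT' : N.map G₀.subtype ≤ T := by
    rintro _ ⟨x, hx, rfl⟩
    exact hNT hx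
  have h1 : N.map G₀.subtype ≤ pCoreOf 2 G₀ := by
    apply Cfsg.Agent.Helper14.le_pCoreOf (Subgroup.map_subtype_le _)
    · intro g hg
      rw [Subgroup.mem_normalizer_iff]
      intro x
      constructor
      · rintro ⟨y, hy, rfl⟩
        exact ⟨⟨g, hg⟩ * y * ⟨g, hg⟩⁻¹, hN.conj_mem y hy ⟨g, hg⟩, rfl⟩
      · rintro ⟨y, hy, hyx⟩
        refine ⟨⟨g, hg⟩⁻¹ * y * ⟨g, hg⟩, ?_, ?_⟩
        · have := hN.conj_mem y hy ⟨g, hg⟩⁻¹
          simpa using this
        · have h' : (y : G) = g * x * g⁻¹ := hyx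
          simp only [Subgroup.coe_subtype, Subgroup.coe_mul, Subgroup.coe_inv, h']
          group
    · exact hT2.to_le hNT'
  rw [hO, le_bot_iff, Subgroup.map_eq_bot_iff_of_injective _ (Subgroup.subtype_injective _)] at h1
  exact h1

/-- `h₄` of `Amalgam` in `↥G₀` -/
theorem amal_h4 {G₀ P : Subgroup G} (hle : P ≤ G₀) (h6 : (pCoreOf 2 P).relIndex P = 6)
    (hnab : ¬ ⁅P, P⁆ ≤ pCoreOf 2 P) :
    Nonempty (↥(P.subgroupOf G₀) ⧸ pCore 2 ↥(P.subgroupOf G₀) ≃* Equiv.Perm (Fin 3)) := by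
  have e := Subgroup.subgroupOfEquivOfLe hle
  have he : (pCore 2 ↥(P.subgroupOf G₀)).map e.toMonoidHom = pCore 2 ↥P :=
    Cfsg.Agent.Helper14.pCore_map_equiv e
  have e' : ↥(P.subgroupOf G₀) ⧸ pCore 2 ↥(P.subgroupOf G₀) ≃* ↥P ⧸ pCore 2 ↥P :=
    QuotientGroup.congr _ _ e he
  obtain ⟨f⟩ : Nonempty (↥P ⧸ pCore 2 ↥P ≃* Equiv.Perm (Fin 3)) := by
    apply amal_s3
    · change (pCore 2 ↥P).index = 6
      have : (pCoreOf 2 P).subgroupOf P = pCore 2 ↥P := by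
        unfold pCoreOf
        ext x
        rw [Subgroup.mem_subgroupOf]
        constructor
        · rintro ⟨y, hy, hyx⟩
          have : y = x := Subtype.ext hyx
          rwa [← this]
        · intro hx
          exact ⟨x, hx, rfl⟩
      rw [← this]
      exact h6
    · intro hcomm
      apply hnab
      rw [Subgroup.commutator_le]
      intro a ha b hb
      rw [Cfsg.Agent.Helper14.mem_pCoreOf_iff]
      refine ⟨Subgroup.commutator_mem_commutator ha hb |> fun h =>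
        (Subgroup.commutator_le.mpr (fun x hx y hy => P.mul_mem (P.mul_mem (P.mul_mem hx hy)
          (P.inv_mem hx)) (P.inv_mem hy))) h, ?_⟩
      have h1 := hcomm (QuotientGroup.mk (⟨a, ha⟩ : ↥P)) (QuotientGroup.mk (⟨b, hb⟩ : ↥P))
      have h2 : (QuotientGroup.mk (⁅(⟨a, ha⟩ : ↥P), ⟨b, hb⟩⁆) : ↥P ⧸ pCore 2 ↥P) = 1 := by
        rw [commutatorElement_def, QuotientGroup.mk_mul, QuotientGroup.mk_mul, QuotientGroup.mk_mul,
          QuotientGroup.mk_inv, QuotientGroup.mk_inv, h1]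
        group
      rw [QuotientGroup.eq_one_iff] at h2
      exact h2
  exact ⟨e'.trans f⟩

/-- `h₅` of `Amalgam` in `↥G₀` -/
theorem amal_h5 {G₀ P T : Subgroup G} (hle : P ≤ G₀) (hTG : T ≤ G₀)
    (h : ⁅omegaCenterOf T, P⁆ ≠ ⊥) :
    ¬ P.subgroupOf G₀ ≤ Subgroup.centralizer (omegaOne 2 (T.subgroupOf G₀ ⊓
      Subgroup.centralizer (T.subgroupOf G₀ : Set ↥G₀)) : Set ↥G₀) := by
  intro hc
  apply h
  rw [Subgroup.commutator_eq_bot_iff_le_centralizer]
  unfold omegaCenterOf omegaOne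
  rw [Subgroup.closure_le]
  rintro z ⟨hz, hz2⟩
  obtain ⟨hzT, hzC⟩ := Subgroup.mem_inf.mp hz
  rw [SetLike.mem_coe, Subgroup.mem_centralizer_iff]
  intro x hx
  have hz' : (⟨z, hTG hzT⟩ : ↥G₀) ∈ omegaOne 2 (T.subgroupOf G₀ ⊓
      Subgroup.centralizer (T.subgroupOf G₀ : Set ↥G₀)) := by
    apply Subgroup.subset_closure
    refine ⟨Subgroup.mem_inf.mpr ⟨Subgroup.mem_subgroupOf.mpr hzT, ?_⟩, Subtype.ext ?_⟩
    · rw [Subgroup.mem_centralizer_iff]
      intro t ht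
      apply Subtype.ext
      exact (Subgroup.mem_centralizer_iff.mp hzC) t (Subgroup.mem_subgroupOf.mp ht)
    · simpa using hz2
  have hx' : (⟨x, hle hx⟩ : ↥G₀) ∈ P.subgroupOf G₀ := Subgroup.mem_subgroupOf.mpr hx
  have := (Subgroup.mem_centralizer_iff.mp (hc hx')) _ hz'
  exact (congrArg Subtype.val this).symm

/-- AMAL.  Apply `h2858` in the group `↥(P₁ ⊔ P₂)` to `Pᵢ.subgroupOf (P₁ ⊔ P₂)`, `T.subgroupOf (P₁ ⊔ P₂)`; transport the
isomorphisms back along `Subgroup.subgroupOfEquivOfLe`. -/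
theorem amalgam_iso (h2858 : Amalgam.{u}) {T P₁ P₂ : Subgroup G} (hT : T = P₁ ⊓ P₂)
    (hO : pCoreOf 2 (P₁ ⊔ P₂) = ⊥)
    (hP : ∀ P ∈ [P₁, P₂], Subgroup.centralizer (pCoreOf 2 P : Set G) ≤ pCoreOf 2 P ∧ IsSylowTwoIn T P ∧
      (pCoreOf 2 P).relIndex P = 6 ∧ ¬ ⁅P, P⁆ ≤ pCoreOf 2 P ∧ ⁅omegaCenterOf T, P⁆ ≠ ⊥) :
    (Nonempty (↥P₁ ≃* Equiv.Perm (Fin 4)) ∧ Nonempty (↥P₂ ≃* Equiv.Perm (Fin 4))) ∨
      (Nonempty (↥P₁ ≃* Equiv.Perm (Fin 4) × Multiplicative (ZMod 2)) ∧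
        Nonempty (↥P₂ ≃* Equiv.Perm (Fin 4) × Multiplicative (ZMod 2))) := by
  have hle₁ : P₁ ≤ P₁ ⊔ P₂ := le_sup_left
  have hle₂ : P₂ ≤ P₁ ⊔ P₂ := le_sup_right
  have hTG : T ≤ P₁ ⊔ P₂ := by rw [hT]; exact inf_le_left.trans hle₁
  obtain ⟨hc₁, hs₁, h6₁, hn₁, ho₁⟩ := hP P₁ (by simp)
  obtain ⟨hc₂, hs₂, h6₂, hn₂, ho₂⟩ := hP P₂ (by simp)
  have key := @h2858 ↥(P₁ ⊔ P₂) _ (P₁.subgroupOf (P₁ ⊔ P₂)) (P₂.subgroupOf (P₁ ⊔ P₂)) inferInstance
    inferInstance
    (by rw [← Subgroup.subgroupOf_sup hle₁ hle₂, Subgroup.subgroupOf_self])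
    (T.subgroupOf (P₁ ⊔ P₂))
    (by rw [hT]; rfl)
    (by
      intro P hP
      rcases hP with rfl | rfl
      · exact amal_h1 hle₁ hc₁
      · exact amal_h1 hle₂ hc₂)
    (by
      intro P hP
      rcases hP with rfl | rfl
      · exact amal_h2 hle₁ hs₁
      · exact amal_h2 hle₂ hs₂)
    (amal_h3 hs₁.2.1 hO)
    (by
      intro P hP
      rcases hP with rfl | rfl
      · exact amal_h4 hle₁ h6₁ hn₁
      · exact amal_h4 hle₂ h6₂ hn₂)
    (by
      intro P hP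
      rcases hP with rfl | rfl
      · exact amal_h5 hle₁ hTG ho₁
      · exact amal_h5 hle₂ hTG ho₂)
  have e₁ := Subgroup.subgroupOfEquivOfLe hle₁
  have e₂ := Subgroup.subgroupOfEquivOfLe hle₂
  rcases key with ⟨⟨f₁⟩, ⟨f₂⟩⟩ | ⟨⟨f₁⟩, ⟨f₂⟩⟩
  · exact Or.inl ⟨⟨e₁.symm.trans f₁⟩, ⟨e₂.symm.trans f₂⟩⟩
  · exact Or.inr ⟨⟨(e₁.symm.trans f₁).trans MulEquiv.prodComm⟩,
      ⟨(e₂.symm.trans f₂).trans MulEquiv.prodComm⟩⟩

end Cfsg.Agent.Helper27.KV
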