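import Mathlib

/-!
# Automizers of a four-subgroup (helper23's shared library)

For a Klein four-subgroup `P` of `G` and `C_G(P) ≤ T ≤ N_G(P)`: the index `|T : C_G(P)|` divides
`6`, and if it is `3` then `T` is transitive on the involutions of `P`.
-/

set_option autoImplicit false
set_option linter.unusedSectionVars false
set_option linter.style.haveILetI false

namespace Cfsg.Agent.Helper23

universe u

section Klein

variable {G : Type u} [Group G]

theorem kleinFour_mem_cases (V : Subgroup G) (hV : IsKleinFour V) {a b : G} (ha : a ∈ V)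
    (hb : b ∈ V) (ha1 : a ≠ 1) (hb1 : b ≠ 1) (hab : a ≠ b) :
    ∀ x ∈ V, x = 1 ∨ x = a ∨ x = b ∨ x = a * b := by
  classical
  haveI : Finite V := Nat.finite_of_card_ne_zero (by rw [hV.card_four]; norm_num)
  haveI := Fintype.ofFinite V
  intro x hx
  have huniv := IsKleinFour.eq_finset_univ (G := V) (x := ⟨a, ha⟩) (y := ⟨b, hb⟩)
    (fun h => ha1 (congrArg Subtype.val h)) (fun h => hb1 (congrArg Subtype.val h))
    (fun h => hab (congrArg Subtype.val h))
  have hmem : (⟨x, hx⟩ : V) ∈ ({⟨a, ha⟩ * ⟨b, hb⟩, ⟨a, ha⟩, ⟨b, hb⟩, 1} : Finset V) := by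
    rw [huniv]; exact Finset.mem_univ _
  simp only [Finset.mem_insert, Finset.mem_singleton] at hmem
  rcases hmem with h | h | h | h
  · right; right; right; exact congrArg Subtype.val h
  · right; left; exact congrArg Subtype.val h
  · right; right; left; exact congrArg Subtype.val h
  · left; exact congrArg Subtype.val h

theorem kleinFour_mul_self (V : Subgroup G) (hV : IsKleinFour V) {a : G} (ha : a ∈ V) :
    a * a = 1 := by
  have h1 : (⟨a, ha⟩ : V) * ⟨a, ha⟩ = 1 := IsKleinFour.mul_self (⟨a, ha⟩ : V)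
  exact congrArg Subtype.val h1

theorem kleinFour_comm (V : Subgroup G) (hV : IsKleinFour V) {a b : G} (ha : a ∈ V)
    (hb : b ∈ V) : a * b = b * a := by
  have h1 := mul_comm_of_exponent_two hV.exponent_two (⟨a, ha⟩ : V) ⟨b, hb⟩
  exact congrArg Subtype.val h1

/-- the non-identity elements of a subgroup -/
abbrev NonId (P : Subgroup G) : Type u := {u : G // u ∈ P ∧ u ≠ 1}

theorem conj_mem_nonId {P : Subgroup G} {t : G} (ht : t ∈ Subgroup.normalizer (P : Set G))
    {u : G} (hu : u ∈ P ∧ u ≠ 1) : t * u * t⁻¹ ∈ P ∧ t * u * t⁻¹ ≠ 1 := by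
  refine ⟨(Subgroup.mem_normalizer_iff.1 ht u).1 hu.1, ?_⟩
  intro h
  apply hu.2
  have : u = t⁻¹ * (t * u * t⁻¹) * t := by group
  rw [this, h]
  group

/-- conjugation by an element of the normalizer, as a permutation of the non-identity elements -/
def conjPermNonId (P : Subgroup G) (t : G) (ht : t ∈ Subgroup.normalizer (P : Set G)) :
    Equiv.Perm (NonId P) where
  toFun u := ⟨t * u.1 * t⁻¹, conj_mem_nonId ht u.2⟩
  invFun u := ⟨t⁻¹ * u.1 * t⁻¹⁻¹, conj_mem_nonId (Subgroup.inv_mem _ ht) u.2⟩
  left_inv u := by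
    apply Subtype.ext
    show t⁻¹ * (t * u.1 * t⁻¹) * t⁻¹⁻¹ = u.1
    group
  right_inv u := by
    apply Subtype.ext
    show t * (t⁻¹ * u.1 * t⁻¹⁻¹) * t⁻¹ = u.1
    group

/-- the action of a subgroup of the normalizer on the non-identity elements -/
def conjPermHom (P T : Subgroup G) (hTN : T ≤ Subgroup.normalizer (P : Set G)) :
    T →* Equiv.Perm (NonId P) where
  toFun t := conjPermNonId P (t : G) (hTN t.2)
  map_one' := by
    apply Equiv.ext
    intro u
    apply Subtype.ext
    show ((1 : T) : G) * u.1 * ((1 : T) : G)⁻¹ = u.1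
    rw [Subgroup.coe_one]
    group
  map_mul' s t := by
    apply Equiv.ext
    intro u
    apply Subtype.ext
    show ((s * t : T) : G) * u.1 * ((s * t : T) : G)⁻¹ = (s : G) * ((t : G) * u.1 * (t : G)⁻¹) * (s : G)⁻¹
    rw [Subgroup.coe_mul]
    group

theorem conjPermHom_ker (P T : Subgroup G) (hTN : T ≤ Subgroup.normalizer (P : Set G)) :
    (conjPermHom P T hTN).ker = (Subgroup.centralizer (P : Set G)).subgroupOf T := by
  ext t
  rw [MonoidHom.mem_ker, Subgroup.mem_subgroupOf, Subgroup.mem_centralizer_iff]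
  constructor
  · intro h w hw
    by_cases hw1 : w = 1
    · rw [hw1, mul_one, one_mul]
    · have h1 := congrArg (fun σ : Equiv.Perm (NonId P) => (σ ⟨w, hw, hw1⟩).1) h
      have h2 : (t : G) * w * (t : G)⁻¹ = w := h1
      calc w * (t : G) = (t : G) * w * (t : G)⁻¹ * (t : G) := by rw [h2]
        _ = (t : G) * w := by group
  · intro h
    apply Equiv.ext
    intro u
    apply Subtype.ext
    show (t : G) * u.1 * (t : G)⁻¹ = u.1
    rw [← h u.1 u.2.1]
    group

theorem card_nonId_kleinFour [Finite G] (P : Subgroup G) (hP : IsKleinFour P) :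
    Nat.card (NonId P) = 3 := by
  classical
  haveI : Fintype G := Fintype.ofFinite G
  have e : NonId P ≃ {u : P // u ≠ 1} :=
    { toFun := fun u => ⟨⟨u.1, u.2.1⟩, fun h => u.2.2 (congrArg Subtype.val h)⟩
      invFun := fun u => ⟨u.1.1, u.1.2, fun h => u.2 (Subtype.ext h)⟩
      left_inv := fun u => rfl
      right_inv := fun u => rfl }
  rw [Nat.card_congr e, Nat.card_eq_fintype_card, Fintype.card_subtype_compl,
    Fintype.card_subtype_eq, ← Nat.card_eq_fintype_card, hP.card_four]

/-- **the automizer of a four-group has order dividing `6`** -/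
theorem relIndex_centralizer_dvd_six [Finite G] (P T : Subgroup G) (hP : IsKleinFour P)
    (hTN : T ≤ Subgroup.normalizer (P : Set G)) :
    (Subgroup.centralizer (P : Set G)).relIndex T ∣ 6 := by
  classical
  haveI : Fintype G := Fintype.ofFinite G
  haveI : Fintype (NonId P) := Fintype.ofFinite _
  unfold Subgroup.relIndex
  rw [← conjPermHom_ker P T hTN, Subgroup.index_ker]
  have h1 : Nat.card (conjPermHom P T hTN).range ∣ Nat.card (Equiv.Perm (NonId P)) :=
    Subgroup.card_subgroup_dvd_card _
  have h2 : Nat.card (Equiv.Perm (NonId P)) = 6 := by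
    rw [Nat.card_eq_fintype_card, Fintype.card_perm, ← Nat.card_eq_fintype_card,
      card_nonId_kleinFour P hP]
    rfl
  rwa [h2] at h1

/-- **an automizer of order `3` of a four-group is transitive on the involutions** -/
theorem kleinFour_transitive [Finite G] (P T : Subgroup G) (hP : IsKleinFour P)
    (hTN : T ≤ Subgroup.normalizer (P : Set G))
    (h3 : (Subgroup.centralizer (P : Set G)).relIndex T = 3) :
    ∀ u ∈ P, u ≠ 1 → ∀ v ∈ P, v ≠ 1 → ∃ t ∈ T, t * u * t⁻¹ = v := by
  classical
  -- an element of `T` outside the centralizer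
  obtain ⟨t, htT, htC⟩ : ∃ t ∈ T, t ∉ Subgroup.centralizer (P : Set G) := by
    by_contra hcon
    push Not at hcon
    have : T ≤ Subgroup.centralizer (P : Set G) := hcon
    rw [Subgroup.relIndex_eq_one.2 this] at h3
    omega
  have ht3 : t ^ 3 ∈ Subgroup.centralizer (P : Set G) := by
    have h1 := Subgroup.pow_index_mem (conjPermHom P T hTN).ker (⟨t, htT⟩ : T)
    rw [conjPermHom_ker] at h1
    have h2 : ((Subgroup.centralizer (P : Set G)).subgroupOf T).index = 3 := h3
    rw [h2, Subgroup.mem_subgroupOf] at h1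
    exact h1
  set c : G → G := fun x => t * x * t⁻¹ with hc
  have hcP : ∀ x ∈ P, c x ∈ P := fun x hx => (Subgroup.mem_normalizer_iff.1 (hTN htT) x).1 hx
  have hcinj : ∀ x y, c x = c y → x = y := by
    intro x y h
    have h' : t * x * t⁻¹ = t * y * t⁻¹ := h
    have : x = t⁻¹ * (t * x * t⁻¹) * t := by group
    rw [this, h']
    group
  have hcmul : ∀ x y, c (x * y) = c x * c y := by
    intro x y
    show t * (x * y) * t⁻¹ = t * x * t⁻¹ * (t * y * t⁻¹)
    group
  have hc1 : c 1 = 1 := by
    show t * 1 * t⁻¹ = 1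
    group
  have hc3 : ∀ x ∈ P, c (c (c x)) = x := by
    intro x hx
    have h1 := Subgroup.mem_centralizer_iff.1 ht3 x hx
    show t * (t * (t * x * t⁻¹) * t⁻¹) * t⁻¹ = x
    have h2 : t ^ 3 = t * t * t := by rw [pow_succ, pow_two]
    rw [h2] at h1
    calc t * (t * (t * x * t⁻¹) * t⁻¹) * t⁻¹ = t * t * t * x * (t * t * t)⁻¹ := by group
      _ = x * (t * t * t) * (t * t * t)⁻¹ := by rw [h1]
      _ = x := by group
  -- no fixed points
  have hfix : ∀ u ∈ P, u ≠ 1 → c u ≠ u := by
    intro u hu hu1 hcu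
    obtain ⟨w, hw, hcw⟩ : ∃ w ∈ P, c w ≠ w := by
      by_contra hcon
      push Not at hcon
      apply htC
      rw [Subgroup.mem_centralizer_iff]
      intro w hw
      have h1 : t * w * t⁻¹ = w := hcon w hw
      calc w * t = t * w * t⁻¹ * t := by rw [h1]
        _ = t * w := by group
    have hw1 : w ≠ 1 := by
      rintro rfl
      exact hcw hc1
    have huw : u ≠ w := by
      rintro rfl
      exact hcw hcu
    have huu : u * u = 1 := kleinFour_mul_self P hP hu
    rcases kleinFour_mem_cases P hP hu hw hu1 hw1 huw (c w) (hcP w hw) with h | h | h | h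
    · exact hw1 (hcinj w 1 (by rw [h, hc1]))
    · exact huw (hcinj u w (by rw [h, hcu]))
    · exact hcw h
    · have h2 : c (c w) = w := by
        rw [h, hcmul, hcu, h, ← mul_assoc, huu, one_mul]
      have h4 := hc3 w hw
      rw [h2, h] at h4
      apply hu1
      calc u = u * w * w⁻¹ := by group
        _ = w * w⁻¹ := by rw [h4]
        _ = 1 := by group
  intro u hu hu1 v hv hv1
  by_cases huv : v = u
  · exact ⟨1, T.one_mem, by rw [huv]; group⟩
  have hcu := hfix u hu hu1
  have hcuP := hcP u hu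
  have hcu1 : c u ≠ 1 := by
    intro h
    exact hu1 (hcinj u 1 (by rw [h, hc1]))
  rcases kleinFour_mem_cases P hP hu hcuP hu1 hcu1 (Ne.symm hcu) v hv with h | h | h | h
  · exact absurd h hv1
  · exact absurd h huv
  · exact ⟨t, htT, h.symm⟩
  · have hccuP := hcP (c u) hcuP
    have hccu1 : c (c u) ≠ 1 := by
      intro h'
      exact hcu1 (hcinj (c u) 1 (by rw [h', hc1]))
    rcases kleinFour_mem_cases P hP hu hcuP hu1 hcu1 (Ne.symm hcu) (c (c u)) hccuP with
      h' | h' | h' | h'
    · exact absurd h' hccu1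
    · exfalso
      have h4 := hc3 u hu
      rw [h'] at h4
      exact hcu h4
    · exact absurd h' (hfix (c u) hcuP hcu1)
    · refine ⟨t * t, T.mul_mem htT htT, ?_⟩
      rw [h, ← h']
      show t * t * u * (t * t)⁻¹ = t * (t * u * t⁻¹) * t⁻¹
      group

end Klein

end Cfsg.Agent.Helper23
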