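import Mathlib
import Cfsg.Agent.Lib.Helper18.PairBridge
import Cfsg.Agent.Lib.Helper23.BlockSubsectionFusion
import Cfsg.Agent.Lib.Helper23.BlockKleinLocal
import Cfsg.Agent.Lib.Helper23.BlockPairFusion
import Cfsg.Agent.Lib.Helper23.BlockTopTransport
import Cfsg.Agent.Lib.Helper23.BlockConj3
import Cfsg.Agent.Lib.Helper23.KleinFourAct
import Cfsg.Agent.Lib.Helper23.BlockPairs

/-!
# Local structure of `2`-blocks with a Klein four defect group (helper23's shared library)

`klein_local_facts`: every nontrivial subsection `(z, b)` of a `2`-block with a Klein four defect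
group has `z` an involution, `b` of defect two and `l(b) = 1`.
-/

set_option autoImplicit false
set_option linter.unusedSectionVars false
set_option linter.style.haveILetI false

namespace Cfsg.Agent.Helper23.Blk

open Cfsg Cfsg.Agent.Helper23 Cfsg.Agent.Helper24 Cfsg.Agent.Helper18 Cfsg.Agent.Helper18.PairRel
open scoped ComplexConjugate

universe u

section Induced

variable {G : Type u} [Group G] [Fintype G] {M : Ideal AlgInt} {p : ℕ}

/-- a Brauer pair of `B` gives a block of the centralizer inducing `B` -/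
theorem isInducedBlock_centralizer_of_isBrauerPairOf (hM : IsPModular p M) {Q : Subgroup G}
    {e : Set (IrrCharacter (Subgroup.centralizer (Q : Set G)))} {B : Set (IrrCharacter G)}
    (hBe : IsBrauerPairOf p M B Q e) :
    IsInducedBlock M (Subgroup.centralizer (Q : Set G)) e B := by
  classical
  haveI hMp : M.IsPrime := hM.2.1.isPrime
  haveI : Fintype (Subgroup.centralizer (Q : Set G)) := Fintype.ofFinite _
  letI : Fintype (IrrCharacter G) := irrFintype
  letI : Fintype (IrrCharacter (Subgroup.centralizer (Q : Set G))) := irrFintype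
  have hQ : IsPGroup p Q := hBe.1.1
  have he : IsPBlock M e := hBe.1.2
  have hB : IsPBlock M B := hBe.2.1
  obtain ⟨ξ, hξ⟩ := block_nonempty hM he
  obtain ⟨χ, hχ⟩ := exists_irr_brauerPair Q hM hQ ξ
  have hχB : χ ∈ B := (isBrauerPairOf_iff Q hM hQ he hξ hχ hB).1 hBe
  have e1 : e = blockOf M (ξ : Subgroup.centralizer (Q : Set G) → ℂ) := by
    obtain ⟨ξ₀, hξ₀⟩ := he
    rw [hξ₀] at hξ ⊢
    exact (blockOf_eq_of_mem hξ).symm
  have e2 : B = blockOf M (χ : G → ℂ) := by
    obtain ⟨χ₀, hχ₀⟩ := hB
    rw [hχ₀] at hχB ⊢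
    exact (blockOf_eq_of_mem hχB).symm
  rw [e1, e2]
  apply isInducedBlock_of_forall
  intro g
  have h1 := hχ (classInd g) (isClassFunction_classInd g) (fun x => memLocalRing_classInd g x)
  have hres : resC Q (Subgroup.centralizer (Q : Set G)) (classInd g) =
      fun h : Subgroup.centralizer (Q : Set G) => classInd g (h : G) := by
    funext c
    unfold resC
    rw [if_pos c.2]
  rw [hres] at h1
  exact h1

end Induced

section Local

variable {G : Type u} [Group G] [Fintype G] {M : Ideal AlgInt}

theorem blockDefect_eq_two_of_kleinFour (hM : IsPModular 2 M) {B : Set (IrrCharacter G)}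
    (hB : IsPBlock M B) {P : Subgroup G} (hPD : IsDefectGroup 2 M B P) (hV : IsKleinFour P) :
    blockDefect 2 B = 2 := by
  have h1 := card_defectGroup hM hB hPD
  rw [hV.card_four] at h1
  have h2 : (2 : ℕ) ^ 2 = 2 ^ blockDefect 2 B := by rw [← h1]; norm_num
  exact (Nat.pow_right_injective (le_refl 2) h2).symm

set_option maxHeartbeats 1600000 in
/-- the subpairs `(⟨u⟩, f) ≤ (P, c)` with `1 ≠ u ∈ P` -/
theorem klein_local_aux (hM : IsPModular 2 M) {B : Set (IrrCharacter G)}
    {P : Subgroup G} (hPD : IsDefectGroup 2 M B P) (hV : IsKleinFour P)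
    {c : Set (IrrCharacter (Subgroup.centralizer (P : Set G)))}
    (hBe : IsBrauerPairOf 2 M B P c) (Q : Subgroup G) (u : G) (hQ : Q = Subgroup.zpowers u)
    (hu : u ∈ P) (hu1 : u ≠ 1)
    (f : Set (IrrCharacter (Subgroup.centralizer (Q : Set G))))
    (hle : SubpairLE 2 M Q f P c) :
    blockDefect 2 f = blockDefect 2 B ∧ blockRank 2 f = 1 ∧ orderOf u = 2 := by
  classical
  subst hQ
  haveI : Fact (Nat.Prime 2) := ⟨Nat.prime_two⟩
  haveI hMp : M.IsPrime := hM.2.1.isPrime
  have hab : ∀ x ∈ P, ∀ y ∈ P, x * y = y * x := fun x hx y hy => kleinFour_comm P hV hx hy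
  have hcardP : Nat.card P = 4 := hV.card_four
  have huc : ∀ w ∈ P, u * w = w * u := fun w hw => hab u hu w hw
  obtain ⟨hind, hdef⟩ := major_of_subpairLE_center hM hBe hPD hu huc hle
  have hord : orderOf u = 2 :=
    orderOf_eq_prime (by rw [pow_two]; exact kleinFour_mul_self P hV hu) hu1
  refine ⟨hdef, ?_, hord⟩
  haveI : Fintype (Subgroup.centralizer ((Subgroup.zpowers u : Subgroup G) : Set G)) :=
    Fintype.ofFinite _
  have hPH : P ≤ Subgroup.centralizer ((Subgroup.zpowers u : Subgroup G) : Set G) := by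
    intro w hw
    rw [Subgroup.mem_centralizer_iff]
    intro q hq
    exact zpowers_commute huc q hq w hw
  have hD₁ := isDefectGroup_rel hM hBe hPD hle hPH
  have hZK : Subgroup.zpowers u ≤
      Subgroup.centralizer ((Subgroup.zpowers u : Subgroup G) : Set G) :=
    (Subgroup.zpowers_le.2 hu).trans hPH
  apply blockRank_eq_one_of_quot_order_two hM hind.1 hD₁
    ((Subgroup.zpowers u).subgroupOf
      (Subgroup.centralizer ((Subgroup.zpowers u : Subgroup G) : Set G)))
  · intro w hw
    rw [Subgroup.mem_subgroupOf] at hw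
    rw [Subgroup.mem_center_iff]
    intro k
    apply Subtype.ext
    rw [Subgroup.coe_mul, Subgroup.coe_mul]
    exact (Subgroup.mem_centralizer_iff.1 k.2 (w : G) hw).symm
  · intro w hw
    rw [Subgroup.mem_subgroupOf] at hw ⊢
    exact (Subgroup.zpowers_le.2 hu) hw
  · have h1 : Nat.card (P.subgroupOf
        (Subgroup.centralizer ((Subgroup.zpowers u : Subgroup G) : Set G))) = Nat.card P :=
      Nat.card_congr (Subgroup.subgroupOfEquivOfLe hPH).toEquiv
    have h2 : Nat.card ((Subgroup.zpowers u).subgroupOf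
        (Subgroup.centralizer ((Subgroup.zpowers u : Subgroup G) : Set G))) =
        Nat.card (Subgroup.zpowers u) :=
      Nat.card_congr (Subgroup.subgroupOfEquivOfLe hZK).toEquiv
    rw [h1, h2, hcardP, Nat.card_zpowers, hord]

set_option maxHeartbeats 1600000 in
/-- **every nontrivial subsection of a Klein four block is major, of rank one** -/
theorem klein_local_facts (hM : IsPModular 2 M) {B : Set (IrrCharacter G)}
    (hB : IsPBlock M B) {P : Subgroup G} (hPD : IsDefectGroup 2 M B P) (hV : IsKleinFour P)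
    {c : Set (IrrCharacter (Subgroup.centralizer (P : Set G)))}
    (hBe : IsBrauerPairOf 2 M B P c) {z : G} (hz : ∃ k : ℕ, orderOf z = 2 ^ k) (hz1 : z ≠ 1)
    (H : Subgroup G) (hH : H = Subgroup.centralizer ({z} : Set G))
    (b : Set (IrrCharacter H)) (hb : IsInducedBlock M H b B) :
    blockDefect 2 b = 2 ∧ blockRank 2 b = 1 ∧ orderOf z = 2 := by
  classical
  haveI : Fact (Nat.Prime 2) := ⟨Nat.prime_two⟩
  have hH' : H = Subgroup.centralizer ((Subgroup.zpowers z : Subgroup G) : Set G) :=
    hH.trans (centralizer_zpowers z).symm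
  subst hH'
  obtain ⟨x, hx⟩ := exists_conj_reflTransGen_of_isInducedBlock hM hBe hPD hz hb
  have hd2 := blockDefect_eq_two_of_kleinFour hM hB hPD hV
  have hle : (Subgroup.zpowers z).map (MulAut.conj x).toMonoidHom ≤ P := chain_le hx
  have hmap := map_conj_zpowers x z
  have hu : x * z * x⁻¹ ∈ P := by
    apply hle
    rw [hmap]
    exact Subgroup.mem_zpowers _
  have hu1 : x * z * x⁻¹ ≠ 1 := by
    intro h
    apply hz1
    have : z = x⁻¹ * (x * z * x⁻¹) * x := by group
    rw [this, h]
    group
  have hx' : SubpairLE 2 M ((Subgroup.zpowers z).map (MulAut.conj x).toMonoidHom)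
      (conjBlock (Subgroup.zpowers z) x b) P c := hx
  obtain ⟨h1, h2, h3⟩ := klein_local_aux hM hPD hV hBe _ (x * z * x⁻¹) hmap hu hu1 _ hx'
  rw [blockDefect_conjBlock] at h1
  rw [conjBlock_eq_image, blockRank_image_irrComp] at h2
  refine ⟨by rw [h1, hd2], h2, ?_⟩
  rw [← h3]
  exact SemiconjBy.orderOf_eq x (x := z) (y := x * z * x⁻¹) (by unfold SemiconjBy; group)

end Local

end Cfsg.Agent.Helper23.Blk
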