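import Mathlib

/-!
# Elementary lemmas on signs and small positive integers (helper23's shared library)

Used in the analysis of `2`-blocks with a Klein four defect group.
-/

set_option autoImplicit false

namespace Cfsg.Agent.Helper23.Blk

section Signs

variable {ι : Type*}

/-- the sum of signs modulo four is governed by their product -/
theorem sum_signs_mod_four (S : Finset ι) (g : ι → ℤ)
    (hg : ∀ i ∈ S, g i = 1 ∨ g i = -1) :
    (∏ i ∈ S, g i = 1 ∧ (4 : ℤ) ∣ ∑ i ∈ S, g i - S.card) ∨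
      (∏ i ∈ S, g i = -1 ∧ (4 : ℤ) ∣ ∑ i ∈ S, g i - S.card - 2) := by
  classical
  induction S using Finset.induction_on with
  | empty => left; simp
  | insert a S ha ih =>
    have hg' : ∀ i ∈ S, g i = 1 ∨ g i = -1 := fun i hi => hg i (Finset.mem_insert_of_mem hi)
    have hga := hg a (Finset.mem_insert_self a S)
    rw [Finset.prod_insert ha, Finset.sum_insert ha, Finset.card_insert_of_notMem ha]
    push_cast
    rcases ih hg' with ⟨h1, h2⟩ | ⟨h1, h2⟩ <;> rcases hga with h | h <;> rw [h, h1]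
    · left; exact ⟨by norm_num, by omega⟩
    · right; exact ⟨by norm_num, by omega⟩
    · right; exact ⟨by norm_num, by omega⟩
    · left; exact ⟨by norm_num, by omega⟩

theorem four_dvd_sum_of_prod_eq_one (S : Finset ι) (g : ι → ℤ) (hS : S.card = 4)
    (hg : ∀ i ∈ S, g i = 1 ∨ g i = -1) (hp : ∏ i ∈ S, g i = 1) :
    (4 : ℤ) ∣ ∑ i ∈ S, g i := by
  rcases sum_signs_mod_four S g hg with ⟨_, h2⟩ | ⟨h1, _⟩
  · rw [hS] at h2
    push_cast at h2
    omega
  · rw [hp] at h1
    norm_num at h1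

theorem prod_eq_one_of_sum_eq_zero (S : Finset ι) (g : ι → ℤ) (hS : S.card = 4)
    (hg : ∀ i ∈ S, g i = 1 ∨ g i = -1) (hs : ∑ i ∈ S, g i = 0) :
    ∏ i ∈ S, g i = 1 := by
  rcases sum_signs_mod_four S g hg with ⟨h1, _⟩ | ⟨_, h2⟩
  · exact h1
  · rw [hS, hs] at h2
    omega

/-- four nonzero integers whose squares add up to four are signs -/
theorem sign_of_sum_sq_eq_four (S : Finset ι) (d : ι → ℤ) (hS : S.card = 4)
    (hd : ∀ i ∈ S, d i ≠ 0) (hs : ∑ i ∈ S, d i ^ 2 = 4) :
    ∀ i ∈ S, d i = 1 ∨ d i = -1 := by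
  classical
  have h1 : ∀ i ∈ S, 1 ≤ d i ^ 2 := by
    intro i hi
    have h := hd i hi
    have : 0 < d i ^ 2 := by positivity
    omega
  have h2 : ∀ i ∈ S, d i ^ 2 = 1 := by
    by_contra hcon
    have hcon' : ∃ i ∈ S, d i ^ 2 ≠ 1 := by
      by_contra hall
      apply hcon
      intro i hi
      by_contra hne
      exact hall ⟨i, hi, hne⟩
    obtain ⟨i, hi, hne⟩ := hcon'
    have h3 : 2 ≤ d i ^ 2 := by
      have := h1 i hi
      omega
    have h4 : ∑ j ∈ S, d j ^ 2 = d i ^ 2 + ∑ j ∈ S.erase i, d j ^ 2 :=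
      (Finset.add_sum_erase S (fun j => d j ^ 2) hi).symm
    have h5 : ((S.erase i).card : ℤ) ≤ ∑ j ∈ S.erase i, d j ^ 2 := by
      have := Finset.card_nsmul_le_sum (S.erase i) (fun j => d j ^ 2) 1
        (fun j hj => h1 j (Finset.mem_of_mem_erase hj))
      simpa using this
    rw [Finset.card_erase_of_mem hi, hS] at h5
    push_cast at h5
    omega
  intro i hi
  have h3 := h2 i hi
  have h4 : (d i - 1) * (d i + 1) = 0 := by ring_nf; rw [h3]; ring
  rcases mul_eq_zero.1 h4 with h | h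
  · left; omega
  · right; omega

end Signs

section RankOne

variable {ι : Type*}

/-- positive integers with sum four, one of them odd, whose products with the odd one are
perfect squares, are all equal to one -/
theorem all_one_of_sum_four [DecidableEq ι] (S : Finset ι) (ξ₀ : ι) (hξ₀ : ξ₀ ∈ S)
    (n m : ι → ℤ) (hpos : ∀ i ∈ S, 1 ≤ n i) (hsum : ∑ i ∈ S, n i = 4)
    (hodd : ¬ (2 : ℤ) ∣ n ξ₀) (hsq : ∀ i ∈ S, n i * n ξ₀ = m i ^ 2) :
    S.card = 4 ∧ ∀ i ∈ S, n i = 1 := by
  set S' := S.erase ξ₀ with hS'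
  have hcard : S.card = S'.card + 1 := (Finset.card_erase_add_one hξ₀).symm
  have h1 : n ξ₀ + ∑ i ∈ S', n i = 4 := by
    rw [Finset.add_sum_erase S n hξ₀]
    exact hsum
  have hS'S : ∀ i ∈ S', i ∈ S := fun i hi => Finset.mem_of_mem_erase hi
  have h3 : (S'.card : ℤ) ≤ ∑ i ∈ S', n i := by
    have := Finset.card_nsmul_le_sum S' n 1 (fun i hi => hpos i (hS'S i hi))
    simpa using this
  have ha1 : 1 ≤ n ξ₀ := hpos ξ₀ hξ₀
  have hcn : (0 : ℤ) ≤ S'.card := Int.natCast_nonneg _
  have ha : n ξ₀ = 1 ∨ n ξ₀ = 3 := by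
    have : n ξ₀ ≤ 4 := by linarith
    have h5 : n ξ₀ ≠ 2 := fun h => hodd ⟨1, by rw [h]; rfl⟩
    have h6 : n ξ₀ ≠ 4 := fun h => hodd ⟨2, by rw [h]; rfl⟩
    omega
  rcases ha with ha | ha
  · -- every `n i` is a perfect square at most `3`
    rw [ha] at h1
    have h5 : ∑ i ∈ S', n i = 3 := by linarith
    have h6 : ∀ i ∈ S', n i = 1 := by
      intro i hi
      have h7 : n i ≤ ∑ j ∈ S', n j :=
        Finset.single_le_sum (f := n) (fun j hj => le_trans (by norm_num) (hpos j (hS'S j hj))) hi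
      rw [h5] at h7
      have h8 := hpos i (hS'S i hi)
      have h9 := hsq i (hS'S i hi)
      rw [ha, mul_one] at h9
      have h10 : m i ≤ 1 := by nlinarith
      have h11 : -1 ≤ m i := by nlinarith
      have : m i = 1 ∨ m i = -1 ∨ m i = 0 := by omega
      rcases this with h | h | h <;> rw [h] at h9 <;> omega
    rw [Finset.sum_congr rfl h6] at h5
    simp at h5
    refine ⟨by omega, ?_⟩
    intro i hi
    by_cases hi0 : i = ξ₀
    · rw [hi0, ha]
    · exact h6 i (Finset.mem_erase.2 ⟨hi0, hi⟩)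
  · exfalso
    rw [ha] at h1
    have h6 : ∑ i ∈ S', n i = 1 := by linarith
    have h7 : S'.card ≤ 1 := by
      have : (S'.card : ℤ) ≤ 1 := by linarith
      exact_mod_cast this
    interval_cases hc : S'.card
    · rw [Finset.card_eq_zero] at hc
      rw [hc, Finset.sum_empty] at h6
      omega
    · obtain ⟨i₁, hi₁⟩ := Finset.card_eq_one.1 hc
      rw [hi₁, Finset.sum_singleton] at h6
      have hi₁S : i₁ ∈ S := hS'S i₁ (by rw [hi₁]; exact Finset.mem_singleton_self _)
      have h9 := hsq i₁ hi₁S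
      rw [ha, h6] at h9
      have h10 : m i₁ ≤ 2 := by nlinarith
      have h11 : -2 ≤ m i₁ := by nlinarith
      have : m i₁ = 2 ∨ m i₁ = 1 ∨ m i₁ = 0 ∨ m i₁ = -1 ∨ m i₁ = -2 := by omega
      rcases this with h | h | h | h | h <;> rw [h] at h9 <;> omega

end RankOne

end Cfsg.Agent.Helper23.Blk
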