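import Mathlib
import Cfsg.Agent.Lib.Helper23.BlockContrib2
import Cfsg.Agent.Lib.Helper23.BlockRank
import Cfsg.Agent.Lib.Helper23.BlockOrtho
import Cfsg.Agent.Lib.Helper23.BlockMajorCount
import Cfsg.Agent.Lib.Helper23.KleinPure

/-!
# `2`-blocks of defect two with one irreducible Brauer character (helper23's shared library)

`rank_one_block`: a `2`-block `b` of defect `2` with `l(b) = 1` has four irreducible characters,
all with the same restriction to the `2`-regular elements, `[ξ°, ξ'] = 1/4`, and the sum of its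
irreducible characters vanishes at the `2`-singular elements.
-/

set_option autoImplicit false
set_option linter.unusedSectionVars false
set_option linter.style.haveILetI false

namespace Cfsg.Agent.Helper23.Blk

open Cfsg Cfsg.Agent.Helper24 Cfsg.Agent.Helper18
open scoped ComplexConjugate

universe u

section RankOneBlock

variable {K : Type u} [Group K] [Fintype K] {M : Ideal AlgInt}

set_option maxHeartbeats 1600000 in
theorem rank_one_block (hM : IsPModular 2 M) [Fintype (IrrCharacter K)]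
    {b : Set (IrrCharacter K)} [DecidablePred (· ∈ b)] (hb : IsPBlock M b)
    (hd : blockDefect 2 b = 2) (hl : blockRank 2 b = 1) :
    (Finset.univ.filter (· ∈ b)).card = 4 ∧
    (∀ ξ ∈ b, ∀ ξ' ∈ b, ∀ s : K, ¬ 2 ∣ orderOf s → (ξ : K → ℂ) s = (ξ' : K → ℂ) s) ∧
    (∀ ξ ∈ b, ∀ ξ' ∈ b,
      classInner (pRegularPart 2 (ξ : K → ℂ)) (ξ' : K → ℂ) = 1 / 4) ∧
    (∀ y : K, 2 ∣ orderOf y →
      ∑ ξ : IrrCharacter K, (if ξ ∈ b then (ξ : K → ℂ) y else 0) = 0) := by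
  classical
  haveI : Fact (Nat.Prime 2) := ⟨Nat.prime_two⟩
  haveI hMp : M.IsPrime := hM.2.1.isPrime
  -- a character of height zero
  obtain ⟨ξ₀, hξ₀, hmin⟩ := exists_min_degree (p := 2) (block_nonempty hM hb)
  have hξ₀min : (charDegree (ξ₀ : K → ℂ)).factorization 2 = minVal 2 b := by
    apply le_antisymm
    · apply le_csInf
      · exact ⟨_, ξ₀, hξ₀, rfl⟩
      · rintro _ ⟨ψ, hψ, rfl⟩
        exact hmin ψ hψ
    · exact minVal_le hξ₀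
  have hh : blockHeight 2 b (ξ₀ : K → ℂ) = 0 := by
    rw [blockHeight_eq_sub_minVal, hξ₀min, Nat.sub_self]
  have h4 : (((2 ^ blockDefect 2 b : ℕ)) : ℂ) = 4 := by rw [hd]; norm_num
  have hn : ∀ ξ ξ' : IrrCharacter K, ξ ∈ b → (nRed 2 b ξ ξ' : ℂ) =
      4 * classInner (pRegularPart 2 (ξ : K → ℂ)) (ξ' : K → ℂ) := by
    intro ξ ξ' hξ
    rw [nRed_spec hM hb (Or.inl hξ), h4]
  have hone : ¬ 2 ∣ orderOf (1 : K) := by
    rw [orderOf_one]
    norm_num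
  -- every `ξ°` is a multiple of `ξ₀°`
  have hspan : ∀ ξ ∈ b, pRegularPart 2 (ξ : K → ℂ) =
      ((charDegree (ξ : K → ℂ) : ℂ) / (charDegree (ξ₀ : K → ℂ) : ℂ)) •
        pRegularPart 2 (ξ₀ : K → ℂ) := by
    intro ξ hξ
    have hfr : Module.finrank ℂ ↥(Submodule.span ℂ
        ((fun χ : IrrCharacter K => pRegularPart 2 (χ : K → ℂ)) '' b)) = 1 := hl
    have h0mem : pRegularPart 2 (ξ₀ : K → ℂ) ∈ Submodule.span ℂ
        ((fun χ : IrrCharacter K => pRegularPart 2 (χ : K → ℂ)) '' b) :=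
      Submodule.subset_span ⟨ξ₀, hξ₀, rfl⟩
    have hmem : pRegularPart 2 (ξ : K → ℂ) ∈ Submodule.span ℂ
        ((fun χ : IrrCharacter K => pRegularPart 2 (χ : K → ℂ)) '' b) :=
      Submodule.subset_span ⟨ξ, hξ, rfl⟩
    have hne : (⟨_, h0mem⟩ : ↥(Submodule.span ℂ
        ((fun χ : IrrCharacter K => pRegularPart 2 (χ : K → ℂ)) '' b))) ≠ 0 := by
      intro h
      exact pRegularPart_ne_zero 2 Nat.prime_two ξ₀ (congrArg Subtype.val h)
    obtain ⟨r, hr⟩ := (finrank_eq_one_iff_of_nonzero' _ hne).1 hfr ⟨_, hmem⟩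
    have hr' : r • pRegularPart 2 (ξ₀ : K → ℂ) = pRegularPart 2 (ξ : K → ℂ) :=
      congrArg Subtype.val hr
    have h1 := congrFun hr' 1
    rw [Pi.smul_apply, pRegularPart_of_not_dvd 2 _ hone, pRegularPart_of_not_dvd 2 _ hone,
      irr_one_eq_charDegree ξ.2, irr_one_eq_charDegree ξ₀.2, smul_eq_mul] at h1
    have hc0 : (charDegree (ξ₀ : K → ℂ) : ℂ) ≠ 0 := by
      exact_mod_cast charDegree_ne_zero ξ₀
    rw [← hr', ← h1, mul_div_assoc, div_self hc0, mul_one]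
  -- the entries through the multiples
  have hconj : ∀ ξ : IrrCharacter K, conj ((charDegree (ξ : K → ℂ) : ℂ) /
      (charDegree (ξ₀ : K → ℂ) : ℂ)) =
      (charDegree (ξ : K → ℂ) : ℂ) / (charDegree (ξ₀ : K → ℂ) : ℂ) := by
    intro ξ
    rw [map_div₀, Complex.conj_natCast, Complex.conj_natCast]
  have hentry : ∀ ξ ∈ b, ∀ ξ' ∈ b, (nRed 2 b ξ ξ' : ℂ) =
      ((charDegree (ξ : K → ℂ) : ℂ) / (charDegree (ξ₀ : K → ℂ) : ℂ)) *
      ((charDegree (ξ' : K → ℂ) : ℂ) / (charDegree (ξ₀ : K → ℂ) : ℂ)) *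
        (nRed 2 b ξ₀ ξ₀ : ℂ) := by
    intro ξ hξ ξ' hξ'
    rw [hn ξ ξ' hξ, hn ξ₀ ξ₀ hξ₀, ← classInner_pRegularPart_pRegularPart,
      ← classInner_pRegularPart_pRegularPart 2 (ξ₀ : K → ℂ), hspan ξ hξ, hspan ξ' hξ',
      classInner_smul_left, classInner_smul_right, hconj]
    ring
  have hc0 : (charDegree (ξ₀ : K → ℂ) : ℂ) ≠ 0 := by
    exact_mod_cast charDegree_ne_zero ξ₀
  have hself : (charDegree (ξ₀ : K → ℂ) : ℂ) / (charDegree (ξ₀ : K → ℂ) : ℂ) = 1 :=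
    div_self hc0
  -- oddness of the entry of the height zero character
  have hodd : ¬ (2 : ℤ) ∣ nRed 2 b ξ₀ ξ₀ := by
    intro hdvd
    have h1 := nRed_eq_rhoFac_mul hM hb (ξ₀ := ξ₀) hξ₀
    have hcf := isClassFunction_conjReg (p := 2) (isClassFunction_of_isIrrCharacter ξ₀.2)
    have hR : ∀ g, MemLocalRing M (conjReg 2 (ξ₀ : K → ℂ) g) :=
      memLocalRing_conjReg (isCharacter_of_isIrrCharacter ξ₀.2)
    have h2 := ((height_zero_criterion hM hb hξ₀).2.1 hh) ξ₀ hξ₀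
    have h3 := not_memLocalIdeal_mul (rhoFac_local hM hξ₀).1 (memLocalRing_omega ξ₀ hcf hR)
      ((rhoFac_local hM hξ₀).2 hξ₀min) h2
    apply h3
    rw [← h1]
    exact (memLocalIdeal_intCast_iff hM _).2 hdvd
  -- positivity
  have hnn : 0 ≤ nRed 2 b ξ₀ ξ₀ := by
    have h1 := hn ξ₀ ξ₀ hξ₀
    rw [classInner_pRegularPart_self] at h1
    have h2 : ((nRed 2 b ξ₀ ξ₀ : ℤ) : ℝ) = 4 * pNorm 2 (ξ₀ : K → ℂ) := by exact_mod_cast h1
    have h3 := pNorm_nonneg (p := 2) (ξ₀ : K → ℂ)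
    have h4 : (0 : ℝ) ≤ ((nRed 2 b ξ₀ ξ₀ : ℤ) : ℝ) := by rw [h2]; positivity
    exact_mod_cast h4
  have h00 : 1 ≤ nRed 2 b ξ₀ ξ₀ := by
    have : nRed 2 b ξ₀ ξ₀ ≠ 0 := fun h => hodd (by rw [h]; exact dvd_zero _)
    omega
  -- integer form of the entries
  have hint : ∀ ξ ∈ b, ∀ ξ' ∈ b, nRed 2 b ξ ξ' * ((charDegree (ξ₀ : K → ℂ) : ℤ)) ^ 2 =
      (charDegree (ξ : K → ℂ) : ℤ) * (charDegree (ξ' : K → ℂ) : ℤ) * nRed 2 b ξ₀ ξ₀ := by
    intro ξ hξ ξ' hξ'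
    have h1 := hentry ξ hξ ξ' hξ'
    have h2 : ((nRed 2 b ξ ξ' * ((charDegree (ξ₀ : K → ℂ) : ℤ)) ^ 2 : ℤ) : ℂ) =
        (((charDegree (ξ : K → ℂ) : ℤ) * (charDegree (ξ' : K → ℂ) : ℤ) *
          nRed 2 b ξ₀ ξ₀ : ℤ) : ℂ) := by
      push_cast
      rw [h1]
      field_simp
    exact_mod_cast h2
  have hc0' : (0 : ℤ) < (charDegree (ξ₀ : K → ℂ) : ℤ) := by
    exact_mod_cast Nat.pos_of_ne_zero (charDegree_ne_zero ξ₀)
  have hcpos : ∀ ξ : IrrCharacter K, (0 : ℤ) < (charDegree (ξ : K → ℂ) : ℤ) := by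
    intro ξ
    exact_mod_cast Nat.pos_of_ne_zero (charDegree_ne_zero ξ)
  have hpos : ∀ ξ ∈ Finset.univ.filter (· ∈ b), 1 ≤ nRed 2 b ξ ξ := by
    intro ξ hξ
    have hξb : ξ ∈ b := (Finset.mem_filter.1 hξ).2
    have h1 := hint ξ hξb ξ hξb
    have h2 : 0 < (charDegree (ξ : K → ℂ) : ℤ) * (charDegree (ξ : K → ℂ) : ℤ) *
        nRed 2 b ξ₀ ξ₀ := by
      have := hcpos ξ
      positivity
    rw [← h1] at h2
    have h3 : 0 < ((charDegree (ξ₀ : K → ℂ) : ℤ)) ^ 2 := by positivity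
    have h4 : 0 < nRed 2 b ξ ξ := by
      by_contra hcon
      have : nRed 2 b ξ ξ ≤ 0 := not_lt.1 hcon
      nlinarith
    omega
  -- the trace
  have htr : ∑ ξ ∈ Finset.univ.filter (· ∈ b), nRed 2 b ξ ξ = 4 := by
    have h1 := blockRank_block 2 hM hb
    rw [hl] at h1
    have h2 : ((∑ ξ ∈ Finset.univ.filter (· ∈ b), nRed 2 b ξ ξ : ℤ) : ℂ) = 4 := by
      push_cast
      rw [Finset.sum_filter]
      have h3 : ∀ ξ : IrrCharacter K, (if ξ ∈ b then ((nRed 2 b ξ ξ : ℤ) : ℂ) else 0) =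
          4 * (if ξ ∈ b then classInner (pRegularPart 2 (ξ : K → ℂ)) (ξ : K → ℂ) else 0) := by
        intro ξ
        split_ifs with hξ
        · rw [hn ξ ξ hξ]
        · rw [mul_zero]
      rw [Finset.sum_congr rfl (fun ξ _ => h3 ξ), ← Finset.mul_sum, ← h1]
      norm_num
    exact_mod_cast h2
  -- squares
  have hsq : ∀ ξ ∈ Finset.univ.filter (· ∈ b),
      nRed 2 b ξ ξ * nRed 2 b ξ₀ ξ₀ = nRed 2 b ξ ξ₀ ^ 2 := by
    intro ξ hξ
    have hξb : ξ ∈ b := (Finset.mem_filter.1 hξ).2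
    have h1 := hint ξ hξb ξ hξb
    have h2 := hint ξ hξb ξ₀ hξ₀
    have h3 : (0 : ℤ) < ((charDegree (ξ₀ : K → ℂ) : ℤ)) ^ 2 := by positivity
    have h5 : (nRed 2 b ξ ξ * nRed 2 b ξ₀ ξ₀) * (((charDegree (ξ₀ : K → ℂ) : ℤ)) ^ 2) ^ 2 =
        (nRed 2 b ξ ξ₀ ^ 2) * (((charDegree (ξ₀ : K → ℂ) : ℤ)) ^ 2) ^ 2 := by
      have e1 : (nRed 2 b ξ ξ * nRed 2 b ξ₀ ξ₀) * (((charDegree (ξ₀ : K → ℂ) : ℤ)) ^ 2) ^ 2 =
          (nRed 2 b ξ ξ * ((charDegree (ξ₀ : K → ℂ) : ℤ)) ^ 2) *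
            (nRed 2 b ξ₀ ξ₀ * ((charDegree (ξ₀ : K → ℂ) : ℤ)) ^ 2) := by ring
      have e2 : (nRed 2 b ξ ξ₀ ^ 2) * (((charDegree (ξ₀ : K → ℂ) : ℤ)) ^ 2) ^ 2 =
          (nRed 2 b ξ ξ₀ * ((charDegree (ξ₀ : K → ℂ) : ℤ)) ^ 2) ^ 2 := by ring
      rw [e1, e2, h1, h2]
      ring
    have h6 : ((((charDegree (ξ₀ : K → ℂ) : ℤ)) ^ 2) ^ 2) ≠ 0 := by positivity
    exact mul_right_cancel₀ h6 h5
  have hξ₀' : ξ₀ ∈ Finset.univ.filter (· ∈ b) := Finset.mem_filter.2 ⟨Finset.mem_univ _, hξ₀⟩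
  obtain ⟨hcard, hall⟩ := all_one_of_sum_four (Finset.univ.filter (· ∈ b)) ξ₀ hξ₀'
    (fun ξ => nRed 2 b ξ ξ) (fun ξ => nRed 2 b ξ ξ₀) hpos htr hodd hsq
  have h001 : nRed 2 b ξ₀ ξ₀ = 1 := hall ξ₀ hξ₀'
  -- equal degrees
  have hdeg : ∀ ξ ∈ b, charDegree (ξ : K → ℂ) = charDegree (ξ₀ : K → ℂ) := by
    intro ξ hξ
    have h1 := hint ξ hξ ξ hξ
    rw [hall ξ (Finset.mem_filter.2 ⟨Finset.mem_univ _, hξ⟩), h001, one_mul, mul_one] at h1
    have h2 : ((charDegree (ξ₀ : K → ℂ) : ℤ)) ^ 2 = ((charDegree (ξ : K → ℂ) : ℤ)) ^ 2 := by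
      rw [h1]; ring
    have h3 := hcpos ξ
    have h4 : (charDegree (ξ₀ : K → ℂ) : ℤ) = (charDegree (ξ : K → ℂ) : ℤ) := by nlinarith
    exact_mod_cast h4.symm
  have hreg : ∀ ξ ∈ b, pRegularPart 2 (ξ : K → ℂ) = pRegularPart 2 (ξ₀ : K → ℂ) := by
    intro ξ hξ
    rw [hspan ξ hξ, hdeg ξ hξ, hself, one_smul]
  refine ⟨hcard, ?_, ?_, ?_⟩
  · intro ξ hξ ξ' hξ' s hs
    have h1 := congrFun (hreg ξ hξ) s
    have h2 := congrFun (hreg ξ' hξ') s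
    rw [pRegularPart_of_not_dvd 2 _ hs, pRegularPart_of_not_dvd 2 _ hs] at h1 h2
    rw [h1, h2]
  · intro ξ hξ ξ' hξ'
    have h1 := hentry ξ hξ ξ' hξ'
    rw [hdeg ξ hξ, hdeg ξ' hξ', hself, h001, hn ξ ξ' hξ] at h1
    have h2 : (4 : ℂ) ≠ 0 := by norm_num
    field_simp
    rw [mul_comm]
    rw [h1]
    norm_num
  · intro y hy
    have h1 := weak_block_orthogonality hM hb hone hy
    rw [finsum_mem_def, finsum_eq_sum_of_fintype] at h1
    have h2 : ∀ ξ : IrrCharacter K, b.indicator (fun χ : IrrCharacter K =>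
        (χ : K → ℂ) 1 * conj ((χ : K → ℂ) y)) ξ =
        (charDegree (ξ₀ : K → ℂ) : ℂ) * conj (if ξ ∈ b then (ξ : K → ℂ) y else 0) := by
      intro ξ
      by_cases hξ : ξ ∈ b
      · rw [Set.indicator_of_mem hξ, if_pos hξ, irr_one_eq_charDegree ξ.2, hdeg ξ hξ]
      · rw [Set.indicator_of_notMem hξ, if_neg hξ, map_zero, mul_zero]
    rw [Finset.sum_congr rfl (fun ξ _ => h2 ξ), ← Finset.mul_sum, ← map_sum] at h1
    have h3 := (mul_eq_zero.1 h1).resolve_left hc0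
    have h4 := congrArg conj h3
    rw [Complex.conj_conj, map_zero] at h4
    exact h4

end RankOneBlock

end Cfsg.Agent.Helper23.Blk
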