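import Mathlib
import Cfsg.Agent.Lib.Helper23.BlockLocal
import Cfsg.Agent.Lib.Helper23.CharValues

/-!
# Divisibility of class functions vanishing on the `p`-singular elements (helper23's library)

`memLocalRing_div_card_centralizer`: if `f = ∑ a_χ χ` with local-integral coefficients vanishes on
all `p`-singular elements, then `f x / |C(x)|` is a local integer for every `x`.
-/

set_option autoImplicit false
set_option linter.unusedSectionVars false
set_option linter.style.haveILetI false

namespace Cfsg.Agent.Helper23.Blk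

open Cfsg

universe u

section Avg

variable {X : Type u} [Group X]

/-- the average of a character over a coset `x Q` of a finite subgroup centralizing `x` is an
algebraic integer -/
theorem isIntegral_avg_character [Finite X] {n : ℕ} (ρ : Representation ℂ X (Fin n → ℂ))
    (Q : Subgroup X) [Fintype Q] (x : X) (hx : ∀ q ∈ Q, q * x = x * q) :
    IsIntegral ℤ ((Nat.card Q : ℂ)⁻¹ * ∑ q : Q, ρ.character (x * (q : X))) := by
  classical
  have hQ0 : (Nat.card Q : ℂ) ≠ 0 := by
    exact_mod_cast (Nat.card_pos (α := Q)).ne'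
  set S : Module.End ℂ (Fin n → ℂ) := ∑ q : Q, ρ (q : X) with hS
  set E : Module.End ℂ (Fin n → ℂ) := (Nat.card Q : ℂ)⁻¹ • S with hE
  have hSS : S * S = (Nat.card Q : ℂ) • S := by
    rw [hS, Finset.sum_mul]
    have h1 : ∀ q : Q, ρ (q : X) * ∑ q' : Q, ρ (q' : X) = ∑ q' : Q, ρ (q' : X) := by
      intro q
      rw [Finset.mul_sum]
      rw [← Equiv.sum_comp (Equiv.mulLeft q) (fun q' : Q => ρ (q' : X))]
      apply Finset.sum_congr rfl
      intro q' _
      rw [Equiv.coe_mulLeft, Subgroup.coe_mul, map_mul]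
    rw [Finset.sum_congr rfl (fun q _ => h1 q), Finset.sum_const, Finset.card_univ,
      Nat.card_eq_fintype_card, Nat.cast_smul_eq_nsmul]
  have hEE : E * E = E := by
    rw [hE, smul_mul_smul_comm, hSS, smul_smul]
    congr 1
    field_simp
  have hcomm : ρ x * S = S * ρ x := by
    rw [hS, Finset.mul_sum, Finset.sum_mul]
    apply Finset.sum_congr rfl
    intro q _
    rw [← map_mul, ← map_mul, hx q q.2]
  have hcommE : ρ x * E = E * ρ x := by
    rw [hE, mul_smul_comm, smul_mul_assoc, hcomm]
  obtain ⟨T, hT⟩ : ∃ T : Module.End ℂ (Fin n → ℂ), T = ρ x * E := ⟨_, rfl⟩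
  have hTpow : ∀ k : ℕ, T ^ (k + 1) = ρ (x ^ (k + 1)) * E := by
    intro k
    induction k with
    | zero => simp [hT]
    | succ k ih =>
      rw [pow_succ, ih, hT]
      calc ρ (x ^ (k + 1)) * E * (ρ x * E) = ρ (x ^ (k + 1)) * (E * ρ x) * E := by
            simp only [mul_assoc]
        _ = ρ (x ^ (k + 1)) * (ρ x * E) * E := by rw [hcommE]
        _ = (ρ (x ^ (k + 1)) * ρ x) * (E * E) := by simp only [mul_assoc]
        _ = ρ (x ^ (k + 1 + 1)) * E := by rw [hEE, ← map_mul, ← pow_succ]
  set m := orderOf x with hm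
  have hmpos : 0 < m := orderOf_pos x
  have hTm : T ^ (m + 1) = T := by
    rw [hTpow m, pow_succ, hm, pow_orderOf_eq_one, one_mul, hT]
  -- the trace
  have htrace : (Nat.card Q : ℂ)⁻¹ * ∑ q : Q, ρ.character (x * (q : X)) =
      LinearMap.trace ℂ (Fin n → ℂ) T := by
    have hT' : T = (Nat.card Q : ℂ)⁻¹ • ∑ q : Q, ρ (x * (q : X)) := by
      rw [hT, hE, mul_smul_comm, hS, Finset.mul_sum]
      congr 1
      apply Finset.sum_congr rfl
      intro q _
      rw [map_mul]
    rw [hT', map_smul, map_sum, smul_eq_mul]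
    rfl
  rw [htrace]
  have hsplit : T.charpoly.Splits := IsAlgClosed.splits _
  rw [Module.End.trace_eq_sum_roots_charpoly_of_splits hsplit]
  apply IsIntegral.multiset_sum
  intro μ hμ
  have hroot : T.charpoly.IsRoot μ := (Polynomial.mem_roots'.1 hμ).2
  have hev : Module.End.HasEigenvalue T μ :=
    (Module.End.hasEigenvalue_iff_isRoot_charpoly T μ).2 hroot
  obtain ⟨v, hv⟩ := hev.exists_hasEigenvector
  have h1 : (T ^ (m + 1)) v = μ ^ (m + 1) • v := hv.pow_apply (m + 1)
  rw [hTm, hv.apply_eq_smul] at h1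
  have h3 : (μ ^ (m + 1) - μ) • v = 0 := by
    rw [sub_smul, ← h1, sub_self]
  have h4 : μ ^ (m + 1) = μ := by
    rcases smul_eq_zero.1 h3 with h | h
    · exact sub_eq_zero.1 h
    · exact absurd h hv.2
  by_cases hμ0 : μ = 0
  · rw [hμ0]
    exact isIntegral_zero
  · have h5 : μ ^ m = 1 := by
      have : μ ^ m * μ = 1 * μ := by rw [← pow_succ, h4, one_mul]
      exact mul_right_cancel₀ hμ0 this
    exact IsIntegral.of_pow hmpos (by rw [h5]; exact isIntegral_one)

end Avg

section Div

variable {X : Type u} [Group X] [Fintype X] {M : Ideal AlgInt} {p : ℕ}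

/-- **a local-integral combination of irreducible characters vanishing on the `p`-singular
elements is divisible by the orders of the centralizers** -/
theorem memLocalRing_div_card_centralizer (hM : IsPModular p M) [Fintype (IrrCharacter X)]
    (a : IrrCharacter X → ℂ) (ha : ∀ χ, MemLocalRing M (a χ))
    (hvan : ∀ y : X, p ∣ orderOf y → ∑ χ : IrrCharacter X, a χ * (χ : X → ℂ) y = 0) (x : X) :
    MemLocalRing M ((∑ χ : IrrCharacter X, a χ * (χ : X → ℂ) x) /
      (Nat.card (Subgroup.centralizer ({x} : Set X)) : ℂ)) := by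
  classical
  haveI hMp : M.IsPrime := hM.2.1.isPrime
  have hp : p.Prime := hM.1
  haveI : Fact p.Prime := ⟨hp⟩
  by_cases hx : p ∣ orderOf x
  · rw [hvan x hx, zero_div]
    exact memLocalRing_zero ne_top
  set C := Subgroup.centralizer ({x} : Set X) with hC
  obtain ⟨Q₀⟩ : Nonempty (Sylow p C) := inferInstance
  set Q : Subgroup X := (Q₀ : Subgroup C).map C.subtype with hQ
  haveI : Fintype Q := Fintype.ofFinite Q
  have hcardQ : Nat.card Q = p ^ (Nat.card C).factorization p := by
    rw [hQ, Nat.card_congr ((Q₀ : Subgroup C).equivMapOfInjective C.subtype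
      (Subgroup.subtype_injective C)).symm.toEquiv]
    exact Sylow.card_eq_multiplicity Q₀
  have hCpos : Nat.card C ≠ 0 := (Nat.card_pos (α := C)).ne'
  set m := Nat.card C / p ^ (Nat.card C).factorization p with hm
  have hCm : Nat.card C = Nat.card Q * m := by
    rw [hcardQ, hm]
    exact (Nat.ordProj_mul_ordCompl_eq_self (Nat.card C) p).symm
  have hpm : ¬ p ∣ m := Nat.not_dvd_ordCompl hp hCpos
  have hQC : ∀ q ∈ Q, q ∈ C := by
    intro q hq
    rw [hQ] at hq
    obtain ⟨c, -, rfl⟩ := hq
    exact c.2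
  have hcomm : ∀ q ∈ Q, q * x = x * q := by
    intro q hq
    exact Subgroup.mem_centralizer_iff.1 (hQC q hq) x rfl |>.symm
  have hQp : IsPGroup p Q := by
    rw [hQ]
    exact Q₀.isPGroup'.map _
  have hsing : ∀ q : Q, q ≠ 1 → p ∣ orderOf (x * (q : X)) := by
    intro q hq
    obtain ⟨k, hk⟩ := hQp.exists_orderOf_eq_pow q
    have hk' : orderOf (q : X) = p ^ k := by rw [Subgroup.orderOf_coe]; exact hk
    have hk0 : k ≠ 0 := by
      intro h0
      rw [h0, pow_zero, orderOf_eq_one_iff] at hk
      exact hq hk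
    have hcop : Nat.Coprime (orderOf x) (orderOf (q : X)) := by
      rw [hk']
      exact Nat.Coprime.pow_right k ((Nat.Prime.coprime_iff_not_dvd hp).2 hx).symm
    have hc : Commute x (q : X) := (hcomm q q.2).symm
    rw [hc.orderOf_mul_eq_mul_orderOf_of_coprime hcop, hk']
    exact dvd_mul_of_dvd_right (dvd_pow_self p hk0) _
  -- the sum over the coset
  have hsum : ∑ q : Q, ∑ χ : IrrCharacter X, a χ * (χ : X → ℂ) (x * (q : X)) =
      ∑ χ : IrrCharacter X, a χ * (χ : X → ℂ) x := by
    rw [Finset.sum_eq_single (1 : Q)]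
    · simp
    · intro q _ hq
      exact hvan _ (hsing q hq)
    · intro h
      exact absurd (Finset.mem_univ _) h
  have hQ0 : (Nat.card Q : ℂ) ≠ 0 := by exact_mod_cast (Nat.card_pos (α := Q)).ne'
  have hm0 : (m : ℂ) ≠ 0 := by
    intro h
    have : m = 0 := by exact_mod_cast h
    rw [this] at hpm
    exact hpm (dvd_zero p)
  have key : (∑ χ : IrrCharacter X, a χ * (χ : X → ℂ) x) / (Nat.card C : ℂ) =
      (m : ℂ)⁻¹ * ∑ χ : IrrCharacter X, a χ *
        ((Nat.card Q : ℂ)⁻¹ * ∑ q : Q, (χ : X → ℂ) (x * (q : X))) := by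
    rw [← hsum, Finset.sum_comm, hCm]
    push_cast
    rw [Finset.mul_sum, Finset.sum_div]
    apply Finset.sum_congr rfl
    intro χ _
    rw [← Finset.mul_sum]
    field_simp
  rw [key]
  have hminv : MemLocalRing M ((m : ℂ)⁻¹) :=
    memLocalRing_inv (memLocalRing_natCast m)
      (fun h' => hpm ((memLocalIdeal_natCast_iff hM m).1 h'))
  apply memLocalRing_mul hminv
  apply memLocalRing_sum
  intro χ _
  apply memLocalRing_mul (ha χ)
  obtain ⟨n, ρ, -, hρ⟩ := χ.2
  have := isIntegral_avg_character ρ Q x hcomm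
  rw [hρ] at this
  exact memLocalRing_of_isIntegral this ne_top

end Div

end Cfsg.Agent.Helper23.Blk
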