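import Mathlib
import Cfsg.Agent.Lib.Helper23.KleinRankOne
import Cfsg.Agent.Lib.Helper23.ProjDiv
import Cfsg.Agent.Lib.Helper23.BlockKleinCount
import Cfsg.Agent.Lib.Helper23.BlockSections3
import Cfsg.Agent.Lib.Helper23.BlockSecondMain4
import Cfsg.Agent.Lib.Helper23.BlockCountClasses

/-!
# Subsections of `2`-blocks with a Klein four defect group (helper23's shared library)

`klein_subsection`: for a major subsection `(u, b)` of a `2`-block `B` of defect two with four
irreducible characters, `u` an involution and `l(b) = 1`, the generalized decomposition numbers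
`d_χ` are signs, `∑ d_χ χ` vanishes on the `2`-regular elements, and the values of the
irreducible Brauer character of `b` are divisible by a quarter of the centralizer orders.
-/

set_option autoImplicit false
set_option linter.unusedSectionVars false
set_option linter.style.haveILetI false

namespace Cfsg.Agent.Helper23.Blk

open Cfsg Cfsg.Agent.Helper24 Cfsg.Agent.Helper18
open scoped ComplexConjugate

universe u

section CrossSection

variable {G : Type u} [Group G] [Fintype G] {M : Ideal AlgInt} {p : ℕ}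

set_option maxHeartbeats 1600000 in
/-- orthogonality between a nontrivial subsection and the `p`-regular elements -/
theorem sum_shiftPart_one_mul_conj_regular (hM : IsPModular p M) {z : G}
    (hz : ∃ k : ℕ, orderOf z = p ^ k) (hz1 : z ≠ 1)
    [Fintype (Subgroup.centralizer ({z} : Set G))] [Fintype (IrrCharacter G)]
    {b : Set (IrrCharacter (Subgroup.centralizer ({z} : Set G)))} (hb : IsPBlock M b)
    (x : G) (hx : ¬ p ∣ orderOf x) :
    ∑ ζ : IrrCharacter G, shiftPart b (ζ : G → ℂ) 1 * conj ((ζ : G → ℂ) x) = 0 := by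
  classical
  have hp : p.Prime := hM.1
  set Φ : Subgroup.centralizer ({z} : Set G) → ℂ := fun c =>
    ∑ ζ : IrrCharacter G, (ζ : G → ℂ) (z * (c : G)) * conj ((ζ : G → ℂ) x) with hΦ
  have hΦcf : IsClassFunction (Subgroup.centralizer ({z} : Set G)) Φ := by
    intro c t
    simp only [hΦ]
    apply Finset.sum_congr rfl
    intro ζ _
    have := isClassFunction_shift (isClassFunction_of_isIrrCharacter ζ.2) z c t
    beta_reduce at this
    rw [this]
  have hΦ0 : ∀ c : Subgroup.centralizer ({z} : Set G), ¬ p ∣ orderOf c → Φ c = 0 := by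
    intro c hc
    simp only [hΦ]
    rw [second_orthogonality, card_conj_eq_zero_of_not_isConj, Nat.cast_zero]
    intro hconj
    obtain ⟨y, hy⟩ := isConj_iff.1 hconj
    have hord : orderOf (z * (c : G)) = orderOf x := by
      rw [← hy]
      exact (SemiconjBy.orderOf_eq y (x := x) (y := y * x * y⁻¹)
        (by unfold SemiconjBy; group)).symm
    have hcomm : Commute z (c : G) :=
      Subgroup.mem_centralizer_iff.1 c.2 z (Set.mem_singleton z)
    have h1 : IsPPart p (z * (c : G)) z :=
      ⟨(c : G), rfl, hcomm, hz, by rwa [Subgroup.orderOf_coe]⟩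
    have h2 : IsPPart p (z * (c : G)) 1 := by
      rw [isPPart_one_iff, hord]
      exact hx
    exact hz1 (isPPart_unique hp h1 h2)
  have hone : ¬ p ∣ orderOf (1 : Subgroup.centralizer ({z} : Set G)) := by
    rw [orderOf_one]
    intro h
    exact hp.one_lt.ne' (Nat.dvd_one.1 h)
  have h1 := sum_blockCoeff_shift_eq_zero_of_vanish hM hb hΦcf hΦ0 hone
  simp only [hΦ, Finset.mul_sum] at h1
  rw [Finset.sum_comm] at h1
  rw [← h1]
  apply Finset.sum_congr rfl
  intro ζ _
  unfold shiftPart
  rw [Finset.sum_mul]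
  apply Finset.sum_congr rfl
  intro k _
  ring

end CrossSection

section Subsection

variable {G : Type u} [Group G] [Fintype G] {M : Ideal AlgInt}

set_option maxHeartbeats 3200000 in
theorem klein_subsection (hM : IsPModular 2 M) {u : G} (hu : orderOf u = 2)
    (H : Subgroup G) [Fintype H] (hH : H = Subgroup.centralizer ({u} : Set G))
    [Fintype (IrrCharacter G)] {B : Set (IrrCharacter G)} [DecidablePred (· ∈ B)]
    {b : Set (IrrCharacter H)} (hind : IsInducedBlock M H b B)
    (hdef : blockDefect 2 b = 2) (hd : blockDefect 2 B = 2) (hl : blockRank 2 b = 1)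
    (hk : (Finset.univ.filter (· ∈ B)).card = 4) :
    ∃ (d : IrrCharacter G → ℤ) (φ : H → ℂ),
      (∀ χ ∈ B, d χ = 1 ∨ d χ = -1) ∧
      (∀ χ ∈ B, ∀ s : H, ¬ 2 ∣ orderOf s →
        etaPart H u b (χ : G → ℂ) s = (d χ : ℂ) * φ s) ∧
      (∀ x : G, ¬ 2 ∣ orderOf x →
        ∑ χ : IrrCharacter G, (if χ ∈ B then (d χ : ℂ) * (χ : G → ℂ) x else 0) = 0) ∧
      φ 1 ≠ 0 ∧
      (∀ s : H, ¬ 2 ∣ orderOf s → MemLocalRing M (φ s) ∧
        MemLocalRing M (4 * φ s / (Nat.card (Subgroup.centralizer ({s} : Set H)) : ℂ))) := by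
  classical
  haveI : Fact (Nat.Prime 2) := ⟨Nat.prime_two⟩
  haveI hMp : M.IsPrime := hM.2.1.isPrime
  letI : Fintype (IrrCharacter H) := irrFintype
  have hB : IsPBlock M B := hind.2.1
  have hb : IsPBlock M b := hind.1
  have hz : ∃ k : ℕ, orderOf u = 2 ^ k := ⟨1, by rw [hu, pow_one]⟩
  have hu1 : u ≠ 1 := by
    intro h
    rw [h, orderOf_one] at hu
    norm_num at hu
  have huH : u ∈ H := by
    rw [hH]
    exact self_mem_centralizer_singleton u
  set Y : H := ⟨u, huH⟩ with hY
  have hYc : Y ∈ Subgroup.center H := by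
    rw [Subgroup.mem_center_iff]
    intro c
    apply Subtype.ext
    push_cast
    have hc : (c : G) ∈ Subgroup.centralizer ({u} : Set G) := hH ▸ c.2
    exact (Subgroup.mem_centralizer_iff.1 hc u rfl).symm
  have hYn : orderOf Y = 2 := by
    rw [← Subgroup.orderOf_coe]
    exact hu
  have hYu : ((Y : H) : G) = u := rfl
  obtain ⟨hb4, hbeq, hbinner, hbvan⟩ := rank_one_block hM hb hdef hl
  obtain ⟨ξ₀, hξ₀⟩ := block_nonempty hM hb
  -- the signs of the central involution
  have hsgn : ∀ ξ : IrrCharacter H, ∃ s : ℤ, (s = 1 ∨ s = -1) ∧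
      cRatio (ξ : H → ℂ) Y = (s : ℂ) := by
    intro ξ
    have h := cRatio_pow_orderOf ξ.2 hYc
    rw [hYn] at h
    rcases eq_one_or_neg_one_of_sq h with h | h
    · exact ⟨1, Or.inl rfl, by rw [h]; norm_num⟩
    · exact ⟨-1, Or.inr rfl, by rw [h]; norm_num⟩
  choose sg hsg1 hsg using hsgn
  -- the multiplicities of the restrictions
  have hdecomp : ∀ φ : IrrCharacter G, ∃ m : IrrCharacter H → ℕ,
      ∀ ξ : IrrCharacter H,
        classInner (fun c : H => (φ : G → ℂ) (c : G)) (ξ : H → ℂ) = m ξ := by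
    intro φ
    obtain ⟨hm, -⟩ := isCharacter_decomp
      (isCharacter_restrict H (isCharacter_of_isIrrCharacter φ.2))
    choose m hm using hm
    exact ⟨m, hm⟩
  choose a ha using hdecomp
  -- the generalized decomposition numbers
  set d : IrrCharacter G → ℤ := fun χ =>
    ∑ ξ : IrrCharacter H, if ξ ∈ b then (a χ ξ : ℤ) * sg ξ else 0 with hd_def
  have heta : ∀ (χ : IrrCharacter G) (s : H), ¬ 2 ∣ orderOf s →
      etaPart H u b (χ : G → ℂ) s = (d χ : ℂ) * (ξ₀ : H → ℂ) s := by
    intro χ s hs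
    have h1 : etaPart H u b (χ : G → ℂ) = ∑ ξ : IrrCharacter H,
        (if ξ ∈ b then (a χ ξ : ℂ) * cRatio (ξ : H → ℂ) Y else 0) • (ξ : H → ℂ) := by
      unfold etaPart
      rw [blockPart_eq_sum]
      apply Finset.sum_congr rfl
      intro ξ _
      by_cases hξ : ξ ∈ b
      · rw [if_pos hξ, if_pos hξ]
        have h2 := classInner_shift_central H hYc (χ : G → ℂ) ξ
        rw [hYu] at h2
        rw [h2, ha χ ξ]
      · rw [if_neg hξ, if_neg hξ]
    rw [h1, Finset.sum_apply]
    simp only [Pi.smul_apply, smul_eq_mul, hd_def]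
    push_cast
    rw [Finset.sum_mul]
    apply Finset.sum_congr rfl
    intro ξ _
    by_cases hξ : ξ ∈ b
    · rw [if_pos hξ, if_pos hξ, hbeq ξ hξ ξ₀ hξ₀ s hs, hsg ξ]
    · rw [if_neg hξ, if_neg hξ, zero_mul, zero_mul]
  -- contributions
  have hreg : ∀ χ : IrrCharacter G, pRegularPart 2 (etaPart H u b (χ : G → ℂ)) =
      (d χ : ℂ) • pRegularPart 2 (ξ₀ : H → ℂ) := by
    intro χ
    funext s
    by_cases hs : 2 ∣ orderOf s
    · rw [Pi.smul_apply, pRegularPart_of_dvd 2 _ hs, pRegularPart_of_dvd 2 _ hs, smul_zero]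
    · rw [Pi.smul_apply, pRegularPart_of_not_dvd 2 _ hs, pRegularPart_of_not_dvd 2 _ hs,
        heta χ s hs, smul_eq_mul]
  have hcontrib : ∀ χ ψ : IrrCharacter G, contrib 2 H u b (χ : G → ℂ) (ψ : G → ℂ) =
      (d χ : ℂ) * (d ψ : ℂ) / 4 := by
    intro χ ψ
    unfold contrib
    rw [← classInner_pRegularPart_pRegularPart, hreg χ, hreg ψ, classInner_smul_left,
      classInner_smul_right, classInner_pRegularPart_pRegularPart, hbinner ξ₀ hξ₀ ξ₀ hξ₀,
      map_intCast]
    ring
  -- the squares add up to four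
  have hsum : ∑ χ ∈ Finset.univ.filter (· ∈ B), d χ ^ 2 = 4 := by
    have h1 := sum_contrib_self hM hz H hH hind
    rw [hl] at h1
    have h2 : ((∑ χ ∈ Finset.univ.filter (· ∈ B), d χ ^ 2 : ℤ) : ℂ) = 4 := by
      push_cast
      rw [Finset.sum_filter]
      have h3 : ∀ χ : IrrCharacter G, (if χ ∈ B then ((d χ : ℤ) : ℂ) ^ 2 else 0) =
          4 * (if χ ∈ B then contrib 2 H u b (χ : G → ℂ) (χ : G → ℂ) else 0) := by
        intro χ
        split_ifs
        · rw [hcontrib]
          ring
        · rw [mul_zero]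
      rw [Finset.sum_congr rfl (fun χ _ => h3 χ), ← Finset.mul_sum, h1]
      norm_num
    exact_mod_cast h2
  -- nonvanishing
  obtain ⟨ψ₀, hψ₀, hh⟩ := exists_height_zero hM hB
  have hne : ∀ χ ∈ Finset.univ.filter (· ∈ B), d χ ≠ 0 := by
    intro χ hχ h0
    have hχB : χ ∈ B := (Finset.mem_filter.1 hχ).2
    have h1 := contrib_ne_zero_of_major hM hz H hH hind (by rw [hdef, hd]) hψ₀ hχB hh
    apply h1
    rw [hcontrib, h0]
    simp
  have hsign := sign_of_sum_sq_eq_four (Finset.univ.filter (· ∈ B)) d hk hne hsum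
  have hφ1 : (ξ₀ : H → ℂ) 1 ≠ 0 := irr_one_ne_zero ξ₀.2
  refine ⟨d, (ξ₀ : H → ℂ), fun χ hχ => hsign χ (Finset.mem_filter.2 ⟨Finset.mem_univ _, hχ⟩),
    fun χ _ s hs => heta χ s hs, ?_, hφ1, ?_⟩
  · -- vanishing on the regular elements
    intro x hx
    subst hH
    have h1 := sum_shiftPart_one_mul_conj_regular hM hz hu1 hb x hx
    have hone : ¬ 2 ∣ orderOf (1 : Subgroup.centralizer ({u} : Set G)) := by
      rw [orderOf_one]
      norm_num
    have h2 : ∀ ζ : IrrCharacter G, shiftPart b (ζ : G → ℂ) 1 * conj ((ζ : G → ℂ) x) =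
        (ξ₀ : Subgroup.centralizer ({u} : Set G) → ℂ) 1 *
          conj (if ζ ∈ B then (d ζ : ℂ) * (ζ : G → ℂ) x else 0) := by
      intro ζ
      rw [← blockPart_shift_eq_shiftPart b (isClassFunction_of_isIrrCharacter ζ.2)]
      by_cases hζ : ζ ∈ B
      · rw [if_pos hζ]
        have h3 := heta ζ 1 hone
        unfold etaPart at h3
        rw [h3, map_mul, map_intCast]
        ring
      · rw [if_neg hζ, map_zero, mul_zero]
        have hB' : IsPBlock M (blockOf M (ζ : G → ℂ)) := ⟨ζ, rfl⟩
        have hζ' : ζ ∈ blockOf M (ζ : G → ℂ) := mem_blockOf_self ζ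
        have hnot : ¬ IsInducedBlock M (Subgroup.centralizer ({u} : Set G)) b
            (blockOf M (ζ : G → ℂ)) := by
          intro h₂
          apply hζ
          obtain ⟨ξ, hξ⟩ := block_nonempty hM hind.1
          obtain ⟨χ₁, hχ₁⟩ := block_nonempty hM hind.2.1
          have hsame : SameBlock M (χ₁ : G → ℂ) (ζ : G → ℂ) := by
            intro g
            have a1 := hind.2.2 ξ hξ χ₁ hχ₁ g
            have a2 := h₂.2.2 ξ hξ ζ hζ' g
            exact cong_trans (cong_symm a1) a2
          obtain ⟨χ₀, rfl⟩ := hind.2.1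
          exact sameBlock_trans hχ₁ hsame
        rw [blockPart_shift_eq_zero hM hz hB' hζ' hb hnot 1 hone, zero_mul]
    rw [Finset.sum_congr rfl (fun ζ _ => h2 ζ), ← Finset.mul_sum, ← map_sum] at h1
    have h3 := (mul_eq_zero.1 h1).resolve_left hφ1
    have h4 := congrArg conj h3
    rw [Complex.conj_conj, map_zero] at h4
    exact h4
  · -- divisibility
    intro s hs
    refine ⟨memLocalRing_of_isIntegral
      (isIntegral_of_isCharacter (isCharacter_of_isIrrCharacter ξ₀.2) s) hMp.ne_top, ?_⟩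
    have h1 := memLocalRing_div_card_centralizer hM
      (fun ξ : IrrCharacter H => if ξ ∈ b then (1 : ℂ) else 0)
      (fun ξ => by
        by_cases hξ : ξ ∈ b
        · rw [if_pos hξ]; exact memLocalRing_one hMp.ne_top
        · rw [if_neg hξ]; exact memLocalRing_zero hMp.ne_top)
      (fun y hy => by
        refine Eq.trans ?_ (hbvan y hy)
        apply Finset.sum_congr rfl
        intro ξ _
        by_cases hξ : ξ ∈ b
        · rw [if_pos hξ, if_pos hξ, one_mul]
        · rw [if_neg hξ, if_neg hξ, zero_mul]) s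
    have h2 : ∑ ξ : IrrCharacter H, (if ξ ∈ b then (1 : ℂ) else 0) * (ξ : H → ℂ) s =
        4 * (ξ₀ : H → ℂ) s := by
      have h3 : ∀ ξ : IrrCharacter H, (if ξ ∈ b then (1 : ℂ) else 0) * (ξ : H → ℂ) s =
          if ξ ∈ b then (ξ₀ : H → ℂ) s else 0 := by
        intro ξ
        by_cases hξ : ξ ∈ b
        · rw [if_pos hξ, if_pos hξ, one_mul, hbeq ξ hξ ξ₀ hξ₀ s hs]
        · rw [if_neg hξ, if_neg hξ, zero_mul]
      rw [Finset.sum_congr rfl (fun ξ _ => h3 ξ), ← Finset.sum_filter, Finset.sum_const, hb4]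
      simp
    rw [h2] at h1
    exact h1

end Subsection

end Cfsg.Agent.Helper23.Blk
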