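import Mathlib
import Cfsg.Agent.Lib.Helper23.KleinSubsection
import Cfsg.Agent.Lib.Helper23.KleinLocal
import Cfsg.Agent.Lib.Helper23.BlockChainSum
import Cfsg.Agent.Lib.Helper23.BlockSections
import Cfsg.Agent.S4637

/-!
# The character values of a `2`-block with a Klein four defect group (helper23's shared library)

`KleinStruct` collects what the perfect isometry needs; `klein_data` proves it for every
`2`-block with a Klein four defect group.
-/

set_option autoImplicit false
set_option linter.unusedSectionVars false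
set_option linter.style.haveILetI false

namespace Cfsg.Agent.Helper23.Blk

open Cfsg Cfsg.Agent.Helper23 Cfsg.Agent.Helper24 Cfsg.Agent.Helper18 Cfsg.Agent.Helper18.PairRel
open scoped ComplexConjugate

universe u

/-- the shape of the character values of a Klein four block (`t`: "the block has one irreducible
Brauer character") -/
structure KleinStruct (M : Ideal AlgInt) {X : Type u} [Group X] [Fintype X]
    [Fintype (IrrCharacter X)] (A : Set (IrrCharacter X)) [DecidablePred (· ∈ A)]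
    (v : IrrCharacter X → ℤ) (t : Prop) : Prop where
  card : (Finset.univ.filter (· ∈ A)).card = 4
  sign : ∀ χ ∈ A, v χ = 1 ∨ v χ = -1
  const : ∀ x : X, (¬ 2 ∣ orderOf x ↔ t) → ∀ χ ∈ A, ∀ ψ ∈ A,
    (v χ : ℂ) * (χ : X → ℂ) x = (v ψ : ℂ) * (ψ : X → ℂ) x
  zero : ∀ x : X, ¬ (¬ 2 ∣ orderOf x ↔ t) →
    ∑ χ : IrrCharacter X, (if χ ∈ A then (v χ : ℂ) * (χ : X → ℂ) x else 0) = 0
  decomp : ∀ y : X, 2 ∣ orderOf y →
    ∃ (ι : Type u) (_ : Fintype ι) (D : ι → IrrCharacter X → ℤ) (f : ι → ℂ),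
      (∀ i, ∀ χ ∈ A, D i χ = 1 ∨ D i χ = -1) ∧
      (∀ i, ∏ χ ∈ Finset.univ.filter (· ∈ A), D i χ * v χ = 1) ∧
      (∀ i, MemLocalRing M (f i)) ∧
      (∀ i, MemLocalRing M
        (4 * f i / (Nat.card (Subgroup.centralizer ({y} : Set X)) : ℂ))) ∧
      ∀ χ ∈ A, (χ : X → ℂ) y = ∑ i, (D i χ : ℂ) * f i

section Cent

variable {G : Type u} [Group G] [Fintype G]

/-- the centralizer of an element through its `p`-part -/
theorem card_centralizer_of_isPPart {p : ℕ} (hp : p.Prime) {y u s : G} (hus : u * s = y)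
    (hc : Commute u s) (hu : ∃ k : ℕ, orderOf u = p ^ k) (hs : ¬ p ∣ orderOf s)
    (hsH : s ∈ Subgroup.centralizer ({u} : Set G)) :
    Nat.card (Subgroup.centralizer
      ({(⟨s, hsH⟩ : Subgroup.centralizer ({u} : Set G))} :
        Set (Subgroup.centralizer ({u} : Set G)))) =
      Nat.card (Subgroup.centralizer ({y} : Set G)) := by
  have h1 := map_centralizer_eq (Subgroup.centralizer ({u} : Set G))
    (⟨s, hsH⟩ : Subgroup.centralizer ({u} : Set G))
  have h2 : Subgroup.centralizer ({s} : Set G) ⊓ Subgroup.centralizer ({u} : Set G) =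
      Subgroup.centralizer ({y} : Set G) := by
    ext g
    rw [Subgroup.mem_inf, Subgroup.mem_centralizer_iff, Subgroup.mem_centralizer_iff,
      Subgroup.mem_centralizer_iff]
    constructor
    · rintro ⟨h3, h4⟩ w hw
      rw [Set.mem_singleton_iff] at hw
      have h5 := h3 s rfl
      have h6 := h4 u rfl
      rw [hw, ← hus, mul_assoc, h5, ← mul_assoc, h6, mul_assoc]
    · intro h3
      have h4 : ∀ w ∈ Subgroup.zpowers y, w * g = g * w := by
        intro w hw
        obtain ⟨n, rfl⟩ := Subgroup.mem_zpowers_iff.1 hw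
        have : Commute y g := h3 y rfl
        exact this.zpow_left n
      have hup : IsPPart p y u := ⟨s, hus, hc, hu, hs⟩
      have huz : u ∈ Subgroup.zpowers y := by
        have := IsPPart.mem_zpowers_pow hp hup 1 (by
          intro hc'
          exact hp.one_lt.ne' (Nat.dvd_one.1 hc'))
        rwa [pow_one] at this
      have hsz : s ∈ Subgroup.zpowers y := by
        have : s = u⁻¹ * y := by rw [← hus]; group
        rw [this]
        exact Subgroup.mul_mem _ (Subgroup.inv_mem _ huz) (Subgroup.mem_zpowers y)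
      constructor
      · intro w hw
        rw [Set.mem_singleton_iff] at hw
        rw [hw]
        exact h4 s hsz
      · intro w hw
        rw [Set.mem_singleton_iff] at hw
        rw [hw]
        exact h4 u huz
  have h3 : ((⟨s, hsH⟩ : Subgroup.centralizer ({u} : Set G)) : G) = s := rfl
  rw [h3, h2] at h1
  rw [← h1]
  exact Nat.card_congr (mapEquiv (Subgroup.centralizer ({u} : Set G)) _).toEquiv

end Cent

section Decomp

variable {G : Type u} [Group G] [Fintype G] {M : Ideal AlgInt}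

set_option maxHeartbeats 3200000 in
/-- the values at a `2`-singular element through the subsections -/
theorem klein_singular_decomp (hM : IsPModular 2 M) [Fintype (IrrCharacter G)]
    {B : Set (IrrCharacter G)} [DecidablePred (· ∈ B)] (hB : IsPBlock M B)
    (hd : blockDefect 2 B = 2) (hk : (Finset.univ.filter (· ∈ B)).card = 4)
    (hloc : ∀ z : G, (∃ k : ℕ, orderOf z = 2 ^ k) → z ≠ 1 → ∀ (H : Subgroup G)
      (_ : H = Subgroup.centralizer ({z} : Set G)) (b : Set (IrrCharacter H)),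
      IsInducedBlock M H b B → blockDefect 2 b = 2 ∧ blockRank 2 b = 1 ∧ orderOf z = 2)
    (y : G) (hy : 2 ∣ orderOf y) :
    ∃ (ι : Type u) (_ : Fintype ι) (D : ι → IrrCharacter G → ℤ) (f : ι → ℂ),
      (∀ i, ∀ χ ∈ B, D i χ = 1 ∨ D i χ = -1) ∧
      (∀ i, ∀ x : G, ¬ 2 ∣ orderOf x →
        ∑ χ : IrrCharacter G, (if χ ∈ B then (D i χ : ℂ) * (χ : G → ℂ) x else 0) = 0) ∧
      (∀ i, MemLocalRing M (f i)) ∧
      (∀ i, MemLocalRing M
        (4 * f i / (Nat.card (Subgroup.centralizer ({y} : Set G)) : ℂ))) ∧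
      ∀ χ ∈ B, (χ : G → ℂ) y = ∑ i, (D i χ : ℂ) * f i := by
  classical
  haveI : Fact (Nat.Prime 2) := ⟨Nat.prime_two⟩
  haveI hMp : M.IsPrime := hM.2.1.isPrime
  obtain ⟨u, hu⟩ := exists_isPPart Nat.prime_two y (orderOf_pos y)
  obtain ⟨s, hus, hc, hu2, hs⟩ := id hu
  have hu1 : u ≠ 1 := by
    intro h
    rw [h, one_mul] at hus
    rw [← hus] at hy
    exact hs hy
  haveI : Fintype (Subgroup.centralizer ({u} : Set G)) := Fintype.ofFinite _
  letI : Fintype (IrrCharacter (Subgroup.centralizer ({u} : Set G))) := irrFintype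
  have hsH : s ∈ Subgroup.centralizer ({u} : Set G) := by
    rw [Subgroup.mem_centralizer_iff]
    intro w hw
    rw [Set.mem_singleton_iff] at hw
    rw [hw]
    exact hc.eq
  have hs' : ¬ 2 ∣ orderOf (⟨s, hsH⟩ : Subgroup.centralizer ({u} : Set G)) := by
    rw [← Subgroup.orderOf_coe]
    exact hs
  obtain ⟨𝔅, h𝔅⟩ := exists_finset_blocks (M := M) (K := Subgroup.centralizer ({u} : Set G))
  have hmem : ∀ i : ↥(𝔅.filter (fun b =>
      IsInducedBlock M (Subgroup.centralizer ({u} : Set G)) b B)),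
      IsInducedBlock M (Subgroup.centralizer ({u} : Set G)) i.1 B :=
    fun i => (Finset.mem_filter.1 i.2).2
  have hsub : ∀ i : ↥(𝔅.filter (fun b =>
      IsInducedBlock M (Subgroup.centralizer ({u} : Set G)) b B)),
      ∃ (d : IrrCharacter G → ℤ) (φ : Subgroup.centralizer ({u} : Set G) → ℂ),
      (∀ χ ∈ B, d χ = 1 ∨ d χ = -1) ∧
      (∀ χ ∈ B, ∀ s : Subgroup.centralizer ({u} : Set G), ¬ 2 ∣ orderOf s →
        etaPart (Subgroup.centralizer ({u} : Set G)) u i.1 (χ : G → ℂ) s = (d χ : ℂ) * φ s) ∧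
      (∀ x : G, ¬ 2 ∣ orderOf x →
        ∑ χ : IrrCharacter G, (if χ ∈ B then (d χ : ℂ) * (χ : G → ℂ) x else 0) = 0) ∧
      φ 1 ≠ 0 ∧
      (∀ s : Subgroup.centralizer ({u} : Set G), ¬ 2 ∣ orderOf s → MemLocalRing M (φ s) ∧
        MemLocalRing M (4 * φ s / (Nat.card (Subgroup.centralizer ({s} :
          Set (Subgroup.centralizer ({u} : Set G)))) : ℂ))) := by
    intro i
    obtain ⟨h1, h2, h3⟩ := hloc u hu2 hu1 _ rfl i.1 (hmem i)
    exact klein_subsection hM h3 _ rfl (hmem i) h1 hd h2 hk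
  choose D Φ hD1 hD2 hD3 hD4 hD5 using hsub
  refine ⟨↥(𝔅.filter (fun b =>
      IsInducedBlock M (Subgroup.centralizer ({u} : Set G)) b B)), inferInstance, D,
    fun i => Φ i ⟨s, hsH⟩, hD1, hD3, fun i => (hD5 i ⟨s, hsH⟩ hs').1, ?_, ?_⟩
  · intro i
    have h1 := (hD5 i ⟨s, hsH⟩ hs').2
    rwa [card_centralizer_of_isPPart Nat.prime_two hus hc hu2 hs hsH] at h1
  · intro χ hχ
    have h1 := sum_blocks_induced_shift hM hu2 hB 𝔅 h𝔅 χ ⟨s, hsH⟩ hs'
    rw [if_pos hχ] at h1
    have h2 : u * (((⟨s, hsH⟩ : Subgroup.centralizer ({u} : Set G))) : G) = y := hus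
    rw [h2] at h1
    rw [← h1, ← Finset.sum_coe_sort]
    apply Finset.sum_congr rfl
    intro i _
    have h3 := hD2 i χ hχ ⟨s, hsH⟩ hs'
    rw [← h3]
    unfold etaPart
    rw [blockPart_shift_eq_shiftPart i.1 (isClassFunction_of_isIrrCharacter χ.2)]
    rfl

end Decomp

section Unique

variable {G : Type u} [Group G] [Fintype G]

set_option maxHeartbeats 1600000 in
/-- for `l(B) = 3` and `k(B) = 4` the sign vector orthogonal to the `2`-regular elements is unique
up to a global sign -/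
theorem sign_vector_unique [Fintype (IrrCharacter G)] {B : Set (IrrCharacter G)}
    [DecidablePred (· ∈ B)] (hl : blockRank 2 B = 3)
    (hk : (Finset.univ.filter (· ∈ B)).card = 4) (v d : IrrCharacter G → ℤ)
    (hv : ∀ χ ∈ B, v χ = 1 ∨ v χ = -1) (hd : ∀ χ ∈ B, d χ = 1 ∨ d χ = -1)
    (hvv : ∀ x : G, ¬ 2 ∣ orderOf x →
      ∑ χ : IrrCharacter G, (if χ ∈ B then (v χ : ℂ) * (χ : G → ℂ) x else 0) = 0)
    (hdv : ∀ x : G, ¬ 2 ∣ orderOf x →
      ∑ χ : IrrCharacter G, (if χ ∈ B then (d χ : ℂ) * (χ : G → ℂ) x else 0) = 0) :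
    (∀ χ ∈ B, d χ = v χ) ∨ (∀ χ ∈ B, d χ = - v χ) := by
  classical
  set w : B → (G → ℂ) := fun χ => pRegularPart 2 ((χ : IrrCharacter G) : G → ℂ) with hw
  set L : (B → ℂ) →ₗ[ℂ] (G → ℂ) := Fintype.linearCombination ℂ w with hL
  have hrange : LinearMap.range L = Submodule.span ℂ (Set.range w) :=
    Fintype.range_linearCombination ℂ w
  have hfr : Module.finrank ℂ (LinearMap.range L) = 3 := by
    rw [hrange, ← hl]
    unfold blockRank
    rw [Set.image_eq_range]
  have hcardB : Fintype.card B = 4 := by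
    rw [Fintype.card_subtype]
    exact hk
  have hdim : Module.finrank ℂ (B → ℂ) = 4 := by
    rw [Module.finrank_fintype_fun_eq_card, hcardB]
  have hker : Module.finrank ℂ (LinearMap.ker L) = 1 := by
    have := LinearMap.finrank_range_add_finrank_ker L
    omega
  have hmemker : ∀ a : IrrCharacter G → ℤ, (∀ x : G, ¬ 2 ∣ orderOf x →
      ∑ χ : IrrCharacter G, (if χ ∈ B then (a χ : ℂ) * (χ : G → ℂ) x else 0) = 0) →
      (fun χ : B => (a (χ : IrrCharacter G) : ℂ)) ∈ LinearMap.ker L := by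
    intro a ha
    rw [LinearMap.mem_ker]
    funext x
    rw [hL, Fintype.linearCombination_apply, Finset.sum_apply, Pi.zero_apply]
    by_cases hx : 2 ∣ orderOf x
    · apply Finset.sum_eq_zero
      intro χ _
      rw [Pi.smul_apply, hw]
      beta_reduce
      rw [pRegularPart_of_dvd 2 _ hx, smul_zero]
    · rw [← ha x hx, ← Finset.sum_filter,
        Finset.sum_subtype (Finset.univ.filter (· ∈ B)) (p := (· ∈ B))
          (fun χ => by simp) (fun χ => (a χ : ℂ) * (χ : G → ℂ) x)]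
      apply Finset.sum_congr rfl
      intro χ _
      rw [Pi.smul_apply, hw]
      beta_reduce
      rw [pRegularPart_of_not_dvd 2 _ hx, smul_eq_mul]
  have hvk := hmemker v hvv
  have hdk := hmemker d hdv
  obtain ⟨χ₁, hχ₁⟩ : ∃ χ₁ : IrrCharacter G, χ₁ ∈ B := by
    have : 0 < (Finset.univ.filter (· ∈ B)).card := by rw [hk]; norm_num
    obtain ⟨χ₁, hχ₁⟩ := Finset.card_pos.1 this
    exact ⟨χ₁, (Finset.mem_filter.1 hχ₁).2⟩
  have hv1 : (v χ₁ : ℂ) ≠ 0 := by
    rcases hv χ₁ hχ₁ with h | h <;> rw [h] <;> norm_num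
  have hne : (⟨_, hvk⟩ : LinearMap.ker L) ≠ 0 := by
    intro h
    have h1 := congrArg Subtype.val h
    have h2 := congrFun h1 ⟨χ₁, hχ₁⟩
    exact hv1 h2
  obtain ⟨c, hc⟩ := (finrank_eq_one_iff_of_nonzero' _ hne).1 hker ⟨_, hdk⟩
  have hc' : ∀ χ ∈ B, c * (v χ : ℂ) = (d χ : ℂ) := by
    intro χ hχ
    have h1 := congrArg Subtype.val hc
    have h2 := congrFun h1 ⟨χ, hχ⟩
    exact h2
  have hc1 : c = 1 ∨ c = -1 := by
    have h1 := hc' χ₁ hχ₁
    rcases hv χ₁ hχ₁ with h | h <;> rcases hd χ₁ hχ₁ with h' | h' <;> rw [h, h'] at h1 <;>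
      push_cast at h1
    · left; linear_combination h1
    · right; linear_combination h1
    · right; linear_combination -h1
    · left; linear_combination -h1
  rcases hc1 with h | h
  · left
    intro χ hχ
    have h1 := hc' χ hχ
    rw [h, one_mul] at h1
    exact_mod_cast h1.symm
  · right
    intro χ hχ
    have h1 := hc' χ hχ
    rw [h] at h1
    have h2 : ((d χ : ℤ) : ℂ) = ((- v χ : ℤ) : ℂ) := by
      push_cast
      rw [← h1]
      ring
    exact_mod_cast h2

end Unique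

section Data

variable {G : Type u} [Group G] [Fintype G] {M : Ideal AlgInt}

set_option maxHeartbeats 3200000 in
/-- **the character values of a `2`-block with a Klein four defect group** -/
theorem klein_data (hM : IsPModular 2 M) [Fintype (IrrCharacter G)]
    {B : Set (IrrCharacter G)} [DecidablePred (· ∈ B)] (hB : IsPBlock M B)
    {P : Subgroup G} (hPD : IsDefectGroup 2 M B P) (hV : IsKleinFour P) :
    (blockRank 2 B = 1 ∨ blockRank 2 B = 3) ∧
      ∃ v : IrrCharacter G → ℤ, KleinStruct M B v (blockRank 2 B = 1) := by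
  classical
  haveI : Fact (Nat.Prime 2) := ⟨Nat.prime_two⟩
  haveI hMp : M.IsPrime := hM.2.1.isPrime
  obtain ⟨c, hBe⟩ := exists_isBrauerPairOf_of_isDefectGroup hM hB hPD
  have hc : IsInducedBlock M (Subgroup.centralizer (P : Set G)) c B :=
    isInducedBlock_centralizer_of_isBrauerPairOf hM hBe
  have hcb : IsPBlock M c := hc.1
  have hT : ∀ g : G, g ∈ blockStab (Subgroup.centralizer (P : Set G)) c ⊓
      Subgroup.normalizer (P : Set G) ↔ (g ∈ Subgroup.normalizer (P : Set G) ∧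
        StabilizesBlock (Subgroup.centralizer (P : Set G)) c g) := by
    intro g
    rw [Subgroup.mem_inf]
    constructor
    · rintro ⟨h1, h2⟩
      exact ⟨h2, stabilizesBlock_of_mem_blockStab h1⟩
    · rintro ⟨h1, h2⟩
      exact ⟨mem_blockStab_of_stabilizesBlock hcb (block_nonempty hM hcb) h2, h1⟩
  obtain ⟨he, hk', hl⟩ := Cfsg.Agent.S4637.result M hM B hB P hPD hV c hc _ hT _ rfl
  have hk : (Finset.univ.filter (· ∈ B)).card = 4 := by
    rw [← hk', Nat.card_eq_fintype_card, Fintype.card_subtype]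
  have hl13 : blockRank 2 B = 1 ∨ blockRank 2 B = 3 := by
    rw [hl]
    exact he
  have hd := blockDefect_eq_two_of_kleinFour hM hB hPD hV
  have hloc : ∀ z : G, (∃ k : ℕ, orderOf z = 2 ^ k) → z ≠ 1 → ∀ (H : Subgroup G)
      (_ : H = Subgroup.centralizer ({z} : Set G)) (b : Set (IrrCharacter H)),
      IsInducedBlock M H b B → blockDefect 2 b = 2 ∧ blockRank 2 b = 1 ∧ orderOf z = 2 :=
    fun z hz hz1 H hH b hb => klein_local_facts hM hB hPD hV hBe hz hz1 H hH b hb
  have hone : ¬ 2 ∣ orderOf (1 : G) := by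
    rw [orderOf_one]
    norm_num
  refine ⟨hl13, ?_⟩
  rcases hl13 with h1 | h3
  · -- one irreducible Brauer character
    obtain ⟨-, hreg, -, hvan⟩ := rank_one_block hM hB hd h1
    refine ⟨fun _ => 1, ⟨hk, fun _ _ => Or.inl rfl, ?_, ?_, ?_⟩⟩
    · intro x hx χ hχ ψ hψ
      have hx' : ¬ 2 ∣ orderOf x := hx.2 h1
      push_cast
      rw [one_mul, one_mul]
      exact hreg χ hχ ψ hψ x hx'
    · intro x hx
      have hx' : 2 ∣ orderOf x := by
        by_contra h
        exact hx ⟨fun _ => h1, fun _ => h⟩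
      refine Eq.trans ?_ (hvan x hx')
      apply Finset.sum_congr rfl
      intro χ _
      split_ifs
      · push_cast
        rw [one_mul]
      · rfl
    · intro y hy
      obtain ⟨ι, hι, D, f, hD1, hD2, hf1, hf2, hval⟩ :=
        klein_singular_decomp hM hB hd hk hloc y hy
      refine ⟨ι, hι, D, f, hD1, ?_, hf1, hf2, hval⟩
      intro i
      obtain ⟨ψ₀, hψ₀⟩ := block_nonempty hM hB
      have h2 := hD2 i 1 hone
      have h3 : ∑ χ : IrrCharacter G,
          (if χ ∈ B then (D i χ : ℂ) * (χ : G → ℂ) 1 else 0) =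
          (ψ₀ : G → ℂ) 1 * ((∑ χ ∈ Finset.univ.filter (· ∈ B), D i χ : ℤ) : ℂ) := by
        push_cast
        rw [Finset.mul_sum, Finset.sum_filter]
        apply Finset.sum_congr rfl
        intro χ _
        split_ifs with hχ
        · rw [hreg χ hχ ψ₀ hψ₀ 1 hone]
          ring
        · rfl
      rw [h3] at h2
      have h4 := (mul_eq_zero.1 h2).resolve_left (irr_one_ne_zero ψ₀.2)
      have h5 : ∑ χ ∈ Finset.univ.filter (· ∈ B), D i χ = 0 := by exact_mod_cast h4
      have h6 := prod_eq_one_of_sum_eq_zero (Finset.univ.filter (· ∈ B)) (D i) hk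
        (fun χ hχ => hD1 i χ (Finset.mem_filter.1 hχ).2) h5
      refine Eq.trans ?_ h6
      apply Finset.prod_congr rfl
      intro χ _
      rw [mul_one]
  · -- three irreducible Brauer characters
    obtain ⟨a, ha⟩ := exists_pair_family hM hBe.1
    have hcardP : Nat.card P = 4 := hV.card_four
    obtain ⟨u₀, hu₀P, hu₀1⟩ : ∃ u₀ ∈ P, u₀ ≠ 1 := by
      haveI : Nontrivial P := by
        rw [← Finite.one_lt_card_iff_nontrivial, hcardP]
        norm_num
      obtain ⟨q, hq⟩ := exists_ne (1 : P)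
      exact ⟨q, q.2, fun h => hq (Subtype.ext h)⟩
    obtain ⟨f₀, haf₀, hf₀, hle₀⟩ := ha u₀ hu₀P
    obtain ⟨hind₀, -⟩ := major_of_subpairLE_center hM hBe hPD hu₀P
      (fun w hw => kleinFour_comm P hV hu₀P hw) hle₀
    have hord : orderOf u₀ = 2 :=
      orderOf_eq_prime (by rw [pow_two]; exact kleinFour_mul_self P hV hu₀P) hu₀1
    have hu₀2 : ∃ k : ℕ, orderOf u₀ = 2 ^ k := ⟨1, by rw [hord, pow_one]⟩
    haveI : Fintype (Subgroup.centralizer ((Subgroup.zpowers u₀ : Subgroup G) : Set G)) :=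
      Fintype.ofFinite _
    obtain ⟨hdef₀, hl₀, -⟩ := hloc u₀ hu₀2 hu₀1 _ (centralizer_zpowers u₀) f₀ hind₀
    obtain ⟨v, φ, hv1, -, hv3, -, -⟩ :=
      klein_subsection hM hord _ (centralizer_zpowers u₀) hind₀ hdef₀ hd hl₀ hk
    have hne1 : ¬ (blockRank 2 B = 1) := by
      rw [h3]
      norm_num
    have hdec : ∀ y : G, 2 ∣ orderOf y →
        ∃ (ι : Type u) (_ : Fintype ι) (D : ι → IrrCharacter G → ℤ) (f : ι → ℂ),
        (∀ i, ∀ χ ∈ B, D i χ = 1 ∨ D i χ = -1) ∧
        (∀ i, (∀ χ ∈ B, D i χ = v χ) ∨ (∀ χ ∈ B, D i χ = - v χ)) ∧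
        (∀ i, MemLocalRing M (f i)) ∧
        (∀ i, MemLocalRing M
          (4 * f i / (Nat.card (Subgroup.centralizer ({y} : Set G)) : ℂ))) ∧
        ∀ χ ∈ B, (χ : G → ℂ) y = ∑ i, (D i χ : ℂ) * f i := by
      intro y hy
      obtain ⟨ι, hι, D, f, hD1, hD2, hf1, hf2, hval⟩ :=
        klein_singular_decomp hM hB hd hk hloc y hy
      exact ⟨ι, hι, D, f, hD1,
        fun i => sign_vector_unique h3 hk v (D i) hv1 (hD1 i) hv3 (hD2 i), hf1, hf2, hval⟩
    have hvv : ∀ χ ∈ B, (v χ : ℂ) * (v χ : ℂ) = 1 := by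
      intro χ hχ
      rcases hv1 χ hχ with h | h <;> rw [h] <;> norm_num
    refine ⟨v, ⟨hk, hv1, ?_, ?_, ?_⟩⟩
    · intro y hy χ hχ ψ hψ
      have hy' : 2 ∣ orderOf y := by
        by_contra h
        exact hne1 (hy.1 h)
      obtain ⟨ι, hι, D, f, hD1, hDv, hf1, hf2, hval⟩ := hdec y hy'
      have key : ∀ χ ∈ B, (v χ : ℂ) * (χ : G → ℂ) y =
          ∑ i, (if (∀ χ ∈ B, D i χ = v χ) then (1 : ℂ) else -1) * f i := by
        intro χ hχ
        rw [hval χ hχ, Finset.mul_sum]
        apply Finset.sum_congr rfl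
        intro i _
        by_cases hi : ∀ χ ∈ B, D i χ = v χ
        · rw [if_pos hi, hi χ hχ]
          calc (v χ : ℂ) * ((v χ : ℂ) * f i) = ((v χ : ℂ) * (v χ : ℂ)) * f i := by ring
            _ = 1 * f i := by rw [hvv χ hχ]
        · rw [if_neg hi, (hDv i).resolve_left hi χ hχ]
          push_cast
          calc (v χ : ℂ) * (-(v χ : ℂ) * f i) = -((v χ : ℂ) * (v χ : ℂ)) * f i := by ring
            _ = -1 * f i := by rw [hvv χ hχ]
      rw [key χ hχ, key ψ hψ]
    · intro x hx
      have hx' : ¬ 2 ∣ orderOf x := by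
        intro h
        apply hx
        exact ⟨fun h' => absurd h h', fun h' => absurd h' hne1⟩
      exact hv3 x hx'
    · intro y hy
      obtain ⟨ι, hι, D, f, hD1, hDv, hf1, hf2, hval⟩ := hdec y hy
      refine ⟨ι, hι, D, f, hD1, ?_, hf1, hf2, hval⟩
      intro i
      have hvvz : ∀ χ ∈ B, v χ * v χ = 1 := by
        intro χ hχ
        rcases hv1 χ hχ with h | h <;> rw [h] <;> norm_num
      rcases hDv i with h | h
      · apply Finset.prod_eq_one
        intro χ hχ
        have hχB := (Finset.mem_filter.1 hχ).2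
        rw [h χ hχB, hvvz χ hχB]
      · have h5 : ∀ χ ∈ Finset.univ.filter (· ∈ B), D i χ * v χ = -1 := by
          intro χ hχ
          have hχB := (Finset.mem_filter.1 hχ).2
          rw [h χ hχB, neg_mul, hvvz χ hχB]
        rw [Finset.prod_congr rfl h5, Finset.prod_const, hk]
        norm_num

end Data

end Cfsg.Agent.Helper23.Blk
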