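import Mathlib
import Cfsg.Agent.Lib.Helper23.KleinData
import Cfsg.Prelude.Def_BlockLocal

/-!
# The perfect isometry between two Klein four blocks of the same type (helper23's shared library)
-/

set_option autoImplicit false
set_option linter.unusedSectionVars false
set_option linter.style.haveILetI false

namespace Cfsg.Agent.Helper23.Blk

open Cfsg Cfsg.Agent.Helper24 Cfsg.Agent.Helper18
open scoped ComplexConjugate

universe u

section Assemble

variable {X₁ X₂ : Type u} [Group X₁] [Fintype X₁] [Group X₂] [Fintype X₂] {M : Ideal AlgInt}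

theorem sign_mul_sign {a b : ℤ} (ha : a = 1 ∨ a = -1) (hb : b = 1 ∨ b = -1) :
    a * b = 1 ∨ a * b = -1 := by
  rcases ha with h | h <;> rcases hb with h' | h' <;> rw [h, h'] <;> norm_num

set_option maxHeartbeats 6400000 in
/-- **two Klein four blocks of the same type are perfectly isometric** -/
theorem perfect_of_kleinStruct (hM : IsPModular 2 M) [Fintype (IrrCharacter X₁)]
    [Fintype (IrrCharacter X₂)] {A₁ : Set (IrrCharacter X₁)} {A₂ : Set (IrrCharacter X₂)}
    [DecidablePred (· ∈ A₁)] [DecidablePred (· ∈ A₂)]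
    {v₁ : IrrCharacter X₁ → ℤ} {v₂ : IrrCharacter X₂ → ℤ} {t : Prop}
    (h₁ : KleinStruct M A₁ v₁ t) (h₂ : KleinStruct M A₂ v₂ t)
    (I : IrrCharacter X₂ → IrrCharacter X₁) (hI : Set.BijOn I A₂ A₁) :
    IsPerfectFun 2 M (signedBijectionKernel A₂ I (fun η => v₂ η * v₁ (I η))) := by
  classical
  haveI hMp : M.IsPrime := hM.2.1.isPrime
  -- the kernel as a finite sum
  have hμ : ∀ (x : X₁) (y : X₂),
      signedBijectionKernel A₂ I (fun η => v₂ η * v₁ (I η)) x y =
      ∑ η : IrrCharacter X₂, if η ∈ A₂ then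
        ((v₂ η * v₁ (I η) : ℤ) : ℂ) * (I η : X₁ → ℂ) x * (η : X₂ → ℂ) y else 0 := by
    intro x y
    unfold signedBijectionKernel
    rw [finsum_mem_def, finsum_eq_sum_of_fintype]
    apply Finset.sum_congr rfl
    intro η _
    rw [Set.indicator_apply]
  -- reindexing along the bijection
  have hreidx : ∀ g : IrrCharacter X₁ → ℂ,
      ∑ η : IrrCharacter X₂, (if η ∈ A₂ then g (I η) else 0) =
      ∑ χ : IrrCharacter X₁, (if χ ∈ A₁ then g χ else 0) := by
    intro g
    rw [← Finset.sum_filter, ← Finset.sum_filter]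
    apply Finset.sum_bij (fun η _ => I η)
    · intro η hη
      rw [Finset.mem_filter] at hη ⊢
      exact ⟨Finset.mem_univ _, hI.mapsTo hη.2⟩
    · intro η hη η' hη' h
      exact hI.injOn (Finset.mem_filter.1 hη).2 (Finset.mem_filter.1 hη').2 h
    · intro χ hχ
      obtain ⟨η, hη, rfl⟩ := hI.surjOn (Finset.mem_filter.1 hχ).2
      exact ⟨η, Finset.mem_filter.2 ⟨Finset.mem_univ _, hη⟩, rfl⟩
    · intro η _
      rfl
  have hreidxp : ∀ g : IrrCharacter X₁ → ℤ,
      ∏ η ∈ Finset.univ.filter (· ∈ A₂), g (I η) =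
      ∏ χ ∈ Finset.univ.filter (· ∈ A₁), g χ := by
    intro g
    apply Finset.prod_bij (fun η _ => I η)
    · intro η hη
      rw [Finset.mem_filter] at hη ⊢
      exact ⟨Finset.mem_univ _, hI.mapsTo hη.2⟩
    · intro η hη η' hη' h
      exact hI.injOn (Finset.mem_filter.1 hη).2 (Finset.mem_filter.1 hη').2 h
    · intro χ hχ
      obtain ⟨η, hη, rfl⟩ := hI.surjOn (Finset.mem_filter.1 hχ).2
      exact ⟨η, Finset.mem_filter.2 ⟨Finset.mem_univ _, hη⟩, rfl⟩
    · intro η _
      rfl
  obtain ⟨η₀, hη₀⟩ : ∃ η₀ : IrrCharacter X₂, η₀ ∈ A₂ := by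
    have : 0 < (Finset.univ.filter (· ∈ A₂)).card := by rw [h₂.card]; norm_num
    obtain ⟨η₀, hη₀⟩ := Finset.card_pos.1 this
    exact ⟨η₀, (Finset.mem_filter.1 hη₀).2⟩
  -- the mixed case
  have hmixed : ∀ (x : X₁) (y : X₂), ¬ ((¬ 2 ∣ orderOf x) ↔ (¬ 2 ∣ orderOf y)) →
      signedBijectionKernel A₂ I (fun η => v₂ η * v₁ (I η)) x y = 0 := by
    intro x y hxy
    rw [hμ]
    by_cases hxt : (¬ 2 ∣ orderOf x ↔ t)
    · have hyt : ¬ (¬ 2 ∣ orderOf y ↔ t) := fun h => hxy (hxt.trans h.symm)
      have h3 : ∀ η : IrrCharacter X₂, (if η ∈ A₂ then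
          ((v₂ η * v₁ (I η) : ℤ) : ℂ) * (I η : X₁ → ℂ) x * (η : X₂ → ℂ) y else 0) =
          ((v₁ (I η₀) : ℂ) * (I η₀ : X₁ → ℂ) x) *
            (if η ∈ A₂ then (v₂ η : ℂ) * (η : X₂ → ℂ) y else 0) := by
        intro η
        split_ifs with hη
        · have h4 := h₁.const x hxt (I η) (hI.mapsTo hη) (I η₀) (hI.mapsTo hη₀)
          rw [← h4]
          push_cast
          ring
        · rw [mul_zero]
      rw [Finset.sum_congr rfl (fun η _ => h3 η), ← Finset.mul_sum, h₂.zero y hyt, mul_zero]
    · have hyt : (¬ 2 ∣ orderOf y ↔ t) := by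
        by_cases ha : 2 ∣ orderOf x <;> by_cases hb : 2 ∣ orderOf y <;> by_cases ht : t <;>
          simp_all
      have h3 : ∀ η : IrrCharacter X₂, (if η ∈ A₂ then
          ((v₂ η * v₁ (I η) : ℤ) : ℂ) * (I η : X₁ → ℂ) x * (η : X₂ → ℂ) y else 0) =
          ((v₂ η₀ : ℂ) * (η₀ : X₂ → ℂ) y) *
            (if η ∈ A₂ then (fun χ : IrrCharacter X₁ => (v₁ χ : ℂ) * (χ : X₁ → ℂ) x) (I η)
              else 0) := by
        intro η
        split_ifs with hη
        · have h4 := h₂.const y hyt η hη η₀ hη₀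
          rw [← h4]
          push_cast
          ring
        · rw [mul_zero]
      rw [Finset.sum_congr rfl (fun η _ => h3 η), ← Finset.mul_sum,
        hreidx (fun χ : IrrCharacter X₁ => (v₁ χ : ℂ) * (χ : X₁ → ℂ) x), h₁.zero x hxt, mul_zero]
  have hzero : ∀ (x : X₁) (y : X₂),
      signedBijectionKernel A₂ I (fun η => v₂ η * v₁ (I η)) x y = 0 →
      MemLocalRing M (signedBijectionKernel A₂ I (fun η => v₂ η * v₁ (I η)) x y /
        (Nat.card (Subgroup.centralizer ({x} : Set X₁)) : ℂ)) ∧
      MemLocalRing M (signedBijectionKernel A₂ I (fun η => v₂ η * v₁ (I η)) x y /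
        (Nat.card (Subgroup.centralizer ({y} : Set X₂)) : ℂ)) ∧
      ((IsPRegular 2 x ↔ IsPRegular 2 y) ∨
        signedBijectionKernel A₂ I (fun η => v₂ η * v₁ (I η)) x y = 0) := by
    intro x y h0
    rw [h0, zero_div, zero_div]
    exact ⟨memLocalRing_zero hMp.ne_top, memLocalRing_zero hMp.ne_top, Or.inr rfl⟩
  intro x y
  by_cases hx : 2 ∣ orderOf x <;> by_cases hy : 2 ∣ orderOf y
  · -- both singular
    obtain ⟨ι₁, hι₁, D₁, f₁, hD₁, hP₁, hf₁, hg₁, hval₁⟩ := h₁.decomp x hx
    obtain ⟨ι₂, hι₂, D₂, f₂, hD₂, hP₂, hf₂, hg₂, hval₂⟩ := h₂.decomp y hy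
    have hm4 : ∀ (i : ι₁) (j : ι₂), (4 : ℤ) ∣ ∑ η ∈ Finset.univ.filter (· ∈ A₂),
        (v₂ η * v₁ (I η)) * D₁ i (I η) * D₂ j η := by
      intro i j
      apply four_dvd_sum_of_prod_eq_one _ _ h₂.card
      · intro η hη
        have hηA := (Finset.mem_filter.1 hη).2
        exact sign_mul_sign (sign_mul_sign (sign_mul_sign (h₂.sign η hηA)
          (h₁.sign _ (hI.mapsTo hηA))) (hD₁ i _ (hI.mapsTo hηA))) (hD₂ j η hηA)
      · have h5 : ∀ η ∈ Finset.univ.filter (· ∈ A₂),
            (v₂ η * v₁ (I η)) * D₁ i (I η) * D₂ j η =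
            (fun χ => D₁ i χ * v₁ χ) (I η) * (D₂ j η * v₂ η) := by
          intro η _
          ring
        rw [Finset.prod_congr rfl h5, Finset.prod_mul_distrib,
          hreidxp (fun χ => D₁ i χ * v₁ χ), hP₁ i, hP₂ j, mul_one]
    choose q hq using hm4
    have hμsum : signedBijectionKernel A₂ I (fun η => v₂ η * v₁ (I η)) x y =
        ∑ i, ∑ j, (4 * (q i j : ℂ)) * f₁ i * f₂ j := by
      rw [hμ, ← Finset.sum_filter]
      have h6 : ∀ η ∈ Finset.univ.filter (· ∈ A₂),
          ((v₂ η * v₁ (I η) : ℤ) : ℂ) * (I η : X₁ → ℂ) x * (η : X₂ → ℂ) y =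
          ∑ i, ∑ j, (((v₂ η * v₁ (I η)) * D₁ i (I η) * D₂ j η : ℤ) : ℂ) * f₁ i * f₂ j := by
        intro η hη
        have hηA := (Finset.mem_filter.1 hη).2
        rw [hval₁ (I η) (hI.mapsTo hηA), hval₂ η hηA, mul_assoc, Finset.sum_mul_sum,
          Finset.mul_sum]
        apply Finset.sum_congr rfl
        intro i _
        rw [Finset.mul_sum]
        apply Finset.sum_congr rfl
        intro j _
        push_cast
        ring
      rw [Finset.sum_congr rfl h6, Finset.sum_comm]
      apply Finset.sum_congr rfl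
      intro i _
      rw [Finset.sum_comm]
      apply Finset.sum_congr rfl
      intro j _
      rw [← Finset.sum_mul, ← Finset.sum_mul]
      congr 2
      have h7 := hq i j
      have h8 : ((∑ η ∈ Finset.univ.filter (· ∈ A₂),
          (v₂ η * v₁ (I η)) * D₁ i (I η) * D₂ j η : ℤ) : ℂ) = ((4 * q i j : ℤ) : ℂ) := by
        rw [h7]
      push_cast at h8
      push_cast
      exact h8
    refine ⟨?_, ?_, Or.inl (iff_of_false (not_not.2 hx) (not_not.2 hy))⟩
    · rw [hμsum, Finset.sum_div]
      apply memLocalRing_sum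
      intro i _
      rw [Finset.sum_div]
      apply memLocalRing_sum
      intro j _
      have h9 : 4 * (q i j : ℂ) * f₁ i * f₂ j /
          (Nat.card (Subgroup.centralizer ({x} : Set X₁)) : ℂ) =
          (q i j : ℂ) * (4 * f₁ i / (Nat.card (Subgroup.centralizer ({x} : Set X₁)) : ℂ)) *
            f₂ j := by ring
      rw [h9]
      exact memLocalRing_mul (memLocalRing_mul (memLocalRing_intCast _) (hg₁ i)) (hf₂ j)
    · rw [hμsum, Finset.sum_div]
      apply memLocalRing_sum
      intro i _
      rw [Finset.sum_div]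
      apply memLocalRing_sum
      intro j _
      have h9 : 4 * (q i j : ℂ) * f₁ i * f₂ j /
          (Nat.card (Subgroup.centralizer ({y} : Set X₂)) : ℂ) =
          (q i j : ℂ) * f₁ i *
            (4 * f₂ j / (Nat.card (Subgroup.centralizer ({y} : Set X₂)) : ℂ)) := by ring
      rw [h9]
      exact memLocalRing_mul (memLocalRing_mul (memLocalRing_intCast _) (hf₁ i)) (hg₂ j)
  · exact hzero x y (hmixed x y (by
      intro h
      exact (h.2 hy) hx))
  · exact hzero x y (hmixed x y (by
      intro h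
      exact (h.1 hx) hy))
  · -- both regular
    refine ⟨?_, ?_, Or.inl (iff_of_true hx hy)⟩
    · have hexp : ∀ x' : X₁, ∑ χ : IrrCharacter X₁,
          (∑ η : IrrCharacter X₂, if (η ∈ A₂ ∧ I η = χ) then
            ((v₂ η * v₁ (I η) : ℤ) : ℂ) * (η : X₂ → ℂ) y else 0) * (χ : X₁ → ℂ) x' =
          signedBijectionKernel A₂ I (fun η => v₂ η * v₁ (I η)) x' y := by
        intro x'
        rw [hμ]
        have h1 : ∀ χ : IrrCharacter X₁,
            (∑ η : IrrCharacter X₂, if (η ∈ A₂ ∧ I η = χ) then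
              ((v₂ η * v₁ (I η) : ℤ) : ℂ) * (η : X₂ → ℂ) y else 0) * (χ : X₁ → ℂ) x' =
            ∑ η : IrrCharacter X₂, if (η ∈ A₂ ∧ I η = χ) then
              ((v₂ η * v₁ (I η) : ℤ) : ℂ) * (η : X₂ → ℂ) y * (χ : X₁ → ℂ) x' else 0 := by
          intro χ
          rw [Finset.sum_mul]
          apply Finset.sum_congr rfl
          intro η _
          split_ifs
          · rfl
          · rw [zero_mul]
        rw [Finset.sum_congr rfl (fun χ _ => h1 χ), Finset.sum_comm]
        apply Finset.sum_congr rfl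
        intro η _
        by_cases hη : η ∈ A₂
        · rw [if_pos hη]
          rw [Finset.sum_eq_single (I η)]
          · rw [if_pos ⟨hη, rfl⟩]
            ring
          · intro χ _ hne
            rw [if_neg]
            rintro ⟨-, h⟩
            exact hne h.symm
          · intro h
            exact absurd (Finset.mem_univ _) h
        · rw [if_neg hη]
          apply Finset.sum_eq_zero
          intro χ _
          rw [if_neg]
          rintro ⟨h, -⟩
          exact hη h
      have h2 := memLocalRing_div_card_centralizer hM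
        (fun χ : IrrCharacter X₁ => ∑ η : IrrCharacter X₂, if (η ∈ A₂ ∧ I η = χ) then
            ((v₂ η * v₁ (I η) : ℤ) : ℂ) * (η : X₂ → ℂ) y else 0)
        (fun χ => by
          apply memLocalRing_sum
          intro η _
          split_ifs
          · exact memLocalRing_mul (memLocalRing_intCast _)
              (memLocalRing_of_isIntegral
                (isIntegral_of_isCharacter (isCharacter_of_isIrrCharacter η.2) y) hMp.ne_top)
          · exact memLocalRing_zero hMp.ne_top)
        (fun x' hx' => by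
          rw [hexp x']
          exact hmixed x' y (by
            intro h
            exact (h.2 hy) hx')) x
      rw [hexp x] at h2
      exact h2
    · have hexp : ∀ y' : X₂, ∑ η : IrrCharacter X₂,
          (if η ∈ A₂ then ((v₂ η * v₁ (I η) : ℤ) : ℂ) * (I η : X₁ → ℂ) x else 0) *
            (η : X₂ → ℂ) y' =
          signedBijectionKernel A₂ I (fun η => v₂ η * v₁ (I η)) x y' := by
        intro y'
        rw [hμ]
        apply Finset.sum_congr rfl
        intro η _
        split_ifs
        · rfl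
        · rw [zero_mul]
      have h2 := memLocalRing_div_card_centralizer hM
        (fun η : IrrCharacter X₂ =>
          if η ∈ A₂ then ((v₂ η * v₁ (I η) : ℤ) : ℂ) * (I η : X₁ → ℂ) x else 0)
        (fun η => by
          beta_reduce
          split_ifs
          · exact memLocalRing_mul (memLocalRing_intCast _)
              (memLocalRing_of_isIntegral
                (isIntegral_of_isCharacter (isCharacter_of_isIrrCharacter (I η).2) x) hMp.ne_top)
          · exact memLocalRing_zero hMp.ne_top)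
        (fun y' hy' => by
          rw [hexp y']
          exact hmixed x y' (by
            intro h
            exact (h.1 hx) hy')) y
      rw [hexp y] at h2
      exact h2

end Assemble

end Cfsg.Agent.Helper23.Blk
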