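import Mathlib
import Cfsg.Agent.S4637
import Cfsg.Agent.Lib.Helper23.KleinLocal
import Cfsg.Agent.Lib.Helper23.BlockChainSum
import Cfsg.Agent.Lib.Helper18.PrincipalPairs

/-!
# The Brauer correspondent of a Klein four block has the same number of Brauer characters
(helper23's shared library)
-/

set_option autoImplicit false
set_option linter.unusedSectionVars false
set_option linter.style.haveILetI false

namespace Cfsg.Agent.Helper23.Blk

open Cfsg Cfsg.Agent.Helper23 Cfsg.Agent.Helper24 Cfsg.Agent.Helper18 Cfsg.Agent.Helper18.PairRel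
open scoped ComplexConjugate

universe u

section Transport

variable {G : Type u} [Group G] [Fintype G] {M : Ideal AlgInt}

/-- the inertial index computes the number of Brauer characters, for a subgroup
propositionally equal to the centralizer -/
theorem klein_rank_eq_relIndex (hM : IsPModular 2 M) {B : Set (IrrCharacter G)}
    (hB : IsPBlock M B) {P : Subgroup G} (hPD : IsDefectGroup 2 M B P) (hV : IsKleinFour P)
    (C₁ : Subgroup G) (hC₁ : C₁ = Subgroup.centralizer (P : Set G))
    (c : Set (IrrCharacter C₁)) (hc : IsInducedBlock M C₁ c B) (T : Subgroup G)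
    (hT : ∀ g : G, g ∈ T ↔ (g ∈ Subgroup.normalizer (P : Set G) ∧ StabilizesBlock C₁ c g)) :
    blockRank 2 B = C₁.relIndex T := by
  subst hC₁
  exact (Cfsg.Agent.S4637.result M hM B hB P hPD hV c hc T hT _ rfl).2.2

theorem mem_blockStab_inf_iff [hMp : M.IsPrime] {K : Subgroup G} {f : Set (IrrCharacter K)}
    (hf : IsPBlock M f) (hne : f.Nonempty) (S : Subgroup G) (g : G) :
    g ∈ blockStab K f ⊓ S ↔ (g ∈ S ∧ StabilizesBlock K f g) := by
  rw [Subgroup.mem_inf]
  constructor
  · rintro ⟨h1, h2⟩
    exact ⟨h2, stabilizesBlock_of_mem_blockStab h1⟩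
  · rintro ⟨h1, h2⟩
    exact ⟨mem_blockStab_of_stabilizesBlock hf hne h2, h1⟩

set_option maxHeartbeats 3200000 in
/-- **the Brauer correspondent has the same number of irreducible Brauer characters** -/
theorem blockRank_brauer_correspondent (hM : IsPModular 2 M) {B : Set (IrrCharacter G)}
    (hB : IsPBlock M B) {P : Subgroup G} (hPD : IsDefectGroup 2 M B P) (hV : IsKleinFour P)
    (N : Subgroup G) (hN : N = Subgroup.normalizer (P : Set G))
    (c : Set (IrrCharacter N)) (hcD : IsDefectGroup 2 M c (P.subgroupOf N))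
    (hc : IsInducedBlock M N c B) : blockRank 2 c = blockRank 2 B := by
  classical
  haveI : Fact (Nat.Prime 2) := ⟨Nat.prime_two⟩
  haveI hMp : M.IsPrime := hM.2.1.isPrime
  haveI : Fintype N := Fintype.ofFinite _
  have hPN : P ≤ N := by
    rw [hN]
    exact Subgroup.le_normalizer
  have hV' : IsKleinFour (P.subgroupOf N) := by
    have e := Subgroup.subgroupOfEquivOfLe hPN
    exact ⟨by rw [Nat.card_congr e.toEquiv]; exact hV.card_four,
      by rw [Monoid.exponent_eq_of_mulEquiv e]; exact hV.exponent_two⟩
  obtain ⟨c₀', hBe'⟩ := exists_isBrauerPairOf_of_isDefectGroup hM hc.1 hcD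
  have hind' := isInducedBlock_centralizer_of_isBrauerPairOf hM hBe'
  have hcb' : IsPBlock M c₀' := hind'.1
  have hne' := block_nonempty hM hcb'
  have hT' := mem_blockStab_inf_iff hcb' hne'
    (Subgroup.normalizer ((P.subgroupOf N : Subgroup N) : Set N))
  have hrank' := (Cfsg.Agent.S4637.result M hM c hc.1 (P.subgroupOf N) hcD hV' c₀' hind' _
    hT' _ rfl).2.2
  -- the centralizer, in `G`
  have hKC : (Subgroup.centralizer ((P.subgroupOf N : Subgroup N) : Set N)).map N.subtype =
      Subgroup.centralizer (P : Set G) := by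
    ext g
    rw [Subgroup.mem_map]
    constructor
    · rintro ⟨g', hg', rfl⟩
      rw [Subgroup.mem_centralizer_iff] at hg' ⊢
      intro w hw
      have h1 := hg' ⟨w, hPN hw⟩ (by
        show (⟨w, hPN hw⟩ : N) ∈ P.subgroupOf N
        rw [Subgroup.mem_subgroupOf]
        exact hw)
      exact congrArg Subtype.val h1
    · intro hg
      have hgN : g ∈ N := by
        rw [hN]
        exact Subgroup.centralizer_le_normalizer _ hg
      refine ⟨⟨g, hgN⟩, ?_, rfl⟩
      rw [Subgroup.mem_centralizer_iff]
      intro w hw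
      apply Subtype.ext
      have hw' : (w : G) ∈ P := by
        have : w ∈ P.subgroupOf N := hw
        rwa [Subgroup.mem_subgroupOf] at this
      exact (Subgroup.mem_centralizer_iff.1 hg) (w : G) hw'
  have hindG := isInducedBlock_map_of_trans N
    (Subgroup.centralizer ((P.subgroupOf N : Subgroup N) : Set N)) hM hind' hc
  -- the stabilizer, in `G`
  have hT : ∀ g : G, g ∈ (blockStab (Subgroup.centralizer ((P.subgroupOf N : Subgroup N) : Set N))
      c₀' ⊓ Subgroup.normalizer ((P.subgroupOf N : Subgroup N) : Set N)).map N.subtype ↔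
      (g ∈ Subgroup.normalizer (P : Set G) ∧
        StabilizesBlock ((Subgroup.centralizer ((P.subgroupOf N : Subgroup N) : Set N)).map
          N.subtype)
          (irrComp (mapEquiv N (Subgroup.centralizer
            ((P.subgroupOf N : Subgroup N) : Set N))).symm '' c₀') g) := by
    intro g
    rw [Subgroup.mem_map]
    constructor
    · rintro ⟨g', hg', rfl⟩
      have hg'N : ((g' : N) : G) ∈ Subgroup.normalizer (P : Set G) := by
        rw [← hN]
        exact g'.2
      refine ⟨hg'N, ?_, ?_⟩
      · rw [hKC]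
        exact normalizer_le_normalizer_centralizer P hg'N
      · rintro χ ⟨χ₀, hχ₀, rfl⟩
        obtain ⟨-, hstab⟩ := ((hT' g').1 hg').2
        obtain ⟨χ₀', hχ₀', hconj⟩ := hstab χ₀ hχ₀
        refine ⟨_, ⟨χ₀', hχ₀', rfl⟩, ?_⟩
        intro k k' hk
        rw [irrComp_apply, irrComp_apply]
        apply hconj
        apply Subtype.ext
        rw [Subgroup.coe_mul, Subgroup.coe_mul, Subgroup.coe_inv, mapEquiv_symm_coe,
          mapEquiv_symm_coe]
        exact hk
    · rintro ⟨hgN, hstab⟩
      have hgN' : g ∈ N := by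
        rw [hN]
        exact hgN
      refine ⟨⟨g, hgN'⟩, ?_, rfl⟩
      have hnorm : (⟨g, hgN'⟩ : N) ∈
          Subgroup.normalizer ((P.subgroupOf N : Subgroup N) : Set N) := by
        rw [Subgroup.mem_normalizer_iff]
        intro h
        rw [Subgroup.mem_subgroupOf, Subgroup.mem_subgroupOf]
        push_cast
        exact (Subgroup.mem_normalizer_iff.1 hgN) (h : G)
      rw [hT']
      refine ⟨hnorm, normalizer_le_normalizer_centralizer (P.subgroupOf N) hnorm, ?_⟩
      intro χ₀ hχ₀
      obtain ⟨χ₂, ⟨χ₀', hχ₀', rfl⟩, hconj⟩ := hstab.2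
        (irrComp (mapEquiv N (Subgroup.centralizer
          ((P.subgroupOf N : Subgroup N) : Set N))).symm χ₀) ⟨χ₀, hχ₀, rfl⟩
      refine ⟨χ₀', hχ₀', ?_⟩
      intro k k' hk
      have h1 := hconj (mapEquiv N _ k) (mapEquiv N _ k') (by
        rw [mapEquiv_coe, mapEquiv_coe]
        have h2 := congrArg Subtype.val hk
        push_cast at h2
        exact h2)
      rw [irrComp_apply, irrComp_apply, MulEquiv.symm_apply_apply,
        MulEquiv.symm_apply_apply] at h1
      exact h1
  have hrank := klein_rank_eq_relIndex hM hB hPD hV _ hKC _ hindG _ hT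
  rw [hrank', hrank, Subgroup.relIndex_map_map_of_injective _ _ (Subgroup.subtype_injective N)]

end Transport

end Cfsg.Agent.Helper23.Blk
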