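import Mathlib
import Cfsg.Prelude.Def_Blocks
import Cfsg.Agent.Lib.Helper18.AlgIntChar
import Cfsg.Agent.Lib.Helper18.BrauerSpan
import Cfsg.Agent.Lib.Helper24.CharInduced

/-!
# The indicator function of the `p`-elements (helper23's shared library)

`|G|_{p'}` times the indicator function of the set of elements of `p`-power order is a class
function whose inner products with the irreducible characters are algebraic integers
(Brauer's characterization of characters).  Hence `(∑_{x ∈ G_p} χ x) / |G|_p` is an algebraic
integer for every irreducible character `χ`.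
-/

set_option autoImplicit false
set_option linter.unusedSectionVars false
set_option linter.style.haveILetI false

namespace Cfsg.Agent.Helper23.Blk

open Cfsg Cfsg.Agent.Helper24 Cfsg.Agent.Helper18
open scoped ComplexConjugate

universe u

section Sylow

variable {E : Type u} [Group E] [Finite E] {p : ℕ} [hp : Fact p.Prime]

/-- in a finite group with a normal Sylow `p`-subgroup `S`, the elements of `p`-power order are
the elements of `S` -/
theorem exists_orderOf_eq_pow_iff_mem_sylow (S : Sylow p E) [hS : (S : Subgroup E).Normal]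
    (e : E) : (∃ k : ℕ, orderOf e = p ^ k) ↔ e ∈ (S : Subgroup E) := by
  constructor
  · rintro ⟨k, hk⟩
    have hQ : IsPGroup p (Subgroup.zpowers e) := by
      apply IsPGroup.of_card (n := k)
      rw [Nat.card_zpowers, hk]
    obtain ⟨S', hS'⟩ := hQ.exists_le_sylow
    obtain ⟨g, hg⟩ := MulAction.exists_smul_eq E S S'
    have h2 : g • S = S := Sylow.smul_eq_of_normal
    rw [h2] at hg
    rw [hg]
    exact hS' (Subgroup.mem_zpowers e)
  · intro he
    obtain ⟨k, hk⟩ := (IsPGroup.iff_orderOf.1 S.2) ⟨e, he⟩
    exact ⟨k, by rw [← hk, Subgroup.orderOf_mk]⟩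

end Sylow

section IndNormal

variable {E : Type u} [Group E] [Fintype E]

/-- the trivial character of a normal subgroup, induced -/
theorem indFun_one_of_normal (S : Subgroup E) [hS : S.Normal] (g : E) [Decidable (g ∈ S)] :
    indFun S (fun _ : S => (1 : ℂ)) g = if g ∈ S then (S.index : ℂ) else 0 := by
  classical
  rw [indFun_apply]
  have hcS : (Nat.card S : ℂ) ≠ 0 := by exact_mod_cast (Nat.card_pos (α := S)).ne'
  by_cases hg : g ∈ S
  · rw [if_pos hg]
    have h1 : ∀ x : E, extendByZero S (fun _ : S => (1 : ℂ)) (x⁻¹ * g * x) = 1 := by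
      intro x
      have hx : x⁻¹ * g * x ∈ S := by
        have := hS.conj_mem g hg x⁻¹
        rwa [inv_inv] at this
      rw [extendByZero_of_mem S _ hx]
    rw [Finset.sum_congr rfl (fun x _ => h1 x), Finset.sum_const, Finset.card_univ,
      nsmul_eq_mul, mul_one, ← Nat.card_eq_fintype_card, ← Subgroup.card_mul_index S]
    push_cast
    field_simp
  · rw [if_neg hg]
    have h1 : ∀ x : E, extendByZero S (fun _ : S => (1 : ℂ)) (x⁻¹ * g * x) = 0 := by
      intro x
      have hx : x⁻¹ * g * x ∉ S := by
        intro hx
        apply hg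
        have := hS.conj_mem _ hx x
        simpa [mul_assoc] using this
      rw [extendByZero_of_not_mem S _ hx]
    rw [Finset.sum_congr rfl (fun x _ => h1 x), Finset.sum_const_zero, mul_zero]

end IndNormal

section Brauer

variable {G : Type u} [Group G] [Fintype G]

/-- the indicator function of the elements of `p`-power order -/
noncomputable def pElemInd (p : ℕ) (g : G) : ℂ := by
  classical exact if ∃ k : ℕ, orderOf g = p ^ k then 1 else 0

theorem pElemInd_of (p : ℕ) {g : G} (h : ∃ k : ℕ, orderOf g = p ^ k) : pElemInd p g = 1 := by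
  unfold pElemInd
  rw [if_pos h]

theorem pElemInd_of_not (p : ℕ) {g : G} (h : ¬ ∃ k : ℕ, orderOf g = p ^ k) :
    pElemInd p g = 0 := by
  unfold pElemInd
  rw [if_neg h]

theorem isClassFunction_pElemInd (p : ℕ) : IsClassFunction G (pElemInd (G := G) p) := by
  intro g h
  unfold pElemInd
  have ho : orderOf (h * g * h⁻¹) = orderOf g := by
    have := orderOf_injective (MulAut.conj h).toMonoidHom (MulAut.conj h).injective g
    simpa [MulAut.conj_apply] using this
  rw [ho]

theorem pElemInd_inv (p : ℕ) (g : G) : pElemInd p g⁻¹ = pElemInd p g := by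
  unfold pElemInd
  rw [orderOf_inv]

theorem isAlgIntChar_const_one (S : Type u) [Group S] [Fintype S] :
    IsAlgIntChar S (fun _ : S => (1 : ℂ)) := by
  classical
  refine ⟨fun _ _ => rfl, fun μ => ?_⟩
  have h := irr_orthogonality' (principalChar S) μ
  have h2 : ((principalChar S : IrrCharacter S) : S → ℂ) = fun _ => (1 : ℂ) := rfl
  rw [h2] at h
  rw [h]
  split_ifs
  · exact isIntegral_one
  · exact isIntegral_zero

theorem isAlgIntChar_natCast_mul {H : Type u} [Group H] [Fintype H] (n : ℕ) {f : H → ℂ}
    (hf : IsAlgIntChar H f) : IsAlgIntChar H (fun x => (n : ℂ) * f x) := by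
  refine ⟨fun a b => ?_, fun μ => ?_⟩
  · simp only
    rw [hf.1 a b]
  · have h1 : (fun x => (n : ℂ) * f x) = (n : ℂ) • f := by
      funext x
      rw [Pi.smul_apply, smul_eq_mul]
    rw [h1, classInner_smul_left]
    exact IsIntegral.mul (isIntegral_natCast (R := ℤ) (B := ℂ) n) (hf.2 μ)

/-- **Brauer**: `|G|_{p'}` times the indicator function of the `p`-elements is an
`𝒪`-combination of irreducible characters -/
theorem isAlgIntChar_pElemInd (p : ℕ) [hp : Fact p.Prime] :
    IsAlgIntChar G (fun g : G =>
      ((Nat.card G / p ^ (Nat.card G).factorization p : ℕ) : ℂ) * pElemInd p g) := by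
  classical
  set m := Nat.card G / p ^ (Nat.card G).factorization p with hm
  have hGm : Nat.card G = p ^ (Nat.card G).factorization p * m :=
    (Nat.mul_div_cancel' (Nat.ordProj_dvd _ _)).symm
  apply isAlgIntChar_of_elementary
  · intro g h
    simp only
    rw [isClassFunction_pElemInd p g h]
  · intro E _ q hq hE
    haveI : Group.IsNilpotent E := isNilpotent_of_isElementary hq hE
    let S : Sylow p E := default
    haveI hSn : (S : Subgroup E).Normal := inferInstance
    have hidx : ¬ p ∣ (S : Subgroup E).index := S.not_dvd_index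
    have hdvdG : (S : Subgroup E).index ∣ Nat.card G := by
      have h1 : (S : Subgroup E).index ∣ Nat.card E :=
        Dvd.intro_left _ (Subgroup.card_mul_index (S : Subgroup E))
      exact h1.trans (Subgroup.card_subgroup_dvd_card E)
    have hdvdm : (S : Subgroup E).index ∣ m := by
      rw [hGm] at hdvdG
      apply Nat.Coprime.dvd_of_dvd_mul_left _ hdvdG
      apply Nat.Coprime.pow_right
      exact ((Nat.Prime.coprime_iff_not_dvd hp.out).2 hidx).symm
    obtain ⟨c, hc⟩ := hdvdm
    have hfun : (fun e : E => ((m : ℕ) : ℂ) * pElemInd p (e : G)) =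
        fun e : E => (c : ℂ) * indFun (S : Subgroup E) (fun _ => (1 : ℂ)) e := by
      funext e
      rw [indFun_one_of_normal]
      by_cases he : e ∈ (S : Subgroup E)
      · rw [if_pos he]
        have h1 : ∃ k : ℕ, orderOf (e : G) = p ^ k := by
          rw [Subgroup.orderOf_coe]
          exact (exists_orderOf_eq_pow_iff_mem_sylow S e).2 he
        rw [pElemInd_of p h1, mul_one, hc]
        push_cast
        ring
      · rw [if_neg he]
        have h1 : ¬ ∃ k : ℕ, orderOf (e : G) = p ^ k := by
          rw [Subgroup.orderOf_coe]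
          exact fun h => he ((exists_orderOf_eq_pow_iff_mem_sylow S e).1 h)
        rw [pElemInd_of_not p h1, mul_zero, mul_zero]
    rw [hfun]
    apply isAlgIntChar_natCast_mul
    haveI : Fintype (S : Subgroup E) := Fintype.ofFinite _
    exact isAlgIntChar_indFun (S : Subgroup E) (isAlgIntChar_const_one _)

/-- the sum of an irreducible character over the `p`-elements, divided by `|G|_p`, is an
algebraic integer -/
theorem isIntegral_sum_pElem_div (p : ℕ) [hp : Fact p.Prime] (χ : IrrCharacter G) :
    IsIntegral ℤ ((∑ x : G, pElemInd p x * (χ : G → ℂ) x) /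
      ((p ^ (Nat.card G).factorization p : ℕ) : ℂ)) := by
  classical
  set m := Nat.card G / p ^ (Nat.card G).factorization p with hm
  have hGm : Nat.card G = p ^ (Nat.card G).factorization p * m :=
    (Nat.mul_div_cancel' (Nat.ordProj_dvd _ _)).symm
  have hG0 : (Nat.card G : ℂ) ≠ 0 := by exact_mod_cast (Nat.card_pos (α := G)).ne'
  have hm0 : (m : ℂ) ≠ 0 := by
    intro h
    apply hG0
    rw [hGm]
    push_cast
    rw [h, mul_zero]
  have hp0 : ((p ^ (Nat.card G).factorization p : ℕ) : ℂ) ≠ 0 := by
    intro h
    apply hG0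
    rw [hGm]
    push_cast
    push_cast at h
    rw [h, zero_mul]
  -- use the conjugate character
  letI : Fintype (IrrCharacter G) := irrFintype
  have h1 := (isAlgIntChar_pElemInd (G := G) p).2
    ⟨fun g => conj ((χ : G → ℂ) g), isIrrCharacter_conj χ.2⟩
  have h2 : classInner (fun g : G => ((m : ℕ) : ℂ) * pElemInd p g)
      (fun g => conj ((χ : G → ℂ) g)) =
      (∑ x : G, pElemInd p x * (χ : G → ℂ) x) /
        ((p ^ (Nat.card G).factorization p : ℕ) : ℂ) := by
    unfold classInner
    have h3 : ∀ g : G, ((m : ℕ) : ℂ) * pElemInd p g * conj (conj ((χ : G → ℂ) g)) =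
        (m : ℂ) * (pElemInd p g * (χ : G → ℂ) g) := by
      intro g
      rw [Complex.conj_conj, mul_assoc]
    rw [Finset.sum_congr rfl (fun g _ => h3 g), ← Finset.mul_sum]
    have h4 : (Nat.card G : ℂ) = ((p ^ (Nat.card G).factorization p : ℕ) : ℂ) * (m : ℂ) := by
      exact_mod_cast hGm
    rw [h4]
    field_simp
  rw [← h2]
  exact h1

end Brauer

end Cfsg.Agent.Helper23.Blk
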