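import Mathlib
import Cfsg.Prelude.Def_Blocks
import Cfsg.Agent.Lib.Helper23.PElemSum
import Cfsg.Agent.Lib.Helper23.BlockBrauer
import Cfsg.Agent.Lib.Helper23.BlockSecondMain4
import Cfsg.Agent.Lib.Helper23.PRegularCount
import Cfsg.Agent.Lib.Helper23.BlockRank
import Cfsg.Agent.Lib.Helper23.BlockDefect

/-!
# Külshammer's formula for the principal block idempotent (helper23's shared library)
-/

set_option autoImplicit false
set_option linter.unusedSectionVars false
set_option linter.style.haveILetI false

namespace Cfsg.Agent.Helper23.Blk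

open Cfsg Cfsg.Agent.Helper24 Cfsg.Agent.Helper18
open scoped ComplexConjugate

universe u

variable {G : Type u} [Group G] [Fintype G] {M : Ideal AlgInt} {p : ℕ}

/-- the sum over the `p`-elements `x` of `χ x * conj (χ g)`, summed over a block, reduces to the
term `x = 1` when `g` is `p`-regular (block orthogonality) -/
theorem synth_block_pElem (hM : IsPModular p M) [Fintype (IrrCharacter G)]
    {B : Set (IrrCharacter G)} (hB : IsPBlock M B) [DecidablePred (· ∈ B)] {g : G}
    (hg : ¬ p ∣ orderOf g) :
    synth (fun χ : IrrCharacter G => if χ ∈ B then omega (χ : G → ℂ) (pElemInd p) else 0) g =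
      blockCoeff B g := by
  classical
  have hp : p.Prime := hM.1
  have hG0 : (Nat.card G : ℂ) ≠ 0 := card_ne_zero
  unfold synth
  have h1 : ∀ χ : IrrCharacter G,
      (if χ ∈ B then omega (χ : G → ℂ) (pElemInd p) else 0) * idemCoeff (χ : G → ℂ) g =
      (Nat.card G : ℂ)⁻¹ * ∑ x : G, pElemInd p x *
        (if χ ∈ B then (χ : G → ℂ) x * conj ((χ : G → ℂ) g) else 0) := by
    intro χ
    have hχ1 := irr_one_ne_zero χ.2
    by_cases hχ : χ ∈ B
    · rw [if_pos hχ]
      simp only [if_pos hχ]
      unfold omega idemCoeff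
      rw [Finset.mul_sum, Finset.sum_div, Finset.sum_mul]
      apply Finset.sum_congr rfl
      intro x _
      field_simp
    · rw [if_neg hχ, zero_mul]
      simp only [if_neg hχ, mul_zero, Finset.sum_const_zero]
  rw [Finset.sum_congr rfl (fun χ _ => h1 χ), ← Finset.mul_sum, Finset.sum_comm]
  unfold blockCoeff
  congr 1
  have h2 : ∀ x : G, ∑ χ : IrrCharacter G, pElemInd p x *
      (if χ ∈ B then (χ : G → ℂ) x * conj ((χ : G → ℂ) g) else 0) =
      if x = 1 then ∑ᶠ χ ∈ B, (χ : G → ℂ) 1 * conj ((χ : G → ℂ) g) else 0 := by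
    intro x
    rw [← Finset.mul_sum]
    have hfs : ∑ χ : IrrCharacter G,
        (if χ ∈ B then (χ : G → ℂ) x * conj ((χ : G → ℂ) g) else 0) =
        ∑ᶠ χ ∈ B, (χ : G → ℂ) x * (χ : G → ℂ) g⁻¹ := by
      rw [finsum_mem_def, finsum_eq_sum_of_fintype]
      apply Finset.sum_congr rfl
      intro χ _
      rw [Set.indicator_apply]
      by_cases hχ : χ ∈ B
      · rw [if_pos hχ, if_pos hχ, irr_inv (isCharacter_of_isIrrCharacter χ.2)]
      · rw [if_neg hχ, if_neg hχ]
    by_cases hx : x = 1
    · rw [if_pos hx, hfs, hx]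
      have : pElemInd p (1 : G) = 1 := pElemInd_of p ⟨0, by simp⟩
      rw [this, one_mul]
      apply finsum_mem_congr rfl
      intro χ _
      rw [irr_inv (isCharacter_of_isIrrCharacter χ.2)]
    · rw [if_neg hx]
      by_cases hE : ∃ k : ℕ, orderOf x = p ^ k
      · rw [hfs]
        have hxx : IsPPart p x x := ⟨1, mul_one x, Commute.one_right x, hE, by simp [hp.one_lt.ne']⟩
        have hg1 : IsPPart p g 1 := ⟨g, one_mul g, Commute.one_left g, ⟨0, by simp⟩, hg⟩
        have hnc : ¬ IsConj x 1 := by
          intro hc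
          exact hx (isConj_one_left.mp hc)
        rw [block_orthogonality hM hxx hg1 hnc hB, mul_zero]
      · rw [pElemInd_of_not p hE, zero_mul]
  rw [Finset.sum_congr rfl (fun x _ => h2 x), Finset.sum_ite_eq' Finset.univ (1 : G)]
  simp

/-- **Külshammer's formula**, before dividing by the number of `p`-regular elements -/
theorem kulshammer_aux (hM : IsPModular p M) {g : G} (hg : ¬ p ∣ orderOf g) :
    MemLocalIdeal M (conv (pElemInd p) (pRegularPart p (fun _ : G => (1 : ℂ))) g -
      (∑ x : G, pRegularPart p (fun _ : G => (1 : ℂ)) x) * blockCoeff (principalBlock M G) g) := by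
  classical
  have hp : p.Prime := hM.1
  haveI : Fact p.Prime := ⟨hp⟩
  haveI hMp : M.IsPrime := isPrime_of_isPModular hM
  letI : Fintype (IrrCharacter G) := irrFintype
  have hG0 : (Nat.card G : ℂ) ≠ 0 := card_ne_zero
  set B₀ := principalBlock M G with hB₀
  have hB : IsPBlock M B₀ := isPBlock_principalBlock
  set E : G → ℂ := pElemInd p with hE
  set F : G → ℂ := pRegularPart p (fun _ : G => (1 : ℂ)) with hF
  have hEcf : IsClassFunction G E := isClassFunction_pElemInd p
  have hFcf : IsClassFunction G F := isClassFunction_pRegularPart p (fun _ _ => rfl)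
  set ωE : IrrCharacter G → ℂ := fun χ => omega (χ : G → ℂ) E with hωE
  set ωF : IrrCharacter G → ℂ := fun χ => omega (χ : G → ℂ) F with hωF
  set R : ℂ := ∑ x : G, F x with hR
  -- spectral form of the convolution
  have h1 : conv E F g = synth (ωE * ωF) g := by
    have hE' : synth ωE = E := funext fun x => synth_omega hEcf x
    have hF' : synth ωF = F := funext fun x => synth_omega hFcf x
    rw [← conv_synth, hE', hF']
  -- the block idempotent, twisted by the `p`-element sum
  have h3 : synth (fun χ : IrrCharacter G => if χ ∈ B₀ then ωE χ else 0) g = blockCoeff B₀ g :=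
    synth_block_pElem hM hB hg
  -- values of `F`
  have hFval : ∀ x : G, F x = 0 ∨ F x = 1 := by
    intro x
    rw [hF, pRegularPart_apply]
    split_ifs
    · exact Or.inl rfl
    · exact Or.inr rfl
  have hFconj : ∀ x : G, conj (F x) = F x := by
    intro x
    rcases hFval x with h | h <;> rw [h] <;> simp
  have hFR : ∀ x : G, MemLocalRing M (F x) := by
    intro x
    rcases hFval x with h | h <;> rw [h]
    · exact memLocalRing_zero ne_top
    · exact memLocalRing_one ne_top
  -- `ωF` vanishes outside the principal block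
  have h4 : ∀ χ : IrrCharacter G, χ ∉ B₀ → ωF χ = 0 := by
    intro χ hχ
    have h := classInner_pRegularPart_eq_zero p hM (A := B₀)
      (fun x => memLocalRing_blockCoeff hMp hB x)
      (principalChar_mem_principalBlock (G := G) (M := M)) hχ
    have h' : classInner F (χ : G → ℂ) = 0 := h
    unfold classInner at h'
    have h5 : ∑ x : G, F x * conj ((χ : G → ℂ) x) = 0 := by
      rcases mul_eq_zero.1 h' with h6 | h6
      · exact absurd (inv_eq_zero.1 h6) hG0
      · exact h6
    have h6 := congrArg conj h5
    rw [map_sum, map_zero] at h6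
    have h7 : ∑ x : G, F x * (χ : G → ℂ) x = 0 := by
      rw [← h6]
      apply Finset.sum_congr rfl
      intro x _
      rw [map_mul, Complex.conj_conj, hFconj]
    simp only [hωF]
    unfold omega
    rw [h7, zero_div]
  -- `ωF ≡ R` on the principal block
  have h5 : ∀ χ : IrrCharacter G, χ ∈ B₀ → MemLocalIdeal M (ωF χ - R) := by
    intro χ hχ
    have hs : SameBlock M (χ : G → ℂ) ((principalChar G : IrrCharacter G) : G → ℂ) :=
      sameBlock_symm hχ
    have h := memLocalIdeal_omega_sub hs hFcf hFR
    have h6 : omega ((principalChar G : IrrCharacter G) : G → ℂ) F = R := by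
      unfold omega
      have : ((principalChar G : IrrCharacter G) : G → ℂ) = fun _ => (1 : ℂ) := rfl
      rw [this]
      simp only [mul_one, div_one]
      exact hR.symm
    rw [h6] at h
    exact h
  -- integrality of the twisted idempotent coefficients
  set a := (Nat.card G).factorization p with ha
  set m := Nat.card G / p ^ a with hm
  have hGm : Nat.card G = p ^ a * m := (Nat.mul_div_cancel' (Nat.ordProj_dvd _ _)).symm
  have hmp : ¬ p ∣ m := Nat.not_dvd_ordCompl hp (Nat.card_pos (α := G)).ne'
  have hm0 : (m : ℂ) ≠ 0 := by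
    intro h
    apply hG0
    rw [hGm]
    push_cast
    rw [h, mul_zero]
  have hpa0 : ((p ^ a : ℕ) : ℂ) ≠ 0 := by
    intro h
    apply hG0
    rw [hGm]
    push_cast
    push_cast at h
    rw [h, zero_mul]
  have h6 : ∀ χ : IrrCharacter G, MemLocalRing M (ωE χ * idemCoeff (χ : G → ℂ) g) := by
    intro χ
    have hχ1 := irr_one_ne_zero χ.2
    have h7 : ωE χ * idemCoeff (χ : G → ℂ) g =
        ((∑ x : G, pElemInd p x * (χ : G → ℂ) x) / ((p ^ a : ℕ) : ℂ)) *
          ((m : ℂ)⁻¹ * (χ : G → ℂ) g⁻¹) := by
      simp only [hωE]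
      unfold omega idemCoeff
      rw [irr_inv (isCharacter_of_isIrrCharacter χ.2)]
      have hc : (Nat.card G : ℂ) = ((p ^ a : ℕ) : ℂ) * (m : ℂ) := by exact_mod_cast hGm
      rw [hc]
      field_simp
      rw [mul_comm]
    rw [h7]
    apply memLocalRing_mul
    · exact memLocalRing_of_isIntegral (isIntegral_sum_pElem_div p χ) ne_top
    · apply memLocalRing_mul
      · apply memLocalRing_inv (memLocalRing_natCast m)
        rw [memLocalIdeal_natCast_iff hM]
        exact hmp
      · exact memLocalRing_of_isIntegral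
          (isIntegral_of_isCharacter (isCharacter_of_isIrrCharacter χ.2) g⁻¹) ne_top
  -- combine
  have h7 : conv E F g - R * blockCoeff B₀ g =
      ∑ χ : IrrCharacter G, (if χ ∈ B₀ then ωF χ - R else 0) *
        (ωE χ * idemCoeff (χ : G → ℂ) g) := by
    rw [h1, ← h3]
    unfold synth
    rw [Finset.mul_sum, ← Finset.sum_sub_distrib]
    apply Finset.sum_congr rfl
    intro χ _
    rw [Pi.mul_apply]
    simp only
    by_cases hχ : χ ∈ B₀
    · rw [if_pos hχ, if_pos hχ]
      ring
    · rw [if_neg hχ, if_neg hχ, h4 χ hχ]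
      ring
  rw [h7]
  apply memLocalIdeal_sum
  intro χ _
  by_cases hχ : χ ∈ B₀
  · rw [if_pos hχ]
    exact memLocalIdeal_mul_right (h5 χ hχ) (h6 χ)
  · rw [if_neg hχ, zero_mul]
    exact memLocalIdeal_zero ne_top

end Cfsg.Agent.Helper23.Blk
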