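import Mathlib
import Cfsg.Agent.Lib.Helper6.M11N3

/-!
# S0420 piece NUMD (helper27's farm-out): the hypotheses of `num435` also force `d = 3`
-/

set_option autoImplicit false
set_option linter.unusedVariables false

namespace Cfsg.Agent.Helper27.M11U

open Cfsg.Agent.Helper17.M11

/-- PIECE NUMD: the hypotheses of helper17's `num435` also force `d = 3`. -/
theorem num435_d {a b1 b2 b3 c d f g : ℤ} {N k : ℕ} (R1 : c = 1 + a - b1 - b2 - b3)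
    (R2 : 720 + 16 * a ^ 2 - 72 * (b1 ^ 2 + b2 ^ 2 + b3 ^ 2) - 45 * c ^ 2 = 0)
    (R3 : 1 + 2 * c + d - f = 0)
    (R4 : 90 * (88 + 11 * c ^ 2 + 8 * d ^ 2 - 2 * f ^ 2) = (N : ℤ) ^ 2 * k) (hk : k ≤ 5)
    (R5 : (N : ℤ) = 1 + a ^ 2 + b1 ^ 2 + b2 ^ 2 + b3 ^ 2 + 2 * c ^ 2 + d ^ 2 + f ^ 2 + g ^ 2)
    (ha : |a| ≤ 45) (hb1 : |b1| ≤ 10) (hb2 : |b2| ≤ 10) (hb3 : |b3| ≤ 10) (hc : |c| ≤ 16)
    (hd : |d| ≤ 11) (hf : |f| ≤ 44) (hg : |g| ≤ 55) (ha45 : a ≠ 45) : d = 3 := by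
  have hN : N = 48 := num435 R1 R2 R3 R4 hk R5 ha hb1 hb2 hb3 hc hd hf hg ha45
  subst hN
  obtain ⟨c', rfl⟩ := N3.four_dvd R2
  have hd' := abs_le.mp hd
  have hfe : f = 1 + 2 * (4 * c') + d := by linarith
  subst hfe
  have hc2 : 32 * (c' * c') ≤ 47 := by
    have h48 : ((48 : ℕ) : ℤ) = 48 := by norm_num
    rw [h48] at R5
    nlinarith [sq_nonneg a, sq_nonneg b1, sq_nonneg b2, sq_nonneg b3, sq_nonneg d,
      sq_nonneg (1 + 2 * (4 * c') + d), sq_nonneg g]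
  have hc1 : -1 ≤ c' ∧ c' ≤ 1 := by
    constructor <;> nlinarith
  obtain ⟨hcl, hcu⟩ := hc1
  obtain ⟨hdl, hdu⟩ := hd'
  clear R1 R2 R3 R5 ha hb1 hb2 hb3 hc hd hf hg ha45 hc2
  interval_cases c' <;> interval_cases d <;> interval_cases k <;>
    first | rfl | (exfalso; norm_num at R4)

end Cfsg.Agent.Helper27.M11U
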