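import Mathlib
import Cfsg.Agent.Lib.MC.MCDefs
import Cfsg.Agent.Lib.MC.MCK
import Cfsg.Agent.Lib.MC.MCCong
import Cfsg.Agent.Lib.MC.MCBil
import Cfsg.Agent.Lib.MC.MCJac
import Cfsg.Agent.Lib.MC.MCCard
import Cfsg.Agent.Lib.MC.MCGen
import Cfsg.Agent.Lib.MC.MCFrat
import Cfsg.Agent.Lib.MC.MCTwo
import Cfsg.Agent.Lib.MC.MCAllEq
import Cfsg.Agent.Lib.MC.MCUnif
import Cfsg.Agent.Lib.Helper21.ThreeSubgroups
import Cfsg.Agent.Lib.Helper23.ExactHP
import Cfsg.Agent.Lib.Helper23.ExactHP2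

/-!
# A `p`-group of maximal class and order `p ^ (p + 1)` is not of exponent `p` (`p` odd)

Application of the exact Hall--Petrescu top terms (`ExactHP.exact_top`, `ExactHP.exact_top2`) to helper21's
`Lib/MC` library.  Exceptional groups are included: the second-order term shows that a group of exponent `p`
is not exceptional, and then the first-order term contradicts uniformity.
-/

set_option autoImplicit false

namespace Cfsg.Agent.Helper23.MCExpP

open Cfsg.Agent.Helper21.MC Cfsg.Agent.Helper23.ExactHP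
open scoped commutatorElement

variable {Y : Type*} [Group Y]

theorem mcx_adIter_mem (s : Y) {j : ℕ} (hj : 1 ≤ j) {x : Y} (hx : x ∈ K Y j) (k : ℕ) :
    adIter s x k ∈ K Y (j + k) := by
  induction k with
  | zero => simpa [adIter_zero] using hx
  | succ k ih =>
    rw [adIter_succ]
    exact comm_mem_succ' (by omega) ih s

/-- the subgroup `⟨x, K 2⟩` -/
def dsub (x : Y) : Subgroup Y := Subgroup.closure (insert x (K Y 2 : Set Y))

theorem mem_dsub_self (x : Y) : x ∈ dsub x := Subgroup.subset_closure (Set.mem_insert _ _)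

theorem K_two_le_dsub (x : Y) : K Y 2 ≤ dsub x := fun _ hg =>
  Subgroup.subset_closure (Set.mem_insert_of_mem _ hg)

theorem dsub_inM {x : Y} {a : ℕ} (ha : 1 ≤ a) (hx : InM Y a x) : ∀ g ∈ dsub x, InM Y a g := by
  intro g hg
  induction hg using Subgroup.closure_induction with
  | mem g hg =>
    rcases hg with rfl | hg
    · exact hx
    · exact inM_of_mem_K_two ha hg
  | one => exact inM_of_mem_K_two ha (one_mem _)
  | mul g g' _ _ ihg ihg' => exact inM_mul ha ihg ihg'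
  | inv g _ ihg => exact inM_inv ha ihg

theorem dsub_comm_x (x : Y) : ∀ h ∈ dsub x, ⁅x, h⁆ ∈ K Y 3 := by
  have htop : ∀ g : Y, g ∈ K Y 1 := fun g => by rw [K_one]; trivial
  intro h hh
  induction hh using Subgroup.closure_induction with
  | mem g hg =>
    rcases hg with rfl | hg
    · rw [commutatorElement_self]; exact one_mem _
    · exact comm_mem_succ' (i := 2) (by omega) hg x
  | one => rw [commutatorElement_one_right]; exact one_mem _
  | mul g g' _ _ ihg ihg' =>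
    have h1 : Cong Y (1 + 1) ⁅x, g * g'⁆ (⁅x, g⁆ * ⁅x, g'⁆) :=
      comm_mul_right_cong le_rfl le_rfl (htop x) (htop g) (htop g')
    exact h1.symm.mem_succ (mul_mem ihg ihg')
  | inv g _ ihg =>
    have h1 : Cong Y (1 + 1) ⁅x, g⁻¹⁆ ⁅x, g⁆⁻¹ := comm_inv_right_cong le_rfl le_rfl (htop x) (htop g)
    exact h1.symm.mem_succ (inv_mem ihg)

theorem dsub_comm (x : Y) : ∀ g ∈ dsub x, ∀ h ∈ dsub x, ⁅g, h⁆ ∈ K Y 3 := by
  have htop : ∀ g : Y, g ∈ K Y 1 := fun g => by rw [K_one]; trivial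
  intro g hg h hh
  induction hg using Subgroup.closure_induction with
  | mem g hg =>
    rcases hg with rfl | hg
    · exact dsub_comm_x _ h hh
    · exact comm_mem_succ (i := 2) (by omega) hg h
  | one => rw [commutatorElement_one_left]; exact one_mem _
  | mul g g' _ _ ihg ihg' =>
    have h1 : Cong Y (1 + 1) ⁅g * g', h⁆ (⁅g, h⁆ * ⁅g', h⁆) :=
      comm_mul_left_cong le_rfl le_rfl (htop g) (htop g') (htop h)
    exact h1.symm.mem_succ (mul_mem ihg ihg')
  | inv g _ ihg =>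
    have h1 : Cong Y (1 + 1) ⁅g⁻¹, h⁆ ⁅g, h⁆⁻¹ := comm_inv_left_cong le_rfl le_rfl (htop g) (htop h)
    exact h1.symm.mem_succ (inv_mem ihg)

variable [Finite Y] {p : ℕ} [Fact p.Prime] {n : ℕ}

theorem mcx_adIter_not_mem (hn : 4 ≤ n) (hY : IsMC p n Y) {s : Y} (hs : IsUniform n Y s) {j : ℕ}
    (hj : 2 ≤ j) {x : Y} (hx : x ∈ K Y j) (hx' : x ∉ K Y (j + 1)) :
    ∀ k, j + k + 1 ≤ n → adIter s x k ∉ K Y (j + k + 1) := by
  intro k
  induction k with
  | zero => intro _; simpa [adIter_zero] using hx'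
  | succ k ih =>
    intro hk
    rw [adIter_succ]
    have ih' := ih (by omega)
    have hmem := mcx_adIter_mem s (by omega : 1 ≤ j) hx k
    have h1 := uniform_comm hn hY hs (i := j + k) (by omega) (by omega) hmem ih'
    intro h2
    apply h1
    have h3 := inv_mem h2
    rw [comm_swap (adIter s x k) s, inv_inv] at h3
    rwa [show j + (k + 1) + 1 = j + k + 2 by omega] at h3

/-- `closure {x, s} = ⊤` when `x ∈ H₁ \ K 2` and `s ∉ H₁` (`H₁` of index `p` over `K 2`) -/
theorem closure_x_s_top (hn : 3 ≤ n) (hY : IsMC p n Y) (H₁ : Subgroup Y) (h₁ : K Y 2 ≤ H₁)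
    (hi₁ : H₁.index = p) {x y : Y} (hx₁ : x ∈ H₁) (hxK : x ∉ K Y 2) (hy₁ : y ∉ H₁) :
    Subgroup.closure {x, y} = ⊤ := by
  have hp : p.Prime := Fact.out
  apply sup_K_two_eq_top hn hY
  have hxL : x ∈ Subgroup.closure {x, y} ⊔ K Y 2 :=
    (le_sup_left : Subgroup.closure {x, y} ≤ _) (Subgroup.subset_closure (by simp))
  have hyL : y ∈ Subgroup.closure {x, y} ⊔ K Y 2 :=
    (le_sup_left : Subgroup.closure {x, y} ≤ _) (Subgroup.subset_closure (by simp))
  have hKL : K Y 2 ≤ Subgroup.closure {x, y} ⊔ K Y 2 := le_sup_right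
  have hKA : K Y 2 ≤ (Subgroup.closure {x, y} ⊔ K Y 2) ⊓ H₁ := le_inf hKL h₁
  have hxA : x ∈ (Subgroup.closure {x, y} ⊔ K Y 2) ⊓ H₁ := ⟨hxL, hx₁⟩
  have e1 := Subgroup.relIndex_mul_index hKA
  rw [index_K_two hn hY] at e1
  have e2 := Subgroup.relIndex_mul_index
    (inf_le_right : (Subgroup.closure {x, y} ⊔ K Y 2) ⊓ H₁ ≤ H₁)
  rw [hi₁] at e2
  have hr1 : (K Y 2).relIndex ((Subgroup.closure {x, y} ⊔ K Y 2) ⊓ H₁) ≠ 1 := by
    intro h
    rw [Subgroup.relIndex_eq_one] at h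
    exact hxK (h hxA)
  have e3 : (K Y 2).relIndex ((Subgroup.closure {x, y} ⊔ K Y 2) ⊓ H₁) *
      ((Subgroup.closure {x, y} ⊔ K Y 2) ⊓ H₁).relIndex H₁ = p := by
    rw [← e2, ← mul_assoc] at e1
    have h4 : p ^ 2 = p * p := pow_two p
    rw [h4] at e1
    exact Nat.eq_of_mul_eq_mul_right hp.pos e1
  have hr2 := mcfrat_aux hp hr1 e3
  rw [Subgroup.relIndex_eq_one] at hr2
  have hH₁L : H₁ ≤ Subgroup.closure {x, y} ⊔ K Y 2 := hr2.trans inf_le_left
  have e4 := Subgroup.relIndex_mul_index hH₁L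
  rw [hi₁] at e4
  have hr3 : H₁.relIndex (Subgroup.closure {x, y} ⊔ K Y 2) ≠ 1 := by
    intro h
    rw [Subgroup.relIndex_eq_one] at h
    exact hy₁ (h hyL)
  have hr4 := mcfrat_aux hp hr3 e4
  exact Subgroup.index_eq_one.mp hr4

/-- if `closure {x, s} = ⊤` then `⁅x, s⁆ ∉ K 3` -/
theorem comm_not_mem_three (hn : 3 ≤ n) (hY : IsMC p n Y) {x s : Y}
    (hcl : Subgroup.closure {x, s} = ⊤) : ⁅x, s⁆ ∉ K Y 3 := by
  intro hc
  have hlt : K Y (2 + 1) < K Y 2 := K_succ_lt hn hY 2 (by norm_num) (by omega)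
  apply not_le_of_gt hlt
  have hsx : ⁅s, x⁆ ∈ K Y 3 := by
    rw [comm_swap x s]
    exact inv_mem hc
  have hxx : ⁅x, x⁆ ∈ K Y 3 := by
    rw [commutatorElement_self]
    exact one_mem _
  have hss : ⁅s, s⁆ ∈ K Y 3 := by
    rw [commutatorElement_self]
    exact one_mem _
  have hall : ∀ a b : Y, ⁅a, b⁆ ∈ K Y 3 := fun a b =>
    keya_right a (keya_left x hxx hsx hcl a) (keya_left s hc hss hcl a) hcl b
  show K Y (1 + 1) ≤ K Y 3
  rw [K_succ 1 le_rfl, Subgroup.commutator_le]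
  intro a _ b _
  exact hall a b

/-! ### degree of commutativity -/

section deg

variable (hn : 4 ≤ n) (hY : IsMC p n Y) {x s : Y} (N : ℕ)
  (hL : ∀ a, 2 ≤ a → a ≤ N → ∀ g ∈ dsub x, InM Y a g) (he : ⁅x, s⁆ ∉ K Y 3)

include hn hY hL he in
theorem comm_K_two_aux (a : ℕ) (ha : 2 ≤ a) (haN : a + 1 ≤ N) {z : Y} (hz : z ∈ K Y a) {g : Y}
    (hg : g ∈ K Y 2) : ⁅z, g⁆ ∈ K Y (a + 3) := by
  have htop : ∀ g : Y, g ∈ K Y 1 := fun g => by rw [K_one]; trivial
  have hem : ⁅x, s⁆ ∈ K Y 2 := comm_mem_succ (i := 1) le_rfl (htop x) s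
  obtain ⟨r, hr⟩ := exists_pow_cong (by omega : 3 ≤ n) hY (i := 2) le_rfl (by omega) hem he hg
  have h1 : Cong Y (a + 2) ⁅z, g⁆ ⁅z, ⁅x, s⁆ ^ r⁆ :=
    comm_cong_right (by omega) (by omega) hz hg hr
  have h2 : Cong Y (a + 2) ⁅z, ⁅x, s⁆ ^ r⁆ (⁅z, ⁅x, s⁆⁆ ^ r) :=
    comm_pow_right_cong (by omega) (by omega) hz hem r
  have hx1 : InM Y a x := hL a ha (by omega) x (mem_dsub_self x)
  have hx2 : InM Y (a + 1) x := hL (a + 1) (by omega) haN x (mem_dsub_self x)
  have h3 : ⁅⁅x, s⁆, z⁆ ∈ K Y (1 + 1 + a + 1) := by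
    apply jacobi_first (i := 1) (j := 1) (k := a) le_rfl le_rfl (by omega) (htop x) (htop s) hz
    · have h4 : ⁅s, z⁆ ∈ K Y (a + 1) := comm_mem_succ' (by omega) hz s
      have h5 := hx2 _ h4
      rwa [show a + 1 + 2 = 1 + 1 + a + 1 by omega] at h5
    · have h4 : ⁅z, x⁆ ∈ K Y (a + 2) := hx1 _ hz
      have h5 := comm_mem_succ (i := a + 2) (by omega) h4 s
      rwa [show a + 2 + 1 = 1 + 1 + a + 1 by omega] at h5
  have h6 : ⁅z, ⁅x, s⁆⁆ ∈ K Y (a + 2 + 1) := by
    rw [comm_swap ⁅x, s⁆ z, show a + 2 + 1 = 1 + 1 + a + 1 by omega]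
    exact inv_mem h3
  have h7 : ⁅z, ⁅x, s⁆ ^ r⁆ ∈ K Y (a + 2 + 1) := h2.symm.mem_succ (pow_mem h6 r)
  exact h1.symm.mem_succ h7

include hn hY hL he in
theorem comm_K_le : ∀ b, 2 ≤ b → ∀ a, 2 ≤ a → a + b ≤ N + 1 →
    ⁅K Y a, K Y b⁆ ≤ K Y (a + b + 1) := by
  intro b hb
  induction b, hb using Nat.le_induction with
  | base =>
    intro a ha hab
    rw [Subgroup.commutator_le]
    intro z hz g hg
    exact comm_K_two_aux hn hY N hL he a ha (by omega) hz hg
  | succ b hb ih =>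
    intro a ha hab
    rw [K_succ b (by omega), Subgroup.commutator_comm]
    apply Cfsg.Agent.Helper21.three_subgroups_normal
    · rw [Subgroup.commutator_comm ⊤ (K Y a), ← K_succ a (by omega)]
      have := ih (a + 1) (by omega) (by omega)
      rwa [show a + 1 + b + 1 = a + (b + 1) + 1 by omega] at this
    · have h1 := ih a ha (by omega)
      have h2 : ⁅⁅K Y a, K Y b⁆, (⊤ : Subgroup Y)⁆ ≤ ⁅K Y (a + b + 1), (⊤ : Subgroup Y)⁆ :=
        Subgroup.commutator_mono h1 le_rfl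
      rw [← K_succ (a + b + 1) (by omega)] at h2
      rwa [show a + b + 1 + 1 = a + (b + 1) + 1 by omega] at h2

end deg

/-! ### the filtrations -/

/-- `⟨x, K 2⟩` in degree `≤ 1`, `K a` above -/
def KK (x : Y) (a : ℕ) : Subgroup Y := if a ≤ 1 then dsub x else K Y a

omit [Finite Y] in
theorem KK_le (x : Y) {c m : ℕ} (hcm : c ≤ m) (hm : 2 ≤ m) : K Y m ≤ KK x c := by
  unfold KK
  split_ifs with h
  · exact (K_antitone hm).trans (K_two_le_dsub x)
  · exact K_antitone hcm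

omit [Finite Y] in
theorem KK_antitone (x : Y) : Antitone (KK x) := by
  intro a a' h
  by_cases h2 : 2 ≤ a'
  · have : KK x a' = K Y a' := by unfold KK; rw [if_neg (by omega)]
    rw [this]
    exact KK_le x h h2
  · have h3 : KK x a' = dsub x := by unfold KK; rw [if_pos (by omega)]
    have h4 : KK x a = dsub x := by unfold KK; rw [if_pos (by omega)]
    rw [h3, h4]

omit [Finite Y] in
theorem KK_le_K (x : Y) {a : ℕ} (ha : 1 ≤ a) : KK x a ≤ K Y a := by
  unfold KK
  split_ifs with h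
  · obtain rfl : a = 1 := by omega
    rw [K_one]
    exact le_top
  · exact le_rfl

omit [Finite Y] in
theorem KK_of_two_le (x : Y) {a : ℕ} (ha : 2 ≤ a) : KK x a = K Y a := by
  unfold KK
  rw [if_neg (by omega)]

omit [Finite Y] in
theorem KK_one (x : Y) : KK x 1 = dsub x := by
  unfold KK
  rw [if_pos le_rfl]

section filt

variable (hn : 4 ≤ n) (hY : IsMC p n Y) {x s : Y} (N : ℕ)
  (hL : ∀ a, 2 ≤ a → a ≤ N → ∀ g ∈ dsub x, InM Y a g) (he : ⁅x, s⁆ ∉ K Y 3)

include hn hY hL he in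
theorem KK_comm (a b c : ℕ) (ha : 1 ≤ a) (hb : 1 ≤ b) (hc : c ≤ a + b + 1)
    (h : a + b ≤ N + 1 ∨ c ≤ a + b ∨ n ≤ a + b) : ⁅KK x a, KK x b⁆ ≤ KK x c := by
  have hW : ⁅KK x a, KK x b⁆ ≤ K Y (a + b) :=
    (Subgroup.commutator_mono (KK_le_K x ha) (KK_le_K x hb)).trans (K_comm_le a b ha hb)
  rcases h with h | h | h
  · refine le_trans ?_ (KK_le x hc (by omega))
    rcases Nat.lt_or_ge a 2 with ha2 | ha2
    · obtain rfl : a = 1 := by omega
      rcases Nat.lt_or_ge b 2 with hb2 | hb2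
      · obtain rfl : b = 1 := by omega
        rw [KK_one, Subgroup.commutator_le]
        exact dsub_comm x
      · rw [KK_one, KK_of_two_le x hb2, Subgroup.commutator_le]
        intro g hg z hz
        have h1 : InM Y b g := hL b hb2 (by omega) g hg
        have h2 := h1 z hz
        rw [comm_swap z g, show 1 + b + 1 = b + 2 by omega]
        exact inv_mem h2
    · rcases Nat.lt_or_ge b 2 with hb2 | hb2
      · obtain rfl : b = 1 := by omega
        rw [KK_one, KK_of_two_le x ha2, Subgroup.commutator_le]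
        intro z hz g hg
        have h1 : InM Y a g := hL a ha2 (by omega) g hg
        exact h1 z hz
      · rw [KK_of_two_le x ha2, KK_of_two_le x hb2]
        exact comm_K_le hn hY N hL he b hb2 a ha2 h
  · exact hW.trans (KK_le x h (by omega))
  · rw [K_eq_bot (by omega) hY (a + b) h] at hW
    exact hW.trans bot_le

end filt

/-! ### the two level functions -/

/-- first-order levels: `x` has weight two -/
def lv1 (i : ℕ) : ℕ := if i ≤ 2 then 1 else i - 1

/-- second-order levels: one extra step at the top -/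
def lv2 (p i : ℕ) : ℕ := if i ≤ 2 then 1 else if i ≤ p + 2 then min (i - 1) p else p + 1

section main

variable (hp : p ≠ 2) (hY : IsMC p (p + 1) Y) {x s : Y}

include hp hY in
/-- **A `p`-group of maximal class of order `p ^ (p + 1)` (`p` odd) is not of exponent `p`.** -/
theorem mc_not_exp_p : ∃ g : Y, g ^ p ≠ 1 := by
  by_contra hcon
  simp only [not_exists, ne_eq, not_not] at hcon
  have hpp : p.Prime := Fact.out
  have hp3 : 3 ≤ p := by
    have := hpp.two_le
    omega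
  have hn : 4 ≤ p + 1 := by omega
  have hn3 : 3 ≤ p + 1 := by omega
  have htop : ∀ g : Y, g ∈ K Y 1 := fun g => by rw [K_one]; trivial
  have hbot : ∀ m, p + 1 ≤ m → K Y m = ⊥ := fun m hm => K_eq_bot hn3 hY m hm
  obtain ⟨s, hs⟩ := exists_uniform hn hY hp (by omega)
  obtain ⟨H₁, hH₁, hi₁, hK₁⟩ := exists_M hn3 hY (i := 2) le_rfl (by omega)
  have hall := M_all_eq hn3 hY hp (by omega)
  -- `x ∈ H₁ \ K 2`
  have hne : K Y 2 ≠ H₁ := by
    intro h
    have h1 := index_K_two hn3 hY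
    rw [h, hi₁] at h1
    have : p ^ 2 = p * p := pow_two p
    have h2 : p * 1 = p * p := by rw [mul_one]; omega
    have := Nat.eq_of_mul_eq_mul_left hpp.pos h2
    omega
  obtain ⟨x, hxH, hxK⟩ := SetLike.exists_of_lt (lt_of_le_of_ne hK₁ hne)
  have hx2 : InM Y 2 x := (hH₁ x).1 hxH
  have hsH : s ∉ H₁ := fun h => hs 2 le_rfl (by omega) ((hH₁ s).1 h)
  have hcl := closure_x_s_top hn3 hY H₁ hK₁ hi₁ hxH hxK hsH
  have he : ⁅x, s⁆ ∉ K Y 3 := comm_not_mem_three hn3 hY hcl
  have hD2 : ∀ g ∈ dsub x, InM Y 2 g := dsub_inM (by omega) hx2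
  have hxD : x ∈ KK x 1 := by rw [KK_one]; exact mem_dsub_self x
  have hsx2 : ⁅s, x⁆ ∈ K Y 2 := comm_mem_succ' (i := 1) le_rfl (htop x) s
  have hsx3 : ⁅s, x⁆ ∉ K Y (2 + 1) := by
    intro h
    apply he
    rw [comm_swap s x]
    exact inv_mem h
  -- generic facts about filtrations of the form `KK x (lv i)`
  have hsgen : ∀ (lv : ℕ → ℕ), (∀ m, 1 ≤ lv m) → (∀ m, lv (m + 1) ≤ lv m + 1) →
      ∀ m, 2 ≤ m → ∀ z ∈ KK x (lv m), ⁅s, z⁆ ∈ KK x (lv (m + 1)) := by
    intro lv h1 h2 m _ z hz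
    have hz' : z ∈ K Y (lv m) := KK_le_K x (h1 m) hz
    have h3 : ⁅s, z⁆ ∈ K Y (lv m + 1) := comm_mem_succ' (h1 m) hz' s
    exact KK_le x (h2 m) (by have := h1 m; omega) h3
  -- STEP A: the second-order term, `N = p - 2`
  have hLA : ∀ a, 2 ≤ a → a ≤ p - 2 → ∀ g ∈ dsub x, InM Y a g := by
    intro a ha haN g hg
    exact (hall a ha (by omega) g).2 (hD2 g hg)
  have hF2 : Antitone (fun i => KK x (lv2 p i)) := by
    intro i j hij
    apply KK_antitone x
    simp only [lv2]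
    split_ifs <;> omega
  have hc2 : ∀ i j, ⁅KK x (lv2 p i), KK x (lv2 p j)⁆ ≤ KK x (lv2 p (i + j)) := by
    intro i j
    apply KK_comm hn hY (p - 2) hLA he
    · simp only [lv2]; split_ifs <;> omega
    · simp only [lv2]; split_ifs <;> omega
    · simp only [lv2]; split_ifs <;> omega
    · simp only [lv2]; split_ifs <;> omega
  have hs2 : ∀ m, 2 ≤ m → ∀ z ∈ KK x (lv2 p m), ⁅s, z⁆ ∈ KK x (lv2 p (m + 1)) := by
    apply hsgen
    · intro m; simp only [lv2]; split_ifs <;> omega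
    · intro m; simp only [lv2]; split_ifs <;> omega
  have hFp2 : KK x (lv2 p (p + 3)) = ⊥ := by
    have : lv2 p (p + 3) = p + 1 := by simp only [lv2]; split_ifs <;> omega
    rw [this, KK_of_two_le x (by omega), hbot _ le_rfl]
  have hx22 : x ∈ KK x (lv2 p 2) := by
    have : lv2 p 2 = 1 := by simp [lv2]
    rw [this]
    exact hxD
  have hkill : ∀ j k, j + k = p - 1 → 2 ≤ k → adIter s ⁅x, adIter s x j⁆ (k - 1) = 1 := by
    intro j k hjk hk
    have h1 : adIter s x j ∈ KK x (j + 1) := by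
      rcases Nat.eq_zero_or_pos j with rfl | hj
      · simpa [adIter_zero] using hxD
      · rw [KK_of_two_le x (by omega)]
        have := mcx_adIter_mem s (j := 1) le_rfl (htop x) j
        rwa [show 1 + j = j + 1 by omega] at this
    have h2 : ⁅x, adIter s x j⁆ ∈ KK x (j + 3) :=
      KK_comm hn hY (p - 2) hLA he 1 (j + 1) (j + 3) le_rfl (by omega) (by omega)
        (Or.inl (by omega)) (Subgroup.commutator_mem_commutator hxD h1)
    rw [KK_of_two_le x (by omega)] at h2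
    have h3 := mcx_adIter_mem s (j := j + 3) (by omega) h2 (k - 1)
    rw [hbot _ (by omega), Subgroup.mem_bot] at h3
    exact h3
  have hA := exact_top2 (F := fun i => KK x (lv2 p i)) hF2 s hs2 hc2 hpp hFp2 ⊥
    (fun z _ => by rw [hcon z]; exact one_mem _) hx22 hkill
  simp only [hcon, inv_one, mul_one, Subgroup.mem_bot, inv_eq_one] at hA
  -- STEP B: `x` centralizes `K (p - 1)`
  have hc_mem : adIter s x (p - 2) ∈ K Y (p - 1) := by
    have := mcx_adIter_mem s (j := 1) le_rfl (htop x) (p - 2)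
    rwa [show 1 + (p - 2) = p - 1 by omega] at this
  have hc_not : adIter s x (p - 2) ∉ K Y (p - 1 + 1) := by
    have h1 := mcx_adIter_not_mem hn hY hs (j := 2) le_rfl hsx2 hsx3 (p - 3) (by omega)
    have h2 : adIter s x (p - 2) = adIter s ⁅s, x⁆ (p - 3) := by
      rw [show p - 2 = (p - 3) + 1 by omega, adIter_succ']
    rw [h2, show p - 1 + 1 = 2 + (p - 3) + 1 by omega]
    exact h1
  have hxB : InM Y (p - 1) x := by
    rw [inM_iff_gen hn3 hY (i := p - 1) (by omega) (by omega) hc_mem hc_not x,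
      comm_swap x (adIter s x (p - 2)), hA, inv_one]
    exact one_mem _
  have hDB : ∀ g ∈ dsub x, InM Y (p - 1) g := dsub_inM (by omega) hxB
  have hLB : ∀ a, 2 ≤ a → a ≤ p - 1 → ∀ g ∈ dsub x, InM Y a g := by
    intro a ha haN g hg
    rcases Nat.lt_or_ge a (p - 1) with h | h
    · exact (hall a ha (by omega) g).2 (hD2 g hg)
    · obtain rfl : a = p - 1 := by omega
      exact hDB g hg
  -- STEP C: the first-order term
  have hF1 : Antitone (fun i => KK x (lv1 i)) := by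
    intro i j hij
    apply KK_antitone x
    simp only [lv1]
    split_ifs <;> omega
  have hc1 : ∀ i j, ⁅KK x (lv1 i), KK x (lv1 j)⁆ ≤ KK x (lv1 (i + j)) := by
    intro i j
    apply KK_comm hn hY (p - 1) hLB he
    · simp only [lv1]; split_ifs <;> omega
    · simp only [lv1]; split_ifs <;> omega
    · simp only [lv1]; split_ifs <;> omega
    · simp only [lv1]; split_ifs <;> omega
  have hs1 : ∀ m, 2 ≤ m → ∀ z ∈ KK x (lv1 m), ⁅s, z⁆ ∈ KK x (lv1 (m + 1)) := by
    apply hsgen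
    · intro m; simp only [lv1]; split_ifs <;> omega
    · intro m; simp only [lv1]; split_ifs <;> omega
  have hFp1 : KK x (lv1 (p + 2)) = ⊥ := by
    have : lv1 (p + 2) = p + 1 := by simp only [lv1]; split_ifs <;> omega
    rw [this, KK_of_two_le x (by omega), hbot _ le_rfl]
  have hx21 : x ∈ KK x (lv1 2) := by
    have : lv1 2 = 1 := by simp [lv1]
    rw [this]
    exact hxD
  have hC := exact_top (F := fun i => KK x (lv1 i)) hF1 s hs1 hc1 hpp hFp1 ⊥
    (fun z _ => by rw [hcon z]; exact one_mem _) hx21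
  simp only [hcon, inv_one, mul_one, Subgroup.mem_bot, inv_eq_one] at hC
  have h1 := mcx_adIter_not_mem hn hY hs (j := 2) le_rfl hsx2 hsx3 (p - 2) (by omega)
  have h2 : adIter s x (p - 1) = adIter s ⁅s, x⁆ (p - 2) := by
    rw [show p - 1 = (p - 2) + 1 by omega, adIter_succ']
  rw [← h2, hC] at h1
  exact h1 (one_mem _)

end main

end Cfsg.Agent.Helper23.MCExpP
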