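import Mathlib
import Cfsg.Prelude.Def_BaumannBlocks
import Cfsg.Agent.Lib.Helper15.MinimalCL

/-!
# S3008 part (2) (helper23): definitions for "some minimal centrally large subgroup is normalised by
`J(P)` and `P_MCL`".

`AbCD A`  : `A` is an abelian member of the Chermak–Delgado lattice (`IsCentralizerLarge A`, `A ≤ C(A)`).
`IsS A`   : `A` is maximal (under inclusion) among the abelian members (`= Z(Q)`, `Q` minimal centrally large).
`cj b A`  : the conjugate `b A b⁻¹`.
`pot n A` : the potential `∑_{j<n} |A ∩ γ_j(G)|` (`γ_j` = lower central series).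
`Repl A A' Astar E b` : the data of one replacement step `A ↦ Astar`.
-/

set_option autoImplicit false

namespace Cfsg.Agent.Helper23.MCL

open scoped Pointwise

variable {G : Type*} [Group G]

/-- the conjugate subgroup `b A b⁻¹` -/
abbrev cj (b : G) (A : Subgroup G) : Subgroup G := A.map (MulAut.conj b).toMonoidHom

/-- abelian member of the Chermak–Delgado lattice -/
def AbCD (A : Subgroup G) : Prop :=
  Cfsg.IsCentralizerLarge A ∧ A ≤ Subgroup.centralizer (A : Set G)

/-- maximal abelian member of the Chermak–Delgado lattice -/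
def IsS (A : Subgroup G) : Prop :=
  AbCD A ∧ ∀ A' : Subgroup G, AbCD A' → A ≤ A' → A' = A

/-- the potential: `∑_{j<n} |A ∩ γ_j(G)|` -/
noncomputable def pot (n : ℕ) (A : Subgroup G) : ℕ :=
  ∑ j ∈ Finset.range n, Nat.card ↥(A ⊓ (⊤ : Subgroup G).lowerCentralSeries j : Subgroup G)

/-- the data of one replacement step: `A' = b A b⁻¹`, `E = A ∩ A' = Z(A A')`, `Astar` an abelian subgroup of
`A A'` of the order of `A` with `Astar ∩ A = E = Astar ∩ A'`, and `Astar = E · C` with `C ≤ A A'` centralised by `b` -/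
structure Repl (A A' Astar E : Subgroup G) (b : G) : Prop where
  hA' : A' = cj b A
  abA : A ≤ Subgroup.centralizer (A : Set G)
  hE : E = A ⊓ A'
  center : (A ⊔ A') ⊓ Subgroup.centralizer ((A ⊔ A' : Subgroup G) : Set G) = E
  E_le : E ≤ Astar
  star_le : Astar ≤ A ⊔ A'
  infA : Astar ⊓ A = E
  infA' : Astar ⊓ A' = E
  card_eq : Nat.card Astar = Nat.card A
  coe_sup : ((A ⊔ A' : Subgroup G) : Set G) = (A : Set G) * (A' : Set G)
  fix : ∀ x ∈ Astar, ∃ e ∈ E, ∃ β ∈ A ⊔ A', b * β = β * b ∧ x = e * β

end Cfsg.Agent.Helper23.MCL
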