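import Mathlib
import Cfsg.Agent.Lib.Helper23.MCLDefs

/-!
# S3008 part (2): backup copies (helper23) of the two lemmas of piece MCL-NORM, under private-style names.
-/

set_option autoImplicit false

namespace Cfsg.Agent.Helper23.MCL

open scoped Pointwise
open Cfsg.Agent.Helper15

variable {G : Type*} [Group G]

theorem mcl_normb_normalizer_le (A : Subgroup G) :
    Subgroup.normalizer (A : Set G) ≤
      Subgroup.normalizer ((Subgroup.centralizer (A : Set G) : Subgroup G) : Set G) := by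
  intro g hg
  rw [Subgroup.mem_normalizer_iff] at hg ⊢
  have key : ∀ g : G, (∀ h, h ∈ A ↔ g * h * g⁻¹ ∈ A) → ∀ c ∈ Subgroup.centralizer (A : Set G),
      g * c * g⁻¹ ∈ Subgroup.centralizer (A : Set G) := by
    intro g hg c hc
    rw [Subgroup.mem_centralizer_iff] at hc ⊢
    intro a ha
    have ha' : g⁻¹ * a * g ∈ A := by
      rw [hg (g⁻¹ * a * g)]
      have : g * (g⁻¹ * a * g) * g⁻¹ = a := by group
      rw [this]; exact ha
    have := hc _ ha'
    calc a * (g * c * g⁻¹) = g * ((g⁻¹ * a * g) * c) * g⁻¹ := by group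
      _ = g * (c * (g⁻¹ * a * g)) * g⁻¹ := by rw [this]
      _ = g * c * g⁻¹ * a := by group
  intro c
  constructor
  · exact key g hg c
  · intro hc
    have hg' : ∀ h, h ∈ A ↔ g⁻¹ * h * g⁻¹⁻¹ ∈ A := by
      intro h
      rw [hg (g⁻¹ * h * g⁻¹⁻¹)]
      have : g * (g⁻¹ * h * g⁻¹⁻¹) * g⁻¹ = h := by group
      rw [this]
    have := key g⁻¹ hg' _ hc
    have e : g⁻¹ * (g * c * g⁻¹) * g⁻¹⁻¹ = c := by group
    rwa [e] at this

theorem mcl_normb_le_normalizer {A B : Subgroup G} (h : ∀ b ∈ B, cj b A = A) :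
    B ≤ Subgroup.normalizer (A : Set G) := by
  intro b hb
  rw [Subgroup.mem_normalizer_iff]
  intro x
  have h1 := h b hb
  have h2 := h b⁻¹ (B.inv_mem hb)
  constructor
  · intro hx
    rw [← h1]
    exact conj_mem_map_conj b hx
  · intro hx
    have : b⁻¹ * (b * x * b⁻¹) * b⁻¹⁻¹ ∈ cj b⁻¹ A := conj_mem_map_conj b⁻¹ hx
    rw [h2] at this
    have e : b⁻¹ * (b * x * b⁻¹) * b⁻¹⁻¹ = x := by group
    rwa [e] at this

end Cfsg.Agent.Helper23.MCL
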