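import Mathlib
import Cfsg.Prelude.Def_BaumannBlocks
import Cfsg.Prelude.Def_PLocal
import Cfsg.Agent.Lib.Helper15.MinimalCL
import Cfsg.Agent.Lib.Helper23.MCLDefs
import Cfsg.Agent.Lib.MCL.MCLMIN
import Cfsg.Agent.Lib.MCL.MCLFONE
import Cfsg.Agent.Lib.MCL.MCLREPL
import Cfsg.Agent.Lib.MCL.MCLMONO
import Cfsg.Agent.Lib.MCL.MCLSTRICT
import Cfsg.Agent.Lib.MCL.MCLLCS
import Cfsg.Agent.Lib.Helper23.MCLNormB

/-!
# S3008 part (2) (helper23): some minimal centrally large subgroup of a finite `p`-group `P` is normalised by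
`J(P)` and by `P_MCL`.  Assembly of the pieces `MCL-*` (see `plans/S3008_plan.md`).
-/

set_option autoImplicit false

namespace Cfsg.Agent.Helper23.MCL

open scoped Pointwise
open Cfsg.Agent.Helper15

variable {G : Type*} [Group G]

/-- the potential strictly increases along a non-trivial replacement step -/
theorem pot_lt [Finite G] {A A' Astar E : Subgroup G} {b : G} (h : Repl A A' Astar E b)
    (hne : A' ≠ A) (n : ℕ) (hn : (⊤ : Subgroup G).lowerCentralSeries n = ⊥) :
    pot n A < pot n Astar := by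
  obtain ⟨h0, hanti, hcomm⟩ := lcs_facts (G := G)
  have hmono : ∀ j, Nat.card ↥(A ⊓ (⊤ : Subgroup G).lowerCentralSeries j : Subgroup G) ≤
      Nat.card ↥(Astar ⊓ (⊤ : Subgroup G).lowerCentralSeries j : Subgroup G) :=
    fun j => card_inf_normal_le h _
  obtain ⟨j, hj, hlt⟩ := exists_card_inf_lt h hne _ n h0 hanti hcomm hn hmono
  unfold pot
  exact Finset.sum_lt_sum (fun i _ => hmono i) ⟨j, Finset.mem_range.2 hj, hlt⟩

/-- **S3008 part (2)** -/
theorem exists_minimalCL_normalized {p : ℕ} [Fact p.Prime] (P : Type*) [Group P] [Finite P]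
    (hP : IsPGroup p P) :
    ∃ Q : Subgroup P, Cfsg.IsMinimalCentrallyLarge Q ∧
      Cfsg.thompsonSubgroupA P ≤ Subgroup.normalizer (Q : Set P) ∧
      Cfsg.minimalCentrallyLargeJoin P ≤ Subgroup.normalizer (Q : Set P) := by
  have hnil : Group.IsNilpotent P := hP.isNilpotent
  obtain ⟨n, hn⟩ := Subgroup.nilpotent_iff_lowerCentralSeries.1 hnil
  -- a maximal abelian member exists
  obtain ⟨T, hT⟩ := exists_isCentrallyLarge P
  obtain ⟨Q₀, hQ₀, -⟩ := exists_isMinimalCentrallyLarge_le hT
  have hne : {A : Subgroup P | IsS A}.Nonempty := ⟨_, (isS_of_isMinimalCentrallyLarge hQ₀).1⟩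
  have hfin : {A : Subgroup P | IsS A}.Finite := Set.toFinite _
  obtain ⟨A, hA, hmax⟩ := hfin.exists_maximalFor (fun A : Subgroup P => pot n A) _ hne
  have hA : IsS A := hA
  -- every abelian subgroup of largest order normalises `A`
  have hfix : ∀ B ∈ Cfsg.maxAbelianSubgroups P, ∀ b ∈ B, cj b A = A := by
    intro B hB b hb
    by_contra hne'
    obtain ⟨Astar, hS, hR⟩ := exists_repl hA hB hb
    have hlt := pot_lt hR hne' n hn
    have := hmax (show Astar ∈ {A : Subgroup P | IsS A} from hS) hlt.le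
    exact absurd this (not_le.2 hlt)
  have hJ : Cfsg.thompsonSubgroupA P ≤ Subgroup.normalizer (A : Set P) := by
    unfold Cfsg.thompsonSubgroupA
    exact sSup_le fun B hB => mcl_normb_le_normalizer (hfix B hB)
  have hNN := mcl_normb_normalizer_le A
  refine ⟨Subgroup.centralizer (A : Set P), isMinimalCentrallyLarge_of_isS hA, hJ.trans hNN, ?_⟩
  unfold Cfsg.minimalCentrallyLargeJoin
  apply sSup_le
  intro Q' hQ'
  have hQ' : Cfsg.IsMinimalCentrallyLarge Q' := hQ'
  have hQcl : Cfsg.IsCentrallyLarge (Subgroup.centralizer (A : Set P)) :=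
    (isMinimalCentrallyLarge_of_isS hA).1
  have h1 := IsMinimalCentrallyLarge.inf_sup_centralizer hQ' hQcl
  rw [← h1]
  apply sup_le
  · exact inf_le_right.trans Subgroup.le_normalizer
  · have h2 := (isS_of_isMinimalCentrallyLarge hQ').1
    exact (abcd_le_thompson h2.1).trans (hJ.trans hNN)

end Cfsg.Agent.Helper23.MCL
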