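import Mathlib
import Cfsg.Prelude.Def_BaumannBlocks
import Cfsg.Prelude.Def_PLocal
import Cfsg.Agent.Lib.Helper15.MinimalCL

/-!
# S3008 parts (1), (3), (4) (helper23, from helper15's library `CentrallyLarge` / `MinimalCL`)
-/

set_option autoImplicit false

namespace Cfsg.Agent.Helper23.MCL

open scoped Pointwise
open Cfsg.Agent.Helper15

variable {G : Type*} [Group G]

/-- `Q ⊔ (A₁ ⊔ ... ⊔ A_k)` is centrally large for `Q` centrally large and `A_i` abelian of largest order -/
theorem mcl_parts_sup_finset [Finite G] {Q : Subgroup G} (hQ : Cfsg.IsCentrallyLarge Q)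
    (s : Finset (Subgroup G)) (hs : ∀ A ∈ s, A ∈ Cfsg.maxAbelianSubgroups G) :
    Cfsg.IsCentrallyLarge (Q ⊔ s.sup id) := by
  classical
  induction s using Finset.induction_on with
  | empty => simpa using hQ
  | insert A s hA ih =>
    rw [Finset.sup_insert, id, sup_comm A, ← sup_assoc]
    exact (IsCentrallyLarge.maxAbelian_key (ih fun B hB => hs B (Finset.mem_insert_of_mem hB))
      (hs A (Finset.mem_insert_self A s))).2.1

/-- `Q J(G)` is centrally large -/
theorem mcl_parts_sup_thompson [Finite G] {Q : Subgroup G} (hQ : Cfsg.IsCentrallyLarge Q) :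
    Cfsg.IsCentrallyLarge (Q ⊔ Cfsg.thompsonSubgroupA G) := by
  classical
  have hfin : (Cfsg.maxAbelianSubgroups G).Finite := Set.toFinite _
  have h := mcl_parts_sup_finset hQ hfin.toFinset (fun A hA => hfin.mem_toFinset.1 hA)
  have e : hfin.toFinset.sup id = Cfsg.thompsonSubgroupA G := by
    unfold Cfsg.thompsonSubgroupA
    rw [Finset.sup_id_eq_sSup, Set.Finite.coe_toFinset]
  rwa [e] at h

/-- **S3008 part (1)** -/
theorem part_one [Finite G] (Q : Subgroup G) (hQ : Cfsg.IsCentrallyLarge Q) :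
    Subgroup.centralizer ((Cfsg.thompsonSubgroupA G ⊓
      Subgroup.centralizer (Cfsg.thompsonSubgroupA G : Set G) : Subgroup G) : Set G) ≤
      Q ⊔ Cfsg.thompsonSubgroupA G :=
  IsCentrallyLarge.centralizer_center_thompson_le (mcl_parts_sup_thompson hQ) le_sup_right

/-- **S3008 part (4)** -/
theorem part_four [Finite G]
    (h : ∀ Q : Subgroup G, Cfsg.IsMinimalCentrallyLarge Q → IsMulCommutative ↥Q) :
    Subgroup.centralizer ((Cfsg.thompsonSubgroupA G ⊓
      Subgroup.centralizer (Cfsg.thompsonSubgroupA G : Set G) : Subgroup G) : Set G) =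
      Cfsg.thompsonSubgroupA G := by
  obtain ⟨T, hT⟩ := exists_isCentrallyLarge G
  obtain ⟨Q₀, hQ₀, -⟩ := exists_isMinimalCentrallyLarge_le hT
  have hab := h Q₀ hQ₀
  have hJ : Cfsg.thompsonSubgroupA G = Cfsg.minimalCentrallyLargeJoin G := by
    unfold Cfsg.thompsonSubgroupA Cfsg.minimalCentrallyLargeJoin
    congr 1
    ext X
    exact (isMinimalCentrallyLarge_iff_maxAbelian hQ₀ hab X).symm
  have hcl : Cfsg.IsCentrallyLarge (Cfsg.thompsonSubgroupA G) := by
    rw [hJ]; exact isCentrallyLarge_minimalCentrallyLargeJoin G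
  apply le_antisymm (IsCentrallyLarge.centralizer_center_thompson_le hcl le_rfl)
  intro x hx
  rw [Subgroup.mem_centralizer_iff]
  intro z hz
  have hz' : z ∈ Subgroup.centralizer (Cfsg.thompsonSubgroupA G : Set G) := hz.2
  exact (Subgroup.mem_centralizer_iff.1 hz' x hx).symm

/-- **S3008 part (3)** -/
theorem part_three [Finite G] (hJ : Cfsg.thompsonSubgroupA G = ⊤)
    (hd : ∀ A ∈ Cfsg.maxAbelianSubgroups G,
      Nat.card ↥A ^ 2 = Nat.card G * Nat.card ↥(Subgroup.center G))
    (Q : Subgroup G) (hQ : Cfsg.IsMinimalCentrallyLarge Q) : IsMulCommutative ↥Q := by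
  -- `⊤` is centrally large
  have htop : Cfsg.IsCentrallyLarge (⊤ : Subgroup G) := by
    have h1 := isCentrallyLarge_centrallyLargeJoin G
    have h2 : Cfsg.centrallyLargeJoin G = ⊤ := by
      rw [eq_top_iff, ← hJ]; exact thompsonSubgroupA_le_centrallyLargeJoin G
    rwa [h2] at h1
  obtain ⟨A, hA⟩ := exists_maxAbelian G
  have hCA := MaxAbelian.centralizer_eq hA
  -- `A` is a member of the Chermak–Delgado lattice with `C(A) ≤ A`
  have hAcd : Cfsg.IsCentralizerLarge A := by
    have h3 := isCentralizerLarge_iff.1 (IsCentrallyLarge.isCentralizerLarge htop)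
    rw [isCentralizerLarge_iff, ← h3]
    unfold cdMeasure
    rw [hCA, Subgroup.coe_top, Subgroup.centralizer_univ, Subgroup.card_top, ← sq, hd A hA]
  have hAcl : Cfsg.IsCentrallyLarge A := isCentrallyLarge_iff.2 ⟨hAcd, hCA.le⟩
  obtain ⟨Q₀, hQ₀, hQ₀A⟩ := exists_isMinimalCentrallyLarge_le hAcl
  have hab₀ : IsMulCommutative ↥Q₀ := by
    rw [← Subgroup.le_centralizer_iff_isMulCommutative]
    exact hQ₀A.trans ((MaxAbelian.le_centralizer hA).trans
      (Subgroup.centralizer_le (SetLike.coe_subset_coe.2 hQ₀A)))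
  exact ((isMinimalCentrallyLarge_iff_maxAbelian hQ₀ hab₀ Q).1 hQ).1

end Cfsg.Agent.Helper23.MCL
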