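import Mathlib
import Cfsg.Agent.Lib.Helper23.WreathMGrp
import Cfsg.Agent.Lib.Helper18.MGroup
import Cfsg.Agent.Lib.Helper21.HallCount

/-!
# Dade: every finite solvable group embeds in an M-group (helper23's shared library)
-/

set_option autoImplicit false
set_option linter.unusedSectionVars false
set_option linter.style.haveILetI false

namespace Cfsg.Agent.Helper23.MGrp

open Cfsg Cfsg.Agent.Helper24 RegularWreathProduct
open scoped ComplexConjugate

universe u v

section Comm

variable {G : Type u} [Group G] [Fintype G]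

theorem isMGrp_of_comm (hcomm : ∀ a b : G, a * b = b * a) : IsMGrp G := by
  classical
  letI : Fintype (IrrCharacter G) := irrFintype
  intro χ hχ
  have h1 := charDegree_eq_one_of_comm hcomm hχ
  have h2 : χ 1 = 1 := by
    rw [irr_one_eq_charDegree hχ, h1, Nat.cast_one]
  have hχc := isCharacter_of_isIrrCharacter hχ
  refine ⟨⊤, (linHom hχc h2).comp (⊤ : Subgroup G).subtype, ?_⟩
  exact (Cfsg.Agent.Helper18.indFun_top (isClassFunction_of_isIrrCharacter hχ)).symm

end Comm

section Embed

variable {G : Type u} [Group G] (N : Subgroup G) [hN : N.Normal]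

/-- the Kaloujnine–Krasner embedding -/
noncomputable def kkHom : G →* (N ≀ᵣ (G ⧸ N)) :=
  MonoidHom.mk' (fun g =>
    ⟨fun q => ⟨(Quotient.out q : G)⁻¹ * g * (Quotient.out ((g : G ⧸ N)⁻¹ * q) : G), by
      rw [← QuotientGroup.eq_one_iff]
      simp only [QuotientGroup.mk_mul, QuotientGroup.mk_inv]
      have h1 : ((Quotient.out q : G) : G ⧸ N) = q := Quotient.out_eq' q
      have h2 : ((Quotient.out ((g : G ⧸ N)⁻¹ * q) : G) : G ⧸ N) = (g : G ⧸ N)⁻¹ * q :=
        Quotient.out_eq' _
      rw [h1, h2]
      group⟩, (g : G ⧸ N)⟩)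
    (by
      intro a b
      ext q
      · simp only [mul_left, Pi.mul_apply, Subgroup.coe_mul, QuotientGroup.mk_mul, mul_inv_rev]
        group
      · simp)

theorem kkHom_right (g : G) : (kkHom N g).right = (g : G ⧸ N) := rfl

theorem kkHom_left (g : G) (q : G ⧸ N) : ((kkHom N g).left q : G) =
    (Quotient.out q : G)⁻¹ * g * (Quotient.out ((g : G ⧸ N)⁻¹ * q) : G) := rfl

theorem kkHom_injective : Function.Injective (kkHom N) := by
  rw [injective_iff_map_eq_one]
  intro g hg
  have h1 : (g : G ⧸ N) = 1 := by
    rw [← kkHom_right N g, hg]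
    rfl
  have h2 : ((kkHom N g).left 1 : G) = 1 := by
    rw [hg]
    rfl
  rw [kkHom_left, h1, inv_one, one_mul] at h2
  have h3 : g = (Quotient.out (1 : G ⧸ N) : G) * (Quotient.out (1 : G ⧸ N) : G)⁻¹ := by
    have : g = (Quotient.out (1 : G ⧸ N) : G) *
        ((Quotient.out (1 : G ⧸ N) : G)⁻¹ * g * (Quotient.out (1 : G ⧸ N) : G)) *
        (Quotient.out (1 : G ⧸ N) : G)⁻¹ := by group
    rw [this, h2, mul_one]
  rw [h3, mul_inv_cancel]

end Embed

section Functor

variable {D₁ : Type u} {D₂ : Type v} [Group D₁] [Group D₂] {Q : Type*} [Group Q]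

/-- functoriality of the wreath product in the first argument -/
def wreathMap (f : D₁ →* D₂) : (D₁ ≀ᵣ Q) →* (D₂ ≀ᵣ Q) where
  toFun w := ⟨fun q => f (w.left q), w.right⟩
  map_one' := by
    ext q
    · simp
    · rfl
  map_mul' a b := by
    ext q
    · simp
    · rfl

theorem wreathMap_injective {f : D₁ →* D₂} (hf : Function.Injective f) :
    Function.Injective (wreathMap (Q := Q) f) := by
  intro a b hab
  ext q
  · apply hf
    have := congrArg (fun w => w.left q) hab
    exact this
  · exact congrArg (fun w => w.right) hab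

end Functor

section Main

theorem exists_mgrp_embedding (n : ℕ) : ∀ (G : Type u) [Group G] [Finite G],
    Group.IsSolvable G → Nat.card G = n →
    ∃ (M : Type u) (_ : Group M) (_ : Fintype M), IsMGrp M ∧
      ∃ f : G →* M, Function.Injective f := by
  classical
  induction n using Nat.strong_induction_on with
  | _ n ih =>
    intro G _ _ hsolv hn
    by_cases htriv : Subsingleton G
    · letI : Fintype G := Fintype.ofFinite G
      refine ⟨G, inferInstance, inferInstance, isMGrp_of_comm ?_, MonoidHom.id G,
        Function.injective_id⟩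
      intro a b
      rw [Subsingleton.elim a 1, Subsingleton.elim b 1]
    · haveI : Nontrivial G := not_subsingleton_iff_nontrivial.mp htriv
      obtain ⟨N, hNn, hNp⟩ := Cfsg.Agent.Helper21.exists_normal_prime_index G
      haveI := hNn
      have hlt : Nat.card N < n := by
        rw [← hn, ← N.card_mul_index]
        have h1 : 1 < N.index := hNp.one_lt
        have h2 : 0 < Nat.card N := Nat.card_pos
        nlinarith
      obtain ⟨M₀, hM₀g, hM₀f, hM₀, f, hf⟩ := ih (Nat.card N) hlt N inferInstance rfl
      letI := hM₀g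
      letI := hM₀f
      letI : Fintype (G ⧸ N) := Fintype.ofFinite _
      letI : Fintype (M₀ ≀ᵣ (G ⧸ N)) := Fintype.ofFinite _
      have hQ : Nat.card (G ⧸ N) = N.index := rfl
      refine ⟨M₀ ≀ᵣ (G ⧸ N), inferInstance, inferInstance, isMGrp_wreath hM₀ hNp hQ,
        (wreathMap f).comp (kkHom N), ?_⟩
      exact (wreathMap_injective hf).comp (kkHom_injective N)

end Main

end Cfsg.Agent.Helper23.MGrp
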