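import Mathlib
import Cfsg.Agent.Lib.Helper26.MHDefs
import Cfsg.Agent.Lib.Helper25.MHINV1
import Cfsg.Agent.Lib.Helper7.MHINV2

/-!
# S4221 piece PHI (helper23): all involutions have the same number (2 or 3) of fixed points ((I5))
-/

set_option autoImplicit false
set_option linter.unusedSectionVars false

namespace Cfsg.Agent.Helper26.MH

open MulAction Cfsg.Agent.Helper22.SharpFour

namespace PHI

variable {G : Type*} [Group G] {α : Type*} [Fintype α] [DecidableEq α] [MulAction G α]

/-- conjugate elements have the same number of fixed points -/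
theorem card_fixF_conj (g t : G) : (fixF α (g * t * g⁻¹)).card = (fixF α t).card := by
  symm
  apply Finset.card_bij (fun x _ => g • x)
  · intro x hx
    rw [mem_fixF] at hx ⊢
    rw [mul_smul, mul_smul, inv_smul_smul, hx]
  · intro x _ y _ hxy
    exact MulAction.injective g hxy
  · intro y hy
    rw [mem_fixF] at hy
    refine ⟨g⁻¹ • y, ?_, smul_inv_smul g y⟩
    rw [mem_fixF]
    have : g⁻¹ • ((g * t * g⁻¹) • y) = g⁻¹ • y := by rw [hy]
    rw [mul_smul, mul_smul, inv_smul_smul] at this
    exact this

/-- the number of points moved -/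
theorem card_moved (t : G) :
    (Finset.univ.filter (fun x : α => t • x ≠ x)).card = Fintype.card α - (fixF α t).card := by
  have := Finset.card_filter_add_card_filter_not (s := (Finset.univ : Finset α))
    (fun x : α => t • x = x)
  rw [Finset.card_univ] at this
  unfold fixF
  simp only [ne_eq]
  omega

end PHI

variable {G : Type*} [Group G] [Finite G] {α : Type*} [Fintype α] [DecidableEq α] [MulAction G α]

namespace PHI

/-- an involution of a Hall group of degree at least 8 has two distinct 2-cycles -/
theorem exists_two_cycles (h : Hall G α) (h8 : 8 ≤ Fintype.card α) {t : G} (ht : IsInv t) :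
    ∃ x z : α, D4 x (t • x) z (t • z) ∧ TyC t x (t • x) z (t • z) := by
  have h3 := card_fixF_le_three h ht
  have hm := card_moved (α := α) t
  set M := Finset.univ.filter (fun x : α => t • x ≠ x) with hM
  have hM5 : 5 ≤ M.card := by omega
  have htt : ∀ y : α, t • t • y = y := by
    intro y
    rw [← mul_smul, ht.1, one_smul]
  obtain ⟨x, hx⟩ : ∃ x, x ∈ M := by
    apply Finset.card_pos.1
    omega
  have hxm : t • x ≠ x := (Finset.mem_filter.1 hx).2
  -- a moved point outside `{x, t x}`
  have hex : ∃ z ∈ M, z ∉ ({x, t • x} : Finset α) := by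
    by_contra hcon
    push Not at hcon
    have hsub : M ⊆ ({x, t • x} : Finset α) := fun z hz => hcon z hz
    have := Finset.card_le_card hsub
    have h2 : ({x, t • x} : Finset α).card ≤ 2 := Finset.card_le_two
    omega
  obtain ⟨z, hz, hzx⟩ := hex
  have hzm : t • z ≠ z := (Finset.mem_filter.1 hz).2
  simp only [Finset.mem_insert, Finset.mem_singleton, not_or] at hzx
  obtain ⟨hzx1, hzx2⟩ := hzx
  refine ⟨x, z, ⟨fun e => hxm e.symm, fun e => hzx1 e.symm, ?_, fun e => hzx2 e.symm, ?_, fun e => hzm e.symm⟩,
    ⟨rfl, htt x, rfl, htt z⟩⟩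
  · intro e
    apply hzx2
    rw [e, htt]
  · intro e
    apply hzx1
    have := congrArg (fun y => t • y) e
    simp only [htt] at this
    exact this.symm

end PHI

theorem card_fixF_eq (h : Hall G α) (h8 : 8 ≤ Fintype.card α) {t t' : G} (ht : IsInv t) (ht' : IsInv t') :
    (fixF α t).card = (fixF α t').card := by
  obtain ⟨x, z, hd, hC⟩ := PHI.exists_two_cycles h h8 ht
  obtain ⟨x', z', hd', hC'⟩ := PHI.exists_two_cycles h h8 ht'
  obtain ⟨g, -, -, -, -, hg⟩ := exists_conj_tyC h hd hd' ht ht' hC hC'
  rw [← hg, PHI.card_fixF_conj]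

theorem two_le_card_fixF (h : Hall G α) (h8 : 8 ≤ Fintype.card α) {t : G} (ht : IsInv t) :
    2 ≤ (fixF α t).card := by
  -- four distinct points
  have h4 : 4 ≤ Fintype.card α := by omega
  obtain ⟨e⟩ : Nonempty (Fin 4 ↪ α) := by
    apply Function.Embedding.nonempty_of_card_le
    simpa using h4
  have hne : ∀ i j : Fin 4, i ≠ j → e i ≠ e j := fun i j hij he => hij (e.injective he)
  have hd : D4 (e 0) (e 1) (e 2) (e 3) :=
    ⟨hne _ _ (by decide), hne _ _ (by decide), hne _ _ (by decide), hne _ _ (by decide),
      hne _ _ (by decide), hne _ _ (by decide)⟩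
  obtain ⟨a, ha, hA⟩ := exists_tyA h hd
  rw [card_fixF_eq h h8 ht ha]
  have hsub : ({e 2, e 3} : Finset α) ⊆ fixF α a := by
    intro y hy
    simp only [Finset.mem_insert, Finset.mem_singleton] at hy
    rcases hy with rfl | rfl
    · exact mem_fixF.2 hA.2.2.1
    · exact mem_fixF.2 hA.2.2.2
  have h2 : ({e 2, e 3} : Finset α).card = 2 := Finset.card_pair hd.cd
  have := Finset.card_le_card hsub
  omega

end Cfsg.Agent.Helper26.MH
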