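import Mathlib
import Cfsg.Agent.Lib.Helper29.MonoInvDefs

/-!
# Piece MONO-A for helper29 (S2036)
-/

set_option autoImplicit false

namespace Cfsg.Agent.Helper29.MonoInv

variable {n m : ℕ} {α : Type*} {G : Type*} [Group G] [MulAction G α]

theorem inv_one (D : Dat m α) : Inv (n := n) D (1 : Equiv.Perm (Pt n m)) (1 : G) := by
  refine ⟨fun u => rfl, fun u => ?_, fun x y J l hR => ?_⟩
  · rw [one_smul]; rfl
  · show D.R x.val y.val (l + J - l)
    rw [add_sub_cancel_left]
    exact hR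

theorem inv_mul (D : Dat m α) {p q : Equiv.Perm (Pt n m)} {g h : G}
    (hp : Inv D p g) (hq : Inv D q h) : Inv D (p * q) (g * h) := by
  obtain ⟨hp1, hp2, hp3⟩ := hp
  obtain ⟨hq1, hq2, hq3⟩ := hq
  refine ⟨fun u => ?_, fun u => ?_, fun x y J l hR => ?_⟩
  · show p (q (shift n m u)) = shift n m (p (q u))
    rw [hq1, hp1]
  · show D.ι (p (q u)).1.val = (g * h) • D.ι u.1.val
    rw [hp2, hq2, mul_smul]
  · show D.R (p (q (x, l))).1.val (p (q (y, l + J))).1.val
      ((p (q (y, l + J))).2 - (p (q (x, l))).2)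
    have h1 := hq3 x y J l hR
    have h2 := hp3 (q (x, l)).1 (q (y, l + J)).1 ((q (y, l + J)).2 - (q (x, l)).2)
      (q (x, l)).2 h1
    have e : (q (x, l)).2 + ((q (y, l + J)).2 - (q (x, l)).2) = (q (y, l + J)).2 := by ring
    rw [e] at h2
    exact h2

theorem inv_pow (D : Dat m α) {p : Equiv.Perm (Pt n m)} {g : G} (hp : Inv D p g) (k : ℕ) :
    Inv D (p ^ k) (g ^ k) := by
  induction k with
  | zero => rw [pow_zero, pow_zero]; exact inv_one D
  | succ k ih => rw [pow_succ, pow_succ]; exact inv_mul D ih hp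

/-- the pairs satisfying the invariants form a subgroup (inverses by finiteness) -/
def invSub (n : ℕ) (D : Dat m α) [NeZero m] [Finite G] : Subgroup (Equiv.Perm (Pt n m) × G) where
  carrier := {γ | Inv D γ.1 γ.2}
  one_mem' := inv_one D
  mul_mem' := fun {a b} ha hb => inv_mul D ha hb
  inv_mem' := by
    intro γ hγ
    have hfin : Finite (Equiv.Perm (Pt n m) × G) := inferInstance
    have h1 : γ⁻¹ ∈ Submonoid.powers γ :=
      mem_powers_iff_mem_zpowers.2 (Subgroup.inv_mem _ (Subgroup.mem_zpowers γ))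
    obtain ⟨k, hk⟩ := h1
    have hk' : γ ^ k = γ⁻¹ := hk
    show Inv D (γ⁻¹).1 (γ⁻¹).2
    rw [← hk', Prod.pow_fst, Prod.pow_snd]
    exact inv_pow D hγ k

theorem mem_invSub (D : Dat m α) [NeZero m] [Finite G] (γ : Equiv.Perm (Pt n m) × G) :
    γ ∈ invSub n D ↔ Inv D γ.1 γ.2 := Iff.rfl

theorem comm_shift_of_inv (D : Dat m α) {p : Equiv.Perm (Pt n m)} {g : G} (h : Inv D p g) :
    p * shift n m = shift n m * p := by
  ext u : 1
  exact h.1 u

/-- a permutation satisfying the invariants with trivial second component shifts all labels by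
a constant, if the relation is functional and contains a spanning tree -/
theorem scalar_of_inv [NeZero m] (D : Dat m α)
    (hι : ∀ x < n, ∀ y < n, D.ι x = D.ι y → x = y)
    (hR : ∀ x y J J', D.R x y J → D.R x y J' → J = J')
    (par : ℕ → ℕ)
    (hpar : ∀ y < n, y ≠ 0 → par y < y ∧ ((∃ J, D.R (par y) y J) ∨ (∃ J, D.R y (par y) J)))
    (p : Equiv.Perm (Pt n m)) (h : Inv D p (1 : G)) :
    ∃ c : ZMod m, ∀ u, p u = (u.1, u.2 + c) := by
  obtain ⟨h1, h2, h3⟩ := h
  -- the first component is fixed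
  have hfst : ∀ u, (p u).1 = u.1 := by
    intro u
    apply Fin.ext
    apply hι _ (p u).1.2 _ u.1.2
    rw [h2 u, one_smul]
  -- the shift
  have hsh : ∀ (y : Fin n) (l : ZMod m), p (y, l + 1) = ((p (y, l)).1, (p (y, l)).2 + 1) :=
    fun y l => h1 (y, l)
  have hnat : ∀ (y : Fin n) (k : ℕ), p (y, (k : ZMod m)) = (y, (k : ZMod m) + (p (y, 0)).2) := by
    intro y k
    induction k with
    | zero =>
      apply Prod.ext
      · exact hfst (y, _)
      · simp
    | succ k ih =>
      rw [Nat.cast_succ, hsh, ih]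
      apply Prod.ext
      · rfl
      · show (k : ZMod m) + (p (y, 0)).2 + 1 = (k : ZMod m) + 1 + (p (y, 0)).2
        ring
  have hall : ∀ (y : Fin n) (l : ZMod m), p (y, l) = (y, l + (p (y, 0)).2) := by
    intro y l
    have := hnat y l.val
    rwa [ZMod.natCast_zmod_val] at this
  -- edges
  have hedge : ∀ (x y : Fin n) (J : ZMod m), D.R x.val y.val J → (p (x, 0)).2 = (p (y, 0)).2 := by
    intro x y J hJ
    have h4 := h3 x y J 0 hJ
    rw [hall y (0 + J), hall x 0] at h4
    have h5 := hR _ _ _ _ hJ h4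
    have h6 : (p (y, 0)).2 - (p (x, 0)).2 = 0 := by
      have e : (y, 0 + J + (p (y, 0)).2).2 - (x, 0 + (p (x, 0)).2).2 =
          J + ((p (y, 0)).2 - (p (x, 0)).2) := by
        show 0 + J + (p (y, 0)).2 - (0 + (p (x, 0)).2) = _
        ring
      rw [e] at h5
      exact left_eq_add.1 h5
    exact (sub_eq_zero.1 h6).symm
  -- the labels
  rcases Nat.eq_zero_or_pos n with hn | hn
  · subst hn
    exact ⟨0, fun u => u.1.elim0⟩
  set d : ℕ → ZMod m := fun y => if hy : y < n then (p (⟨y, hy⟩, 0)).2 else 0 with hd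
  have hd' : ∀ (y : ℕ) (hy : y < n), d y = (p (⟨y, hy⟩, 0)).2 := by
    intro y hy
    rw [hd]
    simp only [hy, dif_pos]
  have hconst : ∀ y, y < n → d y = d 0 := by
    intro y
    induction y using Nat.strong_induction_on with
    | _ y ih =>
      intro hy
      rcases Nat.eq_zero_or_pos y with h0 | h0
      · rw [h0]
      obtain ⟨hlt, hed⟩ := hpar y hy h0.ne'
      have hpy : par y < n := lt_trans hlt hy
      rw [← ih (par y) hlt hpy, hd' y hy, hd' (par y) hpy]
      rcases hed with ⟨J, hJ⟩ | ⟨J, hJ⟩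
      · exact (hedge ⟨par y, hpy⟩ ⟨y, hy⟩ J hJ).symm
      · exact hedge ⟨y, hy⟩ ⟨par y, hpy⟩ J hJ
  refine ⟨d 0, fun u => ?_⟩
  obtain ⟨y, l⟩ := u
  rw [hall y l, ← hconst y.val y.2, hd' y.val y.2]

end Cfsg.Agent.Helper29.MonoInv
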