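import Mathlib
import Cfsg.Agent.Lib.Helper29.MonoInvDefs

/-!
# Piece MONO-B for helper29 (S2036)
-/

set_option autoImplicit false

namespace Cfsg.Agent.Helper29.MonoInv

variable {n m : ℕ} {α : Type*} {G : Type*} [Group G] [MulAction G α]

theorem mkPerm_apply [NeZero n] (P f Pi : ℕ → ℕ)
    (h : ∀ y < n, P y < n ∧ Pi y < n ∧ Pi (P y) = y ∧ P (Pi y) = y) (u : Pt n m) :
    ((mkPerm n m P f Pi h u).1.val = P u.1.val) ∧
      (mkPerm n m P f Pi h u).2 = u.2 + (f u.1.val : ZMod m) := by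
  refine ⟨?_, rfl⟩
  show P u.1.val % n = P u.1.val
  exact Nat.mod_eq_of_lt (h u.1.val u.1.2).1

theorem mkPerm_symm_apply [NeZero n] (P f Pi : ℕ → ℕ)
    (h : ∀ y < n, P y < n ∧ Pi y < n ∧ Pi (P y) = y ∧ P (Pi y) = y) (u : Pt n m) :
    (((mkPerm n m P f Pi h)⁻¹ u).1.val = Pi u.1.val) ∧
      ((mkPerm n m P f Pi h)⁻¹ u).2 = u.2 - (f (Pi u.1.val) : ZMod m) := by
  refine ⟨?_, rfl⟩
  show Pi u.1.val % n = Pi u.1.val
  exact Nat.mod_eq_of_lt (h u.1.val u.1.2).2.1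

theorem inv_mkPerm [NeZero n] (D : Dat m α) (P f Pi : ℕ → ℕ)
    (h : ∀ y < n, P y < n ∧ Pi y < n ∧ Pi (P y) = y ∧ P (Pi y) = y) (g : G)
    (h2 : ∀ y < n, D.ι (P y) = g • D.ι y)
    (h3 : ∀ x < n, ∀ y < n, ∀ J : ZMod m, D.R x y J →
      D.R (P x) (P y) (J + (f y : ZMod m) - (f x : ZMod m))) :
    Inv D (mkPerm n m P f Pi h) g := by
  refine ⟨fun u => ?_, fun u => ?_, fun x y J l hR => ?_⟩
  · apply Prod.ext
    · rfl
    · show u.2 + 1 + (f u.1.val : ZMod m) = u.2 + (f u.1.val : ZMod m) + 1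
      ring
  · rw [(mkPerm_apply P f Pi h u).1]
    exact h2 u.1.val u.1.2
  · rw [(mkPerm_apply P f Pi h (x, l)).1, (mkPerm_apply P f Pi h (y, l + J)).1,
      (mkPerm_apply P f Pi h (x, l)).2, (mkPerm_apply P f Pi h (y, l + J)).2]
    have := h3 x.val x.2 y.val y.2 J hR
    have e : (y, l + J).2 + ((f (y, l + J).1.val : ℕ) : ZMod m) -
        ((x, l).2 + ((f (x, l).1.val : ℕ) : ZMod m)) =
          J + (f y.val : ZMod m) - (f x.val : ZMod m) := by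
      show l + J + (f y.val : ZMod m) - (l + (f x.val : ZMod m)) = _
      ring
    rw [e]
    exact this

end Cfsg.Agent.Helper29.MonoInv
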