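import Mathlib
import Cfsg.Agent.Lib.Helper23.KerSq

set_option autoImplicit false
set_option linter.style.haveILetI false

/-!
# Characters whose kernel is generated by elements inverted inside the kernel

`Good χ` : the values of `χ` square to one, the kernel of `χ` is generated by elements that are
conjugate to their inverse under the kernel, and every value of `χ` is taken at an involution (or
the identity) whose centralizer takes all values.  This is closed under direct products and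
wreath products by a group of order two (with trivial value on the swap), and implies that the
kernel has elementary abelian abelianization.
-/

namespace Cfsg.Agent.Helper23.SqComm

universe u v

open scoped commutatorElement

section

variable {A : Type v} [CommGroup A]

/-- the elements of the kernel which are inverted by an element of the kernel -/
def RealSet {R : Type u} [Group R] (χ : R →* A) : Set R :=
  {g | g ∈ χ.ker ∧ ∃ h ∈ χ.ker, h * g * h⁻¹ = g⁻¹}

theorem realSet_subset_ker {R : Type u} [Group R] (χ : R →* A) :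
    RealSet χ ⊆ (χ.ker : Set R) := fun _ hg => hg.1

theorem mem_realSet_of_mul_self {R : Type u} [Group R] (χ : R →* A) {g : R} (hg : g ∈ χ.ker)
    (h2 : g * g = 1) : g ∈ RealSet χ := by
  refine ⟨hg, 1, Subgroup.one_mem _, ?_⟩
  rw [one_mul, inv_one, mul_one]
  exact (inv_eq_of_mul_eq_one_right h2).symm

/-- the main structure -/
structure Good {R : Type u} [Group R] (χ : R →* A) : Prop where
  sqv : ∀ r, χ r * χ r = 1
  gen : Subgroup.closure (RealSet χ) = χ.ker
  inv : ∀ r₀ : R, ∃ r : R, r * r = 1 ∧ χ r = χ r₀ ∧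
    ∀ r₁ : R, ∃ h : R, h * r = r * h ∧ χ h = χ r₁

theorem sqInComm_ker_of_gen {R : Type u} [Group R] (χ : R →* A)
    (hgen : Subgroup.closure (RealSet χ) = χ.ker) : SqInComm χ.ker := by
  apply sqInComm_subgroup_of_closure χ.ker (RealSet χ) hgen
  rintro g ⟨hg, h, hh, hinv⟩
  have e : g ^ 2 = ⁅h, g⁻¹⁆ := by
    rw [commutatorElement_def, inv_inv]
    have : h * g⁻¹ * h⁻¹ = g := by
      have h1 : h * g⁻¹ * h⁻¹ = (h * g * h⁻¹)⁻¹ := by group
      rw [h1, hinv, inv_inv]
    rw [this, pow_two]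
  rw [e]
  exact Subgroup.commutator_mem_commutator hh (Subgroup.inv_mem _ hg)

theorem Good.sqInComm {R : Type u} [Group R] {χ : R →* A} (h : Good χ) : SqInComm χ.ker :=
  sqInComm_ker_of_gen χ h.gen

/-- a criterion for a subgroup of a product to contain the kernel of a coproduct character -/
theorem ker_coprod_le {R S : Type u} [Group R] [Group S] (χ₁ : R →* A) (χ₂ : S →* A)
    (H : Subgroup (R × S)) (h₁ : ∀ k ∈ χ₁.ker, ((k, 1) : R × S) ∈ H)
    (h₂ : ∀ k ∈ χ₂.ker, ((1, k) : R × S) ∈ H)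
    (hc : ∀ x ∈ (χ₁.coprod χ₂).ker, ∃ p ∈ H, p ∈ (χ₁.coprod χ₂).ker ∧ χ₁ p.1 = χ₁ x.1) :
    (χ₁.coprod χ₂).ker ≤ H := by
  intro x hx
  obtain ⟨p, hpH, hpk, hp1⟩ := hc x hx
  have hx' : χ₁ x.1 * χ₂ x.2 = 1 := by
    rw [MonoidHom.mem_ker, MonoidHom.coprod_apply] at hx; exact hx
  have hp' : χ₁ p.1 * χ₂ p.2 = 1 := by
    rw [MonoidHom.mem_ker, MonoidHom.coprod_apply] at hpk; exact hpk
  have hp2 : χ₂ p.2 = χ₂ x.2 := by
    rw [hp1] at hp'
    have : χ₁ x.1 * χ₂ p.2 = χ₁ x.1 * χ₂ x.2 := by rw [hp', hx']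
    exact mul_left_cancel this
  have e : x = p * (p.1⁻¹ * x.1, 1) * (1, p.2⁻¹ * x.2) := by
    ext <;> simp
  rw [e]
  apply Subgroup.mul_mem
  · apply Subgroup.mul_mem _ hpH
    apply h₁
    rw [MonoidHom.mem_ker, map_mul, map_inv, hp1, inv_mul_cancel]
  · apply h₂
    rw [MonoidHom.mem_ker, map_mul, map_inv, hp2, inv_mul_cancel]

theorem inl_mem_realSet_coprod {R S : Type u} [Group R] [Group S] (χ₁ : R →* A) (χ₂ : S →* A)
    {g : R} (hg : g ∈ RealSet χ₁) : ((g, 1) : R × S) ∈ RealSet (χ₁.coprod χ₂) := by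
  obtain ⟨hgk, h, hh, hinv⟩ := hg
  rw [MonoidHom.mem_ker] at hgk hh
  refine ⟨?_, (h, 1), ?_, ?_⟩
  · rw [MonoidHom.mem_ker, MonoidHom.coprod_apply]
    show χ₁ g * χ₂ 1 = 1
    rw [hgk, map_one, mul_one]
  · rw [MonoidHom.mem_ker, MonoidHom.coprod_apply]
    show χ₁ h * χ₂ 1 = 1
    rw [hh, map_one, mul_one]
  · ext
    · exact hinv
    · simp

theorem inr_mem_realSet_coprod {R S : Type u} [Group R] [Group S] (χ₁ : R →* A) (χ₂ : S →* A)
    {g : S} (hg : g ∈ RealSet χ₂) : ((1, g) : R × S) ∈ RealSet (χ₁.coprod χ₂) := by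
  obtain ⟨hgk, h, hh, hinv⟩ := hg
  rw [MonoidHom.mem_ker] at hgk hh
  refine ⟨?_, (1, h), ?_, ?_⟩
  · rw [MonoidHom.mem_ker, MonoidHom.coprod_apply]
    show χ₁ 1 * χ₂ g = 1
    rw [hgk, map_one, mul_one]
  · rw [MonoidHom.mem_ker, MonoidHom.coprod_apply]
    show χ₁ 1 * χ₂ h = 1
    rw [hh, map_one, mul_one]
  · ext
    · simp
    · exact hinv

theorem inl_ker_le_closure {R S : Type u} [Group R] [Group S] (χ₁ : R →* A) (χ₂ : S →* A)
    (hgen : Subgroup.closure (RealSet χ₁) = χ₁.ker) :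
    ∀ k ∈ χ₁.ker, ((k, 1) : R × S) ∈ Subgroup.closure (RealSet (χ₁.coprod χ₂)) := by
  intro k hk
  rw [← hgen] at hk
  have h1 : (Subgroup.closure (RealSet χ₁)).map (MonoidHom.inl R S) ≤
      Subgroup.closure (RealSet (χ₁.coprod χ₂)) := by
    rw [MonoidHom.map_closure, Subgroup.closure_le]
    rintro _ ⟨g, hg, rfl⟩
    exact Subgroup.subset_closure (inl_mem_realSet_coprod χ₁ χ₂ hg)
  exact h1 ⟨k, hk, rfl⟩

theorem inr_ker_le_closure {R S : Type u} [Group R] [Group S] (χ₁ : R →* A) (χ₂ : S →* A)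
    (hgen : Subgroup.closure (RealSet χ₂) = χ₂.ker) :
    ∀ k ∈ χ₂.ker, ((1, k) : R × S) ∈ Subgroup.closure (RealSet (χ₁.coprod χ₂)) := by
  intro k hk
  rw [← hgen] at hk
  have h1 : (Subgroup.closure (RealSet χ₂)).map (MonoidHom.inr R S) ≤
      Subgroup.closure (RealSet (χ₁.coprod χ₂)) := by
    rw [MonoidHom.map_closure, Subgroup.closure_le]
    rintro _ ⟨g, hg, rfl⟩
    exact Subgroup.subset_closure (inr_mem_realSet_coprod χ₁ χ₂ hg)
  exact h1 ⟨k, hk, rfl⟩

theorem closure_realSet_eq_of_le {R : Type u} [Group R] (χ : R →* A)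
    (h : χ.ker ≤ Subgroup.closure (RealSet χ)) : Subgroup.closure (RealSet χ) = χ.ker :=
  le_antisymm ((Subgroup.closure_le _).2 (realSet_subset_ker χ)) h

theorem inv_eq_self_of_sq {a : A} (h : a * a = 1) : a⁻¹ = a :=
  inv_eq_of_mul_eq_one_right h

/-- `Good` is closed under direct products -/
theorem Good.prod {R S : Type u} [Group R] [Group S] {χ₁ : R →* A} {χ₂ : S →* A}
    (h₁ : Good χ₁) (h₂ : Good χ₂) : Good (χ₁.coprod χ₂) := by
  refine ⟨?_, ?_, ?_⟩
  · intro r
    rw [MonoidHom.coprod_apply]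
    have e : χ₁ r.1 * χ₂ r.2 * (χ₁ r.1 * χ₂ r.2) = (χ₁ r.1 * χ₁ r.1) * (χ₂ r.2 * χ₂ r.2) := by
      rw [mul_mul_mul_comm]
    rw [e, h₁.sqv, h₂.sqv, one_mul]
  · apply closure_realSet_eq_of_le
    apply ker_coprod_le χ₁ χ₂ _ (inl_ker_le_closure χ₁ χ₂ h₁.gen) (inr_ker_le_closure χ₁ χ₂ h₂.gen)
    intro x hx
    have hx' : χ₁ x.1 * χ₂ x.2 = 1 := by
      rw [MonoidHom.mem_ker, MonoidHom.coprod_apply] at hx; exact hx
    obtain ⟨a, ha2, haχ, -⟩ := h₁.inv x.1
    obtain ⟨b, hb2, hbχ, -⟩ := h₂.inv x.2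
    have hk : ((a, b) : R × S) ∈ (χ₁.coprod χ₂).ker := by
      rw [MonoidHom.mem_ker, MonoidHom.coprod_apply]
      show χ₁ a * χ₂ b = 1
      rw [haχ, hbχ, hx']
    refine ⟨(a, b), ?_, hk, haχ⟩
    apply Subgroup.subset_closure
    apply mem_realSet_of_mul_self _ hk
    ext
    · exact ha2
    · exact hb2
  · intro r₀
    obtain ⟨a, ha2, haχ, hac⟩ := h₁.inv r₀.1
    obtain ⟨b, hb2, hbχ, hbc⟩ := h₂.inv r₀.2
    refine ⟨(a, b), ?_, ?_, ?_⟩
    · ext
      · exact ha2
      · exact hb2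
    · rw [MonoidHom.coprod_apply, MonoidHom.coprod_apply]
      show χ₁ a * χ₂ b = _
      rw [haχ, hbχ]
    · intro r₁
      obtain ⟨ha', hac', haχ'⟩ := hac r₁.1
      obtain ⟨hb', hbc', hbχ'⟩ := hbc r₁.2
      refine ⟨(ha', hb'), ?_, ?_⟩
      · ext
        · exact hac'
        · exact hbc'
      · rw [MonoidHom.coprod_apply, MonoidHom.coprod_apply]
        show χ₁ ha' * χ₂ hb' = _
        rw [haχ', hbχ']

/-- `Good` on the left factor, all elements real on the right factor -/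
theorem Good.prod_real {R L : Type u} [Group R] [Group L] {χ₁ : R →* A} {χ₂ : L →* A}
    (h₁ : Good χ₁) (hreal : ∀ l : L, ∃ h : L, h * l * h⁻¹ = l⁻¹)
    (hsq : ∀ l, χ₂ l * χ₂ l = 1) (hsub : ∀ l : L, ∃ r : R, χ₁ r = χ₂ l) :
    Good (χ₁.coprod χ₂) := by
  refine ⟨?_, ?_, ?_⟩
  · intro r
    rw [MonoidHom.coprod_apply]
    have e : χ₁ r.1 * χ₂ r.2 * (χ₁ r.1 * χ₂ r.2) = (χ₁ r.1 * χ₁ r.1) * (χ₂ r.2 * χ₂ r.2) := by
      rw [mul_mul_mul_comm]
    rw [e, h₁.sqv, hsq, one_mul]
  · apply closure_realSet_eq_of_le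
    apply ker_coprod_le χ₁ χ₂ _ (inl_ker_le_closure χ₁ χ₂ h₁.gen)
    · -- the kernel of the right factor
      intro k hk
      apply Subgroup.subset_closure
      obtain ⟨h, hh⟩ := hreal k
      obtain ⟨r, hr⟩ := hsub h
      rw [MonoidHom.mem_ker] at hk
      refine ⟨?_, (r, h), ?_, ?_⟩
      · rw [MonoidHom.mem_ker, MonoidHom.coprod_apply]
        show χ₁ 1 * χ₂ k = 1
        rw [hk, map_one, mul_one]
      · rw [MonoidHom.mem_ker, MonoidHom.coprod_apply]
        show χ₁ r * χ₂ h = 1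
        rw [hr, hsq]
      · ext
        · simp
        · exact hh
    · intro x hx
      have hx' : χ₁ x.1 * χ₂ x.2 = 1 := by
        rw [MonoidHom.mem_ker, MonoidHom.coprod_apply] at hx; exact hx
      obtain ⟨a, ha2, haχ, hac⟩ := h₁.inv x.1
      obtain ⟨h, hh⟩ := hreal x.2
      obtain ⟨r, hr⟩ := hsub h
      obtain ⟨c, hca, hcχ⟩ := hac r
      have hk : ((a, x.2) : R × L) ∈ (χ₁.coprod χ₂).ker := by
        rw [MonoidHom.mem_ker, MonoidHom.coprod_apply]
        show χ₁ a * χ₂ x.2 = 1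
        rw [haχ, hx']
      refine ⟨(a, x.2), ?_, hk, haχ⟩
      apply Subgroup.subset_closure
      refine ⟨hk, (c, h), ?_, ?_⟩
      · rw [MonoidHom.mem_ker, MonoidHom.coprod_apply]
        show χ₁ c * χ₂ h = 1
        rw [hcχ, hr, hsq]
      · ext
        · show c * a * c⁻¹ = a⁻¹
          rw [hca, mul_assoc, mul_inv_cancel, mul_one]
          exact (inv_eq_of_mul_eq_one_right ha2).symm
        · exact hh
  · intro r₀
    obtain ⟨r, hr⟩ := hsub r₀.2
    obtain ⟨a, ha2, haχ, hac⟩ := h₁.inv (r₀.1 * r)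
    refine ⟨(a, 1), ?_, ?_, ?_⟩
    · ext
      · exact ha2
      · simp
    · rw [MonoidHom.coprod_apply, MonoidHom.coprod_apply]
      show χ₁ a * χ₂ 1 = _
      rw [haχ, map_one, mul_one, map_mul, hr]
    · intro r₁
      obtain ⟨r', hr'⟩ := hsub r₁.2
      obtain ⟨c, hca, hcχ⟩ := hac r₁.1
      refine ⟨(c, r₁.2), ?_, ?_⟩
      · ext
        · exact hca
        · simp
      · rw [MonoidHom.coprod_apply, MonoidHom.coprod_apply]
        show χ₁ c * χ₂ r₁.2 = _
        rw [hcχ]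

theorem wr2Char_one_apply {R : Type u} [Group R] (χ : R →* A) (x : Wr2 R) :
    wr2Char χ 1 (one_mul 1) x = χ x.left.1 * χ x.left.2 := by
  conv_lhs => rw [← SemidirectProduct.inl_left_mul_inr_right x]
  rw [map_mul, wr2Char_inl]
  rcases Int.units_eq_one_or x.right with hr | hr
  · rw [hr, map_one, map_one, mul_one]
  · rw [hr, wr2Char_inr_neg, mul_one]

/-- from the product `R × R` to the wreath product -/
theorem Good.wr2_of_prod {R : Type u} [Group R] {χ : R →* A} (h : Good (χ.coprod χ)) :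
    Good (wr2Char χ 1 (one_mul 1)) := by
  have hval : ∀ x : Wr2 R, wr2Char χ 1 (one_mul 1) x = (χ.coprod χ) x.left := by
    intro x
    rw [wr2Char_one_apply, MonoidHom.coprod_apply]
  have hinl : ∀ n : R × R, wr2Char χ 1 (one_mul 1) (SemidirectProduct.inl n) = (χ.coprod χ) n := by
    intro n
    rw [hval]
    rfl
  refine ⟨?_, ?_, ?_⟩
  · intro r
    rw [hval]
    exact h.sqv _
  · apply closure_realSet_eq_of_le
    have h1 : (Subgroup.closure (RealSet (χ.coprod χ))).map
        (SemidirectProduct.inl : R × R →* Wr2 R) ≤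
        Subgroup.closure (RealSet (wr2Char χ 1 (one_mul 1))) := by
      rw [MonoidHom.map_closure, Subgroup.closure_le]
      rintro _ ⟨g, ⟨hgk, k, hk, hinv⟩, rfl⟩
      apply Subgroup.subset_closure
      refine ⟨?_, SemidirectProduct.inl k, ?_, ?_⟩
      · rw [MonoidHom.mem_ker, hinl]
        exact hgk
      · rw [MonoidHom.mem_ker, hinl]
        exact hk
      · rw [← map_inv, ← map_mul, ← map_mul, hinv, map_inv]
    have hσ : (SemidirectProduct.inr (-1 : ℤˣ) : Wr2 R) ∈
        Subgroup.closure (RealSet (wr2Char χ 1 (one_mul 1))) := by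
      apply Subgroup.subset_closure
      apply mem_realSet_of_mul_self
      · rw [MonoidHom.mem_ker, wr2Char_inr_neg]
      · rw [← map_mul]
        have : (-1 : ℤˣ) * -1 = 1 := by decide
        rw [this, map_one]
    intro x hx
    have hxl : x.left ∈ (χ.coprod χ).ker := by
      rw [MonoidHom.mem_ker, hval] at hx
      exact hx
    have hl : (SemidirectProduct.inl x.left : Wr2 R) ∈
        Subgroup.closure (RealSet (wr2Char χ 1 (one_mul 1))) := by
      apply h1
      rw [h.gen]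
      exact ⟨x.left, hxl, rfl⟩
    rw [← SemidirectProduct.inl_left_mul_inr_right x]
    apply Subgroup.mul_mem _ hl
    rcases Int.units_eq_one_or x.right with hr | hr
    · rw [hr, map_one]
      exact Subgroup.one_mem _
    · rw [hr]
      exact hσ
  · intro r₀
    obtain ⟨n, hn2, hnχ, hnc⟩ := h.inv r₀.left
    refine ⟨SemidirectProduct.inl n, ?_, ?_, ?_⟩
    · rw [← map_mul, hn2, map_one]
    · rw [hinl, hnχ, hval]
    · intro r₁
      obtain ⟨k, hkc, hkχ⟩ := hnc r₁.left
      refine ⟨SemidirectProduct.inl k, ?_, ?_⟩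
      · rw [← map_mul, ← map_mul, hkc]
      · rw [hinl, hkχ, hval]

theorem Good.wr2' {R : Type u} [Group R] {χ : R →* A} (h : Good χ) :
    Good (wr2Char χ 1 (one_mul 1)) :=
  (h.prod h).wr2_of_prod

/-- the base case: all elements real, two involutions whose values generate all values -/
theorem good_of_twoInv {R : Type u} [Group R] (χ : R →* A)
    (hreal : ∀ d : R, ∃ h : R, h * d * h⁻¹ = d⁻¹) (hsq : ∀ r, χ r * χ r = 1)
    (τ τ' : R) (hτ : τ * τ = 1) (hτ' : τ' * τ' = 1)
    (hvals : ∀ r, χ r = 1 ∨ χ r = χ τ ∨ χ r = χ τ' ∨ χ r = χ τ * χ τ') :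
    Good (χ.coprod χ) := by
  refine ⟨?_, ?_, ?_⟩
  · intro r
    rw [MonoidHom.coprod_apply]
    have e : χ r.1 * χ r.2 * (χ r.1 * χ r.2) = (χ r.1 * χ r.1) * (χ r.2 * χ r.2) := by
      rw [mul_mul_mul_comm]
    rw [e, hsq, hsq, one_mul]
  · apply closure_realSet_eq_of_le
    apply ker_coprod_le χ χ
    · intro k hk
      apply Subgroup.subset_closure
      obtain ⟨h, hh⟩ := hreal k
      rw [MonoidHom.mem_ker] at hk
      refine ⟨?_, (h, h), ?_, ?_⟩
      · rw [MonoidHom.mem_ker, MonoidHom.coprod_apply]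
        show χ k * χ 1 = 1
        rw [hk, map_one, mul_one]
      · rw [MonoidHom.mem_ker, MonoidHom.coprod_apply]
        exact hsq h
      · ext
        · exact hh
        · simp
    · intro k hk
      apply Subgroup.subset_closure
      obtain ⟨h, hh⟩ := hreal k
      rw [MonoidHom.mem_ker] at hk
      refine ⟨?_, (h, h), ?_, ?_⟩
      · rw [MonoidHom.mem_ker, MonoidHom.coprod_apply]
        show χ 1 * χ k = 1
        rw [hk, map_one, mul_one]
      · rw [MonoidHom.mem_ker, MonoidHom.coprod_apply]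
        exact hsq h
      · ext
        · simp
        · exact hh
    · intro x hx
      obtain ⟨h, hh⟩ := hreal x.1
      have hk : ((x.1, x.1) : R × R) ∈ (χ.coprod χ).ker := by
        rw [MonoidHom.mem_ker, MonoidHom.coprod_apply]
        exact hsq x.1
      refine ⟨(x.1, x.1), ?_, hk, rfl⟩
      apply Subgroup.subset_closure
      refine ⟨hk, (h, h), ?_, ?_⟩
      · rw [MonoidHom.mem_ker, MonoidHom.coprod_apply]
        exact hsq h
      · ext
        · exact hh
        · exact hh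
  · -- values
    have hy : ∀ r₁ : R × R, ∃ y : R, χ y = (χ.coprod χ) r₁ := by
      intro r₁
      refine ⟨r₁.1 * r₁.2, ?_⟩
      rw [map_mul, MonoidHom.coprod_apply]
    have hy' : ∀ r₁ : R × R, ∃ y : R, (y = 1 ∨ y = τ ∨ y = τ' ∨ y = τ * τ') ∧
        χ y = (χ.coprod χ) r₁ := by
      intro r₁
      obtain ⟨y, hy⟩ := hy r₁
      rcases hvals y with h | h | h | h
      · exact ⟨1, Or.inl rfl, by rw [map_one, ← hy, h]⟩
      · exact ⟨τ, Or.inr (Or.inl rfl), by rw [← hy, h]⟩
      · exact ⟨τ', Or.inr (Or.inr (Or.inl rfl)), by rw [← hy, h]⟩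
      · exact ⟨τ * τ', Or.inr (Or.inr (Or.inr rfl)), by rw [← hy, h, map_mul]⟩
    intro r₀
    obtain ⟨y₀, hy₀, hy₀χ⟩ := hy' r₀
    rcases hy₀ with rfl | rfl | rfl | rfl
    · refine ⟨1, one_mul 1, ?_, ?_⟩
      · rw [map_one, ← hy₀χ, map_one]
      · intro r₁
        exact ⟨r₁, by rw [mul_one, one_mul], rfl⟩
    · refine ⟨(y₀, 1), ?_, ?_, ?_⟩
      · ext
        · exact hτ
        · simp
      · rw [← hy₀χ, MonoidHom.coprod_apply]
        show χ y₀ * χ 1 = _
        rw [map_one, mul_one]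
      · intro r₁
        obtain ⟨y, -, hyχ⟩ := hy' r₁
        refine ⟨(1, y), ?_, ?_⟩
        · ext <;> simp
        · rw [← hyχ, MonoidHom.coprod_apply]
          show χ 1 * χ y = _
          rw [map_one, one_mul]
    · refine ⟨(y₀, 1), ?_, ?_, ?_⟩
      · ext
        · exact hτ'
        · simp
      · rw [← hy₀χ, MonoidHom.coprod_apply]
        show χ y₀ * χ 1 = _
        rw [map_one, mul_one]
      · intro r₁
        obtain ⟨y, -, hyχ⟩ := hy' r₁
        refine ⟨(1, y), ?_, ?_⟩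
        · ext <;> simp
        · rw [← hyχ, MonoidHom.coprod_apply]
          show χ 1 * χ y = _
          rw [map_one, one_mul]
    · refine ⟨(τ, τ'), ?_, ?_, ?_⟩
      · ext
        · exact hτ
        · exact hτ'
      · rw [← hy₀χ, MonoidHom.coprod_apply, map_mul]
      · intro r₁
        obtain ⟨y, hy1, hyχ⟩ := hy' r₁
        rcases hy1 with rfl | rfl | rfl | rfl
        · refine ⟨1, by rw [mul_one, one_mul], ?_⟩
          rw [← hyχ, map_one, map_one]
        · refine ⟨(y, 1), ?_, ?_⟩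
          · ext <;> simp
          · rw [← hyχ, MonoidHom.coprod_apply]
            show χ y * χ 1 = _
            rw [map_one, mul_one]
        · refine ⟨(1, y), ?_, ?_⟩
          · ext <;> simp
          · rw [← hyχ, MonoidHom.coprod_apply]
            show χ 1 * χ y = _
            rw [map_one, one_mul]
        · refine ⟨(τ, τ'), rfl, ?_⟩
          rw [← hyχ, MonoidHom.coprod_apply, map_mul]

end

end Cfsg.Agent.Helper23.SqComm
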