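import Mathlib
import Cfsg.Agent.Lib.Helper17.OrthSum
import Cfsg.Agent.Lib.Helper17.SpinorHyp

set_option autoImplicit false
set_option linter.style.haveILetI false
set_option linter.unusedSectionVars false

/-!
# The determinant–spinor norm homomorphism on orthogonal groups (odd characteristic)

`theta Q h2 hQ : O(Q) →* Fˣ × Fˣ/(Fˣ)²`, with kernel the commutator subgroup `Ω(Q)`.
-/

namespace Cfsg.Agent.Helper23.Orth

open Cfsg QuadraticMap Cfsg.Agent.Helper17.Spinor

universe u

section sq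

variable (F : Type u) [Field F]

/-- the subgroup of squares of `Fˣ` -/
def Sq : Subgroup Fˣ := (powMonoidHom 2 : Fˣ →* Fˣ).range

/-- the target of `theta` -/
def AA : Type u := Fˣ × (Fˣ ⧸ Sq F)

instance : CommGroup (AA F) := inferInstanceAs (CommGroup (Fˣ × (Fˣ ⧸ Sq F)))

variable {F}

/-- constructor -/
def AA.mk (a : Fˣ) (b : Fˣ ⧸ Sq F) : AA F := (a, b)

/-- first component -/
def AA.fst (x : AA F) : Fˣ := Prod.fst x

/-- second component -/
def AA.snd (x : AA F) : Fˣ ⧸ Sq F := Prod.snd x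

@[simp] theorem AA.fst_mk (a : Fˣ) (b : Fˣ ⧸ Sq F) : (AA.mk a b).fst = a := rfl

@[simp] theorem AA.snd_mk (a : Fˣ) (b : Fˣ ⧸ Sq F) : (AA.mk a b).snd = b := rfl

theorem AA.ext {x y : AA F} (h₁ : x.fst = y.fst) (h₂ : x.snd = y.snd) : x = y :=
  Prod.ext h₁ h₂

theorem AA.mk_mul_mk (a c : Fˣ) (b d : Fˣ ⧸ Sq F) :
    AA.mk a b * AA.mk c d = AA.mk (a * c) (b * d) := rfl

@[simp] theorem AA.fst_mul (x y : AA F) : (x * y).fst = x.fst * y.fst := rfl

@[simp] theorem AA.snd_mul (x y : AA F) : (x * y).snd = x.snd * y.snd := rfl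

@[simp] theorem AA.fst_one : (1 : AA F).fst = 1 := rfl

@[simp] theorem AA.snd_one : (1 : AA F).snd = 1 := rfl

theorem AA.mk_one_one : AA.mk (1 : Fˣ) (1 : Fˣ ⧸ Sq F) = 1 := rfl

/-- the class modulo squares -/
def sqClass : Fˣ →* Fˣ ⧸ Sq F := QuotientGroup.mk' (Sq F)

theorem sqClass_eq_one_iff (x : Fˣ) : sqClass x = 1 ↔ IsSquare ((x : Fˣ) : F) := by
  unfold sqClass
  rw [QuotientGroup.mk'_apply, QuotientGroup.eq_one_iff]
  constructor
  · rintro ⟨y, hy⟩
    refine ⟨((y : Fˣ) : F), ?_⟩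
    rw [← hy]
    simp [pow_two]
  · rintro ⟨s, hs⟩
    have hs0 : s ≠ 0 := by
      intro h
      rw [h, mul_zero] at hs
      exact x.ne_zero hs
    refine ⟨Units.mk0 s hs0, ?_⟩
    apply Units.ext
    simp [pow_two, hs]

theorem sqClass_mul_self (a : Fˣ ⧸ Sq F) : a * a = 1 := by
  obtain ⟨x, rfl⟩ := QuotientGroup.mk'_surjective (Sq F) a
  show sqClass x * sqClass x = 1
  rw [← map_mul, sqClass_eq_one_iff]
  exact ⟨((x : Fˣ) : F), by simp⟩

theorem sqClass_eq_iff (x y : Fˣ) :
    sqClass x = sqClass y ↔ IsSquare (((x : Fˣ) : F) * ((y : Fˣ) : F)) := by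
  have h1 : sqClass x = sqClass y ↔ sqClass (x * y) = 1 := by
    rw [map_mul]
    constructor
    · intro h
      rw [h, sqClass_mul_self]
    · intro h
      rw [mul_eq_one_iff_eq_inv.1 h]
      exact inv_eq_of_mul_eq_one_right (sqClass_mul_self _)
  rw [h1, sqClass_eq_one_iff, Units.val_mul]

/-- a nonzero element as a unit (junk value `1` at `0`) -/
noncomputable def unitOf (x : F) : Fˣ := by
  classical
  exact if h : x ≠ 0 then Units.mk0 x h else 1

theorem unitOf_val {x : F} (h : x ≠ 0) : ((unitOf x : Fˣ) : F) = x := by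
  unfold unitOf
  rw [dif_pos h]
  rfl

end sq

section theta

variable {F : Type u} [Field F] {ι : Type} [Fintype ι] [DecidableEq ι]
  (Q : QuadraticForm F (ι → F))

/-- the product of the norms of a list of vectors, as a unit -/
noncomputable def normU (vs : List (ι → F)) : Fˣ := (vs.map (fun v => unitOf (Q v))).prod

theorem normU_nil : normU Q [] = 1 := rfl

theorem normU_cons (v : ι → F) (vs : List (ι → F)) :
    normU Q (v :: vs) = unitOf (Q v) * normU Q vs := by
  unfold normU
  rw [List.map_cons, List.prod_cons]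

theorem normU_append (vs us : List (ι → F)) : normU Q (vs ++ us) = normU Q vs * normU Q us := by
  unfold normU
  rw [List.map_append, List.prod_append]

theorem normU_reverse (vs : List (ι → F)) : normU Q vs.reverse = normU Q vs := by
  unfold normU
  rw [List.map_reverse, List.prod_reverse]

theorem normU_val (vs : List (ι → F)) (hvs : ∀ v ∈ vs, Q v ≠ 0) :
    ((normU Q vs : Fˣ) : F) = (vs.map Q).prod := by
  induction vs with
  | nil => simp [normU]
  | cons v vs ih =>
    rw [normU_cons, Units.val_mul, ih (fun u hu => hvs u (List.mem_cons_of_mem _ hu)),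
      unitOf_val (hvs v List.mem_cons_self), List.map_cons, List.prod_cons]

variable [Fintype F] (h2 : (2 : F) ≠ 0) (hQ : (polarBilin Q).Nondegenerate)

/-- a chosen decomposition into reflections -/
noncomputable def dec (g : ↥(Cfsg.isometryGroup F (⇑Q))) : List (ι → F) :=
  Classical.choose (exists_prod_rG Q h2 hQ g)

theorem dec_ne (g : ↥(Cfsg.isometryGroup F (⇑Q))) : ∀ v ∈ dec Q h2 hQ g, Q v ≠ 0 :=
  (Classical.choose_spec (exists_prod_rG Q h2 hQ g)).1

theorem dec_prod (g : ↥(Cfsg.isometryGroup F (⇑Q))) :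
    g = ((dec Q h2 hQ g).map (rG Q h2)).prod :=
  (Classical.choose_spec (exists_prod_rG Q h2 hQ g)).2

/-- the spinor norm -/
noncomputable def snFun (g : ↥(Cfsg.isometryGroup F (⇑Q))) : Fˣ ⧸ Sq F :=
  sqClass (normU Q (dec Q h2 hQ g))

include hQ in
theorem sqClass_normU_eq (vs us : List (ι → F)) (hvs : ∀ v ∈ vs, Q v ≠ 0)
    (hus : ∀ u ∈ us, Q u ≠ 0)
    (h : (vs.map (rG Q h2)).prod = (us.map (rG Q h2)).prod) :
    sqClass (normU Q vs) = sqClass (normU Q us) := by
  have hne : (-1 : F) ≠ 1 := neg_one_ne_one_of_two_ne_zero h2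
  have hend : (vs.map (refl Q)).prod = (us.map (refl Q)).prod := by
    rw [← toEnd_prod_rG Q h2 vs hvs, ← toEnd_prod_rG Q h2 us hus, h]
  have hpar : Even (vs.length + us.length) := by
    have h1 := congrArg LinearMap.det hend
    rw [det_prod_refl Q vs hvs, det_prod_refl Q us hus] at h1
    rw [← neg_one_pow_eq_one_iff_even hne, pow_add, h1, ← pow_add, ← two_mul, pow_mul]
    simp
  have hid : ((vs ++ us.reverse).map (refl Q)).prod = 1 := by
    rw [List.map_append, List.prod_append, hend]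
    exact prod_refl_mul_prod_reverse Q h2 us hus
  have hall : ∀ v ∈ vs ++ us.reverse, Q v ≠ 0 := by
    intro v hv
    rcases List.mem_append.1 hv with h | h
    · exact hvs v h
    · exact hus v (List.mem_reverse.1 h)
  have hsq := isSquare_of_prod_reflections_eq_id Q h2 hQ (vs ++ us.reverse) hall (by
    rw [List.length_append, List.length_reverse]; exact hpar) hid
  rw [sqClass_eq_iff, normU_val Q vs hvs, normU_val Q us hus]
  rw [List.map_append, List.prod_append, List.map_reverse, List.prod_reverse] at hsq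
  exact hsq

theorem snFun_eq (g : ↥(Cfsg.isometryGroup F (⇑Q))) (vs : List (ι → F))
    (hvs : ∀ v ∈ vs, Q v ≠ 0) (hg : g = (vs.map (rG Q h2)).prod) :
    snFun Q h2 hQ g = sqClass (normU Q vs) := by
  unfold snFun
  apply sqClass_normU_eq Q h2 hQ _ _ (dec_ne Q h2 hQ g) hvs
  rw [← dec_prod Q h2 hQ g, hg]

/-- the determinant and the spinor norm -/
noncomputable def theta : ↥(Cfsg.isometryGroup F (⇑Q)) →* AA F where
  toFun g := AA.mk (Matrix.GeneralLinearGroup.det (g : Matrix.GeneralLinearGroup ι F))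
    (snFun Q h2 hQ g)
  map_one' := by
    apply AA.ext
    · simp
    · show snFun Q h2 hQ 1 = 1
      rw [snFun_eq Q h2 hQ 1 [] (by simp) (by simp), normU_nil, map_one]
  map_mul' a b := by
    apply AA.ext
    · simp
    · show snFun Q h2 hQ (a * b) = snFun Q h2 hQ a * snFun Q h2 hQ b
      have ha := dec_prod Q h2 hQ a
      have hb := dec_prod Q h2 hQ b
      have hab : a * b = ((dec Q h2 hQ a ++ dec Q h2 hQ b).map (rG Q h2)).prod := by
        rw [List.map_append, List.prod_append, ← ha, ← hb]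
      rw [snFun_eq Q h2 hQ (a * b) _ (by
        intro v hv
        rcases List.mem_append.1 hv with h | h
        · exact dec_ne Q h2 hQ a v h
        · exact dec_ne Q h2 hQ b v h) hab, normU_append, map_mul]
      rfl

theorem theta_fst (g : ↥(Cfsg.isometryGroup F (⇑Q))) :
    (theta Q h2 hQ g).fst =
      Matrix.GeneralLinearGroup.det (g : Matrix.GeneralLinearGroup ι F) := rfl

theorem theta_snd (g : ↥(Cfsg.isometryGroup F (⇑Q))) :
    (theta Q h2 hQ g).snd = snFun Q h2 hQ g := rfl

theorem theta_prod_rG (vs : List (ι → F)) (hvs : ∀ v ∈ vs, Q v ≠ 0) :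
    theta Q h2 hQ (vs.map (rG Q h2)).prod =
      AA.mk ((-1) ^ vs.length) (sqClass (normU Q vs)) := by
  apply AA.ext
  · rw [theta_fst, AA.fst_mk]
    apply Units.ext
    rw [Matrix.GeneralLinearGroup.val_det_apply, det_coe_prod_rG Q h2 vs hvs]
    simp
  · rw [theta_snd, AA.snd_mk]
    exact snFun_eq Q h2 hQ _ vs hvs rfl

theorem theta_rG {v : ι → F} (hv : Q v ≠ 0) :
    theta Q h2 hQ (rG Q h2 v) = AA.mk (-1) (sqClass (unitOf (Q v))) := by
  have := theta_prod_rG Q h2 hQ [v] (by simpa using hv)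
  simpa [normU] using this

theorem theta_mul_self (g : ↥(Cfsg.isometryGroup F (⇑Q))) :
    theta Q h2 hQ g * theta Q h2 hQ g = 1 := by
  have hg := dec_prod Q h2 hQ g
  rw [hg, theta_prod_rG Q h2 hQ _ (dec_ne Q h2 hQ g), AA.mk_mul_mk, ← AA.mk_one_one]
  congr 1
  · rw [← pow_add, ← two_mul, pow_mul]
    simp
  · exact sqClass_mul_self _

theorem mem_Omega_iff_theta (g : ↥(Cfsg.isometryGroup F (⇑Q))) :
    g ∈ Cfsg.Omega F (⇑Q) ↔ theta Q h2 hQ g = 1 := by
  have hg := dec_prod Q h2 hQ g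
  have hne := dec_ne Q h2 hQ g
  have hneg : (-1 : F) ≠ 1 := neg_one_ne_one_of_two_ne_zero h2
  rw [hg, prod_rG_mem_Omega_iff Q h2 hQ _ hne, theta_prod_rG Q h2 hQ _ hne]
  have hiff : ∀ (a : Fˣ) (b : Fˣ ⧸ Sq F), AA.mk a b = 1 ↔ (a = 1 ∧ b = 1) := by
    intro a b
    constructor
    · intro h
      exact ⟨congrArg AA.fst h, congrArg AA.snd h⟩
    · rintro ⟨rfl, rfl⟩
      rfl
  rw [hiff, sqClass_eq_one_iff, normU_val Q _ hne]
  have e : ((-1 : Fˣ) ^ (dec Q h2 hQ g).length = 1) ↔ Even (dec Q h2 hQ g).length := by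
    rw [← neg_one_pow_eq_one_iff_even hneg]
    constructor
    · intro h
      have := congrArg Units.val h
      simpa using this
    · intro h
      apply Units.ext
      simpa using h
  rw [e]

theorem ker_theta : (theta Q h2 hQ).ker = Cfsg.Omega F (⇑Q) := by
  ext g
  rw [MonoidHom.mem_ker, mem_Omega_iff_theta Q h2 hQ]

end theta

end Cfsg.Agent.Helper23.Orth
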