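import Mathlib
import Cfsg.Agent.Lib.Helper23.SpinorHom
import Cfsg.Agent.Lib.Helper23.SpShape

set_option autoImplicit false
set_option linter.style.haveILetI false
set_option linter.unusedSectionVars false

/-!
# `theta` on block diagonal isometries of an orthogonal sum
-/

namespace Cfsg.Agent.Helper23.Orth

open Cfsg QuadraticMap Matrix Cfsg.Agent.Helper17.Spinor Cfsg.Agent.Helper23.SpShape

universe u

variable {F : Type u} [Field F] {ι κ : Type} [Fintype ι] [DecidableEq ι] [Fintype κ]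
  [DecidableEq κ] (Q₁ : QuadraticForm F (ι → F)) (Q₂ : QuadraticForm F (κ → F))

theorem refl_sumForm_inr (v : κ → F) (x : ι ⊕ κ → F) :
    refl (sumForm Q₁ Q₂) (Sum.elim 0 v) x = Sum.elim (x ∘ Sum.inl) (refl Q₂ v (x ∘ Sum.inr)) := by
  rw [refl_apply, refl_apply, sumForm_zero_elim, polar_sumForm, Sum.elim_comp_inl,
    Sum.elim_comp_inr]
  have hz : polar Q₁ 0 (x ∘ Sum.inl) = 0 := by
    simp
  rw [hz, zero_add]
  funext i
  rcases i with i | i
  · simp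
  · simp

theorem reflectionMatrix_sumForm_inr (v : κ → F) :
    Cfsg.reflectionMatrix (⇑(sumForm Q₁ Q₂)) (Sum.elim 0 v)
      = Matrix.fromBlocks 1 0 0 (Cfsg.reflectionMatrix (⇑Q₂) v) := by
  apply Matrix.toLin'.injective
  apply LinearMap.ext
  intro x
  rw [Matrix.toLin'_apply, Matrix.toLin'_apply, reflectionMatrix_mulVec, refl_sumForm_inr,
    Matrix.fromBlocks_mulVec, reflectionMatrix_mulVec]
  simp

theorem prod_reflectionMatrix_sumForm_inr (vs : List (κ → F)) :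
    ((vs.map (fun v => (Sum.elim 0 v : ι ⊕ κ → F))).map
        (fun w => Cfsg.reflectionMatrix (⇑(sumForm Q₁ Q₂)) w)).prod
      = Matrix.fromBlocks 1 0 0 (vs.map (fun v => Cfsg.reflectionMatrix (⇑Q₂) v)).prod := by
  induction vs with
  | nil => simp [Matrix.fromBlocks_one]
  | cons v vs ih =>
    rw [List.map_cons, List.map_cons, List.prod_cons, ih, List.map_cons, List.prod_cons,
      reflectionMatrix_sumForm_inr, Matrix.fromBlocks_multiply]
    simp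

/-- block diagonal isometries -/
noncomputable def blockO : ↥(Cfsg.isometryGroup F (⇑Q₁)) × ↥(Cfsg.isometryGroup F (⇑Q₂)) →*
    ↥(Cfsg.isometryGroup F (⇑(sumForm Q₁ Q₂))) :=
  MonoidHom.codRestrict ((blockGL ι κ).comp
    ((Cfsg.isometryGroup F (⇑Q₁)).subtype.prodMap (Cfsg.isometryGroup F (⇑Q₂)).subtype))
    (Cfsg.isometryGroup F (⇑(sumForm Q₁ Q₂))) (by
      intro p u _
      show sumForm Q₁ Q₂ ((Matrix.fromBlocks
        ((p.1 : Matrix.GeneralLinearGroup ι F) : Matrix ι ι F) 0 0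
        ((p.2 : Matrix.GeneralLinearGroup κ F) : Matrix κ κ F)).mulVec u) = sumForm Q₁ Q₂ u
      rw [Matrix.fromBlocks_mulVec, sumForm_elim, Matrix.zero_mulVec, Matrix.zero_mulVec,
        add_zero, zero_add, mulVec_isometry, mulVec_isometry, sumForm_apply])

theorem blockO_coe (p : ↥(Cfsg.isometryGroup F (⇑Q₁)) × ↥(Cfsg.isometryGroup F (⇑Q₂))) :
    (((blockO Q₁ Q₂ p : ↥(Cfsg.isometryGroup F (⇑(sumForm Q₁ Q₂)))) :
      Matrix.GeneralLinearGroup (ι ⊕ κ) F) : Matrix (ι ⊕ κ) (ι ⊕ κ) F) =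
      Matrix.fromBlocks ((p.1 : Matrix.GeneralLinearGroup ι F) : Matrix ι ι F) 0 0
        ((p.2 : Matrix.GeneralLinearGroup κ F) : Matrix κ κ F) := rfl

theorem blockO_injective : Function.Injective (blockO Q₁ Q₂) := by
  intro p q hpq
  have h1 := congrArg (fun x : ↥(Cfsg.isometryGroup F (⇑(sumForm Q₁ Q₂))) =>
    ((x : Matrix.GeneralLinearGroup (ι ⊕ κ) F) : Matrix (ι ⊕ κ) (ι ⊕ κ) F)) hpq
  simp only [blockO_coe, Matrix.fromBlocks_inj] at h1
  exact Prod.ext (Subtype.ext (Units.ext h1.1)) (Subtype.ext (Units.ext h1.2.2.2))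

variable [Fintype F] (h2 : (2 : F) ≠ 0) (h₁ : (polarBilin Q₁).Nondegenerate)
  (h₂ : (polarBilin Q₂).Nondegenerate)

theorem theta_blockO_inl (g : ↥(Cfsg.isometryGroup F (⇑Q₁))) :
    theta (sumForm Q₁ Q₂) h2 (nondegenerate_sumForm Q₁ Q₂ h₁ h₂) (blockO Q₁ Q₂ (g, 1)) =
      theta Q₁ h2 h₁ g := by
  obtain ⟨vs, hvs, rfl⟩ := exists_prod_rG Q₁ h2 h₁ g
  have hws : ∀ w ∈ vs.map (fun v => (Sum.elim v 0 : ι ⊕ κ → F)), sumForm Q₁ Q₂ w ≠ 0 := by
    intro w hw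
    rw [List.mem_map] at hw
    obtain ⟨v, hv, rfl⟩ := hw
    rw [sumForm_elim_zero]
    exact hvs v hv
  have e : blockO Q₁ Q₂ ((vs.map (rG Q₁ h2)).prod, 1) =
      ((vs.map (fun v => (Sum.elim v 0 : ι ⊕ κ → F))).map (rG (sumForm Q₁ Q₂) h2)).prod := by
    apply eq_of_coe_eq
    rw [blockO_coe, coe_prod_rG _ h2 _ hws, prod_reflectionMatrix_sumForm_inl,
      coe_prod_rG Q₁ h2 vs hvs]
    rfl
  rw [e, theta_prod_rG _ h2 _ _ hws, theta_prod_rG Q₁ h2 h₁ vs hvs, List.length_map]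
  congr 2
  unfold normU
  rw [List.map_map]
  congr 1
  apply List.map_congr_left
  intro v _
  show unitOf (sumForm Q₁ Q₂ (Sum.elim v 0)) = _
  rw [sumForm_elim_zero]

theorem theta_blockO_inr (g : ↥(Cfsg.isometryGroup F (⇑Q₂))) :
    theta (sumForm Q₁ Q₂) h2 (nondegenerate_sumForm Q₁ Q₂ h₁ h₂) (blockO Q₁ Q₂ (1, g)) =
      theta Q₂ h2 h₂ g := by
  obtain ⟨vs, hvs, rfl⟩ := exists_prod_rG Q₂ h2 h₂ g
  have hws : ∀ w ∈ vs.map (fun v => (Sum.elim 0 v : ι ⊕ κ → F)), sumForm Q₁ Q₂ w ≠ 0 := by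
    intro w hw
    rw [List.mem_map] at hw
    obtain ⟨v, hv, rfl⟩ := hw
    rw [sumForm_zero_elim]
    exact hvs v hv
  have e : blockO Q₁ Q₂ (1, (vs.map (rG Q₂ h2)).prod) =
      ((vs.map (fun v => (Sum.elim 0 v : ι ⊕ κ → F))).map (rG (sumForm Q₁ Q₂) h2)).prod := by
    apply eq_of_coe_eq
    rw [blockO_coe, coe_prod_rG _ h2 _ hws, prod_reflectionMatrix_sumForm_inr,
      coe_prod_rG Q₂ h2 vs hvs]
    rfl
  rw [e, theta_prod_rG _ h2 _ _ hws, theta_prod_rG Q₂ h2 h₂ vs hvs, List.length_map]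
  congr 2
  unfold normU
  rw [List.map_map]
  congr 1
  apply List.map_congr_left
  intro v _
  show unitOf (sumForm Q₁ Q₂ (Sum.elim 0 v)) = _
  rw [sumForm_zero_elim]

theorem theta_blockO (p : ↥(Cfsg.isometryGroup F (⇑Q₁)) × ↥(Cfsg.isometryGroup F (⇑Q₂))) :
    theta (sumForm Q₁ Q₂) h2 (nondegenerate_sumForm Q₁ Q₂ h₁ h₂) (blockO Q₁ Q₂ p) =
      theta Q₁ h2 h₁ p.1 * theta Q₂ h2 h₂ p.2 := by
  have e : blockO Q₁ Q₂ p = blockO Q₁ Q₂ (p.1, 1) * blockO Q₁ Q₂ (1, p.2) := by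
    rw [← map_mul]
    congr 1
    ext <;> simp
  rw [e, map_mul, theta_blockO_inl Q₁ Q₂ h2 h₁ h₂, theta_blockO_inr Q₁ Q₂ h2 h₁ h₂]

end Cfsg.Agent.Helper23.Orth
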