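import Mathlib
import Cfsg.Agent.Lib.Helper23.SpinorBlock
import Cfsg.Agent.Lib.Helper17.SpinorDisc

set_option autoImplicit false
set_option linter.style.haveILetI false
set_option linter.unusedSectionVars false

/-!
# Weighted sums of squares; the block swap lies in `Ω`
-/

namespace Cfsg.Agent.Helper23.Orth

open Cfsg QuadraticMap Matrix Cfsg.Agent.Helper17.Spinor Cfsg.Agent.Helper23.SpShape

universe u

variable {F : Type u} [Field F] {ι κ : Type} [Fintype ι] [DecidableEq ι] [Fintype κ]
  [DecidableEq κ]

/-- the diagonal quadratic form `Σ w_i x_i²` -/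
noncomputable def wForm (w : ι → F) : QuadraticForm F (ι → F) :=
  QuadraticMap.weightedSumSquares F w

theorem wForm_apply (w : ι → F) (v : ι → F) : wForm w v = ∑ i, w i * (v i * v i) := by
  unfold wForm
  rw [weightedSumSquares_apply]
  rfl

theorem polar_wForm (w : ι → F) (x y : ι → F) :
    polar (wForm w) x y = ∑ i, 2 * w i * x i * y i := by
  unfold polar
  rw [wForm_apply, wForm_apply, wForm_apply, ← Finset.sum_sub_distrib, ← Finset.sum_sub_distrib]
  apply Finset.sum_congr rfl
  intro i _
  simp only [Pi.add_apply]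
  ring

theorem polar_wForm_single (w : ι → F) (x : ι → F) (i : ι) (c : F) :
    polar (wForm w) x (Pi.single i c) = 2 * w i * x i * c := by
  rw [polar_wForm, Finset.sum_eq_single i]
  · rw [Pi.single_eq_same]
  · intro j _ hj
    rw [Pi.single_eq_of_ne hj, mul_zero]
  · intro h
    exact absurd (Finset.mem_univ i) h

theorem wForm_single (w : ι → F) (i : ι) (c : F) : wForm w (Pi.single i c) = w i * (c * c) := by
  rw [wForm_apply, Finset.sum_eq_single i]
  · rw [Pi.single_eq_same]
  · intro j _ hj
    rw [Pi.single_eq_of_ne hj, mul_zero, mul_zero]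
  · intro h
    exact absurd (Finset.mem_univ i) h

theorem nondeg_wForm (h2 : (2 : F) ≠ 0) (w : ι → F) (hw : ∀ i, w i ≠ 0) :
    (polarBilin (wForm w)).Nondegenerate := by
  have hleft : ∀ x, (∀ y, polarBilin (wForm w) x y = 0) → x = 0 := by
    intro x hx
    funext i
    have := hx (Pi.single i 1)
    rw [polarBilin_apply_apply, polar_wForm_single, mul_one] at this
    rcases mul_eq_zero.1 this with h | h
    · rcases mul_eq_zero.1 h with h' | h'
      · exact absurd h' h2
      · exact absurd h' (hw i)
    · exact h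
  constructor
  · exact hleft
  · intro x hx
    apply hleft
    intro y
    have := hx y
    rw [polarBilin_apply_apply] at this ⊢
    rw [polar_comm]
    exact this

theorem sumForm_wForm (w₁ : ι → F) (w₂ : κ → F) :
    sumForm (wForm w₁) (wForm w₂) = wForm (Sum.elim w₁ w₂) := by
  ext v
  rw [sumForm_apply, wForm_apply, wForm_apply, wForm_apply, Fintype.sum_sum_type]
  rfl

section swap

variable (w : ι → F)

/-- the difference vectors -/
def dvec (i : ι) : ι ⊕ ι → F := Sum.elim (Pi.single i 1) (-Pi.single i 1)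

/-- the sum vectors -/
def svec (i : ι) : ι ⊕ ι → F := Sum.elim (Pi.single i 1) (Pi.single i 1)

theorem sumForm_dvec (i : ι) : sumForm (wForm w) (wForm w) (dvec i) = 2 * w i := by
  unfold dvec
  rw [sumForm_elim, QuadraticMap.map_neg, wForm_single]
  ring

theorem polar_dvec_dvec (i j : ι) (hij : i ≠ j) :
    polar (sumForm (wForm w) (wForm w)) (dvec i) (dvec j) = 0 := by
  unfold dvec
  rw [polar_sumForm, Sum.elim_comp_inl, Sum.elim_comp_inl, Sum.elim_comp_inr, Sum.elim_comp_inr,
    polar_neg_left, polar_neg_right, polar_wForm_single, Pi.single_eq_of_ne hij.symm]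
  ring

theorem polar_dvec_svec (i j : ι) :
    polar (sumForm (wForm w) (wForm w)) (dvec i) (svec j) = 0 := by
  unfold dvec svec
  rw [polar_sumForm, Sum.elim_comp_inl, Sum.elim_comp_inl, Sum.elim_comp_inr, Sum.elim_comp_inr,
    polar_neg_left]
  ring

theorem single_inl_eq (h2 : (2 : F) ≠ 0) (i : ι) :
    (Pi.single (Sum.inl i) 1 : ι ⊕ ι → F) = (2 : F)⁻¹ • (svec i + dvec i) := by
  funext a
  rcases a with a | a
  · by_cases ha : a = i
    · subst ha
      simp [svec, dvec]
      field_simp
      norm_num
    · simp [svec, dvec, ha]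
  · simp [svec, dvec]

theorem single_inr_eq (h2 : (2 : F) ≠ 0) (i : ι) :
    (Pi.single (Sum.inr i) 1 : ι ⊕ ι → F) = (2 : F)⁻¹ • (svec i - dvec i) := by
  funext a
  rcases a with a | a
  · simp [svec, dvec]
  · by_cases ha : a = i
    · subst ha
      simp [svec, dvec]
      field_simp
      norm_num
    · simp [svec, dvec, ha]

variable [Fintype F] (h2 : (2 : F) ≠ 0) (hw : ∀ i, w i ≠ 0)

/-- **the block swap has trivial `theta`** when the dimension is even and the discriminant a
square -/
theorem theta_swap (heven : Even (Fintype.card ι)) (hsq : IsSquare (∏ i, w i)) :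
    theta (sumForm (wForm w) (wForm w)) h2
      (nondegenerate_sumForm _ _ (nondeg_wForm h2 w hw) (nondeg_wForm h2 w hw))
      (swapG (wForm w) 1) = 1 := by
  classical
  obtain ⟨k, hk⟩ : ∃ k, k = Fintype.card ι := ⟨_, rfl⟩
  have e : Fin k ≃ ι := by
    rw [hk]
    exact (Fintype.equivFin ι).symm
  obtain ⟨c, hc⟩ : ∃ c : Fin k → ι ⊕ ι → F, c = fun j => dvec (e j) := ⟨_, rfl⟩
  have horth : ∀ i j, i ≠ j → polar (sumForm (wForm w) (wForm w)) (c i) (c j) = 0 := by
    intro i j hij
    rw [hc]
    exact polar_dvec_dvec w _ _ (fun h => hij (e.injective h))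
  have hne : ∀ i, sumForm (wForm w) (wForm w) (c i) ≠ 0 := by
    intro i
    rw [hc]
    show sumForm (wForm w) (wForm w) (dvec (e i)) ≠ 0
    rw [sumForm_dvec]
    exact mul_ne_zero h2 (hw _)
  have hL : ∀ v ∈ List.ofFn c, sumForm (wForm w) (wForm w) v ≠ 0 := by
    intro v hv
    rw [List.mem_ofFn] at hv
    obtain ⟨i, rfl⟩ := hv
    exact hne i
  have hd : ∀ i : ι, ((List.ofFn c).map (refl (sumForm (wForm w) (wForm w)))).prod (dvec i) =
      -dvec i := by
    intro i
    have := prod_refl_ofFn_apply (sumForm (wForm w) (wForm w)) h2 k c horth hne (e.symm i)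
    rw [hc] at this
    simp only [Equiv.apply_symm_apply] at this
    rw [hc]
    exact this
  have hs : ∀ i : ι, ((List.ofFn c).map (refl (sumForm (wForm w) (wForm w)))).prod (svec i) =
      svec i := by
    intro i
    apply prod_refl_apply_of_polar_eq_zero
    intro v hv
    rw [List.mem_ofFn] at hv
    obtain ⟨j, rfl⟩ := hv
    rw [hc]
    exact polar_dvec_svec w _ _
  have hend : toEnd (sumForm (wForm w) (wForm w)) (swapG (wForm w) 1) =
      ((List.ofFn c).map (refl (sumForm (wForm w) (wForm w)))).prod := by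
    apply (Pi.basisFun F (ι ⊕ ι)).ext
    intro a
    rw [Pi.basisFun_apply, toEnd_apply (sumForm (wForm w) (wForm w)), swapG_coe (wForm w)]
    rcases a with i | i
    · rw [single_inl_eq h2 i, map_smul, map_add, hd, hs, ← single_inl_eq h2 i]
      have : (svec i : ι ⊕ ι → F) + -dvec i = svec i - dvec i := by abel
      rw [this, ← single_inr_eq h2 i]
      funext b
      rcases b with b | b
      · simp [Matrix.mulVec_single]
      · simp [Matrix.mulVec_single, Pi.single_apply, Matrix.one_apply]
    · rw [single_inr_eq h2 i, map_smul, map_sub, hd, hs, ← single_inr_eq h2 i]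
      have : (svec i : ι ⊕ ι → F) - -dvec i = svec i + dvec i := by abel
      rw [this, ← single_inl_eq h2 i]
      funext b
      rcases b with b | b
      · simp [Matrix.mulVec_single, Pi.single_apply, Matrix.one_apply]
      · simp [Matrix.mulVec_single]
  have hprod : swapG (wForm w) 1 =
      ((List.ofFn c).map (rG (sumForm (wForm w) (wForm w)) h2)).prod := by
    apply toEnd_injective
    rw [hend, toEnd_prod_rG _ h2 _ hL]
  rw [hprod, theta_prod_rG _ h2 _ _ hL, List.length_ofFn]
  have hkeven : Even k := by rw [hk]; exact heven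
  rw [← AA.mk_one_one]
  congr 1
  · exact hkeven.neg_one_pow
  · rw [sqClass_eq_one_iff, normU_val _ _ hL, List.map_ofFn, List.prod_ofFn]
    have e1 : ∀ j : Fin k, ((sumForm (wForm w) (wForm w)) ∘ c) j = 2 * w (e j) := by
      intro j
      rw [hc]
      exact sumForm_dvec w _
    rw [Finset.prod_congr rfl (fun j _ => e1 j), Finset.prod_mul_distrib, Finset.prod_const,
      Finset.card_univ, Fintype.card_fin, Equiv.prod_comp e w]
    obtain ⟨l, hl⟩ := hkeven
    obtain ⟨s, hs'⟩ := hsq
    refine ⟨2 ^ l * s, ?_⟩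
    rw [hl, hs', pow_add]
    ring

end swap

end Cfsg.Agent.Helper23.Orth
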