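import Mathlib
import Cfsg.Agent.Lib.Helper23.SpinorSwap
import Cfsg.Agent.Lib.Helper23.RealGen

set_option autoImplicit false
set_option linter.style.haveILetI false
set_option linter.unusedSectionVars false

/-!
# Embeddings into orthogonal groups with prescribed `theta`
-/

namespace Cfsg.Agent.Helper23.Orth

open Cfsg QuadraticMap Matrix Cfsg.Agent.Helper17.Spinor Cfsg.Agent.Helper23.SpShape
  Cfsg.Agent.Helper23.SqComm

universe u

variable {F : Type u} [Field F] [Fintype F] (h2 : (2 : F) ≠ 0)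

/-- `R` embeds in the isometry group of `Q` with `theta` given by `χ` -/
def EmbQ (R : Type u) [Group R] (χ : R →* AA F) {I : Type} [Fintype I] [DecidableEq I]
    (Q : QuadraticForm F (I → F)) : Prop :=
  ∃ (hQ : (polarBilin Q).Nondegenerate) (f : R →* ↥(Cfsg.isometryGroup F (⇑Q))),
    Function.Injective f ∧ ∀ r, theta Q h2 hQ (f r) = χ r

theorem EmbQ.prod {R S : Type u} [Group R] [Group S] {χ₁ : R →* AA F} {χ₂ : S →* AA F}
    {I₁ I₂ : Type} [Fintype I₁] [DecidableEq I₁] [Fintype I₂] [DecidableEq I₂]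
    {Q₁ : QuadraticForm F (I₁ → F)} {Q₂ : QuadraticForm F (I₂ → F)}
    (e₁ : EmbQ h2 R χ₁ Q₁) (e₂ : EmbQ h2 S χ₂ Q₂) :
    EmbQ h2 (R × S) (χ₁.coprod χ₂) (sumForm Q₁ Q₂) := by
  obtain ⟨h₁, f₁, hf₁, hθ₁⟩ := e₁
  obtain ⟨h₂, f₂, hf₂, hθ₂⟩ := e₂
  refine ⟨nondegenerate_sumForm Q₁ Q₂ h₁ h₂, (blockO Q₁ Q₂).comp (f₁.prodMap f₂), ?_, ?_⟩
  · exact (blockO_injective Q₁ Q₂).comp (Prod.map_injective.2 ⟨hf₁, hf₂⟩)
  · intro r
    rw [MonoidHom.comp_apply, theta_blockO Q₁ Q₂ h2 h₁ h₂, MonoidHom.coprod_apply]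
    show theta Q₁ h2 h₁ (f₁ r.1) * theta Q₂ h2 h₂ (f₂ r.2) = _
    rw [hθ₁, hθ₂]

theorem swapG_mul_self {I : Type} [Fintype I] [DecidableEq I] (Q : QuadraticForm F (I → F)) :
    swapG Q 1 * swapG Q 1 = 1 := by
  apply eq_of_coe_eq
  rw [swapG_mul_self_coe]
  simp [Matrix.fromBlocks_one]

theorem swapG_conj {I : Type} [Fintype I] [DecidableEq I] (Q : QuadraticForm F (I → F))
    (a b : ↥(Cfsg.isometryGroup F (⇑Q))) :
    blockO Q Q (b, a) = swapG Q 1 * blockO Q Q (a, b) * (swapG Q 1)⁻¹ := by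
  have hinv : (swapG Q 1)⁻¹ = swapG Q 1 := inv_eq_of_mul_eq_one_right (swapG_mul_self Q)
  rw [hinv]
  apply eq_of_coe_eq
  rw [Subgroup.coe_mul, Subgroup.coe_mul, Units.val_mul, Units.val_mul, blockO_coe, blockO_coe,
    swapG_coe, Matrix.fromBlocks_multiply, Matrix.fromBlocks_multiply]
  simp

theorem swapG_notMem_range {I : Type} [Fintype I] [DecidableEq I] [Nonempty I]
    (Q : QuadraticForm F (I → F)) (p : ↥(Cfsg.isometryGroup F (⇑Q)) × ↥(Cfsg.isometryGroup F (⇑Q))) :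
    blockO Q Q p ≠ swapG Q 1 := by
  intro h
  have h1 := congrArg (fun x : ↥(Cfsg.isometryGroup F (⇑(sumForm Q Q))) =>
    ((x : Matrix.GeneralLinearGroup (I ⊕ I) F) : Matrix (I ⊕ I) (I ⊕ I) F)) h
  simp only [blockO_coe, swapG_coe] at h1
  obtain ⟨i⟩ := (inferInstance : Nonempty I)
  have h3 := congrFun (congrFun h1 (Sum.inr i)) (Sum.inl i)
  simp at h3

theorem EmbQ.wr {R : Type u} [Group R] {χ : R →* AA F} {I : Type} [Fintype I] [DecidableEq I]
    [Nonempty I] {w : I → F} (hw : ∀ i, w i ≠ 0) (heven : Even (Fintype.card I))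
    (hsq : IsSquare (∏ i, w i)) (e : EmbQ h2 R χ (wForm w)) :
    EmbQ h2 (Wr2 R) (wr2Char χ 1 (one_mul 1)) (sumForm (wForm w) (wForm w)) := by
  obtain ⟨hQ, f, hf, hθ⟩ := e
  have hnd := nondegenerate_sumForm _ _ (nondeg_wForm h2 w hw) (nondeg_wForm h2 w hw)
  have hc : ∀ a b : R, ((blockO (wForm w) (wForm w)).comp (f.prodMap f)) (b, a) =
      swapG (wForm w) 1 * ((blockO (wForm w) (wForm w)).comp (f.prodMap f)) (a, b) *
        (swapG (wForm w) 1)⁻¹ := by
    intro a b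
    exact swapG_conj (wForm w) (f a) (f b)
  refine ⟨hnd, wr2Lift ((blockO (wForm w) (wForm w)).comp (f.prodMap f)) (swapG (wForm w) 1)
    (swapG_mul_self (wForm w)) hc, ?_, ?_⟩
  · apply wr2Lift_injective
    · exact (blockO_injective _ _).comp (Prod.map_injective.2 ⟨hf, hf⟩)
    · rintro ⟨p, hp⟩
      exact swapG_notMem_range (wForm w) _ hp
  · intro r
    rw [wr2Lift_apply, map_mul, MonoidHom.comp_apply,
      theta_blockO (wForm w) (wForm w) h2 hQ hQ, wr2Char_one_apply]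
    show theta (wForm w) h2 hQ (f r.left.1) * theta (wForm w) h2 hQ (f r.left.2) * _ = _
    rw [hθ, hθ]
    have hsw : theta (sumForm (wForm w) (wForm w)) h2 hnd (swapG (wForm w) 1) = 1 :=
      theta_swap w h2 hw heven hsq
    rcases Int.units_eq_one_or r.right with hr | hr
    · rw [hr, invHom_one, map_one, mul_one]
    · rw [hr, invHom_neg_one, hsw, mul_one]

/-- the whole isometry group, with `theta` itself -/
theorem EmbQ.self {I : Type} [Fintype I] [DecidableEq I] (Q : QuadraticForm F (I → F))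
    (hQ : (polarBilin Q).Nondegenerate) :
    EmbQ h2 ↥(Cfsg.isometryGroup F (⇑Q)) (theta Q h2 hQ) Q :=
  ⟨hQ, MonoidHom.id _, fun _ _ h => h, fun _ => rfl⟩

/-- a subgroup of the isometry group, with `theta` restricted -/
theorem EmbQ.subgroup {I : Type} [Fintype I] [DecidableEq I] (Q : QuadraticForm F (I → F))
    (hQ : (polarBilin Q).Nondegenerate) (D : Subgroup ↥(Cfsg.isometryGroup F (⇑Q))) :
    EmbQ h2 ↥D ((theta Q h2 hQ).comp D.subtype) Q :=
  ⟨hQ, D.subtype, Subtype.val_injective, fun _ => rfl⟩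

end Cfsg.Agent.Helper23.Orth
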