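import Mathlib
import Cfsg.Agent.Lib.Helper23.OrthEmb
import Cfsg.Agent.Lib.Helper13.MatQuad

set_option autoImplicit false
set_option linter.style.haveILetI false
set_option linter.unusedSectionVars false
set_option linter.unusedSimpArgs false

/-!
# The base case: a Sylow 2-subgroup of the orthogonal group of `x² + y²`
-/

namespace Cfsg.Agent.Helper23.Orth

open Cfsg QuadraticMap Matrix Cfsg.Agent.Helper17.Spinor Cfsg.Agent.Helper23.SpShape
  Cfsg.Agent.Helper23.SqComm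

universe u

variable {F : Type u} [Field F]

/-- the sum of squares -/
noncomputable def oneForm (I : Type) [Fintype I] [DecidableEq I] : QuadraticForm F (I → F) :=
  wForm (fun _ => 1)

theorem oneForm_apply {I : Type} [Fintype I] [DecidableEq I] (v : I → F) :
    oneForm I v = ∑ i, v i * v i := by
  unfold oneForm
  rw [wForm_apply]
  simp

theorem nondeg_oneForm (h2 : (2 : F) ≠ 0) (I : Type) [Fintype I] [DecidableEq I] :
    (polarBilin (oneForm (F := F) I)).Nondegenerate :=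
  nondeg_wForm h2 _ (fun _ => one_ne_zero)

theorem sumForm_oneForm (I₁ I₂ : Type) [Fintype I₁] [DecidableEq I₁] [Fintype I₂]
    [DecidableEq I₂] :
    sumForm (oneForm (F := F) I₁) (oneForm I₂) = oneForm (I₁ ⊕ I₂) := by
  unfold oneForm
  rw [sumForm_wForm]
  congr 1
  funext i
  rcases i with i | i <;> rfl

/-- isometries of the sum of squares are orthogonal matrices -/
theorem transpose_mul_self_of_mem (h2 : (2 : F) ≠ 0) {I : Type} [Fintype I] [DecidableEq I]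
    (g : ↥(Cfsg.isometryGroup F (⇑(oneForm (F := F) I)))) :
    ((g : Matrix.GeneralLinearGroup I F) : Matrix I I F)ᵀ *
      ((g : Matrix.GeneralLinearGroup I F) : Matrix I I F) = 1 := by
  ext a b
  have h := polar_isometry (oneForm (F := F) I) (toEnd (oneForm I) g)
    (toEnd_isometry (oneForm I) g) (Pi.single a 1) (Pi.single b 1)
  rw [toEnd_apply, toEnd_apply, Matrix.mulVec_single_one, Matrix.mulVec_single_one] at h
  unfold oneForm at h
  rw [polar_wForm, polar_wForm_single] at h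
  rw [Matrix.mul_apply, Matrix.one_apply]
  have e : ∑ i, 2 * (1 : F) * ((g : Matrix.GeneralLinearGroup I F) : Matrix I I F).col a i *
      ((g : Matrix.GeneralLinearGroup I F) : Matrix I I F).col b i =
      2 * ∑ i, ((g : Matrix.GeneralLinearGroup I F) : Matrix I I F)ᵀ a i *
        ((g : Matrix.GeneralLinearGroup I F) : Matrix I I F) i b := by
    rw [Finset.mul_sum]
    apply Finset.sum_congr rfl
    intro i _
    simp only [Matrix.col_apply, Matrix.transpose_apply]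
    ring
  rw [e] at h
  have h' : (2 : F) * ∑ i, ((g : Matrix.GeneralLinearGroup I F) : Matrix I I F)ᵀ a i *
      ((g : Matrix.GeneralLinearGroup I F) : Matrix I I F) i b =
      2 * (if a = b then 1 else 0) := by
    rw [h, Pi.single_apply]
    by_cases hab : a = b
    · rw [if_pos hab, if_pos hab.symm]; ring
    · rw [if_neg hab, if_neg (fun h => hab h.symm)]; ring
  exact mul_left_cancel₀ h2 h'

/-- in dimension two, an isometry of determinant `-1` is an involution -/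
theorem o2_mul_self_of_det (h2 : (2 : F) ≠ 0)
    (g : ↥(Cfsg.isometryGroup F (⇑(oneForm (F := F) (Fin 2)))))
    (hdet : (((g : Matrix.GeneralLinearGroup (Fin 2) F) : Matrix (Fin 2) (Fin 2) F)).det = -1) :
    g * g = 1 := by
  have hT := transpose_mul_self_of_mem h2 g
  obtain ⟨A, hA⟩ : ∃ A : Matrix (Fin 2) (Fin 2) F,
      A = ((g : Matrix.GeneralLinearGroup (Fin 2) F) : Matrix (Fin 2) (Fin 2) F) := ⟨_, rfl⟩
  rw [← hA] at hT hdet
  apply Subtype.ext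
  apply Units.ext
  rw [Subgroup.coe_mul, Units.val_mul, ← hA]
  have e00 := congrFun (congrFun hT 0) 0
  have e01 := congrFun (congrFun hT 0) 1
  have e11 := congrFun (congrFun hT 1) 1
  rw [Matrix.det_fin_two] at hdet
  simp [Matrix.mul_apply, Fin.sum_univ_two] at e00 e01 e11
  obtain ⟨a, ha⟩ : ∃ a, a = A 0 0 := ⟨_, rfl⟩
  obtain ⟨b, hb⟩ : ∃ a, a = A 0 1 := ⟨_, rfl⟩
  obtain ⟨c, hc⟩ : ∃ a, a = A 1 0 := ⟨_, rfl⟩
  obtain ⟨d, hd⟩ : ∃ a, a = A 1 1 := ⟨_, rfl⟩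
  simp only [← ha, ← hb, ← hc, ← hd] at hdet e00 e01 e11
  have hda : d = -a := by linear_combination a * hdet + c * e01 - d * e00
  have hbc : b = c := by linear_combination (-c) * hdet + a * e01 - b * e00
  show A * A = 1
  ext i j
  fin_cases i <;> fin_cases j
  · show (A * A) 0 0 = (1 : Matrix (Fin 2) (Fin 2) F) 0 0
    simp [Matrix.mul_apply, Fin.sum_univ_two, ← ha, ← hb, ← hc, ← hd]
    rw [hbc]; linear_combination e00
  · show (A * A) 0 1 = (1 : Matrix (Fin 2) (Fin 2) F) 0 1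
    simp [Matrix.mul_apply, Fin.sum_univ_two, ← ha, ← hb, ← hc, ← hd]
    rw [hda]; ring
  · show (A * A) 1 0 = (1 : Matrix (Fin 2) (Fin 2) F) 1 0
    simp [Matrix.mul_apply, Fin.sum_univ_two, ← ha, ← hb, ← hc, ← hd]
    rw [hda]; ring
  · show (A * A) 1 1 = (1 : Matrix (Fin 2) (Fin 2) F) 1 1
    simp [Matrix.mul_apply, Fin.sum_univ_two, ← ha, ← hb, ← hc, ← hd]
    rw [hda, hbc]; linear_combination e00

/-- a cyclic `2`-group and an element of `2`-power order inverting it generate a `2`-group -/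
theorem isPGroup_two_sup' {G : Type*} [Group G] (x y : G) (a b : ℕ) (hx : x ^ 2 ^ a = 1)
    (hy : y ^ 2 ^ b = 1) (h : y * x * y⁻¹ = x⁻¹) :
    IsPGroup 2 (Subgroup.zpowers y ⊔ Subgroup.zpowers x : Subgroup G) := by
  have hz : ∀ (w : G) (c : ℕ), w ^ 2 ^ c = 1 → IsPGroup 2 (Subgroup.zpowers w) := by
    intro w c hw g
    refine ⟨c, ?_⟩
    obtain ⟨g, hg⟩ := g
    obtain ⟨m, rfl⟩ := Subgroup.mem_zpowers_iff.1 hg
    apply Subtype.ext
    show (w ^ m) ^ 2 ^ c = 1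
    rw [← zpow_natCast, ← _root_.zpow_mul, mul_comm, _root_.zpow_mul, zpow_natCast, hw,
      _root_.one_zpow]
  have h' : y⁻¹ * x * y = x⁻¹ := by
    have h1 : x = y⁻¹ * x⁻¹ * y := by rw [← h]; group
    have h2 : x⁻¹ = (y⁻¹ * x⁻¹ * y)⁻¹ := congrArg (fun v => v⁻¹) h1
    rw [h2]; group
  apply IsPGroup.to_sup_of_normal_right' (hz y b hy) (hz x a hx)
  rw [Subgroup.zpowers_le, Subgroup.mem_normalizer_iff]
  intro g
  constructor
  · intro hg
    obtain ⟨m, rfl⟩ := Subgroup.mem_zpowers_iff.1 hg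
    rw [← conj_zpow, h]
    exact Subgroup.zpow_mem _ (Subgroup.inv_mem _ (Subgroup.mem_zpowers x)) m
  · intro hg
    obtain ⟨m, hm⟩ := Subgroup.mem_zpowers_iff.1 hg
    have : g = y⁻¹ * (x ^ m) * y := by rw [hm]; group
    rw [this]
    have h3 : y⁻¹ * x ^ m * y = (y⁻¹ * x * y) ^ m := by
      have := conj_zpow (a := y⁻¹) (b := x) (i := m)
      rw [inv_inv] at this
      exact this.symm
    rw [h3, h']
    exact Subgroup.zpow_mem _ (Subgroup.inv_mem _ (Subgroup.mem_zpowers x)) m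

theorem unitOf_one : (unitOf (1 : F)) = 1 := by
  apply Units.ext
  rw [unitOf_val one_ne_zero, Units.val_one]

theorem sqClass_cases [Fintype F] {ν : F} (hν : ¬ IsSquare ν) (x : Fˣ ⧸ Sq F) :
    x = 1 ∨ x = sqClass (unitOf ν) := by
  classical
  have hν0 : ν ≠ 0 := by
    intro h; apply hν; rw [h]; exact ⟨0, by ring⟩
  obtain ⟨y, rfl⟩ := QuotientGroup.mk'_surjective (Sq F) x
  show sqClass y = 1 ∨ sqClass y = sqClass (unitOf ν)
  by_cases hy : IsSquare ((y : Fˣ) : F)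
  · left
    rwa [sqClass_eq_one_iff]
  · right
    rw [sqClass_eq_iff, unitOf_val hν0,
      Cfsg.Agent.Helper13.isSquare_mul_nonsquare y.ne_zero hν]
    exact hy

theorem sqClass_ne_one {ν : F} (hν : ¬ IsSquare ν) (hν0 : ν ≠ 0) :
    sqClass (unitOf ν) ≠ 1 := by
  rw [Ne, sqClass_eq_one_iff, unitOf_val hν0]
  exact hν

section thetaVals

variable [Fintype F] {ι : Type} [Fintype ι] [DecidableEq ι] (Q : QuadraticForm F (ι → F))
  (h2 : (2 : F) ≠ 0) (hQ : (polarBilin Q).Nondegenerate)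

theorem theta_fst_cases (g : ↥(Cfsg.isometryGroup F (⇑Q))) :
    (theta Q h2 hQ g).fst = 1 ∨ (theta Q h2 hQ g).fst = -1 := by
  have hg := dec_prod Q h2 hQ g
  rw [hg, theta_prod_rG Q h2 hQ _ (dec_ne Q h2 hQ g), AA.fst_mk]
  rcases Nat.even_or_odd (dec Q h2 hQ g).length with h | h
  · left; exact h.neg_one_pow
  · right; exact h.neg_one_pow

theorem det_eq_of_theta_fst (g : ↥(Cfsg.isometryGroup F (⇑Q))) (c : Fˣ)
    (h : (theta Q h2 hQ g).fst = c) :
    ((g : Matrix.GeneralLinearGroup ι F) : Matrix ι ι F).det = ((c : Fˣ) : F) := by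
  rw [theta_fst] at h
  rw [← h, Matrix.GeneralLinearGroup.val_det_apply]

end thetaVals

theorem ringChar_ne_two (h2 : (2 : F) ≠ 0) : ringChar F ≠ 2 := by
  intro h
  haveI : CharP F 2 := ringChar.of_eq h
  exact h2 CharTwo.two_eq_zero

/-- auxiliary form of `exists_base` -/
theorem exists_base_aux [Fintype F] (h2 : (2 : F) ≠ 0) (Q : QuadraticForm F (Fin 2 → F))
    (hQdef : Q = oneForm (Fin 2)) (hQ : (polarBilin Q).Nondegenerate) :
    ∃ D : Sylow 2 ↥(Cfsg.isometryGroup F (⇑Q)),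
      (∀ d : (D : Subgroup ↥(Cfsg.isometryGroup F (⇑Q))),
        ∃ h : (D : Subgroup ↥(Cfsg.isometryGroup F (⇑Q))), h * d * h⁻¹ = d⁻¹) ∧
      ∃ τ τ' : (D : Subgroup ↥(Cfsg.isometryGroup F (⇑Q))),
        τ * τ = 1 ∧ τ' * τ' = 1 ∧
        (∀ r : (D : Subgroup ↥(Cfsg.isometryGroup F (⇑Q))),
          theta Q h2 hQ r = 1 ∨ theta Q h2 hQ r = theta Q h2 hQ τ ∨
          theta Q h2 hQ r = theta Q h2 hQ τ' ∨
          theta Q h2 hQ r = theta Q h2 hQ τ * theta Q h2 hQ τ') ∧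
        theta Q h2 hQ τ = AA.mk (-1) 1 ∧
        ∃ ν : F, ¬ IsSquare ν ∧ theta Q h2 hQ τ' = AA.mk (-1) (sqClass (unitOf ν)) := by
  classical
  haveI : Fact (Nat.Prime 2) := ⟨Nat.prime_two⟩
  obtain ⟨θ, hθ⟩ : ∃ θ : ↥(Cfsg.isometryGroup F (⇑Q)) →* AA F, θ = theta Q h2 hQ := ⟨_, rfl⟩
  rw [← hθ]
  -- the first reflection
  have he₁ : Q (Pi.single (1 : Fin 2) (1 : F)) = 1 := by
    rw [hQdef]
    unfold oneForm
    rw [wForm_single]
    ring
  have he₁0 : Q (Pi.single (1 : Fin 2) (1 : F)) ≠ 0 := by rw [he₁]; exact one_ne_zero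
  obtain ⟨τ₀, hτ₀⟩ : ∃ t, t = rG Q h2 (Pi.single (1 : Fin 2) (1 : F)) := ⟨_, rfl⟩
  have hτ₀2 : τ₀ * τ₀ = 1 := by rw [hτ₀]; exact rG_mul_self Q h2 he₁0
  have hτ₀inv : τ₀⁻¹ = τ₀ := inv_eq_of_mul_eq_one_right hτ₀2
  have hθτ₀ : θ τ₀ = AA.mk (-1) 1 := by
    rw [hθ, hτ₀, theta_rG Q h2 hQ he₁0, he₁, unitOf_one, map_one]
  -- the second reflection
  obtain ⟨ν, hν⟩ := FiniteField.exists_nonsquare (ringChar_ne_two h2)
  have hν0 : ν ≠ 0 := by
    intro h; apply hν; rw [h]; exact ⟨0, by ring⟩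
  have hdim : 2 ≤ Module.finrank F (Fin 2 → F) := by
    rw [Module.finrank_fintype_fun_eq_card, Fintype.card_fin]
  obtain ⟨v, hv⟩ := exists_repr Q h2 hQ hdim hν0
  have hv0 : Q v ≠ 0 := by rw [hv]; exact hν0
  obtain ⟨r₀, hr₀⟩ : ∃ t, t = rG Q h2 v := ⟨_, rfl⟩
  have hr₀2 : r₀ * r₀ = 1 := by rw [hr₀]; exact rG_mul_self Q h2 hv0
  have hr₀inv : r₀⁻¹ = r₀ := inv_eq_of_mul_eq_one_right hr₀2
  obtain ⟨n, hn⟩ : ∃ n : Fˣ ⧸ Sq F, n = sqClass (unitOf ν) := ⟨_, rfl⟩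
  have hn1 : n ≠ 1 := by rw [hn]; exact sqClass_ne_one hν hν0
  have hnn : n * n = 1 := sqClass_mul_self n
  have hθr₀ : θ r₀ = AA.mk (-1) n := by
    rw [hθ, hr₀, theta_rG Q h2 hQ hv0, hv, hn]
  -- the rotation and its `2`-part
  obtain ⟨ρ, hρ⟩ : ∃ t, t = r₀ * τ₀ := ⟨_, rfl⟩
  have hθρ : θ ρ = AA.mk 1 n := by
    rw [hρ, map_mul, hθr₀, hθτ₀, AA.mk_mul_mk]
    congr 1
    · simp
    · rw [mul_one]
  have hinv : τ₀ * ρ * τ₀⁻¹ = ρ⁻¹ := by
    rw [hρ, _root_.mul_inv_rev, hτ₀inv, hr₀inv, mul_assoc, mul_assoc, hτ₀2, mul_one]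
  obtain ⟨a, k, hk, hN⟩ := Nat.exists_eq_two_pow_mul_odd (orderOf_pos ρ).ne'
  obtain ⟨ρ₁, hρ₁⟩ : ∃ t, t = ρ ^ k := ⟨_, rfl⟩
  have hρ₁pow : ρ₁ ^ 2 ^ a = 1 := by
    rw [hρ₁, ← pow_mul, mul_comm, ← hN, pow_orderOf_eq_one]
  have hinv₁ : τ₀ * ρ₁ * τ₀⁻¹ = ρ₁⁻¹ := by
    rw [hρ₁, ← conj_pow, hinv, inv_pow]
  have hθρ₁ : θ ρ₁ = AA.mk 1 n := by
    obtain ⟨j, hj⟩ := hk
    rw [hρ₁, map_pow, hθρ, hj, pow_succ, pow_mul]
    have : AA.mk (1 : Fˣ) n ^ 2 = 1 := by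
      rw [pow_two, AA.mk_mul_mk, mul_one, hnn]
      rfl
    rw [this, one_pow, one_mul]
  have hp := isPGroup_two_sup' ρ₁ τ₀ a 1 hρ₁pow (by rw [pow_one, pow_two, hτ₀2]) hinv₁
  obtain ⟨D, hD⟩ := hp.exists_le_sylow
  have hτ₀D : τ₀ ∈ (D : Subgroup ↥(Cfsg.isometryGroup F (⇑Q))) :=
    hD (Subgroup.mem_sup_left (Subgroup.mem_zpowers τ₀))
  have hρ₁D : ρ₁ ∈ (D : Subgroup ↥(Cfsg.isometryGroup F (⇑Q))) :=
    hD (Subgroup.mem_sup_right (Subgroup.mem_zpowers ρ₁))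
  have hneg : ((-1 : Fˣ) : F) = -1 := by simp
  have hinvol : ∀ g : ↥(Cfsg.isometryGroup F (⇑Q)), (θ g).fst = -1 → g * g = 1 := by
    intro g hg
    rw [hθ] at hg
    have hdet := det_eq_of_theta_fst Q h2 hQ g (-1) hg
    rw [hneg] at hdet
    subst hQdef
    exact o2_mul_self_of_det h2 g hdet
  have hτ' : θ (ρ₁ * τ₀) = AA.mk (-1) n := by
    rw [map_mul, hθρ₁, hθτ₀, AA.mk_mul_mk, one_mul, mul_one]
  refine ⟨D, ?_, ⟨τ₀, hτ₀D⟩, ⟨ρ₁ * τ₀, Subgroup.mul_mem _ hρ₁D hτ₀D⟩, ?_, ?_, ?_, hθτ₀,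
    ν, hν, by rw [← hn]; exact hτ'⟩
  · -- every element is real
    rintro ⟨d, hd⟩
    have hcases : (θ d).fst = 1 ∨ (θ d).fst = -1 := by
      rw [hθ]; exact theta_fst_cases Q h2 hQ d
    rcases hcases with h1 | h1
    · refine ⟨⟨τ₀, hτ₀D⟩, ?_⟩
      apply Subtype.ext
      show τ₀ * d * τ₀⁻¹ = d⁻¹
      have h3 : (θ (d * τ₀)).fst = -1 := by
        rw [map_mul, AA.fst_mul, h1, hθτ₀, AA.fst_mk, one_mul]
      have h4 := hinvol (d * τ₀) h3
      rw [hτ₀inv]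
      have h5 : d * (τ₀ * d * τ₀) = 1 := by
        rw [← h4]; group
      exact (inv_eq_of_mul_eq_one_right h5).symm
    · refine ⟨1, ?_⟩
      apply Subtype.ext
      show 1 * d * (1 : ↥(Cfsg.isometryGroup F (⇑Q)))⁻¹ = d⁻¹
      rw [one_mul, inv_one, mul_one]
      exact (inv_eq_of_mul_eq_one_right (hinvol d h1)).symm
  · apply Subtype.ext
    exact hτ₀2
  · apply Subtype.ext
    show ρ₁ * τ₀ * (ρ₁ * τ₀) = 1
    have : ρ₁ * τ₀ * (ρ₁ * τ₀) = ρ₁ * (τ₀ * ρ₁ * τ₀⁻¹) := by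
      rw [hτ₀inv]; group
    rw [this, hinv₁, mul_inv_cancel]
  · rintro ⟨r, hr⟩
    show θ r = 1 ∨ θ r = θ τ₀ ∨ θ r = θ (ρ₁ * τ₀) ∨ θ r = θ τ₀ * θ (ρ₁ * τ₀)
    rw [hτ', hθτ₀, AA.mk_mul_mk, one_mul]
    have e : θ r = AA.mk (θ r).fst (θ r).snd := rfl
    have h1 : (θ r).fst = 1 ∨ (θ r).fst = -1 := by
      rw [hθ]; exact theta_fst_cases Q h2 hQ r
    have h2' : (θ r).snd = 1 ∨ (θ r).snd = n := by
      rw [hn]; exact sqClass_cases hν _
    rw [e]
    rcases h1 with h1 | h1 <;> rcases h2' with h3 | h3 <;> rw [h1, h3]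
    · left; rfl
    · right; right; right
      congr 1
      simp
    · right; left; rfl
    · right; right; left; rfl

/-- **The base group**: a Sylow 2-subgroup of `O₂` for the form `x² + y²` in which every element is
real, containing two involutions whose `theta`-values generate all values. -/
theorem exists_base [Fintype F] (h2 : (2 : F) ≠ 0) :
    ∃ D : Sylow 2 ↥(Cfsg.isometryGroup F (⇑(oneForm (F := F) (Fin 2)))),
      (∀ d : (D : Subgroup ↥(Cfsg.isometryGroup F (⇑(oneForm (F := F) (Fin 2))))),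
        ∃ h : (D : Subgroup ↥(Cfsg.isometryGroup F (⇑(oneForm (F := F) (Fin 2))))),
          h * d * h⁻¹ = d⁻¹) ∧
      ∃ τ τ' : (D : Subgroup ↥(Cfsg.isometryGroup F (⇑(oneForm (F := F) (Fin 2))))),
        τ * τ = 1 ∧ τ' * τ' = 1 ∧
        (∀ r : (D : Subgroup ↥(Cfsg.isometryGroup F (⇑(oneForm (F := F) (Fin 2))))),
          theta (oneForm (Fin 2)) h2 (nondeg_oneForm h2 _) r = 1 ∨
          theta (oneForm (Fin 2)) h2 (nondeg_oneForm h2 _) r =
            theta (oneForm (Fin 2)) h2 (nondeg_oneForm h2 _) τ ∨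
          theta (oneForm (Fin 2)) h2 (nondeg_oneForm h2 _) r =
            theta (oneForm (Fin 2)) h2 (nondeg_oneForm h2 _) τ' ∨
          theta (oneForm (Fin 2)) h2 (nondeg_oneForm h2 _) r =
            theta (oneForm (Fin 2)) h2 (nondeg_oneForm h2 _) τ *
              theta (oneForm (Fin 2)) h2 (nondeg_oneForm h2 _) τ') ∧
        theta (oneForm (Fin 2)) h2 (nondeg_oneForm h2 _) τ = AA.mk (-1) 1 ∧
        ∃ ν : F, ¬ IsSquare ν ∧ theta (oneForm (Fin 2)) h2 (nondeg_oneForm h2 _) τ' =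
          AA.mk (-1) (sqClass (unitOf ν)) :=
  exists_base_aux h2 (oneForm (Fin 2)) rfl (nondeg_oneForm h2 _)

end Cfsg.Agent.Helper23.Orth
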