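import Mathlib
import Cfsg.Agent.Lib.Helper17.SpinorIndex
import Cfsg.Agent.Lib.Helper23.OrthEmb
import Cfsg.Agent.Lib.Helper23.OrthIso

set_option autoImplicit false
set_option linter.style.haveILetI false
set_option linter.unusedSectionVars false

/-!
# From a 2-subgroup of `O(Q)` of full order to the Sylow 2-subgroups of `Ω(Q)`
-/

namespace Cfsg.Agent.Helper23.Orth

open Cfsg QuadraticMap Matrix Cfsg.Agent.Helper17.Spinor Cfsg.Agent.Helper23.SpShape
  Cfsg.Agent.Helper23.SqComm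

universe u

theorem SqInComm.of_equiv {R S : Type*} [Group R] [Group S] (e : R ≃* S) (h : SqInComm R) :
    SqInComm S :=
  SqInComm.of_surjective e.toMonoidHom e.surjective h

/-- a group of the order of a Sylow 2-subgroup embedded in `G`: it is isomorphic to every
Sylow 2-subgroup of `G` -/
theorem sylow_equiv_of_card {K G : Type*} [Group K] [Group G] [Finite G] (g : K →* G)
    (hg : Function.Injective g) (hc : Nat.card K = 2 ^ (Nat.card G).factorization 2)
    (P : Sylow 2 G) : Nonempty (K ≃* (P : Subgroup G)) := by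
  classical
  haveI : Fact (Nat.Prime 2) := ⟨Nat.prime_two⟩
  have hcardrange : Nat.card g.range = Nat.card K :=
    (Nat.card_congr (MonoidHom.ofInjective hg).toEquiv).symm
  have hc2 : Nat.card g.range = 2 ^ (Nat.card G).factorization 2 := by
    rw [hcardrange, hc]
  let P₀ : Sylow 2 G := Sylow.ofCard g.range hc2
  exact ⟨(MonoidHom.ofInjective hg).trans (Sylow.equiv P₀ P)⟩

variable {F : Type u} [Field F] [Fintype F] (h2 : (2 : F) ≠ 0)

/-- a 2-group of the order of a Sylow 2-subgroup of `O(Q)`, embedded in `O(Q)`: the kernel of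
`theta` is isomorphic to every Sylow 2-subgroup of `Ω(Q)` -/
theorem sylow_Omega_of_emb {R : Type u} [Group R] [Finite R] {χ : R →* AA F} {I : Type}
    [Fintype I] [DecidableEq I] (Q : QuadraticForm F (I → F)) (hI : 2 ≤ Fintype.card I)
    (h : EmbQ h2 R χ Q)
    (hcard : Nat.card R = 2 ^ (Nat.card ↥(Cfsg.isometryGroup F (⇑Q))).factorization 2)
    (P : Sylow 2 ↥(Cfsg.Omega F (⇑Q))) :
    Nonempty (χ.ker ≃* (P : Subgroup ↥(Cfsg.Omega F (⇑Q)))) := by
  classical
  haveI : Fact (Nat.Prime 2) := ⟨Nat.prime_two⟩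
  obtain ⟨hQ, f, hf, hθ⟩ := h
  have hmem : ∀ r : χ.ker, (f.comp χ.ker.subtype) r ∈ Cfsg.Omega F (⇑Q) := by
    intro r
    rw [mem_Omega_iff_theta Q h2 hQ]
    show theta Q h2 hQ (f r.1) = 1
    rw [hθ]
    exact r.2
  obtain ⟨g, hgdef⟩ : ∃ g : χ.ker →* ↥(Cfsg.Omega F (⇑Q)),
      g = MonoidHom.codRestrict (f.comp χ.ker.subtype) (Cfsg.Omega F (⇑Q)) hmem := ⟨_, rfl⟩
  have hg : Function.Injective g := by
    intro a b hab
    rw [hgdef] at hab
    have := congrArg Subtype.val hab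
    exact Subtype.ext (hf this)
  apply sylow_equiv_of_card g hg
  -- cardinalities
  have hidx : (Cfsg.Omega F (⇑Q)).index = 4 := index_Omega Q h2 hQ hI
  have hO : Nat.card ↥(Cfsg.Omega F (⇑Q)) * 4 = Nat.card ↥(Cfsg.isometryGroup F (⇑Q)) := by
    rw [← hidx]; exact Subgroup.card_mul_index _
  have hΩ0 : Nat.card ↥(Cfsg.Omega F (⇑Q)) ≠ 0 := Nat.card_pos.ne'
  have hfac : (Nat.card ↥(Cfsg.isometryGroup F (⇑Q))).factorization 2 =
      (Nat.card ↥(Cfsg.Omega F (⇑Q))).factorization 2 + 2 := by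
    rw [← hO, Nat.factorization_mul hΩ0 (by norm_num)]
    have h4 : (4 : ℕ) = 2 ^ 2 := by norm_num
    rw [h4, Nat.Prime.factorization_pow Nat.prime_two]
    simp
  have hrange4 : Nat.card (theta Q h2 hQ).range = 4 := by
    rw [← Subgroup.index_ker, ker_theta Q h2 hQ, hidx]
  have hle : χ.range ≤ (theta Q h2 hQ).range := by
    rintro _ ⟨r, rfl⟩
    exact ⟨f r, hθ r⟩
  have hrange_dvd4 : Nat.card χ.range ∣ 4 := by
    rw [← hrange4]; exact Subgroup.card_dvd_of_le hle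
  have hmul : Nat.card χ.ker * Nat.card χ.range = Nat.card R := by
    rw [← Subgroup.index_ker, Subgroup.card_mul_index]
  have hker_dvd : Nat.card χ.ker ∣
      2 ^ (Nat.card ↥(Cfsg.isometryGroup F (⇑Q))).factorization 2 := by
    rw [← hcard, ← hmul]; exact dvd_mul_right _ _
  have hrange_dvd : Nat.card χ.range ∣
      2 ^ (Nat.card ↥(Cfsg.isometryGroup F (⇑Q))).factorization 2 := by
    rw [← hcard, ← hmul]; exact dvd_mul_left _ _
  obtain ⟨k₁, -, hk₁⟩ := (Nat.dvd_prime_pow Nat.prime_two).1 hker_dvd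
  obtain ⟨k₂, -, hk₂⟩ := (Nat.dvd_prime_pow Nat.prime_two).1 hrange_dvd
  have hsum : k₁ + k₂ = (Nat.card ↥(Cfsg.isometryGroup F (⇑Q))).factorization 2 := by
    have : 2 ^ (k₁ + k₂) = 2 ^ (Nat.card ↥(Cfsg.isometryGroup F (⇑Q))).factorization 2 := by
      rw [pow_add, ← hk₁, ← hk₂, hmul, hcard]
    exact Nat.pow_right_injective (le_refl 2) this
  have hk₂le : k₂ ≤ 2 := by
    have h4 : (4 : ℕ) = 2 ^ 2 := by norm_num
    rw [hk₂, h4] at hrange_dvd4
    exact (Nat.pow_dvd_pow_iff_le_right (by norm_num)).1 hrange_dvd4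
  have hcardrange : Nat.card g.range = Nat.card χ.ker :=
    (Nat.card_congr (MonoidHom.ofInjective hg).toEquiv).symm
  have hk₁le : k₁ ≤ (Nat.card ↥(Cfsg.Omega F (⇑Q))).factorization 2 := by
    rw [← Nat.Prime.pow_dvd_iff_le_factorization Nat.prime_two hΩ0, ← hk₁, ← hcardrange]
    exact Subgroup.card_subgroup_dvd_card _
  have hk₁eq : k₁ = (Nat.card ↥(Cfsg.Omega F (⇑Q))).factorization 2 := by omega
  rw [hk₁, hk₁eq]

/-- the master statement: a good character on a 2-group of full order inside `O(Q)`, `Q`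
diagonal and equivalent to the target form -/
theorem sqInComm_sylow_Omega {R : Type u} [Group R] [Finite R] {χ : R →* AA F} {I : Type}
    [Fintype I] [DecidableEq I] (w : I → F) (hI : 2 ≤ Fintype.card I)
    (h : EmbQ h2 R χ (wForm w)) (hgood : Good χ)
    (hcard : Nat.card R =
      2 ^ (Nat.card ↥(Cfsg.isometryGroup F (⇑(wForm w)))).factorization 2)
    {ι : Type} [Fintype ι] [DecidableEq ι] (Qt : (ι → F) → F) (g : (I → F) ≃ₗ[F] (ι → F))
    (hg : ∀ v, Qt (g v) = wForm w v) (P : Sylow 2 ↥(Cfsg.Omega F Qt)) :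
    SqInComm (P : Subgroup ↥(Cfsg.Omega F Qt)) := by
  classical
  haveI : Fact (Nat.Prime 2) := ⟨Nat.prime_two⟩
  obtain ⟨e⟩ := nonempty_iso_of_equiv (⇑(wForm w)) Qt g hg
  obtain ⟨e'⟩ := nonempty_commutator_equiv e
  -- `e' : Ω(wForm w) ≃* Ω(Qt)`
  have hcardΩ : Nat.card ↥(Cfsg.Omega F (⇑(wForm w))) = Nat.card ↥(Cfsg.Omega F Qt) :=
    Nat.card_congr e'.toEquiv
  have hPcard : Nat.card (P : Subgroup ↥(Cfsg.Omega F Qt)) =
      2 ^ (Nat.card ↥(Cfsg.Omega F (⇑(wForm w)))).factorization 2 := by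
    rw [hcardΩ]
    exact Sylow.card_eq_multiplicity P
  obtain ⟨P₁⟩ : Nonempty (Sylow 2 ↥(Cfsg.Omega F (⇑(wForm w)))) := inferInstance
  obtain ⟨e₁⟩ := sylow_Omega_of_emb h2 (wForm w) hI h hcard P₁
  obtain ⟨e₂⟩ := sylow_equiv_of_card
    (e'.symm.toMonoidHom.comp (P : Subgroup ↥(Cfsg.Omega F Qt)).subtype)
    (e'.symm.injective.comp Subtype.val_injective) hPcard P₁
  exact SqInComm.of_equiv (e₁.trans e₂.symm) hgood.sqInComm

end Cfsg.Agent.Helper23.Orth
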