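import Mathlib
import Cfsg.Agent.Lib.Helper23.SpSylow2
import Cfsg.Agent.Lib.Helper23.GLVal

set_option autoImplicit false
set_option linter.style.haveILetI false
set_option linter.unusedSectionVars false

/-!
# 2-adic valuations of the orders of the orthogonal groups
-/

namespace Cfsg.Agent.Helper23.Orth

open Cfsg.Agent.Helper23.SpShape Nat

theorem pow_mod_four_one {q : ℕ} (M : ℕ) (hq : Odd q) (h : Even M ∨ q % 4 = 1) :
    q ^ M % 4 = 1 := by
  rcases h with ⟨j, hj⟩ | h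
  · have h2 : q * q % 4 = 1 := by
      have hq' : q % 4 = 1 ∨ q % 4 = 3 := Nat.odd_mod_four_iff.1 (Nat.odd_iff.1 hq)
      rcases hq' with h | h <;> rw [Nat.mul_mod, h]
    rw [hj, ← two_mul, pow_mul, pow_two]
    clear hj
    induction j with
    | zero => simp
    | succ j ih => rw [pow_succ, Nat.mul_mod, ih, h2]
  · induction M with
    | zero => simp
    | succ j ih => rw [pow_succ, Nat.mul_mod, ih, h]

theorem v2_plusA (q M : ℕ) (hq : Odd q) (hq1 : 1 < q) (hM : 1 ≤ M) (h : Even M ∨ q % 4 = 1) :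
    padicValNat 2 (q ^ M - 1) + 1 = cq q + padicValNat 2 M := by
  have hq2 : ¬ 2 ∣ q := by rwa [← even_iff_two_dvd, Nat.not_even_iff_odd]
  rcases h with he | h1
  · have h := padicValNat.pow_two_sub_one hq1 hq2 (n := M) (by omega) he
    unfold cq
    omega
  · have h := v2_pow_sub_one_of_one h1 hq1 M hM
    have h1' : padicValNat 2 (q + 1) = 1 := v2_of_mod_four_eq_two (by omega)
    unfold cq
    omega

theorem v2_plusB (q M : ℕ) (hq : q % 4 = 3) (hM : Odd M) : padicValNat 2 (q ^ M - 1) = 1 := by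
  obtain ⟨j, rfl⟩ := hM
  apply v2_of_mod_four_eq_two
  have := pow_mod_four_of_three hq j
  omega

theorem v2_minusB (q M : ℕ) (hq : Odd q) (h : Even M ∨ q % 4 = 1) :
    padicValNat 2 (q ^ M + 1) = 1 := by
  apply v2_of_mod_four_eq_two
  have := pow_mod_four_one M hq h
  omega

theorem v2_minusA (q M : ℕ) (hq : q % 4 = 3) (hM : Odd M) :
    padicValNat 2 (q ^ M + 1) + 1 = cq q := by
  have hodd : Odd q := Nat.odd_iff.2 (by omega)
  have hq1 : 1 < q := by omega
  have hq2 : ¬ 2 ∣ q := by rwa [← even_iff_two_dvd, Nat.not_even_iff_odd]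
  have hM1 : 1 ≤ M := hM.pos
  have h := padicValNat.pow_two_sub_one hq1 hq2 (n := 2 * M) (by omega) (even_two_mul M)
  have hB := v2_plusB q M hq hM
  have hpos : 1 < q ^ M := Nat.one_lt_pow (by omega) hq1
  have e : q ^ (2 * M) - 1 = (q ^ M - 1) * (q ^ M + 1) := by
    have e1 : q ^ (2 * M) = q ^ M * q ^ M := by rw [two_mul, pow_add]
    rw [e1]
    obtain ⟨y, hy⟩ : ∃ y, q ^ M = y + 1 := ⟨q ^ M - 1, by omega⟩
    rw [hy, Nat.add_sub_cancel]
    have : (y + 1) * (y + 1) = y * (y + 1 + 1) + 1 := by ring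
    rw [this, Nat.add_sub_cancel]
  have hMv : padicValNat 2 M = 0 := by
    apply padicValNat.eq_zero_of_not_dvd
    rwa [← even_iff_two_dvd, Nat.not_even_iff_odd]
  rw [e, padicValNat.mul (by omega) (by omega), hB,
    padicValNat.mul (by norm_num) (by omega), padicValNat_self, hMv] at h
  unfold cq
  omega

theorem prod_ne_zero' (q : ℕ) (hq1 : 1 < q) (n : ℕ) :
    ∏ i ∈ Finset.range n, (q ^ (2 * (i + 1)) - 1) ≠ 0 := by
  apply Finset.prod_ne_zero_iff.2
  intro i _
  have : 1 < q ^ (2 * (i + 1)) := Nat.one_lt_pow (by omega) hq1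
  omega

theorem Kn_eq_Kc (q n : ℕ) : Kn q n = Kc (cq q) n := rfl

theorem v2_q_pow (q : ℕ) (hq : Odd q) (e : ℕ) : padicValNat 2 (q ^ e) = 0 := by
  rw [padicValNat.pow, padicValNat.eq_zero_of_not_dvd
    (by rwa [← even_iff_two_dvd, Nat.not_even_iff_odd])]
  simp

theorem Kc_succ (c k : ℕ) : Kc c (k + 1) = Kc c k + c + padicValNat 2 (k + 1) := by
  unfold Kc
  rw [Nat.factorial_succ, padicValNat.mul (by omega) (Nat.factorial_ne_zero k)]
  ring

/-- odd dimension -/
theorem v2_card_odd (q : ℕ) (hq : Odd q) (hq1 : 1 < q) (m : ℕ) :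
    (2 * q ^ (m ^ 2) * ∏ i ∈ Finset.range m, (q ^ (2 * (i + 1)) - 1)).factorization 2 =
      Kc (cq q) m + 1 := by
  rw [Nat.factorization_def _ Nat.prime_two, mul_assoc,
    padicValNat.mul (by norm_num) (mul_ne_zero (by positivity) (prod_ne_zero' q hq1 m)),
    padicValNat_self, v2_card q hq hq1 m, Kn_eq_Kc]
  ring

/-- plus type: the shape of the order -/
theorem v2_card_plus (q : ℕ) (hq : Odd q) (hq1 : 1 < q) (k : ℕ) :
    (2 * q ^ ((k + 1) * k) * (q ^ (k + 1) - 1) *
      ∏ i ∈ Finset.range k, (q ^ (2 * (i + 1)) - 1)).factorization 2 =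
      1 + padicValNat 2 (q ^ (k + 1) - 1) + Kc (cq q) k := by
  have hpos : 1 < q ^ (k + 1) := Nat.one_lt_pow (by omega) hq1
  rw [Nat.factorization_def _ Nat.prime_two,
    padicValNat.mul (mul_ne_zero (mul_ne_zero (by norm_num) (by positivity)) (by omega))
      (prod_ne_zero' q hq1 k),
    padicValNat.mul (mul_ne_zero (by norm_num) (by positivity)) (by omega),
    padicValNat.mul (by norm_num) (by positivity), padicValNat_self, v2_q_pow q hq,
    v2_prod q hq hq1 k, Kn_eq_Kc]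

theorem v2_card_plusA (q : ℕ) (hq : Odd q) (hq1 : 1 < q) (k : ℕ)
    (h : Even (k + 1) ∨ q % 4 = 1) :
    (2 * q ^ ((k + 1) * k) * (q ^ (k + 1) - 1) *
      ∏ i ∈ Finset.range k, (q ^ (2 * (i + 1)) - 1)).factorization 2 =
      Kc (cq q) (k + 1) + 0 := by
  rw [v2_card_plus q hq hq1 k, Kc_succ]
  have := v2_plusA q (k + 1) hq hq1 (by omega) h
  omega

theorem v2_card_plusB (q : ℕ) (hq : q % 4 = 3) (k : ℕ) (h : Odd (k + 1)) :
    (2 * q ^ ((k + 1) * k) * (q ^ (k + 1) - 1) *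
      ∏ i ∈ Finset.range k, (q ^ (2 * (i + 1)) - 1)).factorization 2 =
      Kc (cq q) k + 2 := by
  have e := v2_card_plus q (Nat.odd_iff.2 (by omega)) (by omega) k
  have e' := v2_plusB q (k + 1) hq h
  omega

/-- minus type: the shape of the order -/
theorem v2_card_minus (q : ℕ) (hq : Odd q) (hq1 : 1 < q) (k : ℕ) :
    (2 * q ^ ((k + 1) * k) * (q ^ (k + 1) + 1) *
      ∏ i ∈ Finset.range k, (q ^ (2 * (i + 1)) - 1)).factorization 2 =
      1 + padicValNat 2 (q ^ (k + 1) + 1) + Kc (cq q) k := by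
  rw [Nat.factorization_def _ Nat.prime_two,
    padicValNat.mul (mul_ne_zero (mul_ne_zero (by norm_num) (by positivity)) (by omega))
      (prod_ne_zero' q hq1 k),
    padicValNat.mul (mul_ne_zero (by norm_num) (by positivity)) (by omega),
    padicValNat.mul (by norm_num) (by positivity), padicValNat_self, v2_q_pow q hq,
    v2_prod q hq hq1 k, Kn_eq_Kc]

theorem v2_card_minusA (q : ℕ) (hq : q % 4 = 3) (k : ℕ) (h : Odd (k + 1)) :
    (2 * q ^ ((k + 1) * k) * (q ^ (k + 1) + 1) *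
      ∏ i ∈ Finset.range k, (q ^ (2 * (i + 1)) - 1)).factorization 2 =
      Kc (cq q) (k + 1) + 0 := by
  rw [v2_card_minus q (Nat.odd_iff.2 (by omega)) (by omega) k, Kc_succ]
  have := v2_minusA q (k + 1) hq h
  have hv : padicValNat 2 (k + 1) = 0 := by
    apply padicValNat.eq_zero_of_not_dvd
    rwa [← even_iff_two_dvd, Nat.not_even_iff_odd]
  omega

theorem v2_card_minusB (q : ℕ) (hq : Odd q) (hq1 : 1 < q) (k : ℕ)
    (h : Even (k + 1) ∨ q % 4 = 1) :
    (2 * q ^ ((k + 1) * k) * (q ^ (k + 1) + 1) *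
      ∏ i ∈ Finset.range k, (q ^ (2 * (i + 1)) - 1)).factorization 2 =
      Kc (cq q) k + 2 := by
  have e := v2_card_minus q hq hq1 k
  have e' := v2_minusB q (k + 1) hq h
  omega

end Cfsg.Agent.Helper23.Orth
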