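import Mathlib
import Cfsg.Agent.Lib.Helper13.QuadFinite
import Cfsg.Agent.Lib.Helper2.OrthOrders
import Cfsg.Agent.Lib.Helper23.OrthBase
import Cfsg.Agent.Lib.Helper23.OrthIso
import Cfsg.Agent.Lib.Helper23.SpSylow2
import Cfsg.Agent.Lib.Helper23.GLVal

set_option autoImplicit false
set_option linter.style.haveILetI false
set_option linter.unusedSectionVars false

/-!
# Diagonal forms versus the standard forms
-/

namespace Cfsg.Agent.Helper23.Orth

open Cfsg QuadraticMap Matrix Cfsg.Agent.Helper17.Spinor Cfsg.Agent.Helper13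
  Cfsg.Agent.Helper2.Orth Cfsg.Agent.Helper23.SpShape

universe u

variable {F : Type u} [Field F]

theorem gram_det_wForm {I : Type} [Fintype I] [DecidableEq I] (w : I → F) :
    (Matrix.of fun i j => polar (wForm w) (Pi.basisFun F I i) (Pi.basisFun F I j)).det =
      ∏ i, (2 * w i) := by
  rw [gram_det_orth (wForm w) (Pi.basisFun F I)]
  · apply Finset.prod_congr rfl
    intro i _
    rw [Pi.basisFun_apply, wForm_single]
    ring
  · intro i j hij
    rw [Pi.basisFun_apply, Pi.basisFun_apply, polar_wForm_single, Pi.single_eq_of_ne hij.symm]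
    ring

/-- a diagonal form and a form given by a matrix, with Gram determinants in the same square
class, are isometric -/
theorem exists_equiv_wForm_matQ [Fintype F] (h2 : (2 : F) ≠ 0) {I ι : Type} [Fintype I]
    [DecidableEq I] [Fintype ι] [DecidableEq ι] (w : I → F) (hw : ∀ i, w i ≠ 0)
    (M : Matrix ι ι F) (hM : (polarBilin (matQ M)).Nondegenerate)
    (hcard : Fintype.card I = Fintype.card ι)
    (hsq : IsSquare ((∏ i, (2 * w i)) * (M + Mᵀ).det)) :
    ∃ g : (I → F) ≃ₗ[F] (ι → F), ∀ v, matQ M (g v) = wForm w v := by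
  apply equiv_of_disc_idx h2 (wForm w) (matQ M) (nondeg_wForm h2 w hw) hM
    (Pi.basisFun F I) (Pi.basisFun F ι) hcard
  rw [gram_det_wForm, gram_matQ]
  exact hsq

/-- the order of the orthogonal group of `x² + y²` -/
theorem v2_card_O2 [Fintype F] (hF : Odd (Fintype.card F)) (h2 : (2 : F) ≠ 0) :
    (Nat.card ↥(Cfsg.isometryGroup F (⇑(oneForm (F := F) (Fin 2))))).factorization 2 =
      cq (Fintype.card F) := by
  classical
  obtain ⟨q, hq⟩ : ∃ q, q = Fintype.card F := ⟨_, rfl⟩
  have hq1 : 1 < q := by rw [hq]; exact Fintype.one_lt_card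
  have hodd : Odd q := by rw [hq]; exact hF
  rw [← hq]
  have hprod : ∏ i : Fin 2, (2 * (fun _ : Fin 2 => (1 : F)) i) = 4 := by
    simp; norm_num
  rcases Nat.odd_mod_four_iff.1 (Nat.odd_iff.1 hodd) with h4 | h4
  · -- `q ≡ 1 (mod 4)`: hyperbolic plane
    obtain ⟨i, hi⟩ := FiniteField.isSquare_neg_one_iff.2
      (by rw [← hq]; omega : Fintype.card F % 4 ≠ 3)
    obtain ⟨g, hg⟩ := exists_equiv_wForm_matQ h2 (fun _ : Fin 2 => (1 : F))
      (fun _ => one_ne_zero) (plusMat 1 F) (nondeg_plus 1) (by simp) (by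
        rw [hprod, plusMat_add_transpose, hypBlock_det]
        refine ⟨2 * i, ?_⟩
        linear_combination (4 : F) * hi)
    obtain ⟨e⟩ := nonempty_iso_of_equiv (⇑(wForm fun _ : Fin 2 => (1 : F)))
      (⇑(matQ (plusMat 1 F))) g hg
    have hc : Nat.card ↥(Cfsg.isometryGroup F (⇑(oneForm (F := F) (Fin 2)))) =
        2 * (q - 1) := by
      show Nat.card ↥(Cfsg.isometryGroup F (⇑(wForm fun _ : Fin 2 => (1 : F)))) = _
      rw [Nat.card_congr e.toEquiv, ← quadFormPlus_eq, card_plus_succ 0, ← hq]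
      simp
    rw [hc, Nat.factorization_def _ Nat.prime_two, padicValNat.mul (by norm_num) (by omega),
      padicValNat_self]
    unfold cq
    rw [v2_of_mod_four_eq_two (by omega : (q + 1) % 4 = 2)]
  · -- `q ≡ 3 (mod 4)`: anisotropic plane
    have hns : ¬ IsSquare (-1 : F) := by
      rw [FiniteField.isSquare_neg_one_iff, ← hq]
      omega
    have hab : ∀ z₁ z₂ : F, z₁ ^ 2 + 0 * z₁ * z₂ + 1 * z₂ ^ 2 = 0 → z₁ = 0 ∧ z₂ = 0 := by
      intro z₁ z₂ h
      have hz2 : z₂ = 0 := by
        by_contra hz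
        apply hns
        refine ⟨z₁ / z₂, ?_⟩
        field_simp
        linear_combination -h
      rw [hz2] at h
      refine ⟨?_, hz2⟩
      have : z₁ ^ 2 = 0 := by linear_combination h
      exact pow_eq_zero_iff (two_ne_zero) |>.1 this
    obtain ⟨g, hg⟩ := exists_equiv_wForm_matQ h2 (fun _ : Fin 2 => (1 : F))
      (fun _ => one_ne_zero) (minusMat 0 (0 : F) 1) (nondeg_minus 0 0 1 hab) (by simp) (by
        rw [hprod, minusMat_det]
        refine ⟨4, ?_⟩
        ring)
    obtain ⟨e⟩ := nonempty_iso_of_equiv (⇑(wForm fun _ : Fin 2 => (1 : F)))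
      (⇑(matQ (minusMat 0 (0 : F) 1))) g hg
    have hc : Nat.card ↥(Cfsg.isometryGroup F (⇑(oneForm (F := F) (Fin 2)))) =
        2 * (q + 1) := by
      show Nat.card ↥(Cfsg.isometryGroup F (⇑(wForm fun _ : Fin 2 => (1 : F)))) = _
      rw [Nat.card_congr e.toEquiv, ← quadFormMinus_eq, card_minus 0 1 hab 0, ← hq]
      simp
    rw [hc, Nat.factorization_def _ Nat.prime_two, padicValNat.mul (by norm_num) (by omega),
      padicValNat_self]
    unfold cq
    rw [v2_of_mod_four_eq_two (by omega : (q - 1) % 4 = 2)]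
    ring

end Cfsg.Agent.Helper23.Orth
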