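import Mathlib
import Cfsg.Agent.Lib.Helper23.OrthBase
import Cfsg.Agent.Lib.Helper23.ShapeRec

set_option autoImplicit false
set_option linter.style.haveILetI false
set_option linter.unusedSectionVars false

/-!
# The shape recursion for orthogonal groups
-/

namespace Cfsg.Agent.Helper23.SpShape

open Nat Cfsg.Agent.Helper23.SqComm

universe u v

/-- the character of the group of a given shape induced by a character of the base group (trivial
on all the swaps) -/
def Shape.chi {Q : Type u} [Group Q] {A : Type v} [CommGroup A] (θ : Q →* A) :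
    (s : Shape) → ((s.grp Q).T →* A)
  | .base => θ
  | .prod s t => (Shape.chi θ s).coprod (Shape.chi θ t)
  | .wr s => wr2Char (Shape.chi θ s) 1 (one_mul 1)

/-- the generic recursion; in products the left factor has at least two leaves -/
theorem Shape.exists_of_closed' (PP : Shape → ℕ → Prop) (c : ℕ) (hbase : PP .base 1)
    (hprod : ∀ s t a b, 2 ≤ a → 1 ≤ b → PP s a → PP t b → PP (.prod s t) (a + b))
    (hwr : ∀ s a, 1 ≤ a → PP s a → PP (.wr s) (a + a)) :
    ∀ n, 1 ≤ n → ∃ s : Shape, s.logcard c = Kc c n ∧ s.leaves = n ∧ PP s n := by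
  intro n
  induction n using Nat.strong_induction_on with
  | _ n ih =>
    intro hn
    by_cases h1 : n = 1
    · subst h1
      exact ⟨.base, (Kc_one c).symm, rfl, hbase⟩
    obtain ⟨a, ha⟩ : ∃ a, a = Nat.log 2 n := ⟨_, rfl⟩
    have ha1 : 2 ^ a ≤ n := by rw [ha]; exact Nat.pow_log_le_self 2 (by omega)
    have ha2 : n < 2 ^ (a + 1) := by rw [ha]; exact Nat.lt_pow_succ_log_self (by norm_num) n
    have ha0 : 1 ≤ a := by
      rw [ha]
      exact Nat.log_pos (by norm_num) (by omega)
    rcases eq_or_lt_of_le ha1 with h | h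
    · obtain ⟨b, rfl⟩ : ∃ b, a = b + 1 := ⟨a - 1, by omega⟩
      have hn2 : n = 2 * 2 ^ b := by rw [← h, pow_succ]; ring
      have hb1 : 1 ≤ 2 ^ b := Nat.one_le_two_pow
      obtain ⟨s, hs1, hs2, hs4⟩ := ih (2 ^ b) (by omega) hb1
      refine ⟨.wr s, ?_, ?_, ?_⟩
      · show 2 * s.logcard c + 1 = _
        rw [hs1, hn2, Kc_double]
      · show s.leaves + s.leaves = _
        rw [hs2]; omega
      · have := hwr s (2 ^ b) hb1 hs4
        have e : 2 ^ b + 2 ^ b = n := by omega
        rwa [e] at this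
    · obtain ⟨m, hm⟩ : ∃ m, n = 2 ^ a + m := ⟨n - 2 ^ a, by omega⟩
      have hm0 : 0 < m := by omega
      have hm1 : m < 2 ^ a := by rw [pow_succ] at ha2; omega
      have hb1 : 1 ≤ 2 ^ a := Nat.one_le_two_pow
      have hb2 : 2 ≤ 2 ^ a := by
        calc 2 = 2 ^ 1 := by norm_num
          _ ≤ 2 ^ a := Nat.pow_le_pow_right (by norm_num) ha0
      obtain ⟨s, hs1, hs2, hs4⟩ := ih (2 ^ a) h hb1
      obtain ⟨t, ht1, ht2, ht4⟩ := ih m (by omega) hm0
      refine ⟨.prod s t, ?_, ?_, ?_⟩
      · show s.logcard c + t.logcard c = _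
        rw [hs1, ht1, hm, Kc_add c a m hm1]
      · show s.leaves + t.leaves = _
        rw [hs2, ht2, hm]
      · have := hprod s t (2 ^ a) m hb2 hm0 hs4 ht4
        rwa [← hm] at this

end Cfsg.Agent.Helper23.SpShape
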