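import Mathlib
import Cfsg.Agent.Lib.Helper23.OrthShape

set_option autoImplicit false
set_option linter.style.haveILetI false
set_option linter.unusedSectionVars false

/-!
# The recursion: iterated wreath products of the base group inside orthogonal groups
-/

namespace Cfsg.Agent.Helper23.Orth

open Cfsg QuadraticMap Matrix Cfsg.Agent.Helper17.Spinor Cfsg.Agent.Helper23.SpShape
  Cfsg.Agent.Helper23.SqComm

universe u

variable {F : Type u} [Field F]

/-- bundled finite index types -/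
structure IdxT : Type 1 where
  /-- the index type -/
  I : Type
  /-- finiteness -/
  [fin : Fintype I]
  /-- decidable equality -/
  [dec : DecidableEq I]

attribute [instance] IdxT.fin IdxT.dec

/-- every possible value of `theta` is taken -/
def Full {R : Type u} [Group R] (χ : R →* AA F) : Prop :=
  ∀ (δ : Fˣ) (ε : Fˣ ⧸ Sq F), (δ = 1 ∨ δ = -1) → ∃ r, χ r = AA.mk δ ε

theorem Full.prod_left {R S : Type u} [Group R] [Group S] {χ₁ : R →* AA F} (χ₂ : S →* AA F)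
    (h : Full χ₁) : Full (χ₁.coprod χ₂) := by
  intro δ ε hδ
  obtain ⟨r, hr⟩ := h δ ε hδ
  refine ⟨(r, 1), ?_⟩
  rw [MonoidHom.coprod_apply]
  show χ₁ r * χ₂ 1 = _
  rw [map_one, mul_one, hr]

theorem Full.wr2 {R : Type u} [Group R] {χ : R →* AA F} (h : Full χ) :
    Full (wr2Char χ 1 (one_mul 1)) := by
  intro δ ε hδ
  obtain ⟨r, hr⟩ := h δ ε hδ
  refine ⟨SemidirectProduct.inl (r, 1), ?_⟩
  rw [wr2Char_inl]
  show χ r * χ 1 = _
  rw [map_one, mul_one, hr]

variable [Fintype F] (h2 : (2 : F) ≠ 0)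

theorem exists_of_full {R : Type u} [Group R] {χ : R →* AA F} (h : Full χ) {I : Type}
    [Fintype I] [DecidableEq I] (Q : QuadraticForm F (I → F))
    (hQ : (polarBilin Q).Nondegenerate) (g : ↥(Cfsg.isometryGroup F (⇑Q))) :
    ∃ r, χ r = theta Q h2 hQ g :=
  h _ _ (theta_fst_cases Q h2 hQ g)

/-- the recursion -/
theorem orth_shape (D : Subgroup ↥(Cfsg.isometryGroup F (⇑(oneForm (F := F) (Fin 2)))))
    (hreal : ∀ d : D, ∃ h : D, h * d * h⁻¹ = d⁻¹) (τ τ' : D) (hτ : τ * τ = 1)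
    (hτ' : τ' * τ' = 1)
    (hvals : ∀ r : D,
      theta (oneForm (Fin 2)) h2 (nondeg_oneForm h2 _) r = 1 ∨
      theta (oneForm (Fin 2)) h2 (nondeg_oneForm h2 _) r =
        theta (oneForm (Fin 2)) h2 (nondeg_oneForm h2 _) τ ∨
      theta (oneForm (Fin 2)) h2 (nondeg_oneForm h2 _) r =
        theta (oneForm (Fin 2)) h2 (nondeg_oneForm h2 _) τ' ∨
      theta (oneForm (Fin 2)) h2 (nondeg_oneForm h2 _) r =
        theta (oneForm (Fin 2)) h2 (nondeg_oneForm h2 _) τ *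
          theta (oneForm (Fin 2)) h2 (nondeg_oneForm h2 _) τ')
    (hθτ : theta (oneForm (Fin 2)) h2 (nondeg_oneForm h2 _) τ = AA.mk (-1) 1)
    (hθτ' : ∃ ν : F, ¬ IsSquare ν ∧ theta (oneForm (Fin 2)) h2 (nondeg_oneForm h2 _) τ' =
      AA.mk (-1) (sqClass (unitOf ν)))
    (c : ℕ) (n : ℕ) (hn : 1 ≤ n) :
    ∃ s : Shape, s.logcard c = Kc c n ∧ ∃ J : IdxT, Fintype.card J.I = 2 * n ∧
      EmbQ h2 (s.grp D).T (s.chi ((theta (oneForm (Fin 2)) h2 (nondeg_oneForm h2 _)).comp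
        D.subtype)) (oneForm J.I) ∧
      Full (s.chi ((theta (oneForm (Fin 2)) h2 (nondeg_oneForm h2 _)).comp D.subtype)) ∧
      (2 ≤ n → Good (s.chi ((theta (oneForm (Fin 2)) h2 (nondeg_oneForm h2 _)).comp
        D.subtype))) := by
  classical
  obtain ⟨χ, hχ⟩ : ∃ χ : D →* AA F,
      χ = (theta (oneForm (Fin 2)) h2 (nondeg_oneForm h2 _)).comp D.subtype := ⟨_, rfl⟩
  rw [← hχ]
  have hsq : ∀ d : D, χ d * χ d = 1 := by
    intro d
    rw [hχ]
    exact theta_mul_self _ h2 _ _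
  have hvals' : ∀ r : D, χ r = 1 ∨ χ r = χ τ ∨ χ r = χ τ' ∨ χ r = χ τ * χ τ' := by
    intro r
    rw [hχ]
    exact hvals r
  have hfull : Full χ := by
    obtain ⟨ν, hν, hντ'⟩ := hθτ'
    have hχτ : χ τ = AA.mk (-1) 1 := by rw [hχ]; exact hθτ
    have hχτ' : χ τ' = AA.mk (-1) (sqClass (unitOf ν)) := by rw [hχ]; exact hντ'
    intro δ ε hδ
    rcases hδ with rfl | rfl <;> rcases sqClass_cases hν ε with rfl | rfl
    · exact ⟨1, map_one χ⟩
    · refine ⟨τ * τ', ?_⟩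
      rw [map_mul, hχτ, hχτ', AA.mk_mul_mk, one_mul]
      congr 1
      simp
    · exact ⟨τ, hχτ⟩
    · exact ⟨τ', hχτ'⟩
  obtain ⟨s, hs1, -, ⟨J, hJ, hemb⟩, hfl, -, hgood⟩ := Shape.exists_of_closed'
    (fun s a => (∃ J : IdxT, Fintype.card J.I = 2 * a ∧
      EmbQ h2 (s.grp D).T (s.chi χ) (oneForm J.I)) ∧ Full (s.chi χ) ∧ (a = 1 → s = .base) ∧
      (2 ≤ a → Good (s.chi χ))) c
    (by
      refine ⟨⟨⟨Fin 2⟩, by simp, ?_⟩, hfull, fun _ => rfl, fun h => absurd h (by norm_num)⟩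
      rw [hχ]
      exact EmbQ.subgroup h2 _ _ D)
    (by
      rintro s t a b ha hb ⟨⟨J₁, hJ₁, e₁⟩, f₁, -, g₁⟩ ⟨⟨J₂, hJ₂, e₂⟩, f₂, b₂, g₂⟩
      refine ⟨⟨⟨J₁.I ⊕ J₂.I⟩, ?_, ?_⟩, Full.prod_left _ f₁, fun h => absurd h (by omega), ?_⟩
      · rw [Fintype.card_sum, hJ₁, hJ₂]; ring
      · have := EmbQ.prod h2 e₁ e₂
        rw [sumForm_oneForm] at this
        exact this
      · intro _
        rcases Nat.lt_or_ge b 2 with hb2 | hb2
        · have hb1 : b = 1 := by omega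
          have ht := b₂ hb1
          subst ht
          apply Good.prod_real (g₁ ha) hreal hsq
          intro l
          obtain ⟨r, hr⟩ := exists_of_full h2 f₁ (oneForm (Fin 2)) (nondeg_oneForm h2 _) l
          refine ⟨r, ?_⟩
          rw [hr, hχ]
          rfl
        · exact Good.prod (g₁ ha) (g₂ hb2))
    (by
      rintro s a ha ⟨⟨J₁, hJ₁, e₁⟩, f₁, b₁, g₁⟩
      haveI : Nonempty J₁.I := by
        rw [← Fintype.card_pos_iff, hJ₁]; omega
      refine ⟨⟨⟨J₁.I ⊕ J₁.I⟩, ?_, ?_⟩, Full.wr2 f₁, fun h => absurd h (by omega), ?_⟩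
      · rw [Fintype.card_sum, hJ₁]; ring
      · have := EmbQ.wr h2 (w := fun _ : J₁.I => (1 : F)) (fun _ => one_ne_zero)
          (by rw [hJ₁]; exact even_two_mul a) (by simp) e₁
        have e : sumForm (wForm fun _ : J₁.I => (1 : F)) (wForm fun _ : J₁.I => (1 : F)) =
            oneForm (J₁.I ⊕ J₁.I) := sumForm_oneForm J₁.I J₁.I
        rw [e] at this
        exact this
      · intro _
        rcases Nat.lt_or_ge a 2 with ha2 | ha2
        · have ha1 : a = 1 := by omega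
          have hs := b₁ ha1
          subst hs
          exact (good_of_twoInv χ hreal hsq τ τ' hτ hτ' hvals').wr2_of_prod
        · exact (g₁ ha2).wr2')
    n hn
  exact ⟨s, hs1, J, hJ, hemb, hfl, hgood⟩

end Cfsg.Agent.Helper23.Orth
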