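import Mathlib
import Cfsg.Agent.Lib.Helper23.OrthRec
import Cfsg.Agent.Lib.Helper23.OrthForms

set_option autoImplicit false
set_option linter.style.haveILetI false
set_option linter.unusedSectionVars false

/-!
# The small extra factors: orthogonal groups of lines, and the assembled 2-group
-/

namespace Cfsg.Agent.Helper23.Orth

open Cfsg QuadraticMap Matrix Cfsg.Agent.Helper17.Spinor Cfsg.Agent.Helper23.SpShape
  Cfsg.Agent.Helper23.SqComm

universe u

variable {F : Type u} [Field F]

/-- the form `d x²` on a line -/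
noncomputable def lineForm (d : F) : QuadraticForm F (Unit → F) := wForm (fun _ : Unit => d)

theorem lineForm_apply (d : F) (v : Unit → F) : lineForm d v = d * (v () * v ()) := by
  unfold lineForm
  rw [wForm_apply]
  simp

theorem entry_mul_self_lineForm {d : F} (hd : d ≠ 0)
    (g : ↥(Cfsg.isometryGroup F (⇑(lineForm d)))) :
    ((g : Matrix.GeneralLinearGroup Unit F) : Matrix Unit Unit F) () () *
      ((g : Matrix.GeneralLinearGroup Unit F) : Matrix Unit Unit F) () () = 1 := by
  have h := toEnd_isometry (lineForm d) g (fun _ => 1)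
  rw [toEnd_apply, lineForm_apply, lineForm_apply] at h
  have e : (((g : Matrix.GeneralLinearGroup Unit F) : Matrix Unit Unit F).mulVec fun _ => (1 : F)) ()
      = ((g : Matrix.GeneralLinearGroup Unit F) : Matrix Unit Unit F) () () := by
    simp [Matrix.mulVec, dotProduct]
  rw [e] at h
  have h' : d * (((g : Matrix.GeneralLinearGroup Unit F) : Matrix Unit Unit F) () () *
      ((g : Matrix.GeneralLinearGroup Unit F) : Matrix Unit Unit F) () ()) = d * 1 := by
    rw [h]; ring
  exact mul_left_cancel₀ hd h'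

theorem mul_self_lineForm {d : F} (hd : d ≠ 0) (g : ↥(Cfsg.isometryGroup F (⇑(lineForm d)))) :
    g * g = 1 := by
  apply Subtype.ext
  apply Units.ext
  rw [Subgroup.coe_mul, Units.val_mul]
  ext i j
  rw [Matrix.mul_apply]
  simp only [Finset.univ_unique, Finset.sum_singleton]
  exact entry_mul_self_lineForm hd g

/-- `-1` as an isometry -/
def negOne {I : Type} [Fintype I] [DecidableEq I] (Q : QuadraticForm F (I → F)) :
    ↥(Cfsg.isometryGroup F (⇑Q)) :=
  ⟨-1, by
    intro u v
    show Q (((-1 : Matrix.GeneralLinearGroup I F) : Matrix I I F).mulVec u) = Q u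
    rw [Units.val_neg, Units.val_one, Matrix.neg_mulVec, Matrix.one_mulVec, QuadraticMap.map_neg]⟩

theorem negOne_coe {I : Type} [Fintype I] [DecidableEq I] (Q : QuadraticForm F (I → F)) :
    ((negOne Q : Matrix.GeneralLinearGroup I F) : Matrix I I F) = -1 := by
  show ((-1 : Matrix.GeneralLinearGroup I F) : Matrix I I F) = -1
  rw [Units.val_neg, Units.val_one]

theorem card_lineForm (h2 : (2 : F) ≠ 0) {d : F} (hd : d ≠ 0) :
    Nat.card ↥(Cfsg.isometryGroup F (⇑(lineForm d))) = 2 := by
  rw [Nat.card_eq_two_iff]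
  refine ⟨1, negOne (lineForm d), ?_, ?_⟩
  · intro h
    have h1 := congrArg (fun x : ↥(Cfsg.isometryGroup F (⇑(lineForm d))) =>
      ((x : Matrix.GeneralLinearGroup Unit F) : Matrix Unit Unit F) () ()) h
    simp only [negOne_coe] at h1
    have h3 : (1 : F) = -1 := by simpa using h1
    apply h2
    linear_combination h3
  · rw [Set.eq_univ_iff_forall]
    intro g
    have hg := entry_mul_self_lineForm hd g
    have hcases : ((g : Matrix.GeneralLinearGroup Unit F) : Matrix Unit Unit F) () () = 1 ∨
        ((g : Matrix.GeneralLinearGroup Unit F) : Matrix Unit Unit F) () () = -1 :=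
      mul_self_eq_one_iff.1 hg
    rcases hcases with h | h
    · left
      apply Subtype.ext
      apply Units.ext
      ext i j
      rw [h]
      simp
    · right
      show g = negOne (lineForm d)
      apply Subtype.ext
      apply Units.ext
      rw [negOne_coe]
      ext i j
      rw [h]
      simp

/-- the assembled 2-group: `n` planes `x² + y²` and an extra factor consisting of involutions -/
theorem exists_good_emb [Fintype F] (hF : Odd (Fintype.card F)) (h2 : (2 : F) ≠ 0) (n : ℕ)
    (hn : 2 ≤ n) {X : Type u} [Group X] {χX : X →* AA F} {IX : Type} [Fintype IX]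
    [DecidableEq IX] (wX : IX → F) (eX : EmbQ h2 X χX (wForm wX)) (hX2 : ∀ x : X, x * x = 1)
    (k : ℕ) (hcardX : Nat.card X = 2 ^ k) :
    ∃ J : IdxT, Fintype.card J.I = 2 * n ∧ ∃ (R : Type u) (_ : Group R) (χ : R →* AA F),
      Finite R ∧ EmbQ h2 R χ (wForm (Sum.elim (fun _ : J.I => (1 : F)) wX)) ∧ Good χ ∧
      Nat.card R = 2 ^ (Kc (cq (Fintype.card F)) n + k) := by
  classical
  haveI : Fact (Nat.Prime 2) := ⟨Nat.prime_two⟩
  obtain ⟨D, hreal, τ, τ', hτ, hτ', hvals, hθτ, hθτ'⟩ := exists_base (F := F) h2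
  have hDcard : Nat.card (D : Subgroup ↥(Cfsg.isometryGroup F (⇑(oneForm (F := F) (Fin 2))))) =
      2 ^ cq (Fintype.card F) := by
    rw [Sylow.card_eq_multiplicity, v2_card_O2 hF h2]
  obtain ⟨s, hs, J, hJ, emb, full, good⟩ := orth_shape h2
    (D : Subgroup ↥(Cfsg.isometryGroup F (⇑(oneForm (F := F) (Fin 2))))) hreal τ τ' hτ hτ' hvals
    hθτ hθτ' (cq (Fintype.card F)) n (by omega)
  obtain ⟨hQX, fX, hfX, hθX⟩ := eX
  refine ⟨J, hJ, (s.grp (D : Subgroup ↥(Cfsg.isometryGroup F (⇑(oneForm (F := F) (Fin 2)))))).T × X,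
    inferInstance, (s.chi ((theta (oneForm (Fin 2)) h2 (nondeg_oneForm h2 _)).comp
      (D : Subgroup ↥(Cfsg.isometryGroup F (⇑(oneForm (F := F) (Fin 2))))).subtype)).coprod χX,
    ?_, ?_, ?_, ?_⟩
  · apply Nat.finite_of_card_ne_zero
    rw [Nat.card_prod, Shape.card_grp _ _ hDcard s, hcardX]
    positivity
  · have := EmbQ.prod h2 emb (⟨hQX, fX, hfX, hθX⟩ : EmbQ h2 X χX (wForm wX))
    unfold oneForm at this
    rw [sumForm_wForm] at this
    exact this
  · apply Good.prod_real (good hn)
    · intro l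
      refine ⟨1, ?_⟩
      rw [one_mul, inv_one, mul_one]
      exact eq_inv_of_mul_eq_one_left (hX2 l)
    · intro l
      rw [← hθX]
      exact theta_mul_self _ h2 _ _
    · intro l
      obtain ⟨r, hr⟩ := exists_of_full h2 full (wForm wX) hQX (fX l)
      exact ⟨r, by rw [hr, hθX]⟩
  · rw [Nat.card_prod, Shape.card_grp _ _ hDcard s, hcardX, hs, ← pow_add]

end Cfsg.Agent.Helper23.Orth
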