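import Mathlib
import Cfsg.Agent.Lib.Helper23.OrthX
import Cfsg.Agent.Lib.Helper23.OrthSylow
import Cfsg.Agent.Lib.Helper23.OrthVal

set_option autoImplicit false
set_option linter.style.haveILetI false
set_option linter.unusedSectionVars false

/-!
# Sylow 2-subgroups of `Ω(Q)`: the master statement and the three families
-/

namespace Cfsg.Agent.Helper23.Orth

open Cfsg QuadraticMap Matrix Cfsg.Agent.Helper17.Spinor Cfsg.Agent.Helper23.SpShape
  Cfsg.Agent.Helper23.SqComm Cfsg.Agent.Helper13 Cfsg.Agent.Helper2.Orth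

universe u

variable {F : Type u} [Field F] [Fintype F]

/-- the master statement -/
theorem sqInComm_of_data (hF : Odd (Fintype.card F)) (h2 : (2 : F) ≠ 0) (n : ℕ) (hn : 2 ≤ n)
    {X : Type u} [Group X] {χX : X →* AA F} {IX : Type} [Fintype IX] [DecidableEq IX]
    (wX : IX → F) (hwX : ∀ i, wX i ≠ 0) (eX : EmbQ h2 X χX (wForm wX))
    (hX2 : ∀ x : X, x * x = 1) (k : ℕ) (hcardX : Nat.card X = 2 ^ k)
    {ι : Type} [Fintype ι] [DecidableEq ι] (M : Matrix ι ι F)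
    (hM : (polarBilin (matQ M)).Nondegenerate)
    (hcardι : Fintype.card ι = 2 * n + Fintype.card IX)
    (hsq : IsSquare ((∏ i, (2 * wX i)) * (M + Mᵀ).det))
    (Qt : (ι → F) → F) (hQt : Qt = ⇑(matQ M))
    (hv2 : (Nat.card ↥(Cfsg.isometryGroup F Qt)).factorization 2 =
      Kc (cq (Fintype.card F)) n + k)
    (P : Sylow 2 ↥(Cfsg.Omega F Qt)) : SqInComm (P : Subgroup ↥(Cfsg.Omega F Qt)) := by
  classical
  subst hQt
  obtain ⟨J, hJ, R, _, χ, hfin, emb, good, hcard⟩ :=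
    exists_good_emb hF h2 n hn wX eX hX2 k hcardX
  have hw : ∀ i, Sum.elim (fun _ : J.I => (1 : F)) wX i ≠ 0 := by
    rintro (i | i)
    · exact one_ne_zero
    · exact hwX i
  obtain ⟨g, hg⟩ := exists_equiv_wForm_matQ h2 _ hw M hM
    (by rw [Fintype.card_sum, hJ, hcardι]) (by
      rw [Fintype.prod_sum_type]
      simp only [Sum.elim_inl, Sum.elim_inr, Finset.prod_const, Finset.card_univ, hJ]
      rw [mul_assoc]
      apply IsSquare.mul _ hsq
      rw [pow_mul]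
      exact ⟨(2 * 1) ^ n, by rw [← pow_two, ← pow_mul, ← pow_mul, mul_comm n 2]⟩)
  obtain ⟨e⟩ := nonempty_iso_of_equiv (⇑(wForm (Sum.elim (fun _ : J.I => (1 : F)) wX)))
    (⇑(matQ M)) g hg
  apply sqInComm_sylow_Omega h2 _ (by rw [Fintype.card_sum, hJ]; omega) emb good ?_ _ g hg P
  rw [hcard, Nat.card_congr e.toEquiv, hv2]

/-- case A: the discriminant is that of the sum of squares -/
theorem sqInComm_caseA (hF : Odd (Fintype.card F)) (h2 : (2 : F) ≠ 0) (n : ℕ) (hn : 2 ≤ n)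
    {ι : Type} [Fintype ι] [DecidableEq ι] (M : Matrix ι ι F)
    (hM : (polarBilin (matQ M)).Nondegenerate) (hcardι : Fintype.card ι = 2 * n)
    (hsq : IsSquare (M + Mᵀ).det) (Qt : (ι → F) → F) (hQt : Qt = ⇑(matQ M))
    (hv2 : (Nat.card ↥(Cfsg.isometryGroup F Qt)).factorization 2 =
      Kc (cq (Fintype.card F)) n + 0)
    (P : Sylow 2 ↥(Cfsg.Omega F Qt)) : SqInComm (P : Subgroup ↥(Cfsg.Omega F Qt)) := by
  classical
  have hnd : (polarBilin (wForm (fun _ : Empty => (1 : F)))).Nondegenerate :=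
    nondeg_wForm h2 _ (fun i => i.elim)
  haveI : Subsingleton ↥(Cfsg.isometryGroup F (⇑(wForm (fun _ : Empty => (1 : F))))) :=
    ⟨fun a b => Subtype.ext (Units.ext (Matrix.ext fun i => i.elim))⟩
  apply sqInComm_of_data hF h2 n hn (fun _ : Empty => (1 : F)) (fun i => i.elim)
    (EmbQ.self h2 _ hnd) (fun x => Subsingleton.elim _ _) 0
    (by rw [pow_zero]; exact Nat.card_of_subsingleton 1) M hM (by simpa using hcardι)
    (by simpa using hsq) Qt hQt hv2 P

/-- case B: two extra lines -/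
theorem sqInComm_caseB (hF : Odd (Fintype.card F)) (h2 : (2 : F) ≠ 0) (n : ℕ) (hn : 2 ≤ n)
    {ι : Type} [Fintype ι] [DecidableEq ι] (M : Matrix ι ι F)
    (hM : (polarBilin (matQ M)).Nondegenerate) (hdet : (M + Mᵀ).det ≠ 0)
    (hcardι : Fintype.card ι = 2 * n + 2)
    (Qt : (ι → F) → F) (hQt : Qt = ⇑(matQ M))
    (hv2 : (Nat.card ↥(Cfsg.isometryGroup F Qt)).factorization 2 =
      Kc (cq (Fintype.card F)) n + 2)
    (P : Sylow 2 ↥(Cfsg.Omega F Qt)) : SqInComm (P : Subgroup ↥(Cfsg.Omega F Qt)) := by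
  classical
  obtain ⟨δ, hδ⟩ : ∃ δ, δ = (M + Mᵀ).det := ⟨_, rfl⟩
  rw [← hδ] at hdet
  have hnd1 : (polarBilin (lineForm (1 : F))).Nondegenerate :=
    nondeg_wForm h2 _ (fun _ => one_ne_zero)
  have hndδ : (polarBilin (lineForm δ)).Nondegenerate :=
    nondeg_wForm h2 _ (fun _ => hdet)
  have eX := EmbQ.prod h2 (EmbQ.self h2 (lineForm (1 : F)) hnd1) (EmbQ.self h2 (lineForm δ) hndδ)
  unfold lineForm at eX
  rw [sumForm_wForm] at eX
  apply sqInComm_of_data hF h2 n hn _ ?_ eX ?_ 2 ?_ M hM ?_ ?_ Qt hQt hv2 P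
  · rintro (i | i)
    · exact one_ne_zero
    · exact hdet
  · rintro ⟨x, y⟩
    exact Prod.ext (mul_self_lineForm one_ne_zero x) (mul_self_lineForm hdet y)
  · rw [Nat.card_prod]
    have h1 := card_lineForm h2 (one_ne_zero (α := F))
    have h3 := card_lineForm h2 hdet
    unfold lineForm at h1 h3
    rw [h1, h3]
    norm_num
  · rw [hcardι]; simp
  · rw [Fintype.prod_sum_type, ← hδ]
    simp only [Sum.elim_inl, Sum.elim_inr, Finset.univ_unique, Finset.prod_singleton]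
    exact ⟨2 * δ, by ring⟩

/-- odd dimension: one extra line -/
theorem sqInComm_caseO (hF : Odd (Fintype.card F)) (h2 : (2 : F) ≠ 0) (n : ℕ) (hn : 2 ≤ n)
    {ι : Type} [Fintype ι] [DecidableEq ι] (M : Matrix ι ι F)
    (hM : (polarBilin (matQ M)).Nondegenerate) (hdet : (M + Mᵀ).det ≠ 0)
    (hcardι : Fintype.card ι = 2 * n + 1)
    (Qt : (ι → F) → F) (hQt : Qt = ⇑(matQ M))
    (hv2 : (Nat.card ↥(Cfsg.isometryGroup F Qt)).factorization 2 =
      Kc (cq (Fintype.card F)) n + 1)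
    (P : Sylow 2 ↥(Cfsg.Omega F Qt)) : SqInComm (P : Subgroup ↥(Cfsg.Omega F Qt)) := by
  classical
  obtain ⟨δ, hδ⟩ : ∃ δ, δ = (M + Mᵀ).det := ⟨_, rfl⟩
  rw [← hδ] at hdet
  have h2δ : 2 * δ ≠ 0 := mul_ne_zero h2 hdet
  have hndδ : (polarBilin (lineForm (2 * δ))).Nondegenerate :=
    nondeg_wForm h2 _ (fun _ => h2δ)
  have eX := EmbQ.self h2 (lineForm (2 * δ)) hndδ
  have hc := card_lineForm h2 h2δ
  have hsqX := mul_self_lineForm h2δ
  unfold lineForm at eX hc hsqX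
  apply sqInComm_of_data hF h2 n hn _ (fun _ => h2δ) eX hsqX 1 (by rw [hc, pow_one]) M hM
    (by rw [hcardι]; simp) ?_ Qt hQt hv2 P
  rw [← hδ]
  simp only [Finset.univ_unique, Finset.prod_singleton]
  exact ⟨2 * δ, by ring⟩

end Cfsg.Agent.Helper23.Orth
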