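import Mathlib
import Cfsg.Agent.Lib.Helper23.OrthFinal

set_option autoImplicit false
set_option linter.style.haveILetI false
set_option linter.unusedSectionVars false

/-!
# Sylow 2-subgroups of `Ω_{2m+1}(q)`, `Ω⁺_{2m}(q)`, `Ω⁻_{2m}(q)`, `q` odd
-/

namespace Cfsg.Agent.Helper23.Orth

open Cfsg QuadraticMap Matrix Cfsg.Agent.Helper17.Spinor Cfsg.Agent.Helper23.SpShape
  Cfsg.Agent.Helper23.SqComm Cfsg.Agent.Helper13 Cfsg.Agent.Helper2.Orth

universe u

variable {F : Type u} [Field F] [Fintype F]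

theorem isSquare_neg_one_pow (m : ℕ) (h : Even m ∨ Fintype.card F % 4 = 1) :
    IsSquare ((-1 : F) ^ m) := by
  rcases h with ⟨j, hj⟩ | h
  · exact ⟨(-1) ^ j, by rw [hj, pow_add]⟩
  · obtain ⟨i, hi⟩ := FiniteField.isSquare_neg_one_iff.2
      (by omega : Fintype.card F % 4 ≠ 3)
    exact ⟨i ^ m, by rw [hi, mul_pow]⟩

theorem disc_nonsquare (h2 : (2 : F) ≠ 0) (a b : F)
    (hab : ∀ z₁ z₂ : F, z₁ ^ 2 + a * z₁ * z₂ + b * z₂ ^ 2 = 0 → z₁ = 0 ∧ z₂ = 0) :
    ¬ IsSquare (a ^ 2 - 4 * b) := by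
  rintro ⟨r, hr⟩
  have h := hab ((r - a) / 2) 1 (by
    field_simp
    linear_combination -hr)
  exact one_ne_zero h.2

/-- odd dimension -/
theorem sqInComm_sylow_Omega_odd (hF : Odd (Fintype.card F)) (m : ℕ) (hm : 2 ≤ m)
    (P : Sylow 2 ↥(Cfsg.Omega F (Cfsg.quadFormOdd m F))) :
    SqInComm (P : Subgroup ↥(Cfsg.Omega F (Cfsg.quadFormOdd m F))) := by
  have h2 : (2 : F) ≠ 0 := two_ne_zero_of_odd_card hF
  have hq1 : 1 < Fintype.card F := Fintype.one_lt_card
  apply sqInComm_caseO hF h2 m hm (oddMat m F) (nondeg_odd m h2) ?_ ?_ _ (quadFormOdd_eq m) ?_ P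
  · rw [oddMat_det]
    exact mul_ne_zero h2 (pow_ne_zero _ (neg_ne_zero.2 one_ne_zero))
  · simp; ring
  · rw [card_odd h2 m]
    exact v2_card_odd _ hF hq1 m

/-- plus type -/
theorem sqInComm_sylow_Omega_plus (hF : Odd (Fintype.card F)) (m : ℕ) (hm : 1 ≤ m)
    (hm' : Even m ∨ 4 ≤ m) (P : Sylow 2 ↥(Cfsg.Omega F (Cfsg.quadFormPlus m F))) :
    SqInComm (P : Subgroup ↥(Cfsg.Omega F (Cfsg.quadFormPlus m F))) := by
  have h2 : (2 : F) ≠ 0 := two_ne_zero_of_odd_card hF
  have hq1 : 1 < Fintype.card F := Fintype.one_lt_card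
  obtain ⟨k, rfl⟩ : ∃ k, m = k + 1 := ⟨m - 1, by omega⟩
  by_cases hA : Even (k + 1) ∨ Fintype.card F % 4 = 1
  · have hn : 2 ≤ k + 1 := by
      rcases hm' with ⟨j, hj⟩ | h
      · omega
      · omega
    apply sqInComm_caseA hF h2 (k + 1) hn (plusMat (k + 1) F) (nondeg_plus (k + 1)) ?_ ?_ _
      (quadFormPlus_eq (k + 1)) ?_ P
    · simp; ring
    · rw [plusMat_add_transpose, hypBlock_det]
      exact isSquare_neg_one_pow _ hA
    · rw [card_plus_succ k]
      exact v2_card_plusA _ hF hq1 k hA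
  · rw [not_or, Nat.not_even_iff_odd] at hA
    obtain ⟨hodd, h4⟩ := hA
    have hq3 : Fintype.card F % 4 = 3 := by
      rcases Nat.odd_mod_four_iff.1 (Nat.odd_iff.1 hF) with h | h
      · exact absurd h h4
      · exact h
    have hk : 2 ≤ k := by
      rcases hm' with h | h
      · exact absurd h (Nat.not_even_iff_odd.2 hodd)
      · omega
    apply sqInComm_caseB hF h2 k hk (plusMat (k + 1) F) (nondeg_plus (k + 1)) ?_ ?_ _
      (quadFormPlus_eq (k + 1)) ?_ P
    · rw [plusMat_add_transpose, hypBlock_det]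
      exact pow_ne_zero _ (neg_ne_zero.2 one_ne_zero)
    · simp; ring
    · rw [card_plus_succ k]
      exact v2_card_plusB _ hq3 k hodd

/-- minus type -/
theorem sqInComm_sylow_Omega_minus (hF : Odd (Fintype.card F)) (k : ℕ) (hk : 2 ≤ k) (a b : F)
    (hab : ∀ z₁ z₂ : F, z₁ ^ 2 + a * z₁ * z₂ + b * z₂ ^ 2 = 0 → z₁ = 0 ∧ z₂ = 0)
    (P : Sylow 2 ↥(Cfsg.Omega F (Cfsg.quadFormMinus k F a b))) :
    SqInComm (P : Subgroup ↥(Cfsg.Omega F (Cfsg.quadFormMinus k F a b))) := by
  classical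
  have h2 : (2 : F) ≠ 0 := two_ne_zero_of_odd_card hF
  have hq1 : 1 < Fintype.card F := Fintype.one_lt_card
  by_cases hB : Even (k + 1) ∨ Fintype.card F % 4 = 1
  · apply sqInComm_caseB hF h2 k hk (minusMat k a b) (nondeg_minus k a b hab) ?_ ?_ _
      (quadFormMinus_eq k a b) ?_ P
    · rw [minusMat_det]
      exact mul_ne_zero (pow_ne_zero _ (neg_ne_zero.2 one_ne_zero)) (disc_ne_zero a b hab)
    · simp; ring
    · rw [card_minus a b hab k]
      exact v2_card_minusB _ hF hq1 k hB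
  · rw [not_or, Nat.not_even_iff_odd] at hB
    obtain ⟨hodd, h4⟩ := hB
    have hq3 : Fintype.card F % 4 = 3 := by
      rcases Nat.odd_mod_four_iff.1 (Nat.odd_iff.1 hF) with h | h
      · exact absurd h h4
      · exact h
    have hkeven : Even k := by
      rcases Nat.even_or_odd k with h | h
      · exact h
      · exact absurd (h.add_odd odd_one) (Nat.not_even_iff_odd.2 hodd)
    apply sqInComm_caseA hF h2 (k + 1) (by omega) (minusMat k a b) (nondeg_minus k a b hab) ?_ ?_ _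
      (quadFormMinus_eq k a b) ?_ P
    · simp; ring
    · rw [minusMat_det, hkeven.neg_one_pow, one_mul]
      have hns : ¬ IsSquare (-1 : F) := by
        rw [FiniteField.isSquare_neg_one_iff]
        omega
      have hne : a ^ 2 - 4 * b ≠ 0 := by
        intro h
        exact disc_ne_zero a b hab (by linear_combination -h)
      have := (isSquare_mul_nonsquare hne hns).2 (disc_nonsquare h2 a b hab)
      have e : (a ^ 2 - 4 * b) * -1 = 4 * b - a ^ 2 := by ring
      rwa [e] at this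
    · rw [card_minus a b hab k]
      exact v2_card_minusA _ hq3 k hodd

end Cfsg.Agent.Helper23.Orth
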