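import Mathlib
import Cfsg.Agent.S4730
import Cfsg.Agent.Lib.Helper24.Cd3Main
import Cfsg.Agent.Lib.Helper5.CenterDvd

/-!
# S4466 piece SYLP (helper23): Sylow `p`-subgroups of order `p` from a faithful irreducible character of degree `p`

`G` with trivial centre, `χ` faithful irreducible of prime degree `p`, `P` a Sylow `p`-subgroup.  By Burnside's lemma `χ` vanishes at
the nonidentity elements `z` with `P ≤ C_G(z)`.  `χ_P` is irreducible (impossible: a nonidentity central element of `P` would have
`|χ(z)| = p`) or a sum of linear characters (then `P` is abelian, `χ` being faithful).  So `χ` vanishes on `P ∖ {1}` and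
`[χ_P, 1_P] = p / |P|` is an integer.
-/

set_option autoImplicit false
set_option linter.unusedVariables false
set_option linter.unusedSectionVars false
set_option linter.style.haveILetI false

namespace Cfsg.Agent.Helper23.PD

open Cfsg Cfsg.Agent.Helper24 Cfsg.Agent.Helper24.Cd3
open scoped commutatorElement ComplexConjugate

universe u

/-- a linear character is trivial on commutators -/
theorem linear_commutator {Q : Type u} [Group Q] {η : Q → ℂ} (hη : IsIrrCharacter Q η)
    (h1 : charDegree η = 1) (a b : Q) : η ⁅a, b⁆ = η 1 := by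
  have hη1 : η 1 = 1 := (charDegree_eq_one_iff hη).mp h1
  have hηc := isCharacter_of_isIrrCharacter hη
  have h2 : linHom hηc hη1 ⁅a, b⁆ = 1 := by
    rw [map_commutatorElement]
    exact commutatorElement_eq_one_iff_commute.mpr (Commute.all _ _)
  have : ((linHom hηc hη1 ⁅a, b⁆ : ℂˣ) : ℂ) = η ⁅a, b⁆ := linHom_apply hηc hη1 _
  rw [← this, h2, hη1]
  rfl

/-- SYLP.  `G` with trivial centre, `χ` faithful irreducible of prime degree `p`: a Sylow `p`-subgroup has order `p`. -/
theorem card_sylow_of_faithful_prime_degree {G : Type u} [Group G] [Finite G]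
    (hZ : Subgroup.center G = ⊥) {p : ℕ} [Fact p.Prime] {χ : G → ℂ} (hχ : IsIrrCharacter G χ)
    (hfaith : ∀ g : G, χ g = χ 1 → g = 1) (hdeg : charDegree χ = p) (P : Sylow p G) :
    Nat.card P = p := by
  classical
  haveI : Fintype G := Fintype.ofFinite G
  have hpp : p.Prime := Fact.out
  obtain ⟨Q, hQ⟩ : ∃ Q : Subgroup G, Q = (P : Subgroup G) := ⟨_, rfl⟩
  haveI : Fintype Q := Fintype.ofFinite _
  letI : Fintype (IrrCharacter Q) := irrFintype
  have hχc := isCharacter_of_isIrrCharacter hχ
  have hQp : IsPGroup p Q := by rw [hQ]; exact P.isPGroup'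
  -- `p ∣ |G|`, so `Q ≠ 1`
  have hdvd : p ∣ Nat.card G := by rw [← hdeg]; exact charDegree_dvd_card hχ
  have hQne : Q ≠ ⊥ := by rw [hQ]; exact P.ne_bot_of_dvd_card hdvd
  -- vanishing
  have hvan : ∀ z ∈ Q, z ≠ 1 → Q ≤ Subgroup.centralizer ({z} : Set G) → χ z = 0 := by
    intro z hz hz1 hcen
    apply Cfsg.Agent.S4730.char_eq_zero_of_coprime_of_faithful hZ ⟨χ, hχ⟩ hfaith z hz1
    show Nat.Coprime (charDegree χ) _
    rw [hdeg]
    refine (Nat.Prime.coprime_iff_not_dvd hpp).2 (fun hd => P.not_dvd_index ?_)
    rw [hQ] at hcen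
    exact dvd_trans hd (Subgroup.index_dvd_of_le hcen)
  -- the restricted character
  have hres : IsCharacter Q (fun k : Q => χ k) := isCharacter_restrict Q hχc
  have hresdeg : charDegree (fun k : Q => χ k) = p := by
    rw [← hdeg]; rfl
  choose m hm using (isCharacter_decomp hres).1
  have hdec := (isCharacter_decomp hres).2
  have hdegsum : p = ∑ η : IrrCharacter Q, m η * charDegree (η : Q → ℂ) := by
    rw [← degree_decomp hres m hm, hresdeg]
  have hvalat : ∀ c : Q, χ c = ∑ η : IrrCharacter Q, (m η : ℂ) * (η : Q → ℂ) c := by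
    intro c
    have h1 := congrFun hdec c
    rw [Finset.sum_apply] at h1
    rw [h1]
    refine Finset.sum_congr rfl fun η _ => ?_
    rw [Pi.smul_apply, smul_eq_mul, hm]
  -- `Q` is abelian
  have hab : ∀ a b : Q, a * b = b * a := by
    by_cases hlin : ∀ η : IrrCharacter Q, m η ≠ 0 → charDegree (η : Q → ℂ) = 1
    · intro a b
      have hc : χ ((⁅a, b⁆ : Q) : G) = χ ((1 : Q) : G) := by
        rw [hvalat, hvalat]
        refine Finset.sum_congr rfl fun η _ => ?_
        by_cases h0 : m η = 0
        · rw [h0]; simp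
        · rw [linear_commutator η.2 (hlin η h0) a b]
      have h1 : ((⁅a, b⁆ : Q) : G) = 1 := hfaith _ (by rw [hc]; rfl)
      have h2 : ⁅a, b⁆ = 1 := Subtype.ext h1
      exact (commutatorElement_eq_one_iff_commute.mp h2).eq
    · exfalso
      push Not at hlin
      obtain ⟨η₀, hm0, hd1⟩ := hlin
      -- the degree of `η₀` is divisible by `p`
      have hd0 : charDegree (η₀ : Q → ℂ) ∣ Nat.card Q := charDegree_dvd_card η₀.2
      obtain ⟨a, ha⟩ := IsPGroup.iff_card.mp hQp
      rw [ha] at hd0
      obtain ⟨j, -, hj⟩ := (Nat.dvd_prime_pow hpp).mp hd0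
      have hj0 : j ≠ 0 := by
        intro h0
        rw [h0, pow_zero] at hj
        exact hd1 hj
      have hple : p ≤ charDegree (η₀ : Q → ℂ) := by
        rw [hj]
        calc p = p ^ 1 := (pow_one p).symm
          _ ≤ p ^ j := Nat.pow_le_pow_right hpp.pos (by omega)
      -- so `m η₀ = 1`, `η₀(1) = p`, all other multiplicities vanish
      have hsplit : p = m η₀ * charDegree (η₀ : Q → ℂ) +
          ∑ η ∈ Finset.univ.erase η₀, m η * charDegree (η : Q → ℂ) := by
        rw [Finset.add_sum_erase _ (fun η => m η * charDegree (η : Q → ℂ)) (Finset.mem_univ η₀)]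
        exact hdegsum
      have hm1 : 1 ≤ m η₀ := Nat.one_le_iff_ne_zero.mpr hm0
      have hmul : charDegree (η₀ : Q → ℂ) ≤ m η₀ * charDegree (η₀ : Q → ℂ) :=
        Nat.le_mul_of_pos_left _ hm1
      have hrest : ∑ η ∈ Finset.univ.erase η₀, m η * charDegree (η : Q → ℂ) = 0 := by omega
      have hd0p : charDegree (η₀ : Q → ℂ) = p := by omega
      have hm01 : m η₀ = 1 := by
        have h3 : m η₀ * charDegree (η₀ : Q → ℂ) = p := by omega
        rw [hd0p] at h3
        have : m η₀ * p = 1 * p := by rw [h3, one_mul]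
        exact Nat.eq_of_mul_eq_mul_right hpp.pos this
      have hzero : ∀ η : IrrCharacter Q, η ≠ η₀ → m η = 0 := by
        intro η hne
        have h3 := (Finset.sum_eq_zero_iff.mp hrest) η (Finset.mem_erase.mpr ⟨hne, Finset.mem_univ _⟩)
        rcases Nat.mul_eq_zero.mp h3 with h4 | h4
        · exact h4
        · exact absurd h4 (charDegree_pos η.2).ne'
      -- a nonidentity central element of `Q`
      haveI : Nontrivial Q := (Subgroup.nontrivial_iff_ne_bot Q).mpr hQne
      haveI : Nontrivial (Subgroup.center Q) := hQp.center_nontrivial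
      obtain ⟨⟨z, hz⟩, hz1⟩ := exists_ne (1 : Subgroup.center Q)
      have hz1' : (z : G) ≠ 1 := by
        intro h
        apply hz1
        apply Subtype.ext
        apply Subtype.ext
        exact h
      have hzcen : Q ≤ Subgroup.centralizer ({(z : G)} : Set G) := by
        intro x hx
        rw [Subgroup.mem_centralizer_singleton_iff]
        have h1 := Subgroup.mem_center_iff.mp hz ⟨x, hx⟩
        exact congrArg Subtype.val h1
      have h0 := hvan (z : G) z.2 hz1' hzcen
      rw [hvalat z, Finset.sum_eq_single η₀ (fun η _ hne => by rw [hzero η hne]; simp)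
        (fun h => absurd (Finset.mem_univ _) h), hm01, Nat.cast_one, one_mul] at h0
      have h5 := Cfsg.Agent.Helper5.irr_central_normSq η₀.2 z hz
      rw [h0, zero_mul, irr_one_eq_charDegree η₀.2, hd0p] at h5
      have hp0 : (p : ℂ) ≠ 0 := by exact_mod_cast hpp.ne_zero
      exact mul_ne_zero hp0 hp0 h5.symm
  -- `χ` vanishes on `Q ∖ {1}`
  have hvan' : ∀ z : Q, z ≠ 1 → χ z = 0 := by
    intro z hz1
    apply hvan z z.2 (fun h => hz1 (Subtype.ext h))
    intro x hx
    rw [Subgroup.mem_centralizer_singleton_iff]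
    exact congrArg Subtype.val (hab ⟨x, hx⟩ z)
  -- the multiplicity of the trivial character
  have h1 := hm (principalChar Q)
  have hsum : ∑ k : Q, χ k = χ 1 := by
    rw [Finset.sum_eq_single (1 : Q) (fun k _ hk => hvan' k hk)
      (fun h => absurd (Finset.mem_univ _) h)]
    rfl
  have hcardQ : (Nat.card Q : ℂ) ≠ 0 := by exact_mod_cast Nat.card_pos.ne'
  have h2 : (p : ℂ) = (m (principalChar Q) : ℂ) * (Nat.card Q : ℂ) := by
    unfold classInner at h1
    have h3 : ∀ k : Q, (fun k : Q => χ k) k *
        conj (((principalChar Q : IrrCharacter Q) : Q → ℂ) k) = χ k := by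
      intro k
      unfold principalChar
      simp
    rw [Finset.sum_congr rfl (fun k _ => h3 k), hsum, irr_one_eq_charDegree hχ, hdeg] at h1
    rw [← h1]
    field_simp
  have h3 : p = m (principalChar Q) * Nat.card Q := by exact_mod_cast h2
  have h4 : Nat.card Q ∣ p := ⟨m (principalChar Q), by rw [h3]; ring⟩
  have h5 : Nat.card Q ≠ 1 := by
    intro h
    exact hQne (Subgroup.eq_bot_of_card_eq Q h)
  have h6 : Nat.card Q = p := by
    rcases (Nat.dvd_prime hpp).mp h4 with h | h
    · exact absurd h h5
    · exact h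
  have h7 : Nat.card (P : Subgroup G) = Nat.card Q := by rw [hQ]
  exact h7.trans h6

end Cfsg.Agent.Helper23.PD
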