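import Mathlib
import Cfsg.Agent.S4441
import Cfsg.Agent.Lib.Helper23.PDSylow
import Cfsg.Agent.Lib.Helper24.Cd3Main
import Cfsg.Agent.Lib.Helper24.Cd2Basic
import Cfsg.Agent.Lib.Helper24.GlaubPGroup
import Cfsg.Agent.Lib.Helper22.Burnside

/-!
# S4466 (helper23): all nonlinear irreducible characters of prime degree ⇒ solvable

Minimal counterexample `G` is nonabelian simple.  Let `p` be the largest degree.  If `p ≤ 3` then `cd(G) ⊆ {1, 2, 3}` and
Isaacs–Passman (`Cd3.cd3_main`) applies.  Otherwise a Sylow `p`-subgroup `P` has order `p` (`card_sylow_of_faithful_prime_degree`),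
and Brauer's theorem on the principal block (S4441) gives `e = |N(P) : C(P)|` characters of degree `≡ ±1 (mod p)` in the principal
block; such a degree is `1` (a prime `q ≤ p` is not `≡ ±1 (mod p)` for `p ≥ 5`), and `1_G` is the only linear character, so
`e = 1` and Burnside's transfer theorem gives a normal `p`-complement: a contradiction.
-/

set_option autoImplicit false
set_option linter.unusedVariables false
set_option linter.unusedSectionVars false
set_option linter.style.haveILetI false

namespace Cfsg.Agent.Helper23.PD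

open Cfsg Cfsg.Agent.Helper24 Cfsg.Agent.Helper24.Cd2 Cfsg.Agent.Helper24.Cd3
open scoped commutatorElement ComplexConjugate

universe u

/-- all nonlinear irreducible characters have prime degree -/
def PrimeDeg (G : Type u) [Group G] : Prop :=
  ∀ χ : G → ℂ, IsIrrCharacter G χ → charDegree χ ≠ 1 → (charDegree χ).Prime

theorem PrimeDeg.quotient {G : Type u} [Group G] [Finite G] (h : PrimeDeg G) (N : Subgroup G)
    [N.Normal] : PrimeDeg (G ⧸ N) := by
  intro χ hχ h1
  have := h (χ ∘ QuotientGroup.mk' N)
    (isIrrCharacter_comp_of_surjective _ (QuotientGroup.mk'_surjective _) hχ)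
  rw [charDegree_comp] at this
  exact this h1

theorem PrimeDeg.normal {G : Type u} [Group G] [Finite G] (h : PrimeDeg G) (N : Subgroup G)
    [N.Normal] : PrimeDeg N := by
  classical
  haveI : Fintype N := Fintype.ofFinite N
  intro θ hθ h1
  obtain ⟨χ, hχ, hcon⟩ := exists_over N hθ
  have hdvd := degree_dvd_of_constituent N hχ hθ hcon
  by_cases hχ1 : charDegree χ = 1
  · rw [hχ1] at hdvd
    exact absurd (Nat.dvd_one.mp hdvd) h1
  · have hp := h χ hχ hχ1
    rcases (Nat.dvd_prime hp).mp hdvd with h' | h'
    · exact absurd h' h1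
    · rw [h']; exact hp

section Simple

variable {G : Type u} [Group G] [Finite G]
  (hsimp : ∀ N : Subgroup G, N.Normal → N = ⊥ ∨ N = ⊤) (hnab : ¬ ∀ a b : G, a * b = b * a)

include hsimp hnab

theorem simple_center : Subgroup.center G = ⊥ := by
  rcases hsimp (Subgroup.center G) inferInstance with h | h
  · exact h
  · exfalso
    apply hnab
    intro a b
    have ha : a ∈ Subgroup.center G := by rw [h]; exact Subgroup.mem_top a
    exact (Subgroup.mem_center_iff.mp ha b).symm

theorem simple_commutator : commutator G = ⊤ := by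
  rcases hsimp (commutator G) inferInstance with h | h
  · exfalso
    apply hnab
    intro a b
    have h1 : ⁅a, b⁆ ∈ commutator G :=
      Subgroup.commutator_mem_commutator (Subgroup.mem_top a) (Subgroup.mem_top b)
    rw [h, Subgroup.mem_bot, commutatorElement_eq_one_iff_commute] at h1
    exact h1.eq
  · exact h

/-- the only linear character is the trivial one -/
theorem simple_linear {χ : G → ℂ} (hχ : IsIrrCharacter G χ) (h1 : charDegree χ = 1) (g : G) :
    χ g = 1 := by
  have hχ1 : χ 1 = 1 := (charDegree_eq_one_iff hχ).mp h1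
  have hχc := isCharacter_of_isIrrCharacter hχ
  set f := linHom hχc hχ1 with hf
  have hker : commutator G ≤ f.ker := by
    rw [commutator_def, Subgroup.commutator_le]
    intro a _ b _
    rw [MonoidHom.mem_ker, map_commutatorElement]
    exact commutatorElement_eq_one_iff_commute.mpr (Commute.all _ _)
  have hg : g ∈ f.ker := hker (by rw [simple_commutator hsimp hnab]; exact Subgroup.mem_top g)
  rw [MonoidHom.mem_ker] at hg
  have : ((f g : ℂˣ) : ℂ) = χ g := linHom_apply hχc hχ1 g
  rw [← this, hg]
  rfl

/-- nonlinear irreducible characters are faithful -/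
theorem simple_faithful {χ : G → ℂ} (hχ : IsIrrCharacter G χ) (h1 : charDegree χ ≠ 1) (g : G)
    (hg : χ g = χ 1) : g = 1 := by
  classical
  haveI : Fintype G := Fintype.ofFinite G
  have hχc := isCharacter_of_isIrrCharacter hχ
  rcases hsimp (charKer hχc) (charKer_normal hχc) with h | h
  · have : g ∈ charKer hχc := hg
    rw [h, Subgroup.mem_bot] at this
    exact this
  · exfalso
    have hall : ∀ x : G, χ x = χ 1 := by
      intro x
      have : x ∈ charKer hχc := by rw [h]; exact Subgroup.mem_top x
      exact this
    -- `[χ, 1] = χ 1 ≠ 0`, so `χ = 1`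
    have hone : IsIrrCharacter G (fun _ : G => (1 : ℂ)) := isIrrCharacter_one
    have horth := irr_orthogonality hχ hone
    have hinner : classInner χ (fun _ : G => (1 : ℂ)) = χ 1 := by
      unfold classInner
      simp only [map_one, mul_one]
      rw [Finset.sum_congr rfl (fun x _ => hall x), Finset.sum_const, Finset.card_univ,
        nsmul_eq_mul, ← Nat.card_eq_fintype_card]
      have hc : (Nat.card G : ℂ) ≠ 0 := by exact_mod_cast Nat.card_pos.ne'
      field_simp
    rw [hinner] at horth
    by_cases heq : χ = fun _ : G => (1 : ℂ)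
    · apply h1
      rw [charDegree_eq_one_iff hχ, heq]
    · rw [if_neg heq] at horth
      have := irr_one_eq_charDegree hχ
      rw [horth] at this
      have hpos := charDegree_pos hχ
      have : (charDegree χ : ℂ) = 0 := this.symm
      have : charDegree χ = 0 := by exact_mod_cast this
      omega

end Simple

/-- arithmetic: a prime `q ≤ p` with `q ≡ ±1 (mod p)`, `p ≥ 5` prime, does not exist -/
theorem no_prime_pm_one {p q : ℕ} (hp : p.Prime) (hp5 : 5 ≤ p) (hq : q.Prime) (hqp : q ≤ p)
    (ε : ℤ) (hε : ε = 1 ∨ ε = -1) (hcong : (q : ℤ) ≡ ε [ZMOD p]) : False := by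
  have hq2 := hq.two_le
  rcases hε with rfl | rfl
  · -- `p ∣ q - 1`, `0 < q - 1 < p`
    have h1 : (p : ℤ) ∣ (q : ℤ) - 1 := (Int.modEq_iff_dvd.mp hcong.symm)
    have h2 : ((q - 1 : ℕ) : ℤ) = (q : ℤ) - 1 := by omega
    rw [← h2] at h1
    have h3 : p ∣ q - 1 := by exact_mod_cast h1
    have := Nat.le_of_dvd (by omega) h3
    omega
  · -- `p ∣ q + 1`, so `q + 1 = p`, `q` even `≥ 4`
    have h1 : (p : ℤ) ∣ (q : ℤ) - (-1) := (Int.modEq_iff_dvd.mp hcong.symm)
    have h2 : ((q + 1 : ℕ) : ℤ) = (q : ℤ) - (-1) := by push_cast; ring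
    rw [← h2] at h1
    have h3 : p ∣ q + 1 := by exact_mod_cast h1
    obtain ⟨k, hk⟩ := h3
    have hk1 : k = 1 := by
      rcases k with _ | _ | k
      · omega
      · rfl
      · exfalso
        have : p * (k + 1 + 1) ≥ p * 2 := Nat.mul_le_mul_left p (by omega)
        omega
    rw [hk1, mul_one] at hk
    -- `q = p - 1` is even
    have hpodd : Odd p := hp.odd_of_ne_two (by omega)
    have hqeven : Even q := by
      obtain ⟨m, hm⟩ := hpodd
      exact ⟨m, by omega⟩
    have := (Nat.Prime.even_iff hq).mp hqeven
    omega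

/-- the simple nonabelian case -/
theorem simple_case {G : Type u} [Group G] [Finite G]
    (hsimp : ∀ N : Subgroup G, N.Normal → N = ⊥ ∨ N = ⊤) (hnab : ¬ ∀ a b : G, a * b = b * a)
    (h : PrimeDeg G) : Group.IsSolvable G := by
  classical
  haveI : Fintype G := Fintype.ofFinite G
  letI : Fintype (IrrCharacter G) := irrFintype
  -- a nonlinear irreducible character
  have hex : ∃ χ : IrrCharacter G, charDegree (χ : G → ℂ) ≠ 1 := by
    by_contra hcon
    push Not at hcon
    exact hnab (comm_of_forall_charDegree_eq_one hcon)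
  -- the largest degree
  obtain ⟨χ₀, -, hmax⟩ := Finset.exists_max_image (Finset.univ : Finset (IrrCharacter G))
    (fun χ => charDegree (χ : G → ℂ)) ⟨principalChar G, Finset.mem_univ _⟩
  obtain ⟨p, hp⟩ : ∃ p : ℕ, p = charDegree (χ₀ : G → ℂ) := ⟨_, rfl⟩
  have hmax' : ∀ χ : IrrCharacter G, charDegree (χ : G → ℂ) ≤ p := by
    intro χ
    rw [hp]
    exact hmax χ (Finset.mem_univ _)
  have hp1 : p ≠ 1 := by
    obtain ⟨χ, hχ⟩ := hex
    intro h1
    have := hmax' χ
    have := charDegree_pos χ.2
    omega
  have hpp : p.Prime := by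
    rw [hp]
    exact h _ χ₀.2 (by rw [← hp]; exact hp1)
  by_cases hp3 : p ≤ 3
  · -- `cd(G) ⊆ {1, 2, 3}`
    have hcd : IsCd3 G 2 3 := by
      intro χ hχ
      by_cases h1 : charDegree χ = 1
      · left; exact h1
      · have hq := h χ hχ h1
        have hle := hmax' ⟨χ, hχ⟩
        have h2 := hq.two_le
        have hle' : charDegree χ ≤ p := hle
        right
        omega
    have := cd3_main (Nat.card G) G rfl 2 3 hcd
    exact (Group.isSolvable_def G).mpr ⟨3, this⟩
  · exfalso
    have hp5 : 5 ≤ p := by
      have : p ≠ 4 := by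
        intro h4
        rw [h4] at hpp
        norm_num at hpp
      omega
    haveI : Fact p.Prime := ⟨hpp⟩
    have hZ := simple_center hsimp hnab
    have hfaith := simple_faithful hsimp hnab χ₀.2 (by rw [← hp]; exact hp1)
    obtain ⟨P⟩ : Nonempty (Sylow p G) := inferInstance
    have hP : Nat.card P = p := card_sylow_of_faithful_prime_degree hZ χ₀.2 hfaith hp.symm P
    obtain ⟨M, hM⟩ := Cfsg.Agent.Helper24.Glaub.exists_isPModular hpp
    obtain ⟨X, Y, hB, hdisj, hX, hY, εX, ε, hXprop, -⟩ :=
      Cfsg.Agent.S4441.result p M hM (by omega) P hP _ rfl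
    -- `X ⊆ {1}`
    have hXsub : ∀ χ ∈ X, χ = principalChar G := by
      intro χ hχX
      obtain ⟨hε, hcong, -⟩ := hXprop χ hχX
      by_cases h1 : charDegree (χ : G → ℂ) = 1
      · apply Subtype.ext
        funext g
        exact simple_linear hsimp hnab χ.2 h1 g
      · exfalso
        have hq := h _ χ.2 h1
        exact no_prime_pm_one hpp hp5 hq (hmax' χ) (εX χ) hε hcong
    have hXcard : Nat.card X ≤ 1 := by
      have : Subsingleton X :=
        ⟨fun a b => Subtype.ext ((hXsub a a.2).trans (hXsub b b.2).symm)⟩
      exact Finite.card_le_one_iff_subsingleton.mpr this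
    rw [hX] at hXcard
    have hNC : Subgroup.normalizer ((P : Subgroup G) : Set G) ≤
        Subgroup.centralizer ((P : Subgroup G) : Set G) := by
      have hne : (Subgroup.centralizer ((P : Subgroup G) : Set G)).relIndex
          (Subgroup.normalizer ((P : Subgroup G) : Set G)) ≠ 0 := by
        intro h0
        have hd := Subgroup.relIndex_dvd_card (Subgroup.centralizer ((P : Subgroup G) : Set G))
          (Subgroup.normalizer ((P : Subgroup G) : Set G))
        rw [h0, zero_dvd_iff] at hd
        exact Nat.card_pos.ne' hd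
      exact Subgroup.relIndex_eq_one.mp (by omega)
    -- Burnside's transfer theorem
    have hcomp := MonoidHom.ker_transferSylow_isComplement' P hNC
    rcases hsimp (MonoidHom.transferSylow P hNC).ker inferInstance with hK | hK
    · rw [hK, Subgroup.isComplement'_bot_left] at hcomp
      apply hnab
      have hcard : Nat.card G = p := by
        rw [← hP]
        have : Nat.card (P : Subgroup G) = Nat.card (⊤ : Subgroup G) := by rw [hcomp]
        rw [this, Subgroup.card_top]
      haveI := isCyclic_of_prime_card hcard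
      exact fun a b => (IsCyclic.isMulCommutative (α := G)).is_comm.comm a b
    · rw [hK, Subgroup.isComplement'_top_left] at hcomp
      have : Nat.card (P : Subgroup G) = 1 := by rw [hcomp]; exact Subgroup.card_bot
      have hP' : Nat.card (P : Subgroup G) = p := hP
      omega

/-- **Isaacs–Passman**: a finite group all of whose nonlinear irreducible characters have prime degree is solvable. -/
theorem isSolvable_of_primeDeg : ∀ (n : ℕ) (G : Type u) [Group G] [Finite G], Nat.card G = n →
    PrimeDeg G → Group.IsSolvable G := by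
  intro n
  induction n using Nat.strong_induction_on with
  | _ n ih =>
  intro G _ _ hn h
  by_cases hN : ∃ N : Subgroup G, N.Normal ∧ N ≠ ⊥ ∧ N ≠ ⊤
  · obtain ⟨N, hNn, hN1, hN2⟩ := hN
    haveI := hNn
    have hlt1 : Nat.card N < n := by
      rw [← hn]
      refine lt_of_le_of_ne (Subgroup.card_le_card_group N) ?_
      intro heq
      exact hN2 (Subgroup.card_eq_iff_eq_top N |>.mp heq)
    have hlt2 : Nat.card (G ⧸ N) < n := by
      rw [← hn, ← Subgroup.index_eq_card, ← Subgroup.card_mul_index N]
      have h1 : 1 < Nat.card N := (Subgroup.one_lt_card_iff_ne_bot N).mpr hN1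
      have h2 : 0 < N.index := Nat.pos_of_ne_zero Subgroup.index_ne_zero_of_finite
      nlinarith
    haveI s1 : Group.IsSolvable N := ih _ hlt1 N rfl (h.normal N)
    haveI s2 : Group.IsSolvable (G ⧸ N) := ih _ hlt2 (G ⧸ N) rfl (h.quotient N)
    exact Group.isSolvable_of_ker_le_range N.subtype (QuotientGroup.mk' N)
      (by rw [QuotientGroup.ker_mk', Subgroup.range_subtype])
  · push Not at hN
    by_cases hab : ∀ a b : G, a * b = b * a
    · exact Group.isSolvable_of_comm hab
    · apply simple_case _ hab h
      intro N hNn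
      by_cases h1 : N = ⊥
      · left; exact h1
      · right; exact hN N hNn h1

end Cfsg.Agent.Helper23.PD
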