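import Mathlib
import Cfsg.Prelude.Def_FusionSystem
import Cfsg.Prelude.Def_FusionComponents
import Cfsg.Agent.Lib.Helper3.PPowDefs
import Cfsg.Agent.Lib.Helper3.PPrimeRes
import Cfsg.Agent.Lib.Helper25.Fusion
import Cfsg.Agent.Lib.Helper25.FusionSat4
import Cfsg.Agent.Lib.Helper23.PPowA

/-!
# S5113 pieces A3 + B5 (helper23): the Frattini property and conjugates fully normalized in `F`
-/

set_option autoImplicit false
set_option linter.unusedSectionVars false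

namespace Cfsg.Agent.Helper3.PPow

open Cfsg Cfsg.FusionSystem Cfsg.Agent.Helper25

universe u v w

variable {Ω : Type u} [Group Ω] {S : Subgroup Ω} {p : ℕ} [Fact p.Prime] {F : FusionSystem S}
  {M : Subgroup Ω} {𝒢 : Type v} [Group 𝒢] {ι : S →* 𝒢} {C : Type w} [CommGroup C] {V : 𝒢 →* C}

/-- PIECE A3. Frattini. -/
theorem Park.frattini (h : Park p F M ι V) {P : Subgroup Ω} (hPM : P ≤ M) {φ : P →* Ω}
    (hφ : φ ∈ F.Hom P) : ∃ g ∈ S, ∃ φ₀ ∈ h.sys.Hom P, ∀ x : P, φ x = g * φ₀ x * g⁻¹ := by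
  obtain ⟨hPS, hφS⟩ := F.le_of_mem hφ
  obtain ⟨f, hf⟩ := (h.real.2 P hPS φ hφS).1 hφ
  obtain ⟨g, hg⟩ := h.gen f
  refine ⟨(g : Ω), g.2, (MulAut.conj (g : Ω)⁻¹).toMonoidHom.comp φ, ?_, ?_⟩
  · rw [h.mem_sys]
    have hval : ∀ x : P, ((MulAut.conj (g : Ω)⁻¹).toMonoidHom.comp φ) x =
        (g : Ω)⁻¹ * φ x * ((g : Ω)⁻¹)⁻¹ := fun x => rfl
    refine ⟨hPM, fun x => ?_, (ι g)⁻¹ * f, ?_, ?_⟩
    · rw [hval]
      exact h.conj_mem (S.inv_mem g.2) ((h.mem_iff_map_mem hφ x).1 (hPM x.2))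
    · rw [map_mul, map_inv, hg, inv_mul_cancel]
    · intro x hx hφx
      have e : (⟨((MulAut.conj (g : Ω)⁻¹).toMonoidHom.comp φ) x, hφx⟩ : S) =
          g⁻¹ * ⟨φ x, hφS x⟩ * g := by
        apply Subtype.ext
        show ((MulAut.conj (g : Ω)⁻¹).toMonoidHom.comp φ) x = (g : Ω)⁻¹ * φ x * (g : Ω)
        rw [hval x, inv_inv]
      rw [e, map_mul, map_mul, map_inv, hf x]
      have e2 : (⟨(x : Ω), hx⟩ : S) = ⟨x, hPS x.2⟩ := rfl
      rw [e2]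
      group
  · intro x
    show φ x = (g : Ω) * ((g : Ω)⁻¹ * φ x * ((g : Ω)⁻¹)⁻¹) * (g : Ω)⁻¹
    group

/-- PIECE B5. Every subgroup of `M` is conjugate in the subsystem to a subgroup fully normalized
in `F`. -/
theorem Park.exists_conj_fullyNormalized [Finite S] (h : Park p F M ι V) {P : Subgroup Ω}
    (hPM : P ≤ M) : ∃ Q, h.sys.IsConj P Q ∧ F.IsFullyNormalized Q := by
  have hPS : P ≤ S := le_trans hPM h.le
  obtain ⟨Q₀, ⟨φ, hφ, hr⟩, hQ₀⟩ := exists_isConj_fullyNormalized F hPS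
  obtain ⟨g, hg, φ₀, hφ₀, hv⟩ := h.frattini hPM hφ
  refine ⟨φ₀.range, ⟨φ₀, hφ₀, rfl⟩, ?_⟩
  have hφ₀F : φ₀ ∈ F.Hom P := h.sys_le P hφ₀
  refine Cfsg.Agent.Helper3.PPrimeRes.fullyNormalized_of_frattini F hQ₀ hφ hr
    (α := MulAut.conj (⟨g, hg⟩ : S)) hφ₀F ?_
  intro x hx
  rw [hv x]
  rfl

end Cfsg.Agent.Helper3.PPow
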