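import Mathlib
import Cfsg.Prelude.Def_FusionSystem
import Cfsg.Prelude.Def_FusionComponents
import Cfsg.Agent.Lib.Helper3.PPowDefs
import Cfsg.Agent.Lib.Helper25.Fusion
import Cfsg.Agent.Lib.Helper23.PPowA

/-!
# S5113 piece A4 (helper23): `O^p(Aut_F(P)) ≤ Aut_E(P)`
-/

set_option autoImplicit false
set_option linter.unusedSectionVars false

namespace Cfsg.Agent.Helper3.PPow

open Cfsg Cfsg.FusionSystem Cfsg.Agent.Helper25

universe u v w

variable {Ω : Type u} [Group Ω] {S : Subgroup Ω} {p : ℕ} [Fact p.Prime] {F : FusionSystem S}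
  {M : Subgroup Ω} {𝒢 : Type v} [Group 𝒢] {ι : S →* 𝒢} {C : Type w} [CommGroup C] {V : 𝒢 →* C}

/-- PIECE A4. `O^p(Aut_F(P)) ≤ Aut_E(P)`. -/
theorem Park.pResidual_le [Finite S] (h : Park p F M ι V) {P : Subgroup Ω} (hPM : P ≤ M) :
    (pResidual p (F.autGroup P)).map (F.autGroup P).subtype ≤ h.sys.autGroup P := by
  have hpp : p.Prime := Fact.out
  have hPS : P ≤ S := le_trans hPM h.le
  unfold pResidual
  rw [MonoidHom.map_closure, Subgroup.closure_le]
  rintro _ ⟨a, ha, rfl⟩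
  have ha' : Nat.Coprime (orderOf a) p := ha
  show (a : MulAut P) ∈ h.sys.autGroup P
  -- the order of `a`
  set m := orderOf a with hm
  have hmα : orderOf (a : MulAut P) = m := Subgroup.orderOf_coe a
  rcases Nat.lt_or_ge 1 m with hm1 | hm1
  swap
  · -- `m ≤ 1`
    have hm0 : m ≠ 0 := by
      intro h0
      rw [h0, Nat.coprime_zero_left] at ha'
      exact hpp.one_lt.ne' ha'
    have hm1' : m = 1 := by omega
    have : (a : MulAut P) = 1 := by
      rw [← orderOf_eq_one_iff, hmα, hm1']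
    rw [this]
    exact Subgroup.one_mem _
  obtain ⟨u, -, hu⟩ := Nat.exists_mul_mod_eq_one_of_coprime ha'.symm hm1
  -- realization of `a`
  have hF : P.subtype.comp (a : MulAut P).toMonoidHom ∈ F.Hom P :=
    (mem_autGroup_iff F hPS _).1 a.2
  obtain ⟨f, hf⟩ := (h.real.2 P hPS _ (fun x => hPS ((a : MulAut P) x).2)).1 hF
  have hf' : ∀ x : P, ι ⟨(((a : MulAut P) x : P) : Ω), hPS ((a : MulAut P) x).2⟩ =
      f * ι ⟨x, hPS x.2⟩ * f⁻¹ := hf
  have hpow : ∀ (j : ℕ) (x : P), ι ⟨((((a : MulAut P) ^ j) x : P) : Ω),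
      hPS (((a : MulAut P) ^ j) x).2⟩ = f ^ j * ι ⟨x, hPS x.2⟩ * (f ^ j)⁻¹ := by
    intro j
    induction j with
    | zero =>
      intro x
      simp
    | succ j ih =>
      intro x
      have e : ((a : MulAut P) ^ (j + 1)) x = (a : MulAut P) (((a : MulAut P) ^ j) x) := by
        rw [pow_succ']
        rfl
      have e2 : (⟨((((a : MulAut P) ^ (j + 1)) x : P) : Ω),
          hPS (((a : MulAut P) ^ (j + 1)) x).2⟩ : S) =
          ⟨(((a : MulAut P) (((a : MulAut P) ^ j) x) : P) : Ω),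
            hPS ((a : MulAut P) (((a : MulAut P) ^ j) x)).2⟩ := by
        apply Subtype.ext
        show ((((a : MulAut P) ^ (j + 1)) x : P) : Ω) = _
        rw [e]
      rw [e2, hf' (((a : MulAut P) ^ j) x), ih x, pow_succ']
      group
  -- `a = a ^ (p * u)`
  have hapow : (a : MulAut P) ^ (p * u) = (a : MulAut P) := by
    have : (a : MulAut P) ^ (p * u) = (a : MulAut P) ^ 1 := by
      rw [pow_eq_pow_iff_modEq, hmα]
      show p * u % m = 1 % m
      rw [hu, Nat.mod_eq_of_lt hm1]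
    rwa [pow_one] at this
  rw [mem_autGroup_iff h.sys hPM]
  rw [h.mem_sys]
  refine ⟨hPM, fun x => hPM ((a : MulAut P) x).2, f ^ (p * u), ?_, ?_⟩
  · rw [map_pow, pow_mul, h.exp, one_pow]
  · intro x hx hφ
    have := hpow (p * u) x
    have e3 : (⟨(P.subtype.comp (a : MulAut P).toMonoidHom) x, hφ⟩ : S) =
        ⟨((((a : MulAut P) ^ (p * u)) x : P) : Ω), hPS (((a : MulAut P) ^ (p * u)) x).2⟩ := by
      apply Subtype.ext
      show (((a : MulAut P) x : P) : Ω) = _
      rw [hapow]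
    rw [e3, this]

end Cfsg.Agent.Helper3.PPow
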