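import Mathlib
import Cfsg.Agent.Lib.Helper5.PimDefs

/-!
# Piece E for helper5 (S4427), core version: vanishing on `p`-singular elements,
with the pieces B, C2, D as explicit hypotheses.
-/

set_option autoImplicit false

namespace Cfsg.Agent.Helper23.PimE

open Cfsg.Agent.Helper5.Pim Matrix

variable {G : Type*} [Group G] [Fintype G] [DecidableEq G]

/-- the trace of `Pm g * E` as a sum over the graph of left translation -/
theorem trace_Pm_mul {R : Type*} [CommRing R] (E : Matrix G G R) (g : G) :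
    (Pm R g * E).trace = ∑ j, E j (g * j) := by
  rw [Matrix.trace]
  simp only [Matrix.diag_apply, Matrix.mul_apply, Pm]
  rw [Finset.sum_comm]
  apply Finset.sum_congr rfl
  intro j _
  rw [Finset.sum_eq_single (g * j)]
  · simp
  · intro i _ hi
    rw [if_neg hi, zero_mul]
  · intro h
    exact absurd (Finset.mem_univ _) h

theorem pow_sub_one_mem {O : Type*} [CommRing O] (I : Ideal O) (ω : O) (h : ω - 1 ∈ I) (k : ℕ) :
    ω ^ k - 1 ∈ I := by
  induction k with
  | zero => simp
  | succ k ih =>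
    have : ω ^ (k + 1) - 1 = ω ^ k * (ω - 1) + (ω ^ k - 1) := by ring
    rw [this]
    exact I.add_mem (I.mul_mem_left _ h) ih

/-- Piece E with B, C2, D as hypotheses. -/
theorem trace_Pm_mul_eq_zero_core {O : Type*} [CommRing O] [IsDomain O] [IsLocalRing O]
    (hB : ∀ (σ : Equiv.Perm G) (d : G → O) (ω : O), ω ≠ 1 → (∀ i, d (σ i) = ω * d i) →
      (∀ i, d i - 1 ∈ IsLocalRing.maximalIdeal O) → ∀ M : Matrix G G O, M * M = M →
      (∀ i j, M (σ i) (σ j) = M i j) → ∑ i, M i (σ i) = 0)
    (ω : O) (hω1 : ω ≠ 1) (hωm : ω - 1 ∈ IsLocalRing.maximalIdeal O)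
    (g : G) (hD : ∃ d : G → O, (∀ h, d (g * h) = ω * d h) ∧ ∀ h, ∃ k : ℕ, d h = ω ^ k)
    (E : Matrix G G O) (hE : E * E = E) (hinv : IsLInv E) :
    (Pm O g * E).trace = 0 := by
  obtain ⟨d, hd1, hd2⟩ := hD
  rw [trace_Pm_mul]
  have := hB (Equiv.mulLeft g) d ω hω1 (fun i => by simpa using hd1 i)
    (fun i => by
      obtain ⟨k, hk⟩ := hd2 i
      rw [hk]
      exact pow_sub_one_mem _ ω hωm k) E hE (fun i j => by simpa using hinv g i j)
  simpa using this

end Cfsg.Agent.Helper23.PimE
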