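import Mathlib
import Cfsg.Agent.Lib.Helper5.PimDefs
import Cfsg.Agent.Lib.Helper25.PimB
import Cfsg.Agent.Lib.Helper2.PimC2
import Cfsg.Agent.Lib.Helper18.PimD
import Cfsg.Agent.Lib.Helper23.PimECore

/-!
# Piece E for helper5 (S4427): vanishing on `p`-singular elements
-/

set_option autoImplicit false

namespace Cfsg.Agent.Helper5.Pim

open Polynomial Matrix

section Mat
variable {G : Type*} [Group G] [Fintype G] [DecidableEq G]

/-! ### PIECE E : vanishing on `p`-singular elements (uses B, C2, D) -/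
theorem trace_Pm_mul_eq_zero {p : ℕ} (D : LocData p) (hp : p.Prime) (E : Matrix G G D.O)
    (hE : E * E = E) (hinv : IsLInv E) (g : G) (hg : p ∣ orderOf g) :
    (Pm D.O g * E).trace = 0 := by
  obtain ⟨ω, hω1, hωp, hωm⟩ := D.exists_root_of_unity hp
  exact Cfsg.Agent.Helper23.PimE.trace_Pm_mul_eq_zero_core
    (fun σ d ω hω hd hd1 M hM hσ => sum_perm_eq_zero σ d ω hω hd hd1 M hM hσ)
    ω hω1 hωm g (exists_coord g p hg ω hωp) E hE hinv

end Mat

end Cfsg.Agent.Helper5.Pim
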