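import Mathlib
import Cfsg.Agent.Lib.Helper23.BlockThirdMain
import Cfsg.Agent.Lib.Helper24.CharInduced
import Cfsg.Agent.Lib.Helper5.Clifford

/-!
# Induction to the principal block via the sum of the `p`-regular elements
(helper23's shared library)
-/

set_option autoImplicit false
set_option linter.unusedSectionVars false
set_option linter.style.haveILetI false

namespace Cfsg.Agent.Helper23.Blk

open Cfsg Cfsg.Agent.Helper24 Cfsg.Agent.Helper5
open scoped ComplexConjugate

universe u

section PrincipalInduce

variable {G : Type u} [Group G] [Fintype G] {M : Ideal AlgInt} {p : ℕ}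

theorem conj_pRegInd (g : G) : conj (pRegInd G p g) = pRegInd G p g := by
  unfold pRegInd
  split_ifs <;> simp

/-- the sum of a class function over the `p`-regular elements, expanded in irreducible
characters -/
theorem sum_pRegInd_mul_eq [Fintype (IrrCharacter G)] {φ : G → ℂ} (hφ : IsClassFunction G φ) :
    ∑ g : G, pRegInd G p g * φ g =
      ∑ χ : IrrCharacter G,
        classInner φ (χ : G → ℂ) * ((χ : G → ℂ) 1 * omega (χ : G → ℂ) (pRegInd G p)) := by
  classical
  have hinst : ‹Fintype (IrrCharacter G)› = irrFintype := Subsingleton.elim _ _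
  subst hinst
  letI : Fintype (IrrCharacter G) := irrFintype
  have hexp := classFunction_expansion hφ
  have hval : ∀ g, φ g = ∑ χ : IrrCharacter G, classInner φ (χ : G → ℂ) * (χ : G → ℂ) g := by
    intro g
    have := congrFun hexp g
    rw [Finset.sum_apply] at this
    simpa using this
  have hstep : ∀ g, pRegInd G p g * φ g =
      ∑ χ : IrrCharacter G, classInner φ (χ : G → ℂ) * (pRegInd G p g * (χ : G → ℂ) g) := by
    intro g
    rw [hval g, Finset.mul_sum]
    apply Finset.sum_congr rfl
    intro χ _
    ring
  rw [Finset.sum_congr rfl (fun g _ => hstep g), Finset.sum_comm]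
  apply Finset.sum_congr rfl
  intro χ _
  unfold omega
  rw [mul_div_cancel₀ _ (irr_one_ne_zero χ.2), Finset.mul_sum]

/-- the sum of an induced class function over the `p`-regular elements -/
theorem sum_pRegInd_mul_indFun (H : Subgroup G) [Fintype H] (η : H → ℂ) :
    ∑ g : G, pRegInd G p g * indFun H η g =
      (H.index : ℂ) * ∑ h : H, pRegInd H p h * η h := by
  classical
  have hfr := frobenius_reciprocity H η (isClassFunction_pRegInd (G := G) (p := p))
  unfold classInner at hfr
  simp only [conj_pRegInd] at hfr
  have hcardG : (Nat.card G : ℂ) ≠ 0 := card_ne_zero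
  have hcardH : (Nat.card H : ℂ) ≠ 0 := card_ne_zero
  have hidx : (Nat.card G : ℂ) = (Nat.card H : ℂ) * (H.index : ℂ) := by
    rw [← Nat.cast_mul, Subgroup.card_mul_index]
  have hcomm : ∑ g : G, pRegInd G p g * indFun H η g = ∑ g : G, indFun H η g * pRegInd G p g := by
    apply Finset.sum_congr rfl
    intro g _
    ring
  have hcommH : ∑ h : H, pRegInd H p h * η h = ∑ h : H, η h * pRegInd G p (h : G) := by
    apply Finset.sum_congr rfl
    intro h _
    rw [← congrFun (pRegInd_comp_subtype (G := G) (p := p) H) h, mul_comm]
  rw [hcomm, hcommH]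
  have hfr' : ∑ g : G, indFun H η g * pRegInd G p g = (Nat.card G : ℂ) * ((Nat.card H : ℂ)⁻¹ *
      ∑ h : H, η h * pRegInd G p (h : G)) := by
    rw [← hfr, ← mul_assoc, mul_inv_cancel₀ hcardG, one_mul]
  rw [hfr', hidx]
  field_simp

/-- the basic identity: the principal-block part of an induced character, weighted by the
central characters at the sum of the `p`-regular elements -/
theorem sum_classInner_indFun_omega [Fintype (IrrCharacter G)] (H : Subgroup G) [Fintype H]
    (η : IrrCharacter H) :
    ∑ χ : IrrCharacter G, classInner (indFun H (η : H → ℂ)) (χ : G → ℂ) *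
        ((χ : G → ℂ) 1 * omega (χ : G → ℂ) (pRegInd G p)) =
      (H.index : ℂ) * ((η : H → ℂ) 1 * omega (η : H → ℂ) (pRegInd H p)) := by
  rw [← sum_pRegInd_mul_eq (isClassFunction_indFun H _), sum_pRegInd_mul_indFun]
  unfold omega
  rw [mul_div_cancel₀ _ (irr_one_ne_zero η.2)]

/-- the central character of a member of the principal block does not vanish at the sum of the
`p`-regular elements -/
theorem not_memLocalIdeal_omega_pRegInd (hM : IsPModular p M) {θ : IrrCharacter G}
    (hθ : θ ∈ principalBlock M G) : ¬ MemLocalIdeal M (omega (θ : G → ℂ) (pRegInd G p)) := by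
  haveI hMp : M.IsPrime := hM.2.1.isPrime
  intro h
  have hsb : SameBlock M (θ : G → ℂ) ((principalChar G : IrrCharacter G) : G → ℂ) :=
    sameBlock_symm hθ
  have h1 := memLocalIdeal_omega_sub hsb (isClassFunction_pRegInd (G := G) (p := p))
    (fun g => memLocalRing_pRegInd g)
  have h2 := memLocalIdeal_sub h h1
  rw [sub_sub_cancel] at h2
  exact not_memLocalIdeal_omega_principal hM h2

/-- every member of the principal block of a subgroup lies under a member of the principal block
of the group -/
theorem exists_principal_over (hM : IsPModular p M) [Fact p.Prime] (H : Subgroup G) [Fintype H]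
    {η : IrrCharacter H} (hη : η ∈ principalBlock M H) :
    ∃ χ : IrrCharacter G, χ ∈ principalBlock M G ∧
      classInner (fun h : H => (χ : G → ℂ) h) (η : H → ℂ) ≠ 0 := by
  classical
  haveI hMp : M.IsPrime := hM.2.1.isPrime
  letI : Fintype (IrrCharacter G) := irrFintype
  letI : Fintype (IrrCharacter H) := irrFintype
  by_contra hcon
  push Not at hcon
  have hsum := sum_classInner_indFun_omega (p := p) H η
  have hzero : ∀ χ : IrrCharacter G, classInner (indFun H (η : H → ℂ)) (χ : G → ℂ) *
        ((χ : G → ℂ) 1 * omega (χ : G → ℂ) (pRegInd G p)) = 0 := by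
    intro χ
    by_cases hχB : χ ∈ principalBlock M G
    · have h0 := hcon χ hχB
      have hχc : IsCharacter G (χ : G → ℂ) := isCharacter_of_isIrrCharacter χ.2
      rw [frobenius_reciprocity H _ (isClassFunction_of_isCharacter hχc),
        classInner_char_comm (isCharacter_of_isIrrCharacter η.2) (isCharacter_restrict H hχc), h0,
        zero_mul]
    · rw [omega_pRegInd_eq_zero hM χ hχB, mul_zero, mul_zero]
  rw [Finset.sum_eq_zero (fun χ _ => hzero χ)] at hsum
  have hω : omega (η : H → ℂ) (pRegInd H p) ≠ 0 := by
    intro h
    apply not_memLocalIdeal_omega_pRegInd hM hη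
    rw [h]
    exact memLocalIdeal_zero ne_top
  have hidx : (H.index : ℂ) ≠ 0 := by
    have : H.index ≠ 0 := Subgroup.index_ne_zero_of_finite
    exact_mod_cast this
  have := mul_ne_zero hidx (mul_ne_zero (irr_one_ne_zero η.2) hω)
  exact this hsum.symm

end PrincipalInduce

end Cfsg.Agent.Helper23.Blk
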