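import Mathlib
import Cfsg.Agent.Lib.Helper11.S11Defs

/-!
# S3211, piece S11-SL2INV: the involutions of `SL₂(F)`, `2 ≠ 0`
-/

set_option autoImplicit false
set_option linter.unusedVariables false

namespace Cfsg.Agent.Helper11.S11

/-- PIECE S11-SL2INV -/
theorem sl2_invol {F : Type*} [Field F] (h2 : (2 : F) ≠ 0)
    (x : Matrix.SpecialLinearGroup (Fin 2) F) (hx : x * x = 1) : x = 1 ∨ x = -1 := by
  have hdet : (x : Matrix (Fin 2) (Fin 2) F) 0 0 * (x : Matrix (Fin 2) (Fin 2) F) 1 1 -
      (x : Matrix (Fin 2) (Fin 2) F) 0 1 * (x : Matrix (Fin 2) (Fin 2) F) 1 0 = 1 := by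
    have := x.2
    rwa [Matrix.det_fin_two] at this
  have hm : (x : Matrix (Fin 2) (Fin 2) F) * (x : Matrix (Fin 2) (Fin 2) F) = 1 := by
    have := congrArg (fun y : Matrix.SpecialLinearGroup (Fin 2) F =>
      (y : Matrix (Fin 2) (Fin 2) F)) hx
    simpa using this
  set a := (x : Matrix (Fin 2) (Fin 2) F) 0 0 with ha
  set b := (x : Matrix (Fin 2) (Fin 2) F) 0 1 with hb
  set c := (x : Matrix (Fin 2) (Fin 2) F) 1 0 with hc
  set d := (x : Matrix (Fin 2) (Fin 2) F) 1 1 with hd
  have e00 : a * a + b * c = 1 := by
    have := congrFun (congrFun hm 0) 0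
    simpa [Matrix.mul_apply, Fin.sum_univ_two] using this
  have e01 : a * b + b * d = 0 := by
    have := congrFun (congrFun hm 0) 1
    simpa [Matrix.mul_apply, Fin.sum_univ_two] using this
  have e10 : c * a + d * c = 0 := by
    have := congrFun (congrFun hm 1) 0
    simpa [Matrix.mul_apply, Fin.sum_univ_two] using this
  have e11 : c * b + d * d = 1 := by
    have := congrFun (congrFun hm 1) 1
    simpa [Matrix.mul_apply, Fin.sum_univ_two] using this
  have hne : a + d ≠ 0 := by
    intro h
    have hd' : d = -a := by linear_combination h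
    rw [hd'] at hdet
    apply h2
    linear_combination -e00 - hdet
  have hb0 : b = 0 := by
    have : b * (a + d) = 0 := by linear_combination e01
    rcases mul_eq_zero.1 this with h | h
    · exact h
    · exact absurd h hne
  have hc0 : c = 0 := by
    have : c * (a + d) = 0 := by linear_combination e10
    rcases mul_eq_zero.1 this with h | h
    · exact h
    · exact absurd h hne
  rw [hb0, zero_mul, sub_zero] at hdet
  rw [hb0, zero_mul, add_zero] at e00
  have had : a = d := by
    have h1 : a * (a - d) = 0 := by linear_combination e00 - hdet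
    have ha0 : a ≠ 0 := by
      intro h
      rw [h, zero_mul] at e00
      exact zero_ne_one e00
    rcases mul_eq_zero.1 h1 with h | h
    · exact absurd h ha0
    · linear_combination h
  have ha1 : (a - 1) * (a + 1) = 0 := by linear_combination e00
  rcases mul_eq_zero.1 ha1 with h | h
  · left
    have ha' : a = 1 := by linear_combination h
    apply Subtype.ext
    ext i j
    fin_cases i <;> fin_cases j
    · simpa using ha'
    · simpa using hb0
    · simpa using hc0
    · simpa using (had ▸ ha' : d = 1)
  · right
    have ha' : a = -1 := by linear_combination h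
    apply Subtype.ext
    ext i j
    fin_cases i <;> fin_cases j
    · simpa using ha'
    · simpa using hb0
    · simpa using hc0
    · simpa using (had ▸ ha' : d = -1)

end Cfsg.Agent.Helper11.S11
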