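import Mathlib
import Cfsg.Prelude.Def_Solvable
import Cfsg.Agent.Lib.Helper9.PCoreSub
import Cfsg.Agent.Lib.Helper1.SolvableBasic

/-!
# S4330 from the key lemma (farm-out piece 3 for helper8)
-/

open scoped Pointwise

namespace Cfsg.Agent.Helper23.S4330Plumb

universe u

section basic

variable {G : Type*} [Group G]

theorem mem_conj_smul {g x : G} {A : Subgroup G} :
    x ∈ MulAut.conj g • A ↔ g⁻¹ * x * g ∈ A := by
  rw [Subgroup.mem_pointwise_smul_iff_inv_smul_mem, MulAut.smul_def, ← map_inv,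
    MulAut.conj_apply, inv_inv]

theorem conj_mem_conj_smul {g a : G} {A : Subgroup G} (ha : a ∈ A) :
    g * a * g⁻¹ ∈ MulAut.conj g • A := by
  rw [mem_conj_smul]
  have : g⁻¹ * (g * a * g⁻¹) * g = a := by group
  rw [this]; exact ha

theorem isPGroup_conj_smul {p : ℕ} {A : Subgroup G} (hA : IsPGroup p A) (g : G) :
    IsPGroup p ↥(MulAut.conj g • A) := by
  rw [Subgroup.pointwise_smul_def]
  exact hA.map _

/-- Step 0: if `A` is a subnormal `p`-subgroup of `A ⊔ A^g` then the join is a `p`-group. -/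
theorem isPGroup_sup_of_subnormal [Finite G] {p : ℕ} [Fact p.Prime] {A A' : Subgroup G}
    (hA' : IsPGroup p A') (hA : IsPGroup p A)
    (hsn : (A.subgroupOf (A ⊔ A')).IsSubnormal) : IsPGroup p ↥(A ⊔ A') := by
  set K := A ⊔ A' with hK
  have h1 : A.subgroupOf K ≤ Cfsg.pCore p ↥K :=
    Cfsg.Agent.Helper9.subnormal_pGroup_le_pCore p _ hsn hA.comap_subtype
  have hO : IsPGroup p ↥(Cfsg.pCore p ↥K) := Cfsg.Agent.Helper9.pCore_isPGroup' p ↥K
  haveI : (Cfsg.pCore p ↥K).Normal := by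
    have : (Cfsg.pCore p ↥K).Characteristic := Cfsg.Agent.Helper9.pCore_characteristic p
    infer_instance
  have hT : IsPGroup p ↥(A'.subgroupOf K ⊔ Cfsg.pCore p ↥K) :=
    IsPGroup.to_sup_of_normal_right hA'.comap_subtype hO
  have htop : (⊤ : Subgroup ↥K) ≤ A'.subgroupOf K ⊔ Cfsg.pCore p ↥K := by
    have h2 : (A ⊔ A').subgroupOf K = A.subgroupOf K ⊔ A'.subgroupOf K :=
      Subgroup.subgroupOf_sup le_sup_left le_sup_right
    have h3 : (A ⊔ A').subgroupOf K = ⊤ := by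
      rw [← hK]; exact Subgroup.subgroupOf_self K
    rw [← h3, h2]
    exact sup_le (h1.trans le_sup_right) le_sup_left
  intro x
  obtain ⟨k, hk⟩ := hT ⟨x, htop (Subgroup.mem_top x)⟩
  exact ⟨k, by simpa [Subtype.ext_iff] using hk⟩

/-- a nontrivial finite solvable group has a nontrivial abelian normal `r`-subgroup -/
theorem exists_normal_abelian_rgroup (H : Type*) [Group H] [Finite H] [Group.IsSolvable H]
    [Nontrivial H] :
    ∃ r : ℕ, r.Prime ∧ ∃ N₀ : Subgroup H, N₀.Normal ∧ N₀ ≠ ⊥ ∧ IsPGroup r N₀ ∧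
      ∀ a ∈ N₀, ∀ b ∈ N₀, a * b = b * a := by
  obtain ⟨r, hr, P, hPn, hP0, hP⟩ := Cfsg.Agent.Helper1.exists_normal_pSubgroup_of_solvable H
  haveI : Fact r.Prime := ⟨hr⟩
  haveI := hPn
  haveI : Nontrivial ↥P := (Subgroup.nontrivial_iff_ne_bot P).mpr hP0
  have hZ : Nontrivial ↥(Subgroup.center ↥P) := hP.center_nontrivial
  refine ⟨r, hr, (Subgroup.center ↥P).map P.subtype,
    ConjAct.normal_of_characteristic_of_normal, ?_, (hP.to_subgroup _).map _, ?_⟩
  · intro h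
    have h2 : Subgroup.center ↥P = ⊥ := by
      rw [eq_bot_iff]
      intro x hx
      have : P.subtype x ∈ (Subgroup.center ↥P).map P.subtype := Subgroup.mem_map_of_mem _ hx
      rw [h, Subgroup.mem_bot] at this
      rw [Subgroup.mem_bot]
      exact Subtype.ext this
    rw [Subgroup.nontrivial_iff_ne_bot] at hZ
    exact hZ h2
  · rintro a ⟨z1, hz1, rfl⟩ b ⟨z2, hz2, rfl⟩
    rw [SetLike.mem_coe, Subgroup.mem_center_iff] at hz1
    have := hz1 z2
    have h3 := congrArg Subtype.val this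
    simpa using h3.symm

end basic

/-- the nilpotent finish: `A` centralizes the abelian normal subgroup `N₀`, and `A ≤ M` with
`M/N₀` a `p`-group; then `A ≤ O_p(G)`. -/
theorem le_pCore_of_central {G : Type*} [Group G] [Finite G] {p : ℕ} [Fact p.Prime]
    (N₀ : Subgroup G) [N₀.Normal]
    (M : Subgroup G) [M.Normal] (hM : ∀ x ∈ M, ∃ k : ℕ, x ^ p ^ k ∈ N₀)
    (A : Subgroup G) (hA : IsPGroup p A) (hAM : A ≤ M)
    (hcent : ∀ a ∈ A, ∀ n ∈ N₀, a * n = n * a) : A ≤ Cfsg.pCore p G := by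
  set C : Subgroup G := M ⊓ Subgroup.centralizer (N₀ : Set G) with hC
  haveI hCn : C.Normal := by rw [hC]; infer_instance
  have hAC : A ≤ C := by
    refine le_inf hAM ?_
    intro a ha
    rw [Subgroup.mem_centralizer_iff]
    intro n hn
    exact (hcent a ha n hn).symm
  -- the quotient of C by N₀ ∩ C is a p-group
  have hQ : IsPGroup p (↥C ⧸ N₀.subgroupOf C) := by
    intro q
    obtain ⟨x, rfl⟩ := QuotientGroup.mk_surjective q
    have hxM : (x : G) ∈ M := (Subgroup.mem_inf.mp x.2).1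
    obtain ⟨k, hk⟩ := hM x hxM
    refine ⟨k, ?_⟩
    rw [← QuotientGroup.mk_pow, QuotientGroup.eq_one_iff, Subgroup.mem_subgroupOf]
    simpa using hk
  haveI : Group.IsNilpotent (↥C ⧸ N₀.subgroupOf C) := hQ.isNilpotent
  have hnil : Group.IsNilpotent ↥C := by
    apply Subgroup.isNilpotent_of_ker_le_center (QuotientGroup.mk' (N₀.subgroupOf C))
    rw [QuotientGroup.ker_mk']
    intro x hx
    rw [Subgroup.mem_subgroupOf] at hx
    rw [Subgroup.mem_center_iff]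
    intro y
    have hy : (y : G) ∈ Subgroup.centralizer (N₀ : Set G) := (Subgroup.mem_inf.mp y.2).2
    rw [Subgroup.mem_centralizer_iff] at hy
    apply Subtype.ext
    simpa using (hy _ hx).symm
  have hsyl := ((Group.isNilpotent_of_finite_tfae (G := ↥C)).out 0 3).mp hnil
  obtain ⟨P, hP⟩ := (hA.comap_subtype (H := A) (K := C)).exists_le_sylow
  haveI : (P : Subgroup ↥C).Normal := hsyl p inferInstance P
  haveI : (P : Subgroup ↥C).Characteristic := Sylow.characteristic_of_normal P inferInstance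
  have hn : ((P : Subgroup ↥C).map C.subtype).Normal := ConjAct.normal_of_characteristic_of_normal
  have hle := Cfsg.Agent.Helper9.le_pCore' hn (P.2.map C.subtype)
  intro a ha
  apply hle
  refine ⟨⟨a, hAC ha⟩, hP ?_, rfl⟩
  rw [Subgroup.mem_comap]
  exact ha

/-- the hypothesis in `p`-group form -/
def Hyp (p : ℕ) {G : Type*} [Group G] (A : Subgroup G) : Prop :=
  ∀ c : G, ∃ g : G, IsConj c g ∧ IsPGroup p ↥(A ⊔ MulAut.conj g • A)

theorem Hyp.map_quot {G : Type*} [Group G] {p : ℕ} {A : Subgroup G} (hyp : Hyp p A)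
    (N₀ : Subgroup G) [N₀.Normal] : Hyp p (A.map (QuotientGroup.mk' N₀)) := by
  intro c'
  obtain ⟨c, rfl⟩ := QuotientGroup.mk'_surjective N₀ c'
  obtain ⟨g, hconj, hP⟩ := hyp c
  refine ⟨QuotientGroup.mk' N₀ g, (QuotientGroup.mk' N₀).map_isConj hconj, ?_⟩
  have hle : A.map (QuotientGroup.mk' N₀) ⊔
      MulAut.conj (QuotientGroup.mk' N₀ g) • A.map (QuotientGroup.mk' N₀) ≤
      (A ⊔ MulAut.conj g • A).map (QuotientGroup.mk' N₀) := by
    refine sup_le (Subgroup.map_mono le_sup_left) ?_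
    intro x hx
    rw [mem_conj_smul] at hx
    obtain ⟨a, ha, hax⟩ := hx
    refine ⟨g * a * g⁻¹, le_sup_right (a := A) (conj_mem_conj_smul ha), ?_⟩
    rw [map_mul, map_mul, map_inv, hax]; group
  exact (hP.map (QuotientGroup.mk' N₀)).to_le hle

section main

variable (key : ∀ (N : Type u) [CommGroup N] [Finite N] (p : ℕ) [Fact p.Prime], p ≠ 2 →
  (Nat.card N).Coprime p → ∀ (H M : Subgroup (MulAut N)), M ≤ H →
  (∀ h ∈ H, ∀ m ∈ M, h * m * h⁻¹ ∈ M) → IsPGroup p M → ∀ a ∈ M, a ≠ 1 →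
  ∃ v : N, ∀ h ∈ H, (h * a * h⁻¹) v ≠ v)

include key in
theorem centralizes {G : Type u} [Group G] [Finite G] {p r : ℕ} [Fact p.Prime] (hp : p ≠ 2)
    (hr : r.Prime) (hrp : r ≠ p) (N₀ : Subgroup G) [N₀.Normal] (hN₀ : IsPGroup r N₀)
    (hab : ∀ a ∈ N₀, ∀ b ∈ N₀, a * b = b * a)
    (M : Subgroup G) [hMn : M.Normal] (hM : ∀ x ∈ M, ∃ k : ℕ, x ^ p ^ k ∈ N₀)
    (A : Subgroup G) (hAM : A ≤ M) (hyp : Hyp p A) :
    ∀ a ∈ A, ∀ n ∈ N₀, a * n = n * a := by
  haveI : Fact r.Prime := ⟨hr⟩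
  letI instN : CommGroup ↥N₀ := { (inferInstance : Group ↥N₀) with
    mul_comm := fun a b => Subtype.ext (hab a a.2 b b.2) }
  let φ : G →* MulAut ↥N₀ := MulAut.conjNormal
  have hφ : ∀ (g : G) (x : ↥N₀), ((φ g x : ↥N₀) : G) = g * x * g⁻¹ :=
    fun g x => MulAut.conjNormal_apply g x
  have hφN : ∀ n ∈ N₀, φ n = 1 := by
    intro n hn
    ext x
    rw [hφ]
    have := hab n hn x x.2
    rw [this]; simp
  by_contra hcon
  push Not at hcon
  obtain ⟨a, haA, n, hn, hne⟩ := hcon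
  have hφa : φ a ≠ 1 := by
    intro h
    apply hne
    have h1 := hφ a ⟨n, hn⟩
    rw [h] at h1
    have h2 : n = a * n * a⁻¹ := by simpa using h1
    calc a * n = a * n * a⁻¹ * a := by group
      _ = n * a := by rw [← h2]
  have hcop : (Nat.card ↥N₀).Coprime p := by
    obtain ⟨k, hk⟩ := IsPGroup.iff_card.mp hN₀
    rw [hk]
    exact Nat.Coprime.pow_left k ((Nat.coprime_primes hr (Fact.out : p.Prime)).mpr hrp)
  have hM' : IsPGroup p ↥(M.map φ) := by
    rintro ⟨y, m, hm, rfl⟩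
    obtain ⟨k, hk⟩ := hM m hm
    refine ⟨k, Subtype.ext ?_⟩
    show (φ m) ^ p ^ k = 1
    rw [← map_pow]; exact hφN _ hk
  have hnorm : ∀ h ∈ φ.range, ∀ m ∈ M.map φ, h * m * h⁻¹ ∈ M.map φ := by
    rintro h ⟨g', rfl⟩ m' ⟨m, hm, rfl⟩
    refine ⟨g' * m * g'⁻¹, hMn.conj_mem m hm g', ?_⟩
    simp
  obtain ⟨v, hv⟩ := key ↥N₀ p hp hcop φ.range (M.map φ)
    (by rintro y ⟨m, _, rfl⟩; exact ⟨m, rfl⟩) hnorm hM' (φ a)
    (Subgroup.mem_map_of_mem φ (hAM haA)) hφa
  obtain ⟨g, hconj, hP⟩ := hyp (v : G)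
  obtain ⟨x, hx⟩ := isConj_iff.mp hconj
  have hgN : g ∈ N₀ := by
    rw [← hx]; exact (inferInstance : N₀.Normal).conj_mem _ v.2 x
  set w := a⁻¹ * (g * a * g⁻¹) with hw
  have hw1 : w ∈ A ⊔ MulAut.conj g • A :=
    Subgroup.mul_mem _ (Subgroup.inv_mem _ (le_sup_left (a := A) haA))
      (le_sup_right (a := A) (conj_mem_conj_smul haA))
  have hw2 : w ∈ N₀ := by
    have h1 := (inferInstance : N₀.Normal).conj_mem g hgN a⁻¹
    have h2 : w = a⁻¹ * g * a⁻¹⁻¹ * g⁻¹ := by rw [hw]; group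
    rw [h2]; exact N₀.mul_mem h1 (N₀.inv_mem hgN)
  have hw0 : w = 1 := by
    obtain ⟨k, hk⟩ := hP ⟨w, hw1⟩
    obtain ⟨j, hj⟩ := hN₀ ⟨w, hw2⟩
    have hk' : w ^ p ^ k = 1 := by simpa using congrArg Subtype.val hk
    have hj' : w ^ r ^ j = 1 := by simpa using congrArg Subtype.val hj
    have h1 := orderOf_dvd_of_pow_eq_one hk'
    have h2 := orderOf_dvd_of_pow_eq_one hj'
    have h3 : Nat.Coprime (p ^ k) (r ^ j) :=
      Nat.Coprime.pow k j ((Nat.coprime_primes (Fact.out : p.Prime) hr).mpr (Ne.symm hrp))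
    have h4 : orderOf w ∣ 1 := by
      have := Nat.dvd_gcd h1 h2
      rwa [h3] at this
    exact orderOf_eq_one_iff.mp (Nat.dvd_one.mp h4)
  have hga : g * a * g⁻¹ = a := by
    have : a * w = a := by rw [hw0, mul_one]
    rw [hw] at this
    have h2 : a * (a⁻¹ * (g * a * g⁻¹)) = g * a * g⁻¹ := by group
    rw [h2] at this; exact this
  apply hv (φ x⁻¹) ⟨x⁻¹, rfl⟩
  have e1 : φ x⁻¹ * φ a * (φ x⁻¹)⁻¹ = φ (x⁻¹ * a * x) := by
    rw [← map_inv, ← map_mul, ← map_mul, inv_inv]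
  rw [e1]
  apply Subtype.ext
  rw [hφ]
  have hv' : (v : G) = x⁻¹ * g * x := by rw [← hx]; group
  rw [hv']
  have hag : a * g * a⁻¹ = g := by
    calc a * g * a⁻¹ = (g * a * g⁻¹) * g * a⁻¹ := by rw [hga]
      _ = g := by group
  calc x⁻¹ * a * x * (x⁻¹ * g * x) * (x⁻¹ * a * x)⁻¹ = x⁻¹ * (a * g * a⁻¹) * x := by group
    _ = x⁻¹ * g * x := by rw [hag]

include key in
theorem main_aux {p : ℕ} [Fact p.Prime] (hp : p ≠ 2) : ∀ n : ℕ, ∀ (G : Type u) [Group G] [Finite G],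
    Nat.card G = n → Group.IsSolvable G → ∀ A : Subgroup G, IsPGroup p A → Hyp p A →
    A ≤ Cfsg.pCore p G := by
  intro n
  induction n using Nat.strong_induction_on with
  | _ n ih =>
  intro G _ _ hn hsol A hA hyp
  rcases subsingleton_or_nontrivial G with hss | hnt
  · intro a _; rw [Subsingleton.elim a 1]; exact Subgroup.one_mem _
  obtain ⟨r, hr, N₀, hN₀n, hN₀0, hN₀r, hab⟩ := exists_normal_abelian_rgroup G
  haveI := hN₀n
  have hcard : Nat.card (G ⧸ N₀) < n := by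
    rw [← hn, Subgroup.card_eq_card_quotient_mul_card_subgroup N₀]
    have h1 : 1 < Nat.card N₀ := (Subgroup.one_lt_card_iff_ne_bot N₀).mpr hN₀0
    have h2 : 0 < Nat.card (G ⧸ N₀) := Nat.card_pos
    nlinarith
  have hsolq : Group.IsSolvable (G ⧸ N₀) :=
    Group.isSolvable_of_surjective (QuotientGroup.mk'_surjective N₀)
  have h1 := ih _ hcard (G ⧸ N₀) rfl hsolq (A.map (QuotientGroup.mk' N₀))
    (hA.map (QuotientGroup.mk' N₀)) (hyp.map_quot N₀)
  haveI : (Cfsg.pCore p (G ⧸ N₀)).Normal := by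
    have : (Cfsg.pCore p (G ⧸ N₀)).Characteristic := Cfsg.Agent.Helper9.pCore_characteristic p
    infer_instance
  set M := (Cfsg.pCore p (G ⧸ N₀)).comap (QuotientGroup.mk' N₀) with hMdef
  haveI hMn : M.Normal := by rw [hMdef]; infer_instance
  have hAM : A ≤ M := Subgroup.map_le_iff_le_comap.mp h1
  have hM : ∀ x ∈ M, ∃ k : ℕ, x ^ p ^ k ∈ N₀ := by
    intro x hx
    obtain ⟨k, hk⟩ := (Cfsg.Agent.Helper9.pCore_isPGroup' p (G ⧸ N₀)) ⟨QuotientGroup.mk' N₀ x, hx⟩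
    refine ⟨k, ?_⟩
    have h2 : (QuotientGroup.mk' N₀ x) ^ p ^ k = 1 := by simpa using congrArg Subtype.val hk
    rw [← map_pow] at h2
    exact (QuotientGroup.eq_one_iff _).mp h2
  by_cases hrp : r = p
  · rw [hrp] at hN₀r
    have hMp : IsPGroup p M := by
      rintro ⟨x, hx⟩
      obtain ⟨k, hk⟩ := hM x hx
      obtain ⟨j, hj⟩ := hN₀r ⟨_, hk⟩
      refine ⟨k + j, Subtype.ext ?_⟩
      have h2 : (x ^ p ^ k) ^ p ^ j = 1 := by simpa using congrArg Subtype.val hj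
      show x ^ p ^ (k + j) = 1
      rw [pow_add, pow_mul]; exact h2
    exact hAM.trans (Cfsg.Agent.Helper9.le_pCore' hMn hMp)
  · have hcent := centralizes key hp hr hrp N₀ hN₀r hab M hM A hAM hyp
    exact le_pCore_of_central N₀ M hM A hA hAM hcent

include key in
/-- S4330 from the key lemma. -/
theorem s4330_of_key {G : Type u} [Group G] [Finite G] (hG : Group.IsSolvable G) (p : ℕ)
    [Fact p.Prime] (hp : p ≠ 2) (A : Subgroup G) (hA : IsPGroup p A)
    (h : ∀ c : G, ∃ g : G, IsConj c g ∧ (A.subgroupOf (A ⊔ MulAut.conj g • A)).IsSubnormal) :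
    A ≤ Cfsg.pCore p G :=
  main_aux key hp _ G rfl hG A hA (fun c => by
    obtain ⟨g, hc, hs⟩ := h c
    exact ⟨g, hc, isPGroup_sup_of_subnormal (isPGroup_conj_smul hA g) hA hs⟩)

end main

end Cfsg.Agent.Helper23.S4330Plumb
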