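import Mathlib
import Cfsg.Prelude.Def_Sz
import Cfsg.Agent.Lib.Helper23.S61Defs
import Cfsg.Agent.Lib.Helper2.SzBridge

/-!
# S2861, piece S61-SZ2DEC: in `Sz(2)` (over `ZMod 2`) the normal closure of a subgroup of order `2` is proper
-/

set_option autoImplicit false
set_option linter.unusedVariables false

namespace Cfsg.Agent.Helper23.S61

open Cfsg Cfsg.Lie
open scoped Matrix

/-- `4 × 4` matrices over the field with two elements -/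
abbrev s61_sz2dec_M4 : Type := Matrix (Fin 4) (Fin 4) (ZMod 2)

/-- the ten elements of the normal subgroup `D₁₀` -/
def s61_sz2dec_K10 : List s61_sz2dec_M4 :=
[!![0, 0, 0, 1; 0, 0, 1, 0; 0, 1, 0, 0; 1, 0, 0, 0],
 !![0, 0, 0, 1; 0, 0, 1, 0; 0, 1, 0, 1; 1, 0, 1, 1],
 !![1, 0, 0, 0; 0, 1, 0, 0; 0, 0, 1, 0; 0, 0, 0, 1],
 !![1, 0, 0, 0; 0, 1, 0, 0; 1, 0, 1, 0; 1, 1, 0, 1],
 !![1, 0, 1, 1; 0, 1, 0, 1; 0, 0, 1, 0; 0, 0, 0, 1],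
 !![1, 0, 1, 1; 0, 1, 0, 1; 1, 0, 0, 1; 1, 1, 1, 1],
 !![1, 1, 0, 1; 1, 0, 1, 0; 0, 1, 0, 0; 1, 0, 0, 0],
 !![1, 1, 0, 1; 1, 0, 1, 0; 1, 0, 0, 1; 1, 1, 1, 1],
 !![1, 1, 1, 1; 1, 0, 0, 1; 0, 1, 0, 1; 1, 0, 1, 1],
 !![1, 1, 1, 1; 1, 0, 0, 1; 1, 0, 1, 0; 1, 1, 0, 1]]

/-- the ten elements of order `4` -/
def s61_sz2dec_R10 : List s61_sz2dec_M4 :=
[!![0, 0, 0, 1; 0, 0, 1, 1; 0, 1, 1, 0; 1, 1, 1, 1],
 !![0, 0, 0, 1; 0, 0, 1, 1; 0, 1, 1, 1; 1, 1, 0, 1],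
 !![1, 0, 0, 0; 1, 1, 0, 0; 0, 1, 1, 0; 1, 1, 1, 1],
 !![1, 0, 0, 0; 1, 1, 0, 0; 1, 1, 1, 0; 1, 0, 1, 1],
 !![1, 0, 1, 1; 1, 1, 1, 0; 0, 1, 1, 1; 1, 1, 0, 1],
 !![1, 0, 1, 1; 1, 1, 1, 0; 1, 1, 0, 0; 1, 0, 0, 0],
 !![1, 1, 0, 1; 0, 1, 1, 1; 0, 0, 1, 1; 0, 0, 0, 1],
 !![1, 1, 0, 1; 0, 1, 1, 1; 1, 1, 1, 0; 1, 0, 1, 1],
 !![1, 1, 1, 1; 0, 1, 1, 0; 0, 0, 1, 1; 0, 0, 0, 1],
 !![1, 1, 1, 1; 0, 1, 1, 0; 1, 1, 0, 0; 1, 0, 0, 0]]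

/-- the twenty elements of `Sz(2)` -/
def s61_sz2dec_H20 : List s61_sz2dec_M4 := s61_sz2dec_K10 ++ s61_sz2dec_R10

/-- the bilinear form on columns -/
def s61_sz2dec_bf (u0 u1 u2 u3 v0 v1 v2 v3 : ZMod 2) : ZMod 2 :=
  u0 * v3 + u1 * v2 + u2 * v1 + u3 * v0

set_option maxRecDepth 100000 in
theorem s61_sz2dec_enum_key :
    ∀ a00 a10 a20 a30 : ZMod 2, ∀ a03 a13 a23 a33 : ZMod 2,
      s61_sz2dec_bf a00 a10 a20 a30 a03 a13 a23 a33 = 1 →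
      ∀ a01 a11 a21 a31 : ZMod 2,
        s61_sz2dec_bf a00 a10 a20 a30 a01 a11 a21 a31 = 0 →
        s61_sz2dec_bf a03 a13 a23 a33 a01 a11 a21 a31 = 0 →
        ∀ a02 a12 a22 a32 : ZMod 2,
          s61_sz2dec_bf a00 a10 a20 a30 a02 a12 a22 a32 = 0 →
          s61_sz2dec_bf a03 a13 a23 a33 a02 a12 a22 a32 = 0 →
          s61_sz2dec_bf a01 a11 a21 a31 a02 a12 a22 a32 = 1 →
          star4 (!![a00, a01, a02, a03; a10, a11, a12, a13; a20, a21, a22, a23;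
            a30, a31, a32, a33] : s61_sz2dec_M4) =
            (!![a00, a01, a02, a03; a10, a11, a12, a13; a20, a21, a22, a23;
            a30, a31, a32, a33] : s61_sz2dec_M4) →
          (!![a00, a01, a02, a03; a10, a11, a12, a13; a20, a21, a22, a23;
            a30, a31, a32, a33] : s61_sz2dec_M4) ∈ s61_sz2dec_H20 := by
  decide +kernel

/-- the antidiagonal form matrix -/
def s61_sz2dec_J : s61_sz2dec_M4 := !![0, 0, 0, 1; 0, 0, 1, 0; 0, 1, 0, 0; 1, 0, 0, 0]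

theorem s61_sz2dec_form_entry (M : s61_sz2dec_M4) (i j : Fin 4) :
    (Mᵀ * s61_sz2dec_J * M) i j =
      s61_sz2dec_bf (M 0 i) (M 1 i) (M 2 i) (M 3 i) (M 0 j) (M 1 j) (M 2 j) (M 3 j) := by
  simp only [Matrix.mul_apply, Matrix.transpose_apply, Fin.sum_univ_four, s61_sz2dec_J,
    s61_sz2dec_bf]
  simp
  ring

/-- every matrix preserving the form and fixed by the star map is in the list -/
theorem s61_sz2dec_enum (M : s61_sz2dec_M4) (h1 : Mᵀ * s61_sz2dec_J * M = s61_sz2dec_J)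
    (h2 : star4 M = M) : M ∈ s61_sz2dec_H20 := by
  have hM : M = !![M 0 0, M 0 1, M 0 2, M 0 3; M 1 0, M 1 1, M 1 2, M 1 3;
      M 2 0, M 2 1, M 2 2, M 2 3; M 3 0, M 3 1, M 3 2, M 3 3] := by
    ext i j
    fin_cases i <;> fin_cases j <;> rfl
  have e := fun i j => (s61_sz2dec_form_entry M i j).symm.trans (congrFun (congrFun h1 i) j)
  have key := s61_sz2dec_enum_key (M 0 0) (M 1 0) (M 2 0) (M 3 0) (M 0 3) (M 1 3) (M 2 3) (M 3 3)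
    (e 0 3) (M 0 1) (M 1 1) (M 2 1) (M 3 1) (e 0 1) (e 3 1) (M 0 2) (M 1 2) (M 2 2) (M 3 2)
    (e 0 2) (e 3 2) (e 1 2)
  rw [← hM] at key
  exact key h2

end Cfsg.Agent.Helper23.S61
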