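import Mathlib
import Cfsg.Prelude.Def_Sz
import Cfsg.Agent.Lib.Helper23.S61Defs
import Cfsg.Agent.Lib.Helper2.SzBridge
import Cfsg.Agent.Lib.Helper23.S61SZ2DECA

set_option autoImplicit false
set_option linter.unusedVariables false

namespace Cfsg.Agent.Helper23.S61

open Cfsg Cfsg.Lie
open scoped Matrix

/-! ### the multiplication table -/

theorem s61_sz2dec_H_one : (1 : s61_sz2dec_M4) ∈ s61_sz2dec_H20 := by decide +kernel

theorem s61_sz2dec_K_one : (1 : s61_sz2dec_M4) ∈ s61_sz2dec_K10 := by decide +kernel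

set_option maxRecDepth 100000 in
theorem s61_sz2dec_tbl_H_mul : (s61_sz2dec_H20.all fun A => s61_sz2dec_H20.all fun B =>
    decide (A * B ∈ s61_sz2dec_H20)) = true := by
  decide +kernel

theorem s61_sz2dec_H_mul : ∀ A ∈ s61_sz2dec_H20, ∀ B ∈ s61_sz2dec_H20, A * B ∈ s61_sz2dec_H20 := by
  intro A hA B hB
  have h := s61_sz2dec_tbl_H_mul
  rw [List.all_eq_true] at h
  have h1 := h A hA
  rw [List.all_eq_true] at h1
  exact of_decide_eq_true (h1 B hB)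

set_option maxRecDepth 100000 in
theorem s61_sz2dec_tbl_H_inv : (s61_sz2dec_H20.all fun A => s61_sz2dec_H20.any fun B =>
    decide (A * B = 1)) = true := by
  decide +kernel

theorem s61_sz2dec_H_inv : ∀ A ∈ s61_sz2dec_H20, ∃ B ∈ s61_sz2dec_H20, A * B = 1 := by
  intro A hA
  have h := s61_sz2dec_tbl_H_inv
  rw [List.all_eq_true] at h
  have h1 := h A hA
  rw [List.any_eq_true] at h1
  obtain ⟨B, hB, hAB⟩ := h1
  exact ⟨B, hB, of_decide_eq_true hAB⟩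

set_option maxRecDepth 100000 in
theorem s61_sz2dec_tbl_K_mul : (s61_sz2dec_K10.all fun A => s61_sz2dec_K10.all fun B =>
    decide (A * B ∈ s61_sz2dec_K10)) = true := by
  decide +kernel

theorem s61_sz2dec_K_mul : ∀ A ∈ s61_sz2dec_K10, ∀ B ∈ s61_sz2dec_K10, A * B ∈ s61_sz2dec_K10 := by
  intro A hA B hB
  have h := s61_sz2dec_tbl_K_mul
  rw [List.all_eq_true] at h
  have h1 := h A hA
  rw [List.all_eq_true] at h1
  exact of_decide_eq_true (h1 B hB)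

set_option maxRecDepth 100000 in
theorem s61_sz2dec_tbl_K_inv : (s61_sz2dec_K10.all fun A => s61_sz2dec_K10.any fun B =>
    decide (A * B = 1)) = true := by
  decide +kernel

theorem s61_sz2dec_K_inv : ∀ A ∈ s61_sz2dec_K10, ∃ B ∈ s61_sz2dec_K10, A * B = 1 := by
  intro A hA
  have h := s61_sz2dec_tbl_K_inv
  rw [List.all_eq_true] at h
  have h1 := h A hA
  rw [List.any_eq_true] at h1
  obtain ⟨B, hB, hAB⟩ := h1
  exact ⟨B, hB, of_decide_eq_true hAB⟩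

set_option maxRecDepth 100000 in
theorem s61_sz2dec_tbl_invol : (s61_sz2dec_H20.all fun A =>
    decide (A * A = 1 → A ∈ s61_sz2dec_K10)) = true := by
  decide +kernel

theorem s61_sz2dec_invol : ∀ A ∈ s61_sz2dec_H20, A * A = 1 → A ∈ s61_sz2dec_K10 := by
  intro A hA
  have h := s61_sz2dec_tbl_invol
  rw [List.all_eq_true] at h
  exact of_decide_eq_true (h A hA)

set_option maxRecDepth 100000 in
theorem s61_sz2dec_tbl_conj : (s61_sz2dec_H20.all fun A => s61_sz2dec_H20.all fun B =>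
    decide (A * B = 1 → (s61_sz2dec_K10.all fun C => decide (A * C * B ∈ s61_sz2dec_K10)) = true)) =
    true := by
  decide +kernel

theorem s61_sz2dec_conj : ∀ A ∈ s61_sz2dec_H20, ∀ B ∈ s61_sz2dec_H20, A * B = 1 →
    ∀ C ∈ s61_sz2dec_K10, A * C * B ∈ s61_sz2dec_K10 := by
  intro A hA B hB hAB C hC
  have h := s61_sz2dec_tbl_conj
  rw [List.all_eq_true] at h
  have h1 := h A hA
  rw [List.all_eq_true] at h1
  have h2 := of_decide_eq_true (h1 B hB) hAB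
  rw [List.all_eq_true] at h2
  exact of_decide_eq_true (h2 C hC)

/-! ### the subgroups of `GL₄(2)` -/

/-- the group of order `20` -/
def s61_sz2dec_H : Subgroup (GL (Fin 4) (ZMod 2)) where
  carrier := {g | (g : s61_sz2dec_M4) ∈ s61_sz2dec_H20}
  mul_mem' := by
    intro a b ha hb
    show ((a * b : GL (Fin 4) (ZMod 2)) : s61_sz2dec_M4) ∈ s61_sz2dec_H20
    rw [Units.val_mul]
    exact s61_sz2dec_H_mul _ ha _ hb
  one_mem' := s61_sz2dec_H_one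
  inv_mem' := by
    intro a ha
    obtain ⟨B, hB, hAB⟩ := s61_sz2dec_H_inv _ ha
    show ((a⁻¹ : GL (Fin 4) (ZMod 2)) : s61_sz2dec_M4) ∈ s61_sz2dec_H20
    rw [Units.inv_eq_of_mul_eq_one_right hAB]
    exact hB

/-- the normal subgroup of order `10` -/
def s61_sz2dec_K : Subgroup (GL (Fin 4) (ZMod 2)) where
  carrier := {g | (g : s61_sz2dec_M4) ∈ s61_sz2dec_K10}
  mul_mem' := by
    intro a b ha hb
    show ((a * b : GL (Fin 4) (ZMod 2)) : s61_sz2dec_M4) ∈ s61_sz2dec_K10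
    rw [Units.val_mul]
    exact s61_sz2dec_K_mul _ ha _ hb
  one_mem' := s61_sz2dec_K_one
  inv_mem' := by
    intro a ha
    obtain ⟨B, hB, hAB⟩ := s61_sz2dec_K_inv _ ha
    show ((a⁻¹ : GL (Fin 4) (ZMod 2)) : s61_sz2dec_M4) ∈ s61_sz2dec_K10
    rw [Units.inv_eq_of_mul_eq_one_right hAB]
    exact hB

theorem s61_sz2dec_sq (x : ZMod 2) : x ^ 2 = x := by
  revert x
  decide

/-- the generators of `Sz(2)` lie in the group of order `20` -/
theorem s61_sz2dec_le : Cfsg.Lie.Sz (ZMod 2) 2 ≤ s61_sz2dec_H := by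
  unfold Cfsg.Lie.Sz
  rw [Subgroup.closure_le]
  rintro g ⟨hg1, hg2⟩
  show (g : s61_sz2dec_M4) ∈ s61_sz2dec_H20
  apply s61_sz2dec_enum
  · exact (Cfsg.Agent.Helper2.Sz.mem_Sp4_iff g).1 hg1
  · rw [hg2]
    ext i j
    rw [Matrix.map_apply, s61_sz2dec_sq]

/-- an element of order `4` -/
def s61_sz2dec_r : GL (Fin 4) (ZMod 2) where
  val := !![0, 0, 0, 1; 0, 0, 1, 1; 0, 1, 1, 0; 1, 1, 1, 1]
  inv := !![0, 0, 0, 1; 0, 0, 1, 1; 0, 1, 1, 0; 1, 1, 1, 1] *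
    !![0, 0, 0, 1; 0, 0, 1, 1; 0, 1, 1, 0; 1, 1, 1, 1] *
    !![0, 0, 0, 1; 0, 0, 1, 1; 0, 1, 1, 0; 1, 1, 1, 1]
  val_inv := by decide +kernel
  inv_val := by decide +kernel

theorem s61_sz2dec_r_mem : s61_sz2dec_r ∈ Cfsg.Lie.Sz (ZMod 2) 2 := by
  unfold Cfsg.Lie.Sz
  apply Subgroup.subset_closure
  refine ⟨(Cfsg.Agent.Helper2.Sz.mem_Sp4_iff _).2 ?_, ?_⟩
  · show (!![0, 0, 0, 1; 0, 0, 1, 1; 0, 1, 1, 0; 1, 1, 1, 1] : s61_sz2dec_M4)ᵀ *
      Cfsg.Agent.Helper2.Sz.Wm * !![0, 0, 0, 1; 0, 0, 1, 1; 0, 1, 1, 0; 1, 1, 1, 1] =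
      Cfsg.Agent.Helper2.Sz.Wm
    decide +kernel
  · show star4 (!![0, 0, 0, 1; 0, 0, 1, 1; 0, 1, 1, 0; 1, 1, 1, 1] : s61_sz2dec_M4) =
      (!![0, 0, 0, 1; 0, 0, 1, 1; 0, 1, 1, 0; 1, 1, 1, 1] : s61_sz2dec_M4).map (fun x => x ^ 2)
    decide +kernel

theorem s61_sz2dec_r_not_mem : s61_sz2dec_r ∉ s61_sz2dec_K := by
  show ¬ ((!![0, 0, 0, 1; 0, 0, 1, 1; 0, 1, 1, 0; 1, 1, 1, 1] : s61_sz2dec_M4) ∈ s61_sz2dec_K10)
  decide +kernel

/-- PIECE S61-SZ2DEC -/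
theorem sz2_zmod (Y : Subgroup (Cfsg.Lie.Sz (ZMod 2) 2)) (hY : Nat.card Y = 2) :
    Subgroup.normalClosure (Y : Set (Cfsg.Lie.Sz (ZMod 2) 2)) ≠ ⊤ := by
  -- the normal subgroup of `Sz(2)` cut out by `K`
  have hKn : (s61_sz2dec_K.subgroupOf (Cfsg.Lie.Sz (ZMod 2) 2)).Normal := by
    constructor
    intro n hn g
    rw [Subgroup.mem_subgroupOf] at hn ⊢
    have hg : (g : GL (Fin 4) (ZMod 2)) ∈ s61_sz2dec_H := s61_sz2dec_le g.2
    have hg' : ((g : GL (Fin 4) (ZMod 2))⁻¹) ∈ s61_sz2dec_H := s61_sz2dec_H.inv_mem hg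
    have h1 : ((g : GL (Fin 4) (ZMod 2)) : s61_sz2dec_M4) *
        (((g : GL (Fin 4) (ZMod 2))⁻¹ : GL (Fin 4) (ZMod 2)) : s61_sz2dec_M4) = 1 := by
      rw [← Units.val_mul, mul_inv_cancel, Units.val_one]
    have := s61_sz2dec_conj _ hg _ hg' h1 _ hn
    show (((g * n * g⁻¹ : ↥(Cfsg.Lie.Sz (ZMod 2) 2)) : GL (Fin 4) (ZMod 2)) : s61_sz2dec_M4) ∈
      s61_sz2dec_K10
    rw [Subgroup.coe_mul, Subgroup.coe_mul, Subgroup.coe_inv, Units.val_mul, Units.val_mul]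
    exact this
  have hYK : (Y : Set (Cfsg.Lie.Sz (ZMod 2) 2)) ⊆
      (s61_sz2dec_K.subgroupOf (Cfsg.Lie.Sz (ZMod 2) 2)) := by
    intro y hy
    have hy2 : y ^ 2 = 1 := by
      have h1 : (⟨y, hy⟩ : ↥Y) ^ Nat.card Y = 1 := pow_card_eq_one'
      rw [hY] at h1
      exact congrArg Subtype.val h1
    show y ∈ s61_sz2dec_K.subgroupOf (Cfsg.Lie.Sz (ZMod 2) 2)
    rw [Subgroup.mem_subgroupOf]
    have hyH : (y : GL (Fin 4) (ZMod 2)) ∈ s61_sz2dec_H := s61_sz2dec_le y.2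
    apply s61_sz2dec_invol _ hyH
    have h3 : ((y : GL (Fin 4) (ZMod 2)) * (y : GL (Fin 4) (ZMod 2))) = 1 := by
      have := congrArg Subtype.val hy2
      rw [pow_two] at this
      exact this
    rw [← Units.val_mul, h3, Units.val_one]
  intro htop
  have hle := Subgroup.normalClosure_le_normal (N := s61_sz2dec_K.subgroupOf
    (Cfsg.Lie.Sz (ZMod 2) 2)) hYK
  rw [htop] at hle
  have hr : (⟨s61_sz2dec_r, s61_sz2dec_r_mem⟩ : ↥(Cfsg.Lie.Sz (ZMod 2) 2)) ∈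
      s61_sz2dec_K.subgroupOf (Cfsg.Lie.Sz (ZMod 2) 2) := hle (Subgroup.mem_top _)
  rw [Subgroup.mem_subgroupOf] at hr
  exact s61_sz2dec_r_not_mem hr

end Cfsg.Agent.Helper23.S61
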