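import Mathlib
import Cfsg.Agent.Lib.Helper23.S61Defs

/-!
# S2861, piece S61-TRANSPORT: from `N_L(Y)/O_p(L)` into `T ≅ L/O_p(L)`
-/

set_option autoImplicit false
set_option linter.unusedVariables false
set_option linter.unusedSectionVars false

namespace Cfsg.Agent.Helper23.S61

open Cfsg

section general

/-- images of elementary abelian subgroups are elementary abelian -/
theorem s61_tr_elemAb_map {P Q : Type*} [Group P] [Group Q] (p : ℕ) (f : P →* Q) {W : Subgroup P}
    (hW : IsElementaryAbelian p W) : IsElementaryAbelian p (W.map f) := by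
  obtain ⟨hc, he⟩ := hW
  refine ⟨?_, ?_⟩
  · have := hc
    infer_instance
  · rintro _ ⟨a, ha, rfl⟩
    rw [← map_pow, he a ha, map_one]

/-- the image of a normal subgroup is normalized by the range -/
theorem s61_tr_normal_map {P Q : Type*} [Group P] [Group Q] (f : P →* Q) {W : Subgroup P}
    (hW : W.Normal) : ∀ b ∈ f.range, ∀ v ∈ W.map f, b * v * b⁻¹ ∈ W.map f := by
  rintro _ ⟨x, rfl⟩ _ ⟨w, hw, rfl⟩
  exact ⟨x * w * x⁻¹, hW.conj_mem w hw x, by simp⟩

end general

section transport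

variable {G : Type*} [Group G] {p : ℕ} {L N : Subgroup G} {T : Type*} [Group T]

/-- the composite `L → L/O_p(L) ≅ T` -/
def psiL (e : ↥L ⧸ pCore p ↥L ≃* T) : ↥L →* T :=
  e.toMonoidHom.comp (QuotientGroup.mk' (pCore p ↥L))

theorem psiL_surjective (e : ↥L ⧸ pCore p ↥L ≃* T) : Function.Surjective (psiL e) := by
  intro t
  obtain ⟨x, hx⟩ := QuotientGroup.mk'_surjective (pCore p ↥L) (e.symm t)
  refine ⟨x, ?_⟩
  show e (QuotientGroup.mk' (pCore p ↥L) x) = t
  rw [hx, MulEquiv.apply_symm_apply]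

theorem psiL_ker (e : ↥L ⧸ pCore p ↥L ≃* T) : (psiL e).ker = pCore p ↥L := by
  ext x
  rw [MonoidHom.mem_ker]
  unfold psiL
  rw [MonoidHom.comp_apply, MulEquiv.coe_toMonoidHom, MulEquiv.map_eq_one_iff,
    QuotientGroup.mk'_apply, QuotientGroup.eq_one_iff]

theorem mem_pCoreOf_iff (x : ↥L) : (x : G) ∈ pCoreOf p L ↔ x ∈ pCore p ↥L := by
  unfold pCoreOf
  constructor
  · rintro ⟨y, hy, hyx⟩
    have : y = x := Subtype.ext hyx
    rwa [← this]
  · intro h
    exact ⟨x, h, rfl⟩

/-- the composite `N → L → T` -/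
def psiN (hNL : N ≤ L) (e : ↥L ⧸ pCore p ↥L ≃* T) : ↥N →* T :=
  (psiL e).comp (Subgroup.inclusion hNL)

theorem psiN_ker (hNL : N ≤ L) (e : ↥L ⧸ pCore p ↥L ≃* T) :
    (psiN hNL e).ker = (pCoreOf p L).subgroupOf N := by
  ext x
  rw [MonoidHom.mem_ker, Subgroup.mem_subgroupOf]
  unfold psiN
  rw [MonoidHom.comp_apply, ← MonoidHom.mem_ker, psiL_ker, ← mem_pCoreOf_iff]
  rfl

/-- the induced map `N/A → T` -/
def iota (hNL : N ≤ L) (e : ↥L ⧸ pCore p ↥L ≃* T) [hn : ((pCoreOf p L).subgroupOf N).Normal] :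
    ↥N ⧸ (pCoreOf p L).subgroupOf N →* T :=
  QuotientGroup.lift ((pCoreOf p L).subgroupOf N) (psiN hNL e) (by
    intro x hx
    rw [← psiN_ker hNL e] at hx
    exact hx)

theorem iota_mk (hNL : N ≤ L) (e : ↥L ⧸ pCore p ↥L ≃* T) [hn : ((pCoreOf p L).subgroupOf N).Normal]
    (x : ↥N) : iota hNL e (QuotientGroup.mk' _ x) = psiN hNL e x := rfl

theorem iota_injective (hNL : N ≤ L) (e : ↥L ⧸ pCore p ↥L ≃* T)
    [hn : ((pCoreOf p L).subgroupOf N).Normal] : Function.Injective (iota hNL e) := by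
  rw [injective_iff_map_eq_one]
  intro a ha
  obtain ⟨x, rfl⟩ := QuotientGroup.mk'_surjective _ a
  rw [iota_mk, ← MonoidHom.mem_ker, psiN_ker] at ha
  exact (QuotientGroup.eq_one_iff x).2 ha

theorem iota_range (hNL : N ≤ L) (e : ↥L ⧸ pCore p ↥L ≃* T)
    [hn : ((pCoreOf p L).subgroupOf N).Normal] :
    (iota hNL e).range = (N.subgroupOf L).map (psiL e) := by
  ext t
  constructor
  · rintro ⟨a, rfl⟩
    obtain ⟨x, rfl⟩ := QuotientGroup.mk'_surjective _ a
    rw [iota_mk]
    exact ⟨Subgroup.inclusion hNL x, Subgroup.mem_subgroupOf.2 x.2, rfl⟩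
  · rintro ⟨l, hl, rfl⟩
    have hl' : (l : G) ∈ N := Subgroup.mem_subgroupOf.1 hl
    exact ⟨QuotientGroup.mk' _ ⟨(l : G), hl'⟩, by rw [iota_mk]; rfl⟩

/-- `N` is a maximal subgroup of `L`, inside `↥L` -/
theorem coatom_subgroupOf {Y : Subgroup G} (hYN : Y ≤ N)
    (hlt : N < L) (hmax : ∀ X : Subgroup G, Y ≤ X → X < L → X ≤ N) :
    IsCoatom (N.subgroupOf L) := by
  constructor
  · intro h
    rw [Subgroup.subgroupOf_eq_top] at h
    exact absurd h (not_le_of_gt hlt)
  · intro X' hX'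
    by_contra hne
    have hX : X'.map L.subtype < L := by
      refine lt_of_le_of_ne (Subgroup.map_subtype_le X') ?_
      intro h
      apply hne
      rw [eq_top_iff]
      intro x _
      have hx : (x : G) ∈ X'.map L.subtype := by rw [h]; exact x.2
      obtain ⟨y, hy, hyx⟩ := hx
      have : y = x := Subtype.ext hyx
      rwa [← this]
    have hYX : Y ≤ X'.map L.subtype := by
      intro y hy
      have hyN := hYN hy
      have hyL : y ∈ L := hlt.le hyN
      exact ⟨⟨y, hyL⟩, hX'.le (Subgroup.mem_subgroupOf.2 hyN), rfl⟩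
    have h1 := hmax _ hYX hX
    have h2 : X' ≤ N.subgroupOf L := by
      intro x hx
      rw [Subgroup.mem_subgroupOf]
      exact h1 ⟨x, hx, rfl⟩
    exact absurd h2 (not_le_of_gt hX')

end transport

section general2

/-- the image of a maximal subgroup containing the kernel under a surjective homomorphism -/
theorem s61_tr_isCoatom_map {P Q : Type*} [Group P] [Group Q] (f : P →* Q)
    (hf : Function.Surjective f) {H : Subgroup P} (hH : IsCoatom H) (hker : f.ker ≤ H) :
    IsCoatom (H.map f) := by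
  constructor
  · intro h
    apply hH.1
    have h1 := congrArg (Subgroup.comap f) h
    rw [Subgroup.comap_map_eq, sup_eq_left.2 hker, Subgroup.comap_top] at h1
    exact h1
  · intro K hK
    have h1 : H ≤ K.comap f := Subgroup.map_le_iff_le_comap.1 hK.le
    have h2 : H ≠ K.comap f := by
      intro h
      apply hK.ne
      rw [h, Subgroup.map_comap_eq_self_of_surjective hf]
    have h3 := hH.2 _ (lt_of_le_of_ne h1 h2)
    rw [← Subgroup.map_comap_eq_self_of_surjective hf K, h3, Subgroup.map_top_of_surjective f hf]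

/-- restrictions of elementary abelian subgroups are elementary abelian -/
theorem s61_tr_elemAb_subgroupOf {P : Type*} [Group P] (p : ℕ) {W : Subgroup P} (K : Subgroup P)
    (hW : IsElementaryAbelian p W) : IsElementaryAbelian p (W.subgroupOf K) := by
  obtain ⟨hc, he⟩ := hW
  refine ⟨⟨⟨?_⟩⟩, ?_⟩
  · rintro ⟨a, ha⟩ ⟨b, hb⟩
    rw [Subgroup.mem_subgroupOf] at ha hb
    apply Subtype.ext
    apply Subtype.ext
    have h := hc.is_comm.comm ⟨(a : P), ha⟩ ⟨(b : P), hb⟩
    have h' : (a : P) * (b : P) = (b : P) * (a : P) := congrArg Subtype.val h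
    exact h'
  · intro a ha
    rw [Subgroup.mem_subgroupOf] at ha
    apply Subtype.ext
    rw [Subgroup.coe_pow, he _ ha, Subgroup.coe_one]

end general2

section main

variable {G : Type*} [Group G]

/-- PIECE S61-TRANSPORT: the statement follows from the target-side property of `T ≅ L/O_p(L)` -/
theorem transport_main {p : ℕ} (L Y NL : Subgroup G)
    (hYel : IsElementaryAbelian p Y) (hYL : Y ≤ L)
    (hAn : pCoreOf p L ≤ Subgroup.normalizer (Y : Set G))
    (hmin : Subgroup.normalClosure ((Y.subgroupOf L : Subgroup ↥L) : Set ↥L) = ⊤)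
    (hlt : L ⊓ Subgroup.normalizer (Y : Set G) < L)
    (hmax : ∀ X : Subgroup G, Y ≤ X → X < L → X ≤ L ⊓ Subgroup.normalizer (Y : Set G))
    (hNL : NL = L ⊓ Subgroup.normalizer (Y : Set G))
    [hn : ((pCoreOf p L).subgroupOf NL).Normal]
    {T : Type*} [Group T] (e : ↥L ⧸ pCore p ↥L ≃* T)
    (hT : Target p ((Y ⊓ pCoreOf p L).relIndex Y) T) :
    let Ybar : Subgroup (↥NL ⧸ (pCoreOf p L).subgroupOf NL) :=
      (Y.subgroupOf NL).map (QuotientGroup.mk' ((pCoreOf p L).subgroupOf NL))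
    Ybar ≠ ⊥ ∧ Ybar.Normal ∧ IsElementaryAbelian p Ybar ∧
      ∀ V : Subgroup (↥NL ⧸ (pCoreOf p L).subgroupOf NL), V.Normal → IsElementaryAbelian p V →
        V ≠ ⊥ → V = Ybar := by
  subst hNL
  intro Ybar
  have hNL' : L ⊓ Subgroup.normalizer (Y : Set G) ≤ L := inf_le_left
  have hYN : Y ≤ L ⊓ Subgroup.normalizer (Y : Set G) := le_inf hYL Subgroup.le_normalizer
  have hAL : pCoreOf p L ≤ L := by
    unfold pCoreOf
    exact Subgroup.map_subtype_le _
  have hAN : pCoreOf p L ≤ L ⊓ Subgroup.normalizer (Y : Set G) := le_inf hAL hAn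
  -- `Ybar` is normal and elementary abelian
  have hYsubN : (Y.subgroupOf (L ⊓ Subgroup.normalizer (Y : Set G))).Normal :=
    Subgroup.normal_subgroupOf_of_le_normalizer inf_le_right
  have hYbarN : Ybar.Normal :=
    Subgroup.Normal.map hYsubN _ (QuotientGroup.mk'_surjective _)
  have hYbarEl : IsElementaryAbelian p Ybar :=
    s61_tr_elemAb_map p _ (s61_tr_elemAb_subgroupOf p _ hYel)
  -- the transport
  have hinj := iota_injective (p := p) hNL' e
  have hB : IsCoatom (iota (p := p) hNL' e).range := by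
    rw [iota_range]
    apply s61_tr_isCoatom_map _ (psiL_surjective e) (coatom_subgroupOf hYN hlt hmax)
    rw [psiL_ker]
    intro x hx
    rw [Subgroup.mem_subgroupOf]
    exact hAN ((mem_pCoreOf_iff x).2 hx)
  have hcard : Nat.card (Ybar.map (iota (p := p) hNL' e)) = (Y ⊓ pCoreOf p L).relIndex Y := by
    rw [Subgroup.card_map_of_injective hinj]
    show Nat.card ((Y.subgroupOf (L ⊓ Subgroup.normalizer (Y : Set G))).map
      (QuotientGroup.mk' ((pCoreOf p L).subgroupOf (L ⊓ Subgroup.normalizer (Y : Set G))))) = _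
    rw [← Subgroup.relIndex_ker, QuotientGroup.ker_mk', Subgroup.relIndex_subgroupOf hYN,
      Subgroup.inf_relIndex_left]
  have hncl : Subgroup.normalClosure ((Ybar.map (iota (p := p) hNL' e) : Subgroup T) : Set T) = ⊤ := by
    have h1 := Subgroup.map_normalClosure ((Y.subgroupOf L : Subgroup ↥L) : Set ↥L) (psiL e)
      (psiL_surjective e)
    rw [hmin, Subgroup.map_top_of_surjective _ (psiL_surjective e)] at h1
    rw [h1]
    congr 1
    ext t
    constructor
    · rintro ⟨a, ⟨x, hx, rfl⟩, rfl⟩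
      have hx' : (x : G) ∈ Y := Subgroup.mem_subgroupOf.1 hx
      refine ⟨⟨(x : G), hNL' x.2⟩, Subgroup.mem_subgroupOf.2 hx', ?_⟩
      rfl
    · rintro ⟨l, hl, rfl⟩
      have hl' : (l : G) ∈ Y := Subgroup.mem_subgroupOf.1 hl
      refine ⟨QuotientGroup.mk' _ ⟨(l : G), hYN hl'⟩, ⟨⟨(l : G), hYN hl'⟩, ?_, rfl⟩, ?_⟩
      · exact Subgroup.mem_subgroupOf.2 hl'
      · rfl
  obtain ⟨hne, huniq⟩ := hT (iota (p := p) hNL' e).range (Ybar.map (iota (p := p) hNL' e)) hB
    (Subgroup.map_le_range _ _) (s61_tr_normal_map _ hYbarN) (s61_tr_elemAb_map p _ hYbarEl)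
    hcard hncl
  refine ⟨?_, hYbarN, hYbarEl, ?_⟩
  · intro h
    apply hne
    rw [h, Subgroup.map_bot]
  · intro V hVn hVel hV
    apply Subgroup.map_injective hinj
    apply huniq _ (Subgroup.map_le_range _ _) (s61_tr_normal_map _ hVn) (s61_tr_elemAb_map p _ hVel)
    rw [Ne, Subgroup.map_eq_bot_iff_of_injective _ hinj]
    exact hV

end main

end Cfsg.Agent.Helper23.S61
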