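import Mathlib
import Cfsg.Agent.Lib.Helper23.S61Defs
import Cfsg.Agent.Lib.Helper23.S61Transport
import Cfsg.Agent.Lib.Helper27.S61YEL
import Cfsg.Agent.Lib.Helper27.S61GLUE
import Cfsg.Agent.Lib.Helper25.S61SL2A
import Cfsg.Agent.Lib.Helper1.S61SL2B
import Cfsg.Agent.Lib.Helper7.S61SZA
import Cfsg.Agent.Lib.Helper9.S61SZB
import Cfsg.Agent.Lib.Helper11.S61SZ2XFER
import Cfsg.Agent.Lib.Helper23.S61SZ2DECB
import Cfsg.Agent.Lib.Helper4.S61DIH
import Cfsg.Agent.Lib.Helper2.SzBridge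

/-!
# S2861: assembly
-/

set_option autoImplicit false
set_option linter.unusedVariables false

namespace Cfsg.Agent.Helper23.S61

open Cfsg Cfsg.Agent.Helper12 Cfsg.Agent.Helper2.Sz

theorem target_sl2 {F : Type*} [Field F] [Fintype F] (p : ℕ) [Fact p.Prime] :
    Target p (Fintype.card F) (Matrix.SpecialLinearGroup (Fin 2) F) := by
  intro B Y hB hYB hBY hYel hYcard hncl
  obtain ⟨hchar, -⟩ := sl2_conj p B Y hB hYB hBY hYel hYcard
  have := hchar
  exact target_of_conj p (Fintype.card F) Fintype.one_lt_card (unipSL2 F) (borelSL2 F)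
    (fun V hVB hBV hVel hV => sl2_std p V hVB hBV hVel hV)
    (fun B Y hB hYB hBY hYel hYcard => (sl2_conj p B Y hB hYB hBY hYel hYcard).2)
    B Y hB hYB hBY hYel hYcard hncl

theorem target_sz {F : Type*} [Field F] [Fintype F] {m : ℕ} (hm : 1 ≤ m)
    (hF : Fintype.card F = 2 ^ (2 * m + 1)) : Target 2 (Fintype.card F) (Cfsg.Sz F m) := by
  obtain ⟨S⟩ := nonempty_szData (m := m) hF
  exact target_of_conj 2 (Fintype.card F) Fintype.one_lt_card S.ZSz
    (MulAction.stabilizer (Cfsg.Sz F m) (SzData.pInf F))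
    (fun V hVB hBV hVel hV => sz_std S hm hF V hVB hBV hVel hV)
    (fun B Y hB hYB hBY hYel hYcard => sz_conj S hm hF B Y hB hYB hBY hYel hYcard)

theorem target_sz2 {F : Type*} [Field F] [Fintype F] (hF : Fintype.card F = 2) :
    Target 2 (Fintype.card F) (Cfsg.Lie.Sz F (2 ^ (0 + 1))) := by
  intro B Y hB hYB hBY hYel hYcard hncl
  exfalso
  obtain ⟨f⟩ := sz2_equiv hF
  apply sz2_zmod (Y.map f.toMonoidHom)
  · rw [Subgroup.card_map_of_injective f.injective, hYcard, hF]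
  · have h1 := Subgroup.map_normalClosure (Y : Set (Cfsg.Lie.Sz F (2 ^ (0 + 1)))) f.toMonoidHom
      f.surjective
    rw [hncl, Subgroup.map_top_of_surjective _ f.surjective] at h1
    rw [h1]
    rfl

/-- S2861 -/
theorem main {G : Type*} [Group G] [Finite G] {p : ℕ} [Fact p.Prime] (M L NL : Subgroup G)
    (hL : IsInFrakL p M L)
    (hNL : NL = L ⊓ Subgroup.normalizer ((largestPReducedOf p M : Subgroup G) : Set G))
    [hn : ((pCoreOf p L).subgroupOf NL).Normal] :
    let Ybar : Subgroup (↥NL ⧸ (pCoreOf p L).subgroupOf NL) :=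
      ((largestPReducedOf p M).subgroupOf NL).map (QuotientGroup.mk' ((pCoreOf p L).subgroupOf NL))
    Ybar ≠ ⊥ ∧ Ybar.Normal ∧ IsElementaryAbelian p Ybar ∧
      ∀ V : Subgroup (↥NL ⧸ (pCoreOf p L).subgroupOf NL), V.Normal → IsElementaryAbelian p V →
        V ≠ ⊥ → V = Ybar := by
  obtain ⟨hYL, -, hAn, ⟨hmin, -⟩, -, ⟨hlt, hmax⟩, hcases⟩ := hL
  have hYel := yM_elemAb p M
  rcases hcases with ⟨F, _, _, hcard, ⟨e⟩⟩ | ⟨hp2, F, _, _, m, hF, hcard, ⟨e⟩⟩ |
    ⟨hp2, r, hr, hr2, ⟨e⟩⟩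
  · exact transport_main L _ NL hYel hYL hAn hmin hlt hmax hNL e
      (by rw [← hcard]; exact target_sl2 p)
  · subst hp2
    rcases Nat.eq_zero_or_pos m with rfl | hm
    · exact transport_main L _ NL hYel hYL hAn hmin hlt hmax hNL e
        (by rw [← hcard]; exact target_sz2 (by simpa using hF))
    · obtain ⟨br⟩ := nonempty_bridge (F := F) hm hF
      exact transport_main L _ NL hYel hYL hAn hmin hlt hmax hNL (e.trans br.symm)
        (by rw [← hcard]; exact target_sz hm hF)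
  · subst hp2
    exact transport_main L _ NL hYel hYL hAn hmin hlt hmax hNL e (target_dih hr hr2 _)

end Cfsg.Agent.Helper23.S61
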