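import Mathlib
import Cfsg.Agent.Lib.Helper15.S62Defs
import Cfsg.Agent.Lib.Helper2.SpCenter

/-!
# S2362 piece S62-BSTD: the Gram matrix `gramOdd` gives the polar form of `quadFormOdd`
-/

set_option autoImplicit false
set_option linter.unusedSimpArgs false

open Polynomial

namespace Cfsg.Agent.Helper15.S62

universe u

section bridge

variable {F : Type u} [Field F]

theorem s62_bstd_two_mulVec (v : Unit → F) :
    Matrix.mulVec (2 : Matrix Unit Unit F) v default = 2 * v () := by
  have h : (2 : Matrix Unit Unit F) = (2 : F) • (1 : Matrix Unit Unit F) := by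
    ext i j
    simp
    rfl
  rw [h, Matrix.smul_mulVec, Matrix.one_mulVec]
  rfl

/-- the explicit formula for `bstd` -/
theorem s62_bstd_apply (n : ℕ) (x y : Idx n → F) :
    bstd n F x y = 2 * x (.inl ()) * y (.inl ()) +
      ∑ i : Fin n, (x (.inr (.inl i)) * y (.inr (.inr i)) + x (.inr (.inr i)) * y (.inr (.inl i))) := by
  unfold bstd gramOdd
  rw [Matrix.toBilin'_apply']
  simp only [Matrix.fromBlocks_mulVec, dotProduct, Fintype.sum_sum_type, Sum.elim_inl, Sum.elim_inr,
    Matrix.zero_mulVec, Matrix.one_mulVec, Function.comp_apply,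
    zero_add, add_zero, Finset.univ_unique, Finset.sum_singleton]
  rw [s62_bstd_two_mulVec, Finset.sum_add_distrib]
  simp only [Function.comp_apply]
  have : (default : Unit) = () := rfl
  rw [this]
  ring

/-- PIECE S62-BSTD: the Gram matrix `gramOdd` gives the polar form of `quadFormOdd`
(`Matrix.toBilin'_apply'`, `Matrix.fromBlocks_mulVec`, `Fintype.sum_sum_type`; `quadFormOdd` unfolds
to `v (inl ()) ^ 2 + ∑ i, v (inr (inl i)) * v (inr (inr i))`). -/
theorem bstd_facts (n : ℕ) (h2 : (2 : F) ≠ 0) :
    (∀ x y : Idx n → F, bstd n F x y =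
      Cfsg.quadFormOdd n F (x + y) - Cfsg.quadFormOdd n F x - Cfsg.quadFormOdd n F y) ∧
    (∀ x : Idx n → F, bstd n F x x = 2 * Cfsg.quadFormOdd n F x) ∧
    (∀ x y : Idx n → F, bstd n F x y = bstd n F y x) ∧
    (∀ x : Idx n → F, (∀ y, bstd n F x y = 0) → x = 0) := by
  classical
  refine ⟨?_, ?_, ?_, ?_⟩
  · intro x y
    rw [s62_bstd_apply]
    unfold Cfsg.quadFormOdd
    simp only [Pi.add_apply]
    have hs : ∑ i : Fin n, (x (.inr (.inl i)) + y (.inr (.inl i))) * (x (.inr (.inr i)) + y (.inr (.inr i))) =
        ∑ i : Fin n, x (.inr (.inl i)) * x (.inr (.inr i)) + ∑ i : Fin n, y (.inr (.inl i)) * y (.inr (.inr i)) +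
        ∑ i : Fin n, (x (.inr (.inl i)) * y (.inr (.inr i)) + x (.inr (.inr i)) * y (.inr (.inl i))) := by
      rw [← Finset.sum_add_distrib, ← Finset.sum_add_distrib]
      apply Finset.sum_congr rfl
      intro i _
      ring
    rw [hs]
    ring
  · intro x
    rw [s62_bstd_apply]
    unfold Cfsg.quadFormOdd
    rw [mul_add, Finset.mul_sum]
    congr 1
    · ring
    · apply Finset.sum_congr rfl
      intro i _
      ring
  · intro x y
    rw [s62_bstd_apply, s62_bstd_apply]
    congr 1
    · ring
    · apply Finset.sum_congr rfl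
      intro i _
      ring
  · intro x hx
    funext k
    rcases k with u | j | j
    · have h := hx (Pi.single (Sum.inl ()) 1)
      rw [s62_bstd_apply] at h
      simp only [Pi.single_apply, reduceCtorEq, if_false, mul_zero, add_zero, Finset.sum_const_zero,
        if_true, mul_one] at h
      have h' : x (Sum.inl ()) = 0 := by
        rcases mul_eq_zero.1 h with h3 | h3
        · exact absurd h3 h2
        · exact h3
      cases u
      exact h'
    · have h := hx (Pi.single (Sum.inr (Sum.inr j)) 1)
      rw [s62_bstd_apply] at h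
      simp only [Pi.single_apply, reduceCtorEq, if_false, mul_zero, add_zero, zero_add,
        Sum.inr.injEq, Sum.inl.injEq] at h
      rw [Finset.sum_eq_single j] at h
      · simpa using h
      · intro b _ hb
        simp [hb]
      · intro hj
        exact absurd (Finset.mem_univ j) hj
    · have h := hx (Pi.single (Sum.inr (Sum.inl j)) 1)
      rw [s62_bstd_apply] at h
      simp only [Pi.single_apply, reduceCtorEq, if_false, mul_zero, add_zero, zero_add,
        Sum.inr.injEq, Sum.inl.injEq] at h
      rw [Finset.sum_eq_single j] at h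
      · simpa using h
      · intro b _ hb
        simp [hb]
      · intro hj
        exact absurd (Finset.mem_univ j) hj

end bridge

end Cfsg.Agent.Helper15.S62
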