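import Mathlib
import Cfsg.Agent.Lib.Helper23.S63Defs
import Cfsg.Agent.Lib.Helper4.S61DIH

/-!
# S2863 piece S63-DIH: the target statement for the dihedral groups `D_{2r}`, `r` an odd prime
-/

set_option autoImplicit false
set_option linter.unusedVariables false
set_option linter.unusedSectionVars false

namespace Cfsg.Agent.Helper23.S63

open Cfsg DihedralGroup Cfsg.Agent.Helper23.S61
open scoped Pointwise

theorem s63_dih_mem_conj {T : Type*} [Group T] (g : T) (Y : Subgroup T) (s : T) :
    s ∈ (MulAut.conj g • Y : Subgroup T) ↔ g⁻¹ * s * g ∈ Y := by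
  rw [Subgroup.mem_pointwise_smul_iff_inv_smul_mem, MulAut.smul_def, MulAut.conj_inv_apply]

/-- PIECE S63-DIH -/
theorem target2_dih {r : ℕ} (hr : r.Prime) (hr2 : r ≠ 2) (q : ℕ) :
    Target2 2 q (DihedralGroup r) := by
  intro B Y hB hYB hnorm hY hcard hncl x hx
  have : Fact r.Prime := ⟨hr⟩
  have hYne : Y ≠ ⊥ := by
    intro h
    rw [h] at hncl
    have hbot : Subgroup.normalClosure (((⊥ : Subgroup (DihedralGroup r)) : Set (DihedralGroup r)))
        = ⊥ := by
      apply le_antisymm
      · exact Subgroup.normalClosure_le_normal (le_refl _)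
      · exact bot_le
    rw [hbot] at hncl
    have hmem : (sr (0 : ZMod r) : DihedralGroup r) ∈ (⊥ : Subgroup (DihedralGroup r)) := by
      rw [hncl]; trivial
    rw [Subgroup.mem_bot, one_def] at hmem
    cases hmem
  obtain ⟨k, hkY, hYel⟩ := s61_dih_elemAb hr hr2 Y hY hYne
  have hsr1 : ∀ j : ZMod r, (sr j : DihedralGroup r) ≠ 1 := by
    intro j h
    rw [one_def] at h
    cases h
  -- `B ≤ Y`
  have hBY : B ≤ Y := by
    intro b hb
    have h1 := hnorm b hb (sr k) hkY
    have h2 : b * sr k * b⁻¹ = sr k := by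
      rcases hYel _ h1 with h | h
      · exfalso
        apply hsr1 k
        have : sr k = b⁻¹ * (b * sr k * b⁻¹) * b := by group
        rw [this, h]; group
      · exact h
    have hcomm : b * sr k = sr k * b := by
      have : b * sr k = (b * sr k * b⁻¹) * b := by group
      rw [this, h2]
    cases b with
    | r j =>
      have hj : j = 0 := s61_dih_comm_r hr hr2 k j hcomm
      rw [hj, ← one_def]
      exact Y.one_mem
    | sr j =>
      have hij : k = j := s61_dih_comm_sr hr hr2 k j hcomm.symm
      rw [← hij]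
      exact hkY
  -- `x` is a nontrivial rotation
  obtain ⟨i, hi0, rfl⟩ : ∃ i : ZMod r, i ≠ 0 ∧ x = DihedralGroup.r i := by
    cases x with
    | r i =>
      refine ⟨i, ?_, rfl⟩
      rintro rfl
      apply hx
      refine ⟨0, ?_⟩
      rw [← one_def, orderOf_one, pow_zero]
    | sr i =>
      exfalso
      apply hx
      exact ⟨1, by rw [orderOf_sr, pow_one]⟩
  have h2 : (2 : ZMod r) ≠ 0 := by
    intro h0
    have h0' : ((2 : ℕ) : ZMod r) = 0 := by exact_mod_cast h0
    have hdvd : r ∣ 2 := (ZMod.natCast_eq_zero_iff 2 r).1 h0'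
    exact hr2 ((Nat.prime_dvd_prime_iff_eq hr Nat.prime_two).1 hdvd)
  have hne : k + i ≠ k := by
    intro h
    apply hi0
    have : i = (k + i) - k := by ring
    rw [this, h, sub_self]
  -- the conjugating rotation
  have hconj : (DihedralGroup.r (-i / 2) : DihedralGroup r)⁻¹ * sr (k + i) * DihedralGroup.r (-i / 2)
      = sr k := by
    rw [inv_r, r_mul_sr, sr_mul_r]
    congr 1
    have : (-i / 2 : ZMod r) + (-i / 2) = -i := by
      rw [← two_mul, mul_div_cancel₀ _ h2]
    calc k + i - -(-i / 2) + -i / 2 = k + i + ((-i / 2 : ZMod r) + (-i / 2)) := by ring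
      _ = k := by rw [this]; ring
  left
  refine ⟨1, DihedralGroup.r (-i / 2), sr k, hkY, sr (k + i), ?_, ?_, ?_, ?_⟩
  · rw [s63_dih_mem_conj, hconj]
    exact hkY
  · intro h
    rw [s63_dih_mem_conj] at h
    rcases hYel _ (hBY h) with h' | h'
    · rw [inv_r, r_mul_sr, sr_mul_r] at h'
      exact hsr1 _ h'
    · rw [inv_r, r_mul_sr, sr_mul_r] at h'
      injection h' with h3
      apply hi0
      have h4 : (-i / 2 : ZMod r) + (-i / 2) = -i := by
        rw [← two_mul, mul_div_cancel₀ _ h2]
      have h5 : (-i / 2 : ZMod r) + (-i / 2) = (k - -(-i / 2) + -i / 2) - k := by ring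
      rw [h3, sub_self] at h5
      rw [h5] at h4
      exact neg_eq_zero.1 h4.symm
  · intro h
    rcases hYel _ (hBY h) with h' | h'
    · exact hsr1 _ h'
    · apply hne
      injection h'
  · rw [one_mul, inv_one, mul_one, sr_mul_sr]
    congr 1
    ring

end Cfsg.Agent.Helper23.S63
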