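import Mathlib
import Cfsg.Agent.Lib.Helper23.S61Defs
import Cfsg.Agent.Lib.Helper23.S61Transport

/-!
# S2863: the data transported into `T ≅ L/O_p(L)` (in terms of `psiL`)
-/

set_option autoImplicit false
set_option linter.unusedVariables false
set_option linter.unusedSectionVars false

namespace Cfsg.Agent.Helper23.S61

open Cfsg

section

variable {G : Type*} [Group G]

theorem subgroupOf_pCoreOf {p : ℕ} (L : Subgroup G) : (pCoreOf p L).subgroupOf L = pCore p ↥L := by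
  ext x
  rw [Subgroup.mem_subgroupOf]
  exact mem_pCoreOf_iff x

/-- the image `B` of `N_L(Y)` and the image `Ybar` of `Y` in `T` -/
theorem transport_data {p : ℕ} (L Y : Subgroup G)
    (hYel : IsElementaryAbelian p Y) (hYL : Y ≤ L)
    (hAn : pCoreOf p L ≤ Subgroup.normalizer (Y : Set G))
    (hmin : Subgroup.normalClosure ((Y.subgroupOf L : Subgroup ↥L) : Set ↥L) = ⊤)
    (hlt : L ⊓ Subgroup.normalizer (Y : Set G) < L)
    (hmax : ∀ X : Subgroup G, Y ≤ X → X < L → X ≤ L ⊓ Subgroup.normalizer (Y : Set G))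
    {T : Type*} [Group T] (e : ↥L ⧸ pCore p ↥L ≃* T) :
    IsCoatom (((L ⊓ Subgroup.normalizer (Y : Set G)).subgroupOf L).map (psiL e)) ∧
    (Y.subgroupOf L).map (psiL e) ≤
      ((L ⊓ Subgroup.normalizer (Y : Set G)).subgroupOf L).map (psiL e) ∧
    (∀ b ∈ ((L ⊓ Subgroup.normalizer (Y : Set G)).subgroupOf L).map (psiL e),
      ∀ y ∈ (Y.subgroupOf L).map (psiL e), b * y * b⁻¹ ∈ (Y.subgroupOf L).map (psiL e)) ∧
    IsElementaryAbelian p ((Y.subgroupOf L).map (psiL e)) ∧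
    Nat.card ((Y.subgroupOf L).map (psiL e)) = (Y ⊓ pCoreOf p L).relIndex Y ∧
    Subgroup.normalClosure (((Y.subgroupOf L).map (psiL e) : Subgroup T) : Set T) = ⊤ := by
  have hYN : Y ≤ L ⊓ Subgroup.normalizer (Y : Set G) := le_inf hYL Subgroup.le_normalizer
  have hAL : pCoreOf p L ≤ L := by
    unfold pCoreOf
    exact Subgroup.map_subtype_le _
  have hAN : pCoreOf p L ≤ L ⊓ Subgroup.normalizer (Y : Set G) := le_inf hAL hAn
  refine ⟨?_, ?_, ?_, ?_, ?_, ?_⟩
  · apply s61_tr_isCoatom_map _ (psiL_surjective e) (coatom_subgroupOf hYN hlt hmax)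
    rw [psiL_ker]
    intro x hx
    rw [Subgroup.mem_subgroupOf]
    exact hAN ((mem_pCoreOf_iff x).2 hx)
  · apply Subgroup.map_mono
    intro x hx
    rw [Subgroup.mem_subgroupOf] at hx ⊢
    exact hYN hx
  · rintro _ ⟨n, hn, rfl⟩ _ ⟨y, hy, rfl⟩
    refine ⟨n * y * n⁻¹, ?_, by simp⟩
    have hn' : (n : G) ∈ L ⊓ Subgroup.normalizer (Y : Set G) := Subgroup.mem_subgroupOf.1 hn
    have hy' : (y : G) ∈ Y := Subgroup.mem_subgroupOf.1 hy
    exact Subgroup.mem_subgroupOf.2 ((Subgroup.mem_normalizer_iff.1 hn'.2 (y : G)).1 hy')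
  · exact s61_tr_elemAb_map p _ (s61_tr_elemAb_subgroupOf p _ hYel)
  · rw [← Subgroup.relIndex_ker, psiL_ker, ← subgroupOf_pCoreOf, Subgroup.relIndex_subgroupOf hYL,
      Subgroup.inf_relIndex_left]
  · have h1 := Subgroup.map_normalClosure ((Y.subgroupOf L : Subgroup ↥L) : Set ↥L) (psiL e)
      (psiL_surjective e)
    rw [hmin, Subgroup.map_top_of_surjective _ (psiL_surjective e)] at h1
    rw [h1]
    rfl

end

end Cfsg.Agent.Helper23.S61
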