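import Mathlib
import Cfsg.Agent.Lib.Helper23.S63Defs
import Cfsg.Agent.Lib.Helper27.S63SZSTD
import Cfsg.Agent.Lib.Helper2.S63CTXCONJ
import Cfsg.Agent.Lib.Helper27.S63GEN
import Cfsg.Agent.Lib.Helper25.S63PROD
import Cfsg.Agent.Lib.Helper1.S63INTER
import Cfsg.Agent.Lib.Helper9.S63PRODCORE
import Cfsg.Agent.Lib.Helper20.S63FPFMISC
import Cfsg.Agent.Lib.Helper27.S63Q8
import Cfsg.Agent.Lib.Helper27.S63CTX
import Cfsg.Agent.Lib.Helper20.S63T2GLUE
import Cfsg.Agent.Lib.Helper23.S63DIH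
import Cfsg.Agent.Lib.Helper22.S63COMM
import Cfsg.Agent.Lib.Helper20.S63SL2STD
import Cfsg.Agent.Lib.Helper23.S63Transport
import Cfsg.Agent.Lib.Helper27.S61YEL
import Cfsg.Agent.Lib.Helper25.S61SL2A
import Cfsg.Agent.Lib.Helper7.S61SZA
import Cfsg.Agent.Lib.Helper11.S61SZ2XFER
import Cfsg.Agent.Lib.Helper23.S61SZ2DECB
import Cfsg.Agent.Lib.Helper2.SzBridge
import Cfsg.Agent.Lib.Helper10.Cores

/-!
# S2863: assembly
-/

set_option autoImplicit false
set_option linter.unusedVariables false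
set_option linter.unusedSectionVars false

namespace Cfsg.Agent.Helper23.S63

open Cfsg Cfsg.Agent.Helper12 Cfsg.Agent.Helper2.Sz Cfsg.Agent.Helper23.S61
open scoped Pointwise

section conj

variable {G : Type*} [Group G]

theorem s63_mem_conj_smul (g : G) (Y : Subgroup G) (s : G) :
    s ∈ (MulAut.conj g • Y : Subgroup G) ↔ g⁻¹ * s * g ∈ Y := by
  rw [Subgroup.mem_pointwise_smul_iff_inv_smul_mem, MulAut.smul_def, MulAut.conj_inv_apply]

theorem s63_conj_smul_eq_of_mem_normalizer (g : G) (Y : Subgroup G)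
    (hg : g ∈ Subgroup.normalizer (Y : Set G)) : (MulAut.conj g • Y : Subgroup G) = Y := by
  ext s
  rw [s63_mem_conj_smul]
  have h := Subgroup.mem_normalizer_iff.1 (inv_mem hg) s
  rw [inv_inv] at h
  exact h.symm

theorem s63_mem_normalizer_conj (g : G) (Y : Subgroup G) (x : G) :
    x ∈ Subgroup.normalizer ((MulAut.conj g • Y : Subgroup G) : Set G) ↔
      g⁻¹ * x * g ∈ Subgroup.normalizer (Y : Set G) := by
  rw [Subgroup.mem_normalizer_iff, Subgroup.mem_normalizer_iff]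
  constructor
  · intro h y
    have h1 := h (g * y * g⁻¹)
    rw [s63_mem_conj_smul, s63_mem_conj_smul] at h1
    have e1 : g⁻¹ * (g * y * g⁻¹) * g = y := by group
    have e2 : g⁻¹ * (x * (g * y * g⁻¹) * x⁻¹) * g = g⁻¹ * x * g * y * (g⁻¹ * x * g)⁻¹ := by group
    rw [e1, e2] at h1
    exact h1
  · intro h s
    rw [s63_mem_conj_smul, s63_mem_conj_smul]
    have h1 := h (g⁻¹ * s * g)
    have e : g⁻¹ * x * g * (g⁻¹ * s * g) * (g⁻¹ * x * g)⁻¹ = g⁻¹ * (x * s * x⁻¹) * g := by group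
    rw [e] at h1
    exact h1

end conj

section core

variable {G : Type*} [Group G] [Finite G]

/-- `t ∈ Y ∖ N(Y^g)` acts fixed-point-freely on `Z^g / C` (S63-INJ, proved here from `inter_eq`) -/
theorem s63_inj_alt {L Y A : Subgroup G} (h : Ctx L Y A)
    (g : G) (hg : g ∈ L) (t : G) (ht : t ∈ Y)
    (htN : t ∉ Subgroup.normalizer ((MulAut.conj g • Y : Subgroup G) : Set G))
    (z : G) (hz : z ∈ (MulAut.conj g • Y : Subgroup G) ⊓ A)
    (hc : t * z * t⁻¹ * z⁻¹ ∈ Cc L Y) : z ∈ Cc L Y := by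
  have hgN : g ∉ Subgroup.normalizer (Y : Set G) := by
    intro hgN
    apply htN
    rw [s63_conj_smul_eq_of_mem_normalizer g Y hgN]
    exact Subgroup.le_normalizer ht
  have h' : Ctx L (MulAut.conj g • Y) A := ctx_conj h g hg
  have htL : t ∈ L := h.YL ht
  have hCZ' : Cc L Y ≤ (MulAut.conj g • Y : Subgroup G) ⊓ A := by
    rw [← inter_eq h g hg hgN]; exact inf_le_right
  have h1 : t * z * t⁻¹ ∈ (MulAut.conj g • Y : Subgroup G) ⊓ A := by
    have e1 : t * z * t⁻¹ = (t * z * t⁻¹ * z⁻¹) * z := by group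
    rw [e1]
    exact Subgroup.mul_mem _ (hCZ' hc) hz
  have h2 : t * z * t⁻¹ ∈
      (MulAut.conj t • (MulAut.conj g • Y : Subgroup G) : Subgroup G) ⊓ A := by
    refine Subgroup.mem_inf.2 ⟨?_, h.Anorm t htL z (Subgroup.mem_inf.1 hz).2⟩
    rw [s63_mem_conj_smul]
    have e2 : t⁻¹ * (t * z * t⁻¹) * t = z := by group
    rw [e2]; exact (Subgroup.mem_inf.1 hz).1
  have h3 := inter_eq h' t htL htN
  have h4 : t * z * t⁻¹ ∈ Cc L (MulAut.conj g • Y) := by
    rw [← h3]; exact Subgroup.mem_inf.2 ⟨h1, h2⟩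
  rw [cc_conj L Y g hg] at h4
  have h5 : t * (t * z * t⁻¹) = (t * z * t⁻¹) * t := (Subgroup.mem_centralizer_iff.1 h4.2) t htL
  have h6 : z = t * z * t⁻¹ := by
    have e3 : t * (t * z * t⁻¹) = t * z := by rw [h5]; group
    exact (mul_left_cancel e3).symm
  rw [h6]; exact h4

/-- the product of `t ∈ Y` and `s ∈ Y^g` in general position acts fixed-point-freely -/
theorem prodfpf {L Y A : Subgroup G} (h : Ctx L Y A) (g : G) (hg : g ∈ L) (t : G) (ht : t ∈ Y)
    (htN : t ∉ Subgroup.normalizer ((MulAut.conj g • Y : Subgroup G) : Set G))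
    (s : G) (hs : s ∈ (MulAut.conj g • Y : Subgroup G))
    (hsN : s ∉ Subgroup.normalizer (Y : Set G)) : FPF L Y A (t * s) := by
  have hgN : g ∉ Subgroup.normalizer (Y : Set G) := by
    intro hgN
    rw [s63_conj_smul_eq_of_mem_normalizer g Y hgN] at hs
    exact hsN (Subgroup.le_normalizer hs)
  have h' : Ctx L (MulAut.conj g • Y) A := ctx_conj h g hg
  have hback : (MulAut.conj g⁻¹ • (MulAut.conj g • Y : Subgroup G) : Subgroup G) = Y := by
    rw [map_inv, inv_smul_smul]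
  refine prodfpf_core L A Y (MulAut.conj g • Y) (Cc L Y) h.Anorm h.YL h'.YL h.Ycomm h'.Ycomm
    h.AY h'.AY (prod_eq h g hg hgN) (inter_eq h g hg hgN) ?_ (comm_mem h) t ht
    (fun z hz hc => s63_inj_alt h g hg t ht htN z hz hc) s hs ?_
  · intro c hc x hx
    exact (Subgroup.mem_centralizer_iff.1 hc.2) x hx
  · intro z hz hc
    have hz' : z ∈ (MulAut.conj g⁻¹ • (MulAut.conj g • Y : Subgroup G) : Subgroup G) ⊓ A := by
      rw [hback]; exact hz
    have hsN' : s ∉ Subgroup.normalizer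
        ((MulAut.conj g⁻¹ • (MulAut.conj g • Y : Subgroup G) : Subgroup G) : Set G) := by
      rw [hback]; exact hsN
    have hc' : s * z * s⁻¹ * z⁻¹ ∈ Cc L (MulAut.conj g • Y) := by
      rw [cc_conj L Y g hg]; exact hc
    have := s63_inj_alt h' g⁻¹ (inv_mem hg) s hs hsN' z hz' hc'
    rw [cc_conj L Y g hg] at this
    exact this

end core

section lift

variable {G : Type*} [Group G] [Finite G] {p : ℕ} {L Y : Subgroup G} {T : Type*} [Group T]

theorem s63_ker_mem (e : ↥L ⧸ pCore p ↥L ≃* T) (u v : ↥L) (huv : psiL e u = psiL e v) :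
    ∃ a0 : G, a0 ∈ pCoreOf p L ∧ (u : G) = (v : G) * a0 := by
  refine ⟨((v⁻¹ * u : ↥L) : G), ?_, ?_⟩
  · rw [mem_pCoreOf_iff, ← psiL_ker e, MonoidHom.mem_ker, map_mul, map_inv, huv, inv_mul_cancel]
  · rw [Subgroup.coe_mul, Subgroup.coe_inv, mul_inv_cancel_left]

/-- lifting `IsProd` -/
theorem lift_isProd (hctx : Ctx L Y (pCoreOf p L)) (e : ↥L ⧸ pCore p ↥L ≃* T) (x : ↥L)
    (hx : IsProd (((L ⊓ Subgroup.normalizer (Y : Set G)).subgroupOf L).map (psiL e))
      ((Y.subgroupOf L).map (psiL e)) (psiL e x)) : FPF L Y (pCoreOf p L) (x : G) := by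
  obtain ⟨c, g, t, ht, s, hs, htB, hsB, heq⟩ := hx
  obtain ⟨c', rfl⟩ := psiL_surjective e c
  obtain ⟨g', rfl⟩ := psiL_surjective e g
  obtain ⟨t', ht', rfl⟩ := ht
  rw [s63_mem_conj_smul] at hs
  obtain ⟨y', hy', hys⟩ := hs
  have hs_eq : s = psiL e (g' * y' * g'⁻¹) := by
    rw [map_mul, map_mul, map_inv, hys]; group
  subst hs_eq
  have ht'Y : (t' : G) ∈ Y := Subgroup.mem_subgroupOf.1 ht'
  have hy'Y : (y' : G) ∈ Y := Subgroup.mem_subgroupOf.1 hy'
  have htN : (t' : G) ∉ Subgroup.normalizer ((MulAut.conj (g' : G) • Y : Subgroup G) : Set G) := by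
    intro hN
    apply htB
    rw [s63_mem_normalizer_conj] at hN
    rw [s63_mem_conj_smul]
    refine ⟨g'⁻¹ * t' * g', ?_, by rw [map_mul, map_mul, map_inv]⟩
    refine Subgroup.mem_subgroupOf.2 (Subgroup.mem_inf.2 ⟨(g'⁻¹ * t' * g').2, ?_⟩)
    rw [Subgroup.coe_mul, Subgroup.coe_mul, Subgroup.coe_inv]
    exact hN
  have hsN : ((g' * y' * g'⁻¹ : ↥L) : G) ∉ Subgroup.normalizer (Y : Set G) := by
    intro hN
    apply hsB
    exact ⟨g' * y' * g'⁻¹, Subgroup.mem_subgroupOf.2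
      (Subgroup.mem_inf.2 ⟨(g' * y' * g'⁻¹).2, hN⟩), rfl⟩
  have hsY : ((g' * y' * g'⁻¹ : ↥L) : G) ∈ (MulAut.conj (g' : G) • Y : Subgroup G) := by
    rw [s63_mem_conj_smul, Subgroup.coe_mul, Subgroup.coe_mul, Subgroup.coe_inv]
    have e1 : (g' : G)⁻¹ * ((g' : G) * (y' : G) * (g' : G)⁻¹) * (g' : G) = (y' : G) := by group
    rw [e1]
    exact hy'Y
  have h1 : FPF L Y (pCoreOf p L) ((t' : G) * ((g' * y' * g'⁻¹ : ↥L) : G)) :=
    prodfpf hctx (g' : G) g'.2 (t' : G) ht'Y htN _ hsY hsN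
  have heq' : psiL e (c' * x * c'⁻¹) = psiL e (t' * (g' * y' * g'⁻¹)) := by
    have h0 : psiL e (c' * x * c'⁻¹) = psiL e c' * psiL e x * (psiL e c')⁻¹ := by
      rw [map_mul, map_mul, map_inv]
    rw [h0, heq, ← map_mul]
  obtain ⟨a0, ha0, hca⟩ := s63_ker_mem e _ _ heq'
  have h2 : FPF L Y (pCoreOf p L) ((t' : G) * ((g' * y' * g'⁻¹ : ↥L) : G) * a0) :=
    fpf_mul_right hctx (comm_mem hctx) _ (t' * (g' * y' * g'⁻¹)).2 h1 a0 ha0
  have h3 := fpf_conj hctx ((c' : G)⁻¹) (inv_mem c'.2) _ h2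
  have e3 : (c' : G)⁻¹ * ((t' : G) * ((g' * y' * g'⁻¹ : ↥L) : G) * a0) * ((c' : G)⁻¹)⁻¹
      = (x : G) := by
    rw [Subgroup.coe_mul _ t' (g' * y' * g'⁻¹)] at hca
    rw [← hca, Subgroup.coe_mul, Subgroup.coe_mul, Subgroup.coe_inv]
    group
  rw [e3] at h3
  exact h3

end lift

section nonp

variable {G : Type*} [Group G] {p : ℕ} [Fact p.Prime] {L : Subgroup G} {T : Type*} [Group T]

theorem s63_not_ppow (e : ↥L ⧸ pCore p ↥L ≃* T) (x : ↥L)
    (hnp : ¬ ∃ k : ℕ, orderOf (x : G) = p ^ k) : ¬ ∃ k : ℕ, orderOf (psiL e x) = p ^ k := by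
  rintro ⟨k, hk⟩
  apply hnp
  have h1 : x ^ (p ^ k) ∈ pCore p ↥L := by
    rw [← psiL_ker e, MonoidHom.mem_ker, map_pow, ← hk, pow_orderOf_eq_one]
  have hP : IsPGroup p (pCore p ↥L) := Cfsg.Agent.Helper10.pCore_isPGroup p
  obtain ⟨j, hj⟩ := hP ⟨x ^ (p ^ k), h1⟩
  have h2 : x ^ (p ^ (k + j)) = 1 := by
    have h := congrArg Subtype.val hj
    rw [pow_add, pow_mul]
    simpa using h
  have h3 : orderOf x ∣ p ^ (k + j) := orderOf_dvd_of_pow_eq_one h2
  obtain ⟨i, -, hi⟩ := (Nat.dvd_prime_pow (Fact.out)).1 h3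
  exact ⟨i, by rw [← hi, Subgroup.orderOf_coe]⟩

theorem s63_hodd (hp2 : p ≠ 2) (C : Subgroup G) :
    ∀ a ∈ pCoreOf p L, a * a ∈ C → a ∈ C := by
  intro a ha haa
  unfold pCoreOf at ha
  obtain ⟨a', ha', rfl⟩ := ha
  obtain ⟨k, hk⟩ := (Cfsg.Agent.Helper10.pCore_isPGroup p : IsPGroup p (pCore p ↥L)) ⟨a', ha'⟩
  have hk' : ((a' : ↥L) : G) ^ (p ^ k) = 1 := by
    have h := congrArg Subtype.val hk
    have h' := congrArg (Subtype.val : ↥L → G) h
    simpa using h'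
  have hodd : Odd (p ^ k) := (Nat.Prime.odd_of_ne_two Fact.out hp2).pow
  obtain ⟨m, hm⟩ := hodd
  have : ((a' : ↥L) : G) = (((a' : ↥L) : G) * ((a' : ↥L) : G)) ^ (m + 1) := by
    rw [← pow_two, ← pow_mul, show 2 * (m + 1) = (2 * m + 1) + 1 by ring, ← hm, pow_succ, hk',
      one_mul]
  show ((a' : ↥L) : G) ∈ C
  rw [this]
  exact C.pow_mem haa _

end nonp

section good

variable {G : Type*} [Group G] [Finite G] {p : ℕ} [Fact p.Prime] {L Y : Subgroup G}
  {T : Type*} [Group T]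

theorem fpf_of_good (hctx : Ctx L Y (pCoreOf p L)) (e : ↥L ⧸ pCore p ↥L ≃* T) (x : ↥L)
    (hx : Good p (((L ⊓ Subgroup.normalizer (Y : Set G)).subgroupOf L).map (psiL e))
      ((Y.subgroupOf L).map (psiL e)) (psiL e x)) : FPF L Y (pCoreOf p L) (x : G) := by
  rcases hx with hx | ⟨hp2, i, j, hi, hj, hij, hii, hjj, hijij⟩
  · exact lift_isProd hctx e x hx
  · obtain ⟨i', rfl⟩ := psiL_surjective e i
    obtain ⟨j', rfl⟩ := psiL_surjective e j
    rw [← map_mul] at hij hijij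
    have fi := lift_isProd hctx e i' hi
    have fj := lift_isProd hctx e j' hj
    have fij := lift_isProd hctx e (i' * j') hij
    have hker : ∀ u : ↥L, psiL e u * psiL e u = psiL e x →
        ((u : G) * (u : G) * (x : G)⁻¹) ∈ pCoreOf p L := by
      intro u hu
      have h1 : u * u * x⁻¹ ∈ pCore p ↥L := by
        rw [← psiL_ker e, MonoidHom.mem_ker, map_mul, map_mul, map_inv, hu, mul_inv_cancel]
      have h2 := (mem_pCoreOf_iff _).2 h1
      rw [Subgroup.coe_mul, Subgroup.coe_mul, Subgroup.coe_inv] at h2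
      exact h2
    have h3 := hker (i' * j') hijij
    rw [Subgroup.coe_mul] at h3 fij
    exact fpf_of_q8 hctx (comm_mem hctx) (s63_hodd hp2 _) (x : G) (i' : G) (j' : G) x.2 i'.2 j'.2
      (hker i' hii) (hker j' hjj) h3 fi fj fij

end good

/-! ## the target-side instances -/

theorem target2_sl2 {F : Type*} [Field F] [Fintype F] (p : ℕ) [Fact p.Prime] :
    Target2 p (Fintype.card F) (Matrix.SpecialLinearGroup (Fin 2) F) := by
  intro B Y hB hYB hBY hYel hYcard hncl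
  obtain ⟨hchar, -⟩ := sl2_conj p B Y hB hYB hBY hYel hYcard
  have := hchar
  exact target2_of_conj p (Fintype.card F) (unipSL2 F) (borelSL2 F)
    (fun x hx => sl2_good p x hx)
    (fun B Y hB hYB hBY hYel hYcard => (sl2_conj p B Y hB hYB hBY hYel hYcard).2)
    B Y hB hYB hBY hYel hYcard hncl

theorem target2_sz {F : Type*} [Field F] [Fintype F] {m : ℕ} (hm : 1 ≤ m)
    (hF : Fintype.card F = 2 ^ (2 * m + 1)) : Target2 2 (Fintype.card F) (Cfsg.Sz F m) := by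
  obtain ⟨S⟩ := nonempty_szData (m := m) hF
  exact target2_of_conj 2 (Fintype.card F) S.ZSz
    (MulAction.stabilizer (Cfsg.Sz F m) (SzData.pInf F))
    (fun x hx => Or.inl (sz_good S hm hF x hx))
    (fun B Y hB hYB hBY hYel hYcard => sz_conj S hm hF B Y hB hYB hBY hYel hYcard)

theorem target2_sz2 {F : Type*} [Field F] [Fintype F] (hF : Fintype.card F = 2) :
    Target2 2 (Fintype.card F) (Cfsg.Lie.Sz F (2 ^ (0 + 1))) := by
  intro B Y hB hYB hBY hYel hYcard hncl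
  exfalso
  obtain ⟨f⟩ := sz2_equiv hF
  apply sz2_zmod (Y.map f.toMonoidHom)
  · rw [Subgroup.card_map_of_injective f.injective, hYcard, hF]
  · have h1 := Subgroup.map_normalClosure (Y : Set (Cfsg.Lie.Sz F (2 ^ (0 + 1)))) f.toMonoidHom
      f.surjective
    rw [hncl, Subgroup.map_top_of_surjective _ f.surjective] at h1
    rw [h1]
    rfl

/-! ## assembly -/

theorem main_of_target {G : Type*} [Group G] [Finite G] {p : ℕ} [Fact p.Prime] (L Y : Subgroup G)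
    (hctx : Ctx L Y (pCoreOf p L)) (hYel : IsElementaryAbelian p Y) (hYL : Y ≤ L)
    (hAn : pCoreOf p L ≤ Subgroup.normalizer (Y : Set G))
    (hmin : Subgroup.normalClosure ((Y.subgroupOf L : Subgroup ↥L) : Set ↥L) = ⊤)
    (hlt : L ⊓ Subgroup.normalizer (Y : Set G) < L)
    (hmax : ∀ X : Subgroup G, Y ≤ X → X < L → X ≤ L ⊓ Subgroup.normalizer (Y : Set G))
    {T : Type*} [Group T] (e : ↥L ⧸ pCore p ↥L ≃* T)
    (hT : Target2 p ((Y ⊓ pCoreOf p L).relIndex Y) T)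
    (h : G) (hh : h ∈ L) (hnp : ¬ ∃ k : ℕ, orderOf h = p ^ k) : FPF L Y (pCoreOf p L) h := by
  obtain ⟨h1, h2, h3, h4, h5, h6⟩ := transport_data L Y hYel hYL hAn hmin hlt hmax e
  have hg := hT _ _ h1 h2 h3 h4 h5 h6 (psiL e ⟨h, hh⟩) (s63_not_ppow e ⟨h, hh⟩ hnp)
  exact fpf_of_good hctx e ⟨h, hh⟩ hg

/-- S2863 -/
theorem main {G : Type*} [Group G] [Finite G] {p : ℕ} [Fact p.Prime] (M L : Subgroup G)
    (hL : IsInFrakL p M L) (h : G) (hh : h ∈ L) (hnp : ¬ ∃ k : ℕ, orderOf h = p ^ k) :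
    FPF L (largestPReducedOf p M) (pCoreOf p L) h := by
  have hYel := yM_elemAb p M
  have hctx := ctx_of_frakL M L hL hYel
  obtain ⟨hYL, -, hAn, ⟨hmin, -⟩, -, ⟨hlt, hmax⟩, hcases⟩ := hL
  rcases hcases with ⟨F, _, _, hcard, ⟨e⟩⟩ | ⟨hp2, F, _, _, m, hF, hcard, ⟨e⟩⟩ |
    ⟨hp2, r, hr, hr2, ⟨e⟩⟩
  · exact main_of_target L _ hctx hYel hYL hAn hmin hlt hmax e
      (by rw [← hcard]; exact target2_sl2 p) h hh hnp
  · subst hp2
    rcases Nat.eq_zero_or_pos m with rfl | hm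
    · exact main_of_target L _ hctx hYel hYL hAn hmin hlt hmax e
        (by rw [← hcard]; exact target2_sz2 (by simpa using hF)) h hh hnp
    · obtain ⟨br⟩ := nonempty_bridge (F := F) hm hF
      exact main_of_target L _ hctx hYel hYL hAn hmin hlt hmax (e.trans br.symm)
        (by rw [← hcard]; exact target2_sz hm hF) h hh hnp
  · subst hp2
    exact main_of_target L _ hctx hYel hYL hAn hmin hlt hmax e (target2_dih hr hr2 _) h hh hnp

end Cfsg.Agent.Helper23.S63
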