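import Mathlib
import Cfsg.Prelude.Def_Transfer
import Cfsg.Agent.Lib.Helper20.SchDefs
import Cfsg.Agent.Lib.Helper10.Frobenius2

/-!
# S4395 piece SCH-NPCQUOT: a surjective image of a `p`-nilpotent finite group is `p`-nilpotent
-/

set_option autoImplicit false
set_option linter.style.haveILetI false

namespace Cfsg.Agent.Helper20.Sch

universe u

variable {p q : ℕ} [Fact p.Prime] [Fact q.Prime]

section universal

/-- SCH-NPCQUOT -/
theorem hasNPC_of_surjective {G H : Type*} [Group G] [Group H] [Finite G] (f : G →* H)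
    (hf : Function.Surjective f) (h : Cfsg.HasNormalPComplement p G) :
    Cfsg.HasNormalPComplement p H := by
  haveI : Finite H := Finite.of_surjective f hf
  obtain ⟨N, hN, hcop, k, hk⟩ := Cfsg.Agent.Helper10.npc_of_hasNormalPComplement h
  apply Cfsg.Agent.Helper10.NPC.hasNormalPComplement
  refine ⟨N.map f, hN.map f hf, ?_, ?_⟩
  · exact Nat.Coprime.coprime_dvd_left (Subgroup.card_map_dvd N f) hcop
  · have hdvd : (N.map f).index ∣ p ^ k := by
      rw [← hk]
      exact Subgroup.index_map_dvd N hf
    obtain ⟨j, _, hj⟩ := (Nat.dvd_prime_pow (Fact.out : p.Prime)).1 hdvd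
    exact ⟨j, hj⟩

end universal

end Cfsg.Agent.Helper20.Sch
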