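import Mathlib
import Cfsg.Agent.Lib.Helper23.SlhDefs
import Cfsg.Agent.Lib.Helper19.SLHB1
import Cfsg.Agent.Lib.Helper19.SLHB1R
import Cfsg.Agent.Lib.Helper8.SlhB2
import Cfsg.Agent.Lib.Helper4.SlhB3
import Cfsg.Agent.Lib.Helper13.SlhB4
import Cfsg.Agent.Lib.Helper9.SlhB5
import Cfsg.Agent.Lib.Helper25.SLHB6

/-!
S3050: assembly of Part B (the abstract block computation).
-/

set_option autoImplicit false
set_option linter.unusedSectionVars false
set_option linter.unusedVariables false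

namespace Cfsg.Agent.Helper23.Slh

open Cfsg.Agent.Helper12.NatMod

local notation "SL2" => Matrix.SpecialLinearGroup (Fin 2)

section Blocks

variable {F : Type*} [Field F] [CharP F 2] {R : Type*} [Ring R]

/-- ASSEMBLY of Part B. -/
theorem blocks_main (h2 : (2 : R) = 0) (hsq : ∀ c : F, ∃ s : F, s * s = c)
    (P : SL2 F →* Matrix (Fin 2) (Fin 2) R)
    (hT : P (uu 1) = !![1, 1; 0, 1]) (hT' : P (ll 1) = !![1, 0; 1, 1])
    (hfpf : ∀ c : Fˣ, 1 + P (uu (c : F) * ll ((c⁻¹ : Fˣ) : F)) +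
      P (uu (c : F) * ll ((c⁻¹ : Fˣ) : F)) * P (uu (c : F) * ll ((c⁻¹ : Fˣ) : F)) = 0) :
    ∃ b : F →+* R, (∀ c, P (uu c) = !![1, b c; 0, 1]) ∧ (∀ c, P (ll c) = !![1, 0; b c, 1]) := by
  obtain ⟨α, β, hD⟩ := exists_blockData h2 P hT hT'
  have h1 := blockRel1 h2 P hT α β hD
  have hr2 := blockRel2 h2 P α β hD h1 hfpf
  have hh_eq := fun c => P_hh h2 P α β hD h1 hr2 c
  have htor := fun c => torus_rel h2 P α β hD h1 hr2 hh_eq c
  have hα := alpha_eq_one h2 hsq α β h1 hr2 htor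
  exact exists_ringHom h2 P α β hD h1 hr2 hh_eq hα

end Blocks

end Cfsg.Agent.Helper23.Slh
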