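import Mathlib
import Cfsg.Agent.Lib.Helper23.SlhDefs
import Cfsg.Prelude.Def_Transfer
import Cfsg.Prelude.Def_BaumannBlocks

/-!
# S3050 piece SLH-DECOMP: from the normal form to the subgroups `V i`
-/

set_option autoImplicit false
set_option linter.unusedSectionVars false
set_option linter.unusedVariables false
set_option linter.style.haveILetI false

namespace Cfsg.Agent.Helper23.Slh

local notation "SL2" => Matrix.SpecialLinearGroup (Fin 2)

section PartF

variable {G : Type*} [Group G] {K : Type*} [Field K]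

/-- the `i`-th coordinate subgroup of `Q` -/
def slh_decomp_W {Q : Subgroup G} {k : ℕ} (ψ : ↥Q ≃* Multiplicative (Fin k → Fin 2 → K))
    (i : Fin k) : Subgroup ↥Q where
  carrier := {y | ∀ j, j ≠ i → Multiplicative.toAdd (ψ y) j = 0}
  mul_mem' := by
    intro a b ha hb j hj
    rw [map_mul, toAdd_mul, Pi.add_apply, ha j hj, hb j hj, add_zero]
  one_mem' := by
    intro j hj
    rw [map_one, toAdd_one, Pi.zero_apply]
  inv_mem' := by
    intro a ha j hj
    rw [map_inv, toAdd_inv, Pi.neg_apply, ha j hj, neg_zero]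

theorem slh_decomp_mem_W {Q : Subgroup G} {k : ℕ} (ψ : ↥Q ≃* Multiplicative (Fin k → Fin 2 → K))
    (i : Fin k) (y : ↥Q) :
    y ∈ slh_decomp_W ψ i ↔ ∀ j, j ≠ i → Multiplicative.toAdd (ψ y) j = 0 := Iff.rfl

/-- an element all of whose coordinates vanish is trivial -/
theorem slh_decomp_eq_one {Q : Subgroup G} {k : ℕ} (ψ : ↥Q ≃* Multiplicative (Fin k → Fin 2 → K))
    (y : ↥Q) (h : ∀ j, Multiplicative.toAdd (ψ y) j = 0) : y = 1 := by
  apply ψ.injective
  rw [map_one]
  apply Multiplicative.toAdd.injective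
  rw [toAdd_one]
  funext j
  exact h j

/-- the element with a prescribed `i`-th coordinate, the other coordinates zero -/
theorem slh_decomp_single {Q : Subgroup G} {k : ℕ} (ψ : ↥Q ≃* Multiplicative (Fin k → Fin 2 → K))
    (i : Fin k) (v : Fin 2 → K) :
    ψ.symm (Multiplicative.ofAdd (Pi.single i v)) ∈ slh_decomp_W ψ i ∧
      Multiplicative.toAdd (ψ (ψ.symm (Multiplicative.ofAdd (Pi.single i v)))) i = v := by
  classical
  constructor
  · intro j hj
    rw [MulEquiv.apply_symm_apply, toAdd_ofAdd, Pi.single_eq_of_ne hj]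
  · rw [MulEquiv.apply_symm_apply, toAdd_ofAdd, Pi.single_eq_same]

/-- the coordinate subgroups generate `Q` -/
theorem slh_decomp_iSup_W {Q : Subgroup G} {k : ℕ} (ψ : ↥Q ≃* Multiplicative (Fin k → Fin 2 → K)) :
    ⨆ i, slh_decomp_W ψ i = ⊤ := by
  classical
  rw [eq_top_iff]
  intro y _
  set T : Subgroup ↥Q := ⨆ i, slh_decomp_W ψ i with hT
  have hmem : ∀ f : Fin k → Fin 2 → K, Multiplicative.ofAdd f ∈ T.map ψ.toMonoidHom := by
    intro f
    have hf : Multiplicative.ofAdd f = ∏ i, Multiplicative.ofAdd (Pi.single i (f i)) := by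
      rw [← ofAdd_sum, Finset.univ_sum_single]
    rw [hf]
    apply Subgroup.prod_mem
    intro i _
    refine ⟨ψ.symm (Multiplicative.ofAdd (Pi.single i (f i))), ?_, ?_⟩
    · exact Subgroup.mem_iSup_of_mem i (slh_decomp_single ψ i (f i)).1
    · simp
  obtain ⟨t, ht, hty⟩ := hmem (Multiplicative.toAdd (ψ y))
  have : t = y := by
    apply ψ.injective
    rw [← hty.trans (ofAdd_toAdd _)]
    rfl
  rw [← this]
  exact ht

/-- PIECE SLH-DECOMP.  From the normal form to the subgroups `V i` (the preimages of the coordinate factors). -/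
theorem decomp (Q : Subgroup G) [Q.Normal] (π : G →* SL2 K) (hπ : Function.Surjective π) (k : ℕ)
    (ψ : ↥Q ≃* Multiplicative (Fin k → Fin 2 → K))
    (hψ : ∀ (g : G) (y y' : ↥Q), (y' : G) = g * (y : G) * g⁻¹ → ∀ i : Fin k,
      Multiplicative.toAdd (ψ y') i =
        ((π g : SL2 K) : Matrix (Fin 2) (Fin 2) K).mulVec (Multiplicative.toAdd (ψ y) i)) :
    ∃ V : Fin k → Subgroup G, (∀ i, V i ≤ Q ∧ (V i).Normal ∧
      Cfsg.ActsAsSL2OnSection K ⊤ ⊤ (V i) ⊥) ∧ iSupIndep V ∧ ⨆ i, V i = Q := by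
  classical
  -- the subgroups
  let V : Fin k → Subgroup G := fun i => (slh_decomp_W ψ i).map Q.subtype
  have hVQ : ∀ i, V i ≤ Q := fun i => Subgroup.map_subtype_le _
  -- membership in `V i`
  have hVmem : ∀ i (x : G), x ∈ V i ↔ ∃ hx : x ∈ Q, (⟨x, hx⟩ : ↥Q) ∈ slh_decomp_W ψ i := by
    intro i x
    constructor
    · rintro ⟨y, hy, rfl⟩
      exact ⟨y.2, hy⟩
    · rintro ⟨hx, hy⟩
      exact ⟨⟨x, hx⟩, hy, rfl⟩
  -- conjugation stability
  have hconj : ∀ i (x : G), x ∈ V i → ∀ g : G, g * x * g⁻¹ ∈ V i := by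
    intro i x hx g
    obtain ⟨hxQ, hxW⟩ := (hVmem i x).1 hx
    have hgQ : g * x * g⁻¹ ∈ Q := ‹Q.Normal›.conj_mem x hxQ g
    refine (hVmem i _).2 ⟨hgQ, ?_⟩
    intro j hj
    rw [hψ g ⟨x, hxQ⟩ ⟨g * x * g⁻¹, hgQ⟩ rfl j, hxW j hj, Matrix.mulVec_zero]
  have hVn : ∀ i, (V i).Normal := fun i => ⟨fun x hx g => hconj i x hx g⟩
  refine ⟨V, fun i => ⟨hVQ i, hVn i, ?_⟩, ?_, ?_⟩
  · -- the action on `V i`
    refine ⟨?_, bot_le, ?_⟩
    · intro g _
      haveI := hVn i
      rw [Subgroup.normalizer_eq_top (V i)]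
      trivial
    · refine ⟨π.comp (⊤ : Subgroup G).subtype,
        (AddMonoidHom.toMultiplicative (Pi.evalAddMonoidHom (fun _ : Fin k => Fin 2 → K) i)).comp
          (ψ.toMonoidHom.comp (Subgroup.inclusion (hVQ i))), ?_, ?_, ?_, ?_⟩
      · rw [MonoidHom.range_eq_top]
        intro s
        obtain ⟨g, hg⟩ := hπ s
        exact ⟨⟨g, trivial⟩, hg⟩
      · intro v
        obtain ⟨h1, h2⟩ := slh_decomp_single ψ i (Multiplicative.toAdd v)
        refine ⟨⟨_, (hVmem i _).2 ⟨(ψ.symm (Multiplicative.ofAdd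
          (Pi.single i (Multiplicative.toAdd v)))).2, h1⟩⟩, ?_⟩
        apply Multiplicative.toAdd.injective
        exact h2
      · intro u
        obtain ⟨huQ, huW⟩ := (hVmem i _).1 u.2
        constructor
        · intro h
          have h0 : Multiplicative.toAdd (ψ ⟨(u : G), huQ⟩) i = 0 := by
            have := congrArg Multiplicative.toAdd h
            exact this
          have : (⟨(u : G), huQ⟩ : ↥Q) = 1 := by
            apply slh_decomp_eq_one ψ
            intro j
            by_cases hj : j = i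
            · rw [hj]; exact h0
            · exact huW j hj
          rw [Subgroup.mem_bot]
          exact congrArg Subtype.val this
        · intro h
          rw [Subgroup.mem_bot] at h
          have : u = 1 := Subtype.ext h
          rw [this, map_one]
      · intro e u
        refine ⟨⟨(e : G) * (u : G) * (e : G)⁻¹, hconj i _ u.2 _⟩, rfl, ?_⟩
        exact hψ (e : G) ⟨(u : G), hVQ i u.2⟩ ⟨(e : G) * (u : G) * (e : G)⁻¹,
          hVQ i (hconj i _ u.2 _)⟩ rfl i
  · -- independence
    intro i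
    rw [disjoint_iff, eq_bot_iff]
    intro x hx
    obtain ⟨hx1, hx2⟩ := hx
    -- the subgroup of elements with vanishing `i`-th coordinate
    let U : Subgroup ↥Q :=
      ((AddMonoidHom.toMultiplicative (Pi.evalAddMonoidHom (fun _ : Fin k => Fin 2 → K) i)).comp
          ψ.toMonoidHom).ker
    have hU : ∀ y : ↥Q, y ∈ U ↔ Multiplicative.toAdd (ψ y) i = 0 := by
      intro y
      rw [MonoidHom.mem_ker]
      constructor
      · intro h
        exact congrArg Multiplicative.toAdd h
      · intro h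
        apply Multiplicative.toAdd.injective
        exact h
    have hle : (⨆ (j) (_ : j ≠ i), V j) ≤ U.map Q.subtype := by
      apply iSup_le
      intro j
      apply iSup_le
      intro hj
      apply Subgroup.map_mono
      intro y hy
      exact (hU y).2 (hy i (Ne.symm hj))
    obtain ⟨y', hy'U, hy'x⟩ := hle hx2
    obtain ⟨hxQ, hxW⟩ := (hVmem i x).1 hx1
    have hyy : y' = ⟨x, hxQ⟩ := Subtype.ext hy'x
    have : (⟨x, hxQ⟩ : ↥Q) = 1 := by
      apply slh_decomp_eq_one ψ
      intro j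
      by_cases hj : j = i
      · rw [hj, ← hyy]; exact (hU y').1 hy'U
      · exact hxW j hj
    rw [Subgroup.mem_bot]
    exact congrArg Subtype.val this
  · -- generation
    show ⨆ i, (slh_decomp_W ψ i).map Q.subtype = Q
    rw [← Subgroup.map_iSup, slh_decomp_iSup_W, ← MonoidHom.range_eq_map, Subgroup.range_subtype]

end PartF

end Cfsg.Agent.Helper23.Slh
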