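import Mathlib
import Cfsg.Agent.Lib.Helper23.SlhDefs

/-!
S3050 farm-out, PIECE SLH-GQUOT: the `Γ`-group induced on an invariant quotient.
-/

set_option autoImplicit false
set_option linter.unusedSectionVars false
set_option linter.unusedVariables false

namespace Cfsg.Agent.Helper23.Slh

open Cfsg.Agent.Helper12.NatMod

local notation "SL2" => Matrix.SpecialLinearGroup (Fin 2)

section PartG

variable {Γ : Type*} [Group Γ] {F : Type*} [Field F] {S : Sys Γ F}

theorem slh_gquot_map_eq {Q : Type*} [Group Q] (A : GGrp S Q) (N : Subgroup Q)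
    (hinv : ∀ g y, y ∈ N → A.φ g y ∈ N) (g : Γ) : N.map (A.φ g : Q ≃* Q).toMonoidHom = N := by
  apply le_antisymm
  · rintro _ ⟨y, hy, rfl⟩
    exact hinv g y hy
  · intro y hy
    refine ⟨A.φ g⁻¹ y, hinv g⁻¹ y hy, ?_⟩
    show A.φ g (A.φ g⁻¹ y) = y
    have : A.φ g (A.φ g⁻¹ y) = (A.φ g * A.φ g⁻¹) y := rfl
    rw [this, ← map_mul, mul_inv_cancel, map_one]
    rfl

/-- the induced automorphism of the quotient -/
noncomputable def slh_gquot_aut {Q : Type*} [Group Q] (A : GGrp S Q) (N : Subgroup Q) [N.Normal]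
    (hinv : ∀ g y, y ∈ N → A.φ g y ∈ N) (g : Γ) : MulAut (Q ⧸ N) :=
  QuotientGroup.congr N N (A.φ g) (slh_gquot_map_eq A N hinv g)

theorem slh_gquot_aut_mk {Q : Type*} [Group Q] (A : GGrp S Q) (N : Subgroup Q) [N.Normal]
    (hinv : ∀ g y, y ∈ N → A.φ g y ∈ N) (g : Γ) (y : Q) :
    slh_gquot_aut A N hinv g (QuotientGroup.mk y) = QuotientGroup.mk (A.φ g y) := rfl

/-- the induced action on the quotient -/
noncomputable def slh_gquot_hom {Q : Type*} [Group Q] (A : GGrp S Q) (N : Subgroup Q) [N.Normal]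
    (hinv : ∀ g y, y ∈ N → A.φ g y ∈ N) : Γ →* MulAut (Q ⧸ N) where
  toFun := slh_gquot_aut A N hinv
  map_one' := by
    apply MulEquiv.ext
    intro a
    induction a using QuotientGroup.induction_on with
    | H y =>
      rw [slh_gquot_aut_mk, map_one]
      rfl
  map_mul' := by
    intro g h
    apply MulEquiv.ext
    intro a
    induction a using QuotientGroup.induction_on with
    | H y =>
      rw [slh_gquot_aut_mk, map_mul]
      show QuotientGroup.mk (A.φ g (A.φ h y)) =
        slh_gquot_aut A N hinv g (slh_gquot_aut A N hinv h (QuotientGroup.mk y))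
      rw [slh_gquot_aut_mk, slh_gquot_aut_mk]

/-- PIECE SLH-GQUOT.  Invariant quotients (`QuotientGroup.congr`); fixed-point-freeness passes to the quotient of a finite
group: `y ↦ y⁻¹ * φ_x y` is injective, hence bijective on `Q` and on `N`. -/
theorem exists_quot {Q : Type*} [Group Q] [Finite Q] (A : GGrp S Q) (N : Subgroup Q) [N.Normal]
    (hinv : ∀ g y, y ∈ N → A.φ g y ∈ N) :
    ∃ B : GGrp S (Q ⧸ N), ∀ (g : Γ) (y : Q),
      B.φ g (QuotientGroup.mk y) = QuotientGroup.mk (A.φ g y) := by
  refine ⟨⟨slh_gquot_hom A N hinv, ?_, ?_⟩, fun g y => rfl⟩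
  · -- inner
    intro g hg
    obtain ⟨q, hq⟩ := A.inner g hg
    refine ⟨QuotientGroup.mk q, ?_⟩
    intro a
    induction a using QuotientGroup.induction_on with
    | H y =>
      show slh_gquot_aut A N hinv g (QuotientGroup.mk y) = _
      rw [slh_gquot_aut_mk, hq y]
      rfl
  · -- fixed-point-free
    intro a
    induction a using QuotientGroup.induction_on with
    | H y =>
      intro hfix
      have hfix' : (QuotientGroup.mk (A.φ S.x y) : Q ⧸ N) = QuotientGroup.mk y := hfix
      have hmem : y⁻¹ * A.φ S.x y ∈ N := by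
        rw [← QuotientGroup.eq]
        exact hfix'.symm
      -- the map `z ↦ z⁻¹ * φ_x z` on `N`
      let f : ↥N → ↥N := fun z => ⟨(z : Q)⁻¹ * A.φ S.x z, N.mul_mem (N.inv_mem z.2) (hinv _ _ z.2)⟩
      have hfinj : Function.Injective f := by
        intro z z' hzz
        have h1 : (z : Q)⁻¹ * A.φ S.x z = (z' : Q)⁻¹ * A.φ S.x z' := congrArg Subtype.val hzz
        have h2 : A.φ S.x ((z' : Q) * (z : Q)⁻¹) = (z' : Q) * (z : Q)⁻¹ := by
          rw [map_mul, map_inv]
          have h3 : A.φ S.x (z' : Q) = (z' : Q) * ((z : Q)⁻¹ * A.φ S.x z) := by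
            rw [h1, mul_inv_cancel_left]
          rw [h3]
          group
        have h4 := A.fpf _ h2
        apply Subtype.ext
        have : (z' : Q) = z := by
          rw [mul_inv_eq_one] at h4
          exact h4
        exact this.symm
      have hfsurj : Function.Surjective f := Finite.surjective_of_injective hfinj
      obtain ⟨z0, hz0⟩ := hfsurj ⟨y⁻¹ * A.φ S.x y, hmem⟩
      have h1 : (z0 : Q)⁻¹ * A.φ S.x z0 = y⁻¹ * A.φ S.x y := congrArg Subtype.val hz0
      have h2 : A.φ S.x (y * (z0 : Q)⁻¹) = y * (z0 : Q)⁻¹ := by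
        rw [map_mul, map_inv]
        have h3 : A.φ S.x y = y * ((z0 : Q)⁻¹ * A.φ S.x z0) := by
          rw [h1, mul_inv_cancel_left]
        rw [h3]
        group
      have h4 := A.fpf _ h2
      rw [mul_inv_eq_one] at h4
      rw [h4]
      exact (QuotientGroup.eq_one_iff _).2 z0.2

end PartG

end Cfsg.Agent.Helper23.Slh
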