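import Mathlib
import Cfsg.Agent.Lib.Helper23.SlhDefs
import Cfsg.Agent.Lib.Helper23.SlhBlocks
import Cfsg.Agent.Lib.Helper14.SlhTHETA
import Cfsg.Agent.Lib.Helper24.SLHORD3
import Cfsg.Agent.Lib.Helper5.SlhPCONS
import Cfsg.Agent.Lib.Helper22.SLHMFIN

/-!
S3050: assembly of Part M (the normal form of an `SL₂(F)`-module with a fixed-point-free element of order 3).
-/

set_option autoImplicit false
set_option linter.unusedSectionVars false
set_option linter.unusedVariables false
set_option linter.style.haveILetI false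

namespace Cfsg.Agent.Helper23.Slh

open Cfsg.Agent.Helper12.NatMod

local notation "SL2" => Matrix.SpecialLinearGroup (Fin 2)

section ModuleM

variable {F : Type*} [Field F] [CharP F 2] {M : Type*} [AddCommGroup M] [DistribMulAction (SL2 F) M]

/-- ASSEMBLY of Part M: the normal form of a module. -/
theorem natural_sum [Finite F] [Finite M] (h2 : ∀ m : M, m + m = 0)
    (hfpf : ∀ m : M, (uu (1 : F) * ll 1) • m = m → m = 0) :
    ∃ (k : ℕ) (φ : M ≃+ (Fin k → Fin 2 → F)), ∀ (g : SL2 F) (m : M) (i : Fin k),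
      φ (g • m) i = (g : Matrix (Fin 2) (Fin 2) F).mulVec (φ m i) := by
  have hsq : ∀ c : F, ∃ s : F, s * s = c := by
    intro c
    haveI := Fintype.ofFinite F
    obtain ⟨r, hr⟩ := FiniteField.isSquare_of_char_two (ringChar.eq F 2) c
    exact ⟨r, hr.symm⟩
  obtain ⟨W, θ, hθu, hθl⟩ := exists_theta (F := F) h2 hfpf
  obtain ⟨P, hP, hT, hT', hP3⟩ := exists_P θ hθu hθl (order3_rel hsq hfpf)
  have h2R : (2 : AddMonoid.End W) = 0 := by
    have h11 : (2 : AddMonoid.End W) = 1 + 1 := by norm_num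
    rw [h11]
    ext w
    show ((w : M) + (w : M)) = 0
    exact h2 _
  obtain ⟨b, hbu, hbl⟩ := blocks_main h2R hsq P hT hT' hP3
  refine exists_phi θ b ?_ ?_
  · intro c m
    have h0 := hP (uu c) m 0
    have h1 := hP (uu c) m 1
    rw [hbu c] at h0 h1
    constructor
    · rw [h0]; rfl
    · rw [h1]
      show (0 : AddMonoid.End W) (θ m 0) + (1 : AddMonoid.End W) (θ m 1) = θ m 1
      simp
  · intro c m
    have h0 := hP (ll c) m 0
    have h1 := hP (ll c) m 1
    rw [hbl c] at h0 h1
    constructor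
    · rw [h0]
      show (1 : AddMonoid.End W) (θ m 0) + (0 : AddMonoid.End W) (θ m 1) = θ m 0
      simp
    · rw [h1]; rfl

end ModuleM

end Cfsg.Agent.Helper23.Slh
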