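import Mathlib
import Cfsg.Agent.Lib.Helper23.SlhDefs
import Cfsg.Agent.Lib.Lead.SlhGSUB
import Cfsg.Agent.Lib.Helper23.SlhGQUOT
import Cfsg.Agent.Lib.Helper8.SlhGCOMM
import Cfsg.Agent.Lib.Helper5.SlhGNF
import Cfsg.Agent.Lib.Helper23.SlhWrap

/-!
# S3050, Part I: the induction

A `Γ`-group (in the sense of `SlhDefs`) which is a finite 2-group is elementary abelian.
Assembled from the pieces SLH-GSUB, SLH-GQUOT, SLH-GNF, SLH-GCOMM, SLH-GEXP.
-/

set_option autoImplicit false
set_option linter.unusedSectionVars false
set_option linter.unusedVariables false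
set_option linter.style.haveILetI false

namespace Cfsg.Agent.Helper23.Slh

local notation "SL2" => Matrix.SpecialLinearGroup (Fin 2)

section PartI

universe u

variable {Γ : Type*} [Group Γ] {F : Type*} [Field F] {S : Sys Γ F}

theorem slh_card_quot_lt {Q : Type u} [Group Q] [Finite Q] (Z : Subgroup Q) [Z.Normal] (hZ : Z ≠ ⊥) :
    Nat.card (Q ⧸ Z) < Nat.card Q := by
  have h1 := Subgroup.card_eq_card_quotient_mul_card_subgroup Z
  have h2 : 1 < Nat.card Z := by
    rw [Subgroup.one_lt_card_iff_ne_bot]
    exact hZ
  have h3 : 0 < Nat.card (Q ⧸ Z) := Nat.card_pos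
  nlinarith

theorem slh_card_sub_lt {Q : Type u} [Group Q] [Finite Q] (Z : Subgroup Q) (hZ : Z ≠ ⊤) :
    Nat.card Z < Nat.card Q := by
  rcases lt_or_eq_of_le (Subgroup.card_le_card_group Z) with h | h
  · exact h
  · exact absurd (Subgroup.card_eq_iff_eq_top Z |>.1 h) hZ

/-- ASSEMBLY (the induction): a `Γ`-group which is a finite 2-group is elementary abelian. -/
theorem elementary_aux [Fintype F] [CharP F 2] (hF : ∃ s : F, s ≠ 0 ∧ s ≠ 1) :
    ∀ n : ℕ, ∀ (Q : Type u) [Group Q] [Finite Q], Nat.card Q = n → IsPGroup 2 Q → ∀ A : GGrp S Q,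
      (∀ a b : Q, a * b = b * a) ∧ (∀ a : Q, a * a = 1) := by
  intro n
  induction n using Nat.strong_induction_on with
  | _ n ih =>
    intro Q _ _ hn hp A
    by_cases hab : ∀ a b : Q, a * b = b * a
    · refine ⟨hab, ?_⟩
      -- the abelian case
      let Z : Subgroup Q :=
        { carrier := {y | y * y = 1}
          mul_mem' := by
            intro a b ha hb
            show (a * b) * (a * b) = 1
            have : (a * b) * (a * b) = (a * a) * (b * b) := by
              rw [mul_assoc, ← mul_assoc b a b, hab b a, mul_assoc, mul_assoc]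
            rw [this, ha, hb, one_mul]
          one_mem' := by show (1 : Q) * 1 = 1; rw [one_mul]
          inv_mem' := by
            intro a ha
            show a⁻¹ * a⁻¹ = 1
            rw [← mul_inv_rev, ha, inv_one] }
      have hZmem : ∀ y, y ∈ Z ↔ y * y = 1 := fun y => Iff.rfl
      haveI : Z.Normal := ⟨fun y hy g => by
        have : g * y * g⁻¹ = y := by rw [hab g y, mul_assoc, mul_inv_cancel, mul_one]
        rw [this]; exact hy⟩
      by_cases hQ1 : Nat.card Q = 1
      · intro a
        haveI : Subsingleton Q := (Nat.card_eq_one_iff_unique.1 hQ1).1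
        exact Subsingleton.elim _ _
      have hZbot : Z ≠ ⊥ := by
        intro hZ
        have h2 : 2 ∣ Nat.card Q := by
          obtain ⟨k, hk⟩ := IsPGroup.iff_card.1 hp
          rw [hk] at hQ1 ⊢
          cases k with
          | zero => exact absurd (pow_zero 2) hQ1
          | succ k => exact ⟨2 ^ k, by rw [pow_succ]; ring⟩
        haveI : Fact (Nat.Prime 2) := ⟨Nat.prime_two⟩
        obtain ⟨y, hy⟩ := exists_prime_orderOf_dvd_card' 2 h2
        have hyZ : y ∈ Z := by
          show y * y = 1
          rw [← pow_two, ← hy, pow_orderOf_eq_one]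
        rw [hZ, Subgroup.mem_bot] at hyZ
        rw [hyZ, orderOf_one] at hy
        omega
      obtain ⟨AZ, hAZ⟩ := exists_sub A Z (by
          intro g y hy
          show A.φ g y * A.φ g y = 1
          rw [← map_mul, (hZmem y).1 hy, map_one]) (by
          intro y _
          rw [Subgroup.mem_center_iff]
          intro g
          exact hab g y)
      obtain ⟨AQ, hAQ⟩ := exists_quot A Z (by
          intro g y hy
          show A.φ g y * A.φ g y = 1
          rw [← map_mul, (hZmem y).1 hy, map_one])
      have hlt : Nat.card (Q ⧸ Z) < n := by rw [← hn]; exact slh_card_quot_lt Z hZbot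
      have hQel := ih _ hlt (Q ⧸ Z) rfl (hp.to_quotient Z) AQ
      have hNFQ : AQ.NF := nf_of_elementary AQ hQel.1 hQel.2
      have hNFZ : AZ.NF := nf_of_elementary AZ
        (fun a b => Subtype.ext (by rw [Subgroup.coe_mul, Subgroup.coe_mul]; exact hab _ _))
        (fun a => Subtype.ext (by rw [Subgroup.coe_mul]; exact (hZmem _).1 a.2))
      exact slh_asm_exp_two_of_nf hF A hab Z hZmem AZ hAZ AQ hAQ hNFZ hNFQ
    · -- the nonabelian case
      exfalso
      apply hab
      haveI : Nontrivial Q := by
        by_contra hnt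
        rw [not_nontrivial_iff_subsingleton] at hnt
        exact hab (fun a b => Subsingleton.elim _ _)
      haveI : Fact (Nat.Prime 2) := ⟨Nat.prime_two⟩
      have hZbot : Subgroup.center Q ≠ ⊥ := (Subgroup.nontrivial_iff_ne_bot _).1 hp.center_nontrivial
      have hZtop : Subgroup.center Q ≠ ⊤ := by
        intro h
        apply hab
        intro a b
        have : b ∈ Subgroup.center Q := by rw [h]; trivial
        exact (Subgroup.mem_center_iff.1 this a)
      obtain ⟨AZ, hAZ⟩ := exists_sub A (Subgroup.center Q) (by
          intro g y hy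
          rw [Subgroup.mem_center_iff] at hy ⊢
          intro z
          have h1 := hy ((A.φ g).symm z)
          have h2 := congrArg (A.φ g) h1
          rw [map_mul, map_mul, MulEquiv.apply_symm_apply] at h2
          exact h2) le_rfl
      obtain ⟨AQ, hAQ⟩ := exists_quot A (Subgroup.center Q) (by
          intro g y hy
          rw [Subgroup.mem_center_iff] at hy ⊢
          intro z
          have h1 := hy ((A.φ g).symm z)
          have h2 := congrArg (A.φ g) h1
          rw [map_mul, map_mul, MulEquiv.apply_symm_apply] at h2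
          exact h2)
      have hlt : Nat.card (Q ⧸ Subgroup.center Q) < n := by rw [← hn]; exact slh_card_quot_lt _ hZbot
      have hlt' : Nat.card (Subgroup.center Q) < n := by rw [← hn]; exact slh_card_sub_lt _ hZtop
      have hQel := ih _ hlt (Q ⧸ Subgroup.center Q) rfl (hp.to_quotient _) AQ
      have hZel := ih _ hlt' (Subgroup.center Q) rfl (hp.to_subgroup _) AZ
      exact comm_of_nf hF A AZ hAZ AQ hAQ (nf_of_elementary AZ hZel.1 hZel.2)
        (nf_of_elementary AQ hQel.1 hQel.2)

end PartI

end Cfsg.Agent.Helper23.Slh
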