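import Mathlib
import Cfsg.Agent.Lib.Helper23.Sp4Trace

/-!
# S6002: elements of odd prime order normalising `2^{1+4}_-` (helper23)

If `g` normalises `R`, is not scalar and `g ^ r` is scalar for an odd prime `r`, then `r = 3` and
`tr g * tr g⁻¹ = 4`, or `r = 5` and `tr g * tr g⁻¹ = 1`.
-/

set_option autoImplicit false

namespace Cfsg.Agent.Helper23.Sp4

open Matrix Cfsg.Agent.Helper17.ExtraEig Cfsg.Agent.Helper17.Sym4

section general

variable {G : Type*} [Group G]

/-- fixed points of conjugation on an invariant finite set, modulo `r` -/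
theorem card_set_modEq (P : G → Prop) [Finite {t : G // P t}] {g : G}
    (hP : ∀ t, P t → P (g * t * g⁻¹)) {r : ℕ} [Fact r.Prime]
    (hgr : ∀ t, P t → g ^ r * t = t * g ^ r) :
    Nat.card {t : G // P t} ≡ Nat.card {t : G // P t ∧ t * g = g * t} [MOD r] := by
  classical
  haveI : Fintype {t : G // P t} := Fintype.ofFinite _
  let f : Function.End {t : G // P t} := fun a => ⟨g * a * g⁻¹, hP a a.2⟩
  have hpow : ∀ k : ℕ, ∀ a : {t : G // P t}, (((f ^ k) a : {t : G // P t}) : G) =
      g ^ k * a * (g ^ k)⁻¹ := by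
    intro k
    induction k with
    | zero =>
      intro a
      rw [pow_zero, pow_zero, one_mul, inv_one, mul_one]
      rfl
    | succ k ih =>
      intro a
      have h1 : (f ^ (k + 1)) a = f ((f ^ k) a) := by
        rw [pow_succ']; rfl
      rw [h1]
      show g * ((f ^ k) a : G) * g⁻¹ = _
      rw [ih a, pow_succ']
      group
  have hf : f ^ r ^ 1 = 1 := by
    rw [pow_one]
    funext a
    apply Subtype.ext
    rw [hpow r a, hgr a a.2]
    show (a : G) * g ^ r * (g ^ r)⁻¹ = a
    group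
  have h1 := Equiv.Perm.card_fixedPoints_modEq (p := r) (n := 1) hf
  rw [Nat.card_eq_fintype_card]
  refine h1.trans ?_
  have h2 : Fintype.card (Function.fixedPoints f) = Nat.card {t : G // P t ∧ t * g = g * t} := by
    rw [← Nat.card_eq_fintype_card]
    apply Nat.card_congr
    have key : ∀ a : {t : G // P t}, a ∈ Function.fixedPoints f ↔ (a : G) * g = g * a := by
      intro a
      rw [Function.mem_fixedPoints, Function.IsFixedPt]
      constructor
      · intro h
        have h3 := congrArg Subtype.val h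
        have h4 : g * (a : G) * g⁻¹ = a := h3
        calc (a : G) * g = (g * a * g⁻¹) * g := by rw [h4]
          _ = g * a := by group
      · intro h
        apply Subtype.ext
        show g * (a : G) * g⁻¹ = a
        rw [← h]; group
    exact
      { toFun := fun a => ⟨(a.1 : G), a.1.2, (key a.1).1 a.2⟩
        invFun := fun b => ⟨⟨b.1, b.2.1⟩, (key ⟨b.1, b.2.1⟩).2 b.2.2⟩
        left_inv := fun a => rfl
        right_inv := fun b => rfl }
  rw [h2]

end general

variable {F : Type*} [Field F] {R : Subgroup (GL (Fin 4) F)}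

theorem dvd_32_cases {c : ℕ} (h : c ∣ 32) : c = 1 ∨ c = 2 ∨ c = 4 ∨ c = 8 ∨ c = 16 ∨ c = 32 := by
  have hle : c ≤ 32 := Nat.le_of_dvd (by norm_num) h
  interval_cases c <;> simp_all

theorem prime_dvd_30 {r : ℕ} (hr : r.Prime) (h : r ∣ 30) : r = 2 ∨ r = 3 ∨ r = 5 := by
  have h1 : r ∣ 2 * (3 * 5) := by simpa using h
  rcases (Nat.Prime.dvd_mul hr).1 h1 with h2 | h2
  · left; exact (Nat.prime_dvd_prime_iff_eq hr Nat.prime_two).1 h2
  · rcases (Nat.Prime.dvd_mul hr).1 h2 with h3 | h3
    · right; left; exact (Nat.prime_dvd_prime_iff_eq hr Nat.prime_three).1 h3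
    · right; right; exact (Nat.prime_dvd_prime_iff_eq hr Nat.prime_five).1 h3

theorem prime_dvd_28 {r : ℕ} (hr : r.Prime) (h : r ∣ 28) : r = 2 ∨ r = 7 := by
  have h1 : r ∣ 2 ^ 2 * 7 := by simpa using h
  rcases (Nat.Prime.dvd_mul hr).1 h1 with h2 | h2
  · left; exact (Nat.prime_dvd_prime_iff_eq hr Nat.prime_two).1 (hr.dvd_of_dvd_pow h2)
  · right; exact (Nat.prime_dvd_prime_iff_eq hr (by norm_num)).1 h2

theorem prime_dvd_24 {r : ℕ} (hr : r.Prime) (h : r ∣ 24) : r = 2 ∨ r = 3 := by
  have h1 : r ∣ 2 ^ 3 * 3 := by simpa using h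
  rcases (Nat.Prime.dvd_mul hr).1 h1 with h2 | h2
  · left; exact (Nat.prime_dvd_prime_iff_eq hr Nat.prime_two).1 (hr.dvd_of_dvd_pow h2)
  · right; exact (Nat.prime_dvd_prime_iff_eq hr Nat.prime_three).1 h2

theorem prime_dvd_16 {r : ℕ} (hr : r.Prime) (h : r ∣ 16) : r = 2 := by
  have h1 : r ∣ 2 ^ 4 := by simpa using h
  exact (Nat.prime_dvd_prime_iff_eq hr Nat.prime_two).1 (hr.dvd_of_dvd_pow h1)

/-- The main case distinction for elements of odd prime order (modulo scalars) in `N(R)`. -/
theorem MData.normalizer_cases (hM : MData R)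
    (hcard : Nat.card {t : GL (Fin 4) F // t ∈ R ∧ t * t = 1 ∧ t ≠ 1 ∧ t ≠ -1} = 10)
    {g : GL (Fin 4) F} (hg : g ∈ Subgroup.normalizer (R : Set (GL (Fin 4) F)))
    (hgs : g ∉ Cfsg.Geo.scalars (Fin 4) F) {r : ℕ} [hr : Fact r.Prime] (hr2 : r ≠ 2)
    (hgr : g ^ r ∈ Cfsg.Geo.scalars (Fin 4) F) :
    (r = 3 ∧ (g : Matrix (Fin 4) (Fin 4) F).trace *
        ((g⁻¹ : GL (Fin 4) F) : Matrix (Fin 4) (Fin 4) F).trace = 4) ∨
    (r = 5 ∧ (g : Matrix (Fin 4) (Fin 4) F).trace *
        ((g⁻¹ : GL (Fin 4) F) : Matrix (Fin 4) (Fin 4) F).trace = 1) := by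
  classical
  have hrp : r.Prime := hr.out
  haveI hfin : Finite ↥R := Nat.finite_of_card_ne_zero (by rw [hM.card]; norm_num)
  haveI : Fintype ↥R := Fintype.ofFinite _
  have hodd : Odd r := hrp.odd_of_ne_two hr2
  have hN : ∀ w, w ∈ R ↔ g * w * g⁻¹ ∈ R := Subgroup.mem_normalizer_iff.1 hg
  have hgrc : ∀ a : GL (Fin 4) F, g ^ r * a = a * g ^ r := fun a => scalar_comm hgr a
  -- the number c of elements of R commuting with g
  set c := Nat.card {a : ↥R // (a : GL (Fin 4) F) * g = g * a} with hc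
  have hcCR : c = Nat.card (CR R g) := by
    rw [hc]
    exact Nat.card_congr (Equiv.subtypeEquivRight (fun a => (mem_CR R g a).symm))
  have hcdvd : c ∣ 32 := by
    rw [hcCR, ← hM.card]
    exact Subgroup.card_subgroup_dvd_card (CR R g)
  have hcmod : 32 ≡ c [MOD r] := by
    rw [hcCR, ← hM.card]
    exact card_CR_modEq R hN (fun a _ => hgrc a)
  have htr := hM.trace_formula hg hodd hgr
  rw [← hc] at htr
  -- c ≠ 32
  have hc32 : c ≠ 32 := by
    intro h32
    apply hgs
    apply hM.cent
    intro x hx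
    have htop : CR R g = ⊤ := by
      apply Subgroup.eq_top_of_card_eq
      rw [← hcCR, h32, hM.card]
    have : (⟨x, hx⟩ : ↥R) ∈ CR R g := by rw [htop]; exact Subgroup.mem_top _
    exact ((mem_CR R g _).1 this).symm
  -- c ≥ 2
  have hone : (1 : GL (Fin 4) F) ≠ -1 := fun h => neg_one_ne_one' hM.two_ne h.symm
  have hc2 : 2 ≤ c := by
    rw [hcCR]
    have h1 : (1 : ↥R) ∈ CR R g := Subgroup.one_mem _
    have h2 : (⟨-1, hM.neg_mem⟩ : ↥R) ∈ CR R g := by
      rw [mem_CR]
      show (-1 : GL (Fin 4) F) * g = g * (-1)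
      simp
    have hne : (⟨1, h1⟩ : ↥(CR R g)) ≠ ⟨⟨-1, hM.neg_mem⟩, h2⟩ := by
      intro h
      have h3 := congrArg (fun u : ↥(CR R g) => ((u : ↥R) : GL (Fin 4) F)) h
      exact hone h3
    haveI : Nontrivial ↥(CR R g) := ⟨⟨_, _, hne⟩⟩
    exact Finite.one_lt_card
  -- the involutions fixed by g
  set P : GL (Fin 4) F → Prop := fun t => t ∈ R ∧ t * t = 1 ∧ t ≠ 1 ∧ t ≠ -1 with hPdef
  haveI hPfin : Finite {t : GL (Fin 4) F // P t} :=
    Nat.finite_of_card_ne_zero (by rw [hcard]; norm_num)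
  have hPconj : ∀ t, P t → P (g * t * g⁻¹) := by
    rintro t ⟨h1, h2, h3, h4⟩
    refine ⟨(hN t).1 h1, ?_, ?_, ?_⟩
    · calc g * t * g⁻¹ * (g * t * g⁻¹) = g * (t * t) * g⁻¹ := by group
        _ = 1 := by rw [h2]; group
    · intro h
      apply h3
      calc t = g⁻¹ * (g * t * g⁻¹) * g := by group
        _ = 1 := by rw [h]; group
    · intro h
      apply h4
      calc t = g⁻¹ * (g * t * g⁻¹) * g := by group
        _ = -1 := by rw [h]; simp
  have hinvmod := card_set_modEq P hPconj (r := r) (fun t _ => hgrc t)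
  rw [hcard] at hinvmod
  set d := Nat.card {t : GL (Fin 4) F // P t ∧ t * g = g * t} with hd
  -- d + 2 ≤ c
  have hdc : d + 2 ≤ c := by
    rw [hcCR, hd]
    haveI : Fintype ↥(CR R g) := Fintype.ofFinite _
    haveI : Finite {t : GL (Fin 4) F // P t ∧ t * g = g * t} :=
      Finite.of_injective (fun a : {t : GL (Fin 4) F // P t ∧ t * g = g * t} =>
        (⟨a.1, a.2.1⟩ : {t : GL (Fin 4) F // P t})) (by
          intro a b h
          apply Subtype.ext
          have h' := congrArg Subtype.val h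
          exact h')
    -- embed (fixed involutions) ⊕ Bool into CR R g
    let φ : {t : GL (Fin 4) F // P t ∧ t * g = g * t} ⊕ Bool → ↥(CR R g) := fun u =>
      match u with
      | Sum.inl a => ⟨⟨a.1, a.2.1.1⟩, (mem_CR R g _).2 a.2.2⟩
      | Sum.inr true => 1
      | Sum.inr false => ⟨⟨-1, hM.neg_mem⟩, (mem_CR R g _).2 (by
          show (-1 : GL (Fin 4) F) * g = g * (-1)
          simp)⟩
    have hφ : Function.Injective φ := by
      intro u v huv
      have hval : ((φ u : ↥R) : GL (Fin 4) F) = ((φ v : ↥R) : GL (Fin 4) F) := by rw [huv]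
      rcases u with a | b <;> rcases v with a' | b'
      · congr 1
        apply Subtype.ext
        exact hval
      · exfalso
        rcases b' with _ | _
        · exact a.2.1.2.2.2 hval
        · exact a.2.1.2.2.1 hval
      · exfalso
        rcases b with _ | _
        · exact a'.2.1.2.2.2 hval.symm
        · exact a'.2.1.2.2.1 hval.symm
      · rcases b with _ | _ <;> rcases b' with _ | _
        · rfl
        · exact absurd hval.symm hone
        · exact absurd hval hone
        · rfl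
    have h1 := Nat.card_le_card_of_injective φ hφ
    rw [Nat.card_sum, Nat.card_eq_fintype_card (α := Bool), Fintype.card_bool] at h1
    exact h1
  have h2F : (2 : F) ≠ 0 := hM.two_ne
  -- case analysis on c
  have hrdvd : r ∣ 32 - c := (Nat.modEq_iff_dvd' (Nat.le_of_dvd (by norm_num) hcdvd)).1 hcmod.symm
  rcases dvd_32_cases hcdvd with h | h | h | h | h | h
  · omega
  · -- c = 2
    rw [h] at hrdvd htr hdc
    have hd0 : d = 0 := by omega
    rcases prime_dvd_30 hrp (by simpa using hrdvd) with h3 | h3 | h3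
    · exact absurd h3 hr2
    · -- r = 3: 10 ≡ d mod 3 with d = 0 impossible
      exfalso
      rw [h3, hd0] at hinvmod
      exact absurd hinvmod (by decide)
    · right
      refine ⟨h3, ?_⟩
      have : (2 : F) * ((g : Matrix (Fin 4) (Fin 4) F).trace *
          ((g⁻¹ : GL (Fin 4) F) : Matrix (Fin 4) (Fin 4) F).trace) = 2 * 1 := by
        simp only [Nat.cast_ofNat] at htr
        linear_combination htr
      exact mul_left_cancel₀ h2F this
  · -- c = 4
    exfalso
    rw [h] at hrdvd hdc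
    rcases prime_dvd_28 hrp (by simpa using hrdvd) with h3 | h3
    · exact hr2 h3
    · rw [h3] at hinvmod
      have hd2 : d ≤ 2 := by omega
      have : d = 0 ∨ d = 1 ∨ d = 2 := by omega
      rcases this with h4 | h4 | h4 <;> rw [h4] at hinvmod <;> exact absurd hinvmod (by decide)
  · -- c = 8
    rw [h] at hrdvd htr
    rcases prime_dvd_24 hrp (by simpa using hrdvd) with h3 | h3
    · exact absurd h3 hr2
    · left
      refine ⟨h3, ?_⟩
      have : (2 : F) * ((g : Matrix (Fin 4) (Fin 4) F).trace *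
          ((g⁻¹ : GL (Fin 4) F) : Matrix (Fin 4) (Fin 4) F).trace) = 2 * 4 := by
        simp only [Nat.cast_ofNat] at htr
        linear_combination htr
      exact mul_left_cancel₀ h2F this
  · -- c = 16
    exfalso
    rw [h] at hrdvd
    exact hr2 (prime_dvd_16 hrp (by simpa using hrdvd))
  · exact absurd h hc32

end Cfsg.Agent.Helper23.Sp4
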