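import Mathlib
import Cfsg.Agent.Lib.Helper23.Sp4Count
import Cfsg.Agent.Lib.Helper17.Sym4W

/-!
# S6002: eigenspaces of elements of odd prime order normalising `2^{1+4}_-` (helper23)
-/

set_option autoImplicit false

namespace Cfsg.Agent.Helper23.Sp4

open Matrix Module Cfsg.Agent.Helper17.ExtraEig Cfsg.Agent.Helper17.Sym4

variable {F : Type*} [Field F] {R : Subgroup (GL (Fin 4) F)}

theorem MData.ext (hM : MData R) : Ext R 2 := by
  refine ⟨Nat.prime_two, ⟨by norm_num⟩, hM.cent, ?_⟩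
  intro x hx y hy
  rcases hM.comm x hx y hy with h | h
  · exact ⟨1, one_pow 2, (TC_one_iff x y).2 h⟩
  · refine ⟨-1, by norm_num, ?_⟩
    rw [TC_iff_mul, h, Units.val_neg, neg_one_smul]

/-- Eigenspaces of a non-scalar element of odd prime order in `N(R)` have dimension at most 2. -/
theorem MData.finrank_eig_le (hM : MData R) {g : GL (Fin 4) F}
    (hg : g ∈ Subgroup.normalizer (R : Set (GL (Fin 4) F)))
    (hgs : g ∉ Cfsg.Geo.scalars (Fin 4) F) {ϖ : ℕ} (hϖ : ϖ.Prime) (hodd : Odd ϖ)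
    (hgϖ : g ^ ϖ = 1) (c : F) : 2 * finrank F (eig g c) ≤ 4 := by
  have hE := hM.ext
  have hN := normalizes_RZ (R := R) hg
  have hne : ϖ ≠ 2 := by
    rintro rfl
    exact absurd hodd (by decide)
  by_cases hA : ∀ x ∈ R, ∃ t : F, TC g x t
  · have h1 := caseA hE hϖ hgϖ hgs hA c
    have h3 : 3 ≤ ϖ := by
      have := hϖ.two_le
      omega
    nlinarith
  · push Not at hA
    obtain ⟨x₀, hx₀, hB⟩ := hA
    exact caseB_coprime hE hN hϖ hodd hne hgϖ hx₀ hB c

end Cfsg.Agent.Helper23.Sp4
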