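import Mathlib
import Cfsg.Agent.Lib.Helper23.Sp4Defs

/-!
# S6002 piece H: explicit elements of `Sp₄(F)` (helper23)

`emb a b c d` is the matrix `[[a, b], [c, d]]` acting on the hyperbolic plane `⟨e₁, f₁⟩` and the
identity on `⟨e₂, f₂⟩`.
-/

set_option autoImplicit false

namespace Cfsg.Agent.Helper23.Sp4H

open Matrix Cfsg.Agent.Helper23.Sp4

variable {F : Type*} [Field F]

/-- `SL₂` on the first hyperbolic plane -/
def emb (a b c d : F) : Matrix I4 I4 F :=
  Matrix.fromBlocks !![a, 0; 0, 1] !![b, 0; 0, 0] !![c, 0; 0, 0] !![d, 0; 0, 1]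

theorem emb_mul (a b c d a' b' c' d' : F) :
    emb a b c d * emb a' b' c' d' =
      emb (a * a' + b * c') (a * b' + b * d') (c * a' + d * c') (c * b' + d * d') := by
  unfold emb
  rw [Matrix.fromBlocks_multiply]
  congr 1 <;>
  · ext i j
    fin_cases i <;> fin_cases j <;> simp

theorem emb_one : emb (1 : F) 0 0 1 = 1 := by
  unfold emb
  rw [← Matrix.fromBlocks_one]
  congr 1 <;>
  · ext i j
    fin_cases i <;> fin_cases j <;> simp

theorem emb_trace (a b c d : F) : (emb a b c d).trace = a + d + 2 := by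
  simp [Matrix.trace, Fintype.sum_sum_type, Fin.sum_univ_two, emb]
  ring

theorem emb_apply_inl_inr (a b c d : F) : emb a b c d (Sum.inl 0) (Sum.inr 0) = b := by
  simp [emb]

theorem emb_preserves {a b c d : F} (h : a * d - b * c = 1) (u v : I4 → F) :
    Cfsg.sympForm 2 F (emb a b c d *ᵥ u) (emb a b c d *ᵥ v) = Cfsg.sympForm 2 F u v := by
  unfold Cfsg.sympForm emb
  simp only [Matrix.J, dotProduct, Matrix.mulVec, Fintype.sum_sum_type, Fin.sum_univ_two,
    Matrix.fromBlocks_apply₁₁, Matrix.fromBlocks_apply₁₂, Matrix.fromBlocks_apply₂₁,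
    Matrix.fromBlocks_apply₂₂]
  simp
  linear_combination (u (Sum.inr 0) * v (Sum.inl 0) - u (Sum.inl 0) * v (Sum.inr 0)) * h

/-- the element of `GL` -/
def embGL (a b c d : F) (h : a * d - b * c = 1) : GL I4 F :=
  ⟨emb a b c d, emb d (-b) (-c) a, by
    rw [emb_mul, ← emb_one]
    congr 1 <;> first | ring1 | linear_combination h, by
    rw [emb_mul, ← emb_one]
    congr 1 <;> first | ring1 | linear_combination h⟩

theorem embGL_val (a b c d : F) (h : a * d - b * c = 1) :
    ((embGL a b c d h : GL I4 F) : Matrix I4 I4 F) = emb a b c d := rfl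

theorem embGL_inv_val (a b c d : F) (h : a * d - b * c = 1) :
    (((embGL a b c d h)⁻¹ : GL I4 F) : Matrix I4 I4 F) = emb d (-b) (-c) a := rfl

theorem embGL_mem (a b c d : F) (h : a * d - b * c = 1) : embGL a b c d h ∈ Cfsg.spGL 2 F := by
  intro u v
  exact emb_preserves h u v

theorem embGL_not_scalar (a b c d : F) (h : a * d - b * c = 1) (hb : b ≠ 0) (z : F) :
    ((embGL a b c d h : GL I4 F) : Matrix I4 I4 F) ≠ z • (1 : Matrix I4 I4 F) := by
  intro hz
  have := congrFun (congrFun hz (Sum.inl 0)) (Sum.inr 0)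
  rw [embGL_val, emb_apply_inl_inr] at this
  simp at this
  exact hb this

theorem exists_x3 :
    ∃ x : GL I4 F, x ∈ Cfsg.spGL 2 F ∧ x ^ 3 = 1 ∧
      (∀ z : F, (x : Matrix I4 I4 F) ≠ z • (1 : Matrix I4 I4 F)) ∧
      (x : Matrix I4 I4 F).trace = 1 ∧ ((x⁻¹ : GL I4 F) : Matrix I4 I4 F).trace = 1 := by
  have h : (0 : F) * (-1) - (-1) * 1 = 1 := by ring
  refine ⟨embGL 0 (-1) 1 (-1) h, embGL_mem _ _ _ _ h, ?_, ?_, ?_, ?_⟩
  · apply Units.ext
    rw [pow_succ, pow_two, Units.val_mul, Units.val_mul, embGL_val, emb_mul, emb_mul, Units.val_one,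
      ← emb_one]
    congr 1 <;> ring
  · exact embGL_not_scalar _ _ _ _ h (by simp)
  · rw [embGL_val, emb_trace]; ring
  · rw [embGL_inv_val, emb_trace]; ring

theorem exists_x5 (τ : F) (hτ : τ ^ 2 + τ - 1 = 0) :
    ∃ x : GL I4 F, x ∈ Cfsg.spGL 2 F ∧ x ^ 5 = 1 ∧
      (∀ z : F, (x : Matrix I4 I4 F) ≠ z • (1 : Matrix I4 I4 F)) ∧
      (x : Matrix I4 I4 F).trace = τ + 2 ∧ ((x⁻¹ : GL I4 F) : Matrix I4 I4 F).trace = τ + 2 := by
  have h : (0 : F) * τ - (-1) * 1 = 1 := by ring
  refine ⟨embGL 0 (-1) 1 τ h, embGL_mem _ _ _ _ h, ?_, ?_, ?_, ?_⟩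
  · apply Units.ext
    have e2 : emb (0 : F) (-1) 1 τ * emb 0 (-1) 1 τ = emb (-1) (-τ) τ (-τ) := by
      rw [emb_mul]
      congr 1 <;> first | ring1 | linear_combination hτ | linear_combination (-1 : F) * hτ
    have e4 : emb (-1 : F) (-τ) τ (-τ) * emb (-1) (-τ) τ (-τ) = emb τ 1 (-1) 0 := by
      rw [emb_mul]
      congr 1 <;> first | ring1 | linear_combination hτ | linear_combination (-1 : F) * hτ
    have e5 : emb τ 1 (-1) 0 * emb (0 : F) (-1) 1 τ = emb 1 0 0 1 := by
      rw [emb_mul]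
      congr 1 <;> ring
    have hp : (embGL 0 (-1) 1 τ h) ^ 5 =
        (embGL 0 (-1) 1 τ h * embGL 0 (-1) 1 τ h) * (embGL 0 (-1) 1 τ h * embGL 0 (-1) 1 τ h) *
          embGL 0 (-1) 1 τ h := by
      show _ ^ (2 + 2 + 1) = _
      rw [pow_add, pow_add, pow_two, pow_one]
    rw [hp, Units.val_mul, Units.val_mul, Units.val_mul, embGL_val, e2, e4, e5, emb_one,
      Units.val_one]
  · exact embGL_not_scalar _ _ _ _ h (by simp)
  · rw [embGL_val, emb_trace]; ring
  · rw [embGL_inv_val, emb_trace]; ring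

theorem emb_unip_pow (n : ℕ) : emb (1 : F) 1 0 1 ^ n = emb 1 (n : F) 0 1 := by
  induction n with
  | zero => rw [pow_zero, Nat.cast_zero, emb_one]
  | succ k ih =>
    rw [pow_succ, ih, emb_mul]
    congr 1 <;> push_cast <;> ring

theorem exists_transvection {p : ℕ} [Fact p.Prime] [CharP F p] :
    ∃ x : GL I4 F, x ∈ Cfsg.spGL 2 F ∧ x ^ p = 1 ∧
      (∀ z : F, (x : Matrix I4 I4 F) ≠ z • (1 : Matrix I4 I4 F)) ∧
      3 ≤ Module.finrank F (Module.End.eigenspace (Matrix.toLin' (x : Matrix I4 I4 F)) 1) := by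
  have h : (1 : F) * 1 - 1 * 0 = 1 := by ring
  refine ⟨embGL 1 1 0 1 h, embGL_mem _ _ _ _ h, ?_, ?_, ?_⟩
  · apply Units.ext
    rw [Units.val_pow_eq_pow_val, embGL_val, emb_unip_pow, CharP.cast_eq_zero, emb_one,
      Units.val_one]
  · exact embGL_not_scalar _ _ _ _ h one_ne_zero
  · rw [embGL_val]
    -- `emb 1 1 0 1 - 1` has rank at most one
    have hrk : (emb (1 : F) 1 0 1 - 1).rank ≤ 1 := by
      have : emb (1 : F) 1 0 1 - 1 =
          Matrix.vecMulVec (Pi.single (Sum.inl 0) 1) (Pi.single (Sum.inr 0) 1) := by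
        ext i j
        rcases i with i | i <;> rcases j with j | j <;> fin_cases i <;> fin_cases j <;>
          simp [emb, Matrix.vecMulVec_apply]
      rw [this]
      exact Matrix.rank_vecMulVec_le _ _
    have hker : Module.End.eigenspace (Matrix.toLin' (emb (1 : F) 1 0 1)) 1 =
        LinearMap.ker (Matrix.toLin' (emb (1 : F) 1 0 1 - 1)) := by
      rw [Module.End.eigenspace_def, map_sub, Matrix.toLin'_one, one_smul]
      rfl
    rw [hker]
    have hrn := LinearMap.finrank_range_add_finrank_ker (Matrix.toLin' (emb (1 : F) 1 0 1 - 1))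
    have hr : Module.finrank F (LinearMap.range (Matrix.toLin' (emb (1 : F) 1 0 1 - 1))) ≤ 1 := by
      have : (emb (1 : F) 1 0 1 - 1).rank =
          Module.finrank F (LinearMap.range (Matrix.toLin' (emb (1 : F) 1 0 1 - 1))) := by
        rw [Matrix.rank, Matrix.toLin'_apply']
      rw [← this]; exact hrk
    have h4 : Module.finrank F (I4 → F) = 4 := by
      rw [Module.finrank_pi]
      rfl
    omega

end Cfsg.Agent.Helper23.Sp4H
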