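import Mathlib
import Cfsg.Agent.Lib.Helper23.Sp4Defs

/-!
# S6002: transport along the reindexing `rho : GL (Fin 2 ⊕ Fin 2) F ≃* GL (Fin 4) F` (helper23)
-/

set_option autoImplicit false

namespace Cfsg.Agent.Helper23.Sp4

open Matrix Module Cfsg.Agent.Helper17.ExtraEig

variable {F : Type*} [Field F]

theorem rho_trace (g : GL I4 F) :
    ((rho g : GL (Fin 4) F) : Matrix (Fin 4) (Fin 4) F).trace = (g : Matrix I4 I4 F).trace := by
  rw [rho_val, Matrix.reindex_apply]
  unfold Matrix.trace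
  simp only [Matrix.diag_apply, Matrix.submatrix_apply]
  exact Equiv.sum_comp (finSumFinEquiv : Fin 2 ⊕ Fin 2 ≃ Fin 4).symm
    (fun i => (g : Matrix I4 I4 F) i i)

theorem rho_charpoly (g : GL I4 F) :
    ((rho g : GL (Fin 4) F) : Matrix (Fin 4) (Fin 4) F).charpoly =
      (g : Matrix I4 I4 F).charpoly := by
  rw [rho_val, Matrix.charpoly_reindex]

theorem rho_det (g : GL I4 F) :
    ((rho g : GL (Fin 4) F) : Matrix (Fin 4) (Fin 4) F).det = (g : Matrix I4 I4 F).det := by
  rw [rho_val, Matrix.det_reindex_self]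

theorem rho_smul_one (z : F) :
    Matrix.reindex (finSumFinEquiv : Fin 2 ⊕ Fin 2 ≃ Fin 4) finSumFinEquiv
      (z • (1 : Matrix I4 I4 F)) = z • (1 : Matrix (Fin 4) (Fin 4) F) := by
  ext a b
  simp [Matrix.reindex_apply, Matrix.one_apply]

/-- `rho g` is scalar iff `g` is. -/
theorem rho_mem_scalars_iff (g : GL I4 F) :
    rho g ∈ Cfsg.Geo.scalars (Fin 4) F ↔ ∃ z : F, (g : Matrix I4 I4 F) = z • 1 := by
  rw [Cfsg.Geo.mem_scalars_iff]
  constructor
  · rintro ⟨c, hc⟩
    refine ⟨(c : F), ?_⟩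
    rw [rho_val, ← rho_smul_one] at hc
    exact (Matrix.reindex finSumFinEquiv finSumFinEquiv).injective hc
  · rintro ⟨z, hz⟩
    have hz0 : z ≠ 0 := by
      rintro rfl
      rw [zero_smul] at hz
      have h1 : IsUnit ((g : GL I4 F) : Matrix I4 I4 F) := g.isUnit
      rw [hz] at h1
      exact not_isUnit_zero h1
    refine ⟨Units.mk0 z hz0, ?_⟩
    rw [rho_val, hz, rho_smul_one]
    rfl

theorem rho_not_mem_scalars {g : GL I4 F}
    (h : ∀ z : F, (g : Matrix I4 I4 F) ≠ z • (1 : Matrix I4 I4 F)) :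
    rho g ∉ Cfsg.Geo.scalars (Fin 4) F := by
  intro hg
  obtain ⟨z, hz⟩ := (rho_mem_scalars_iff g).1 hg
  exact h z hz

theorem rho_neg_one : rho (-1 : GL I4 F) = -1 := by
  apply Units.ext
  rw [rho_val, Units.val_neg, Units.val_neg, Units.val_one, Units.val_one]
  ext a b
  simp [Matrix.reindex_apply, Matrix.one_apply]

theorem rho_neg (g : GL I4 F) : rho (-g) = -rho g := by
  have h1 : (-g : GL I4 F) = (-1) * g := by simp
  have h2 : (-rho g : GL (Fin 4) F) = (-1) * rho g := by simp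
  rw [h1, h2, map_mul, rho_neg_one]

/-- the normaliser is transported by `rho` -/
theorem rho_mem_normalizer {R : Subgroup (GL I4 F)} {g : GL I4 F}
    (hg : g ∈ Cfsg.Geo.subgroupNormalizer R) :
    rho g ∈ Subgroup.normalizer
      ((R.map (rho : GL I4 F ≃* GL (Fin 4) F).toMonoidHom : Subgroup (GL (Fin 4) F)) :
        Set (GL (Fin 4) F)) := by
  have hN : ∀ w, w ∈ R ↔ g * w * g⁻¹ ∈ R := Subgroup.mem_normalizer_iff.1 hg
  rw [Subgroup.mem_normalizer_iff]
  intro h
  constructor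
  · rintro ⟨w, hw, rfl⟩
    refine ⟨g * w * g⁻¹, (hN w).1 hw, ?_⟩
    simp
  · rintro ⟨w, hw, hwe⟩
    have hw' : w ∈ R := hw
    refine ⟨g⁻¹ * w * g, ?_, ?_⟩
    · show g⁻¹ * w * g ∈ R
      rw [hN]
      have : g * (g⁻¹ * w * g) * g⁻¹ = w := by group
      rw [this]; exact hw'
    · have h1 : (rho : GL I4 F ≃* GL (Fin 4) F).toMonoidHom w = rho g * h * (rho g)⁻¹ := hwe
      have h2 : (rho : GL I4 F ≃* GL (Fin 4) F).toMonoidHom (g⁻¹ * w * g) =
          (rho g)⁻¹ * (rho : GL I4 F ≃* GL (Fin 4) F).toMonoidHom w * rho g := by simp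
      rw [h2, h1]
      group

/-- eigenspaces are transported by `rho` -/
theorem rho_finrank_eig (g : GL I4 F) (c : F) :
    finrank F (eig (rho g) c) =
      finrank F (Module.End.eigenspace (Matrix.toLin' (g : Matrix I4 I4 F)) c) := by
  set L : (Fin 4 → F) ≃ₗ[F] (I4 → F) :=
    LinearEquiv.funCongrLeft F F (finSumFinEquiv : Fin 2 ⊕ Fin 2 ≃ Fin 4) with hL
  have hcomm : ∀ v : Fin 4 → F,
      L (Matrix.toLin' ((rho g : GL (Fin 4) F) : Matrix (Fin 4) (Fin 4) F) v) =
        Matrix.toLin' (g : Matrix I4 I4 F) (L v) := by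
    intro v
    rw [rho_val, Matrix.toLin'_reindex]
    simp only [LinearMap.comp_apply, LinearEquiv.coe_coe]
    ext a
    simp [hL, LinearEquiv.funCongrLeft_apply, LinearMap.funLeft_apply]
  apply LinearEquiv.finrank_eq
  refine LinearEquiv.ofSubmodules L _ _ ?_
  ext w
  simp only [Submodule.mem_map, eig, Module.End.mem_eigenspace_iff]
  constructor
  · rintro ⟨v, hv, rfl⟩
    have h1 := hcomm v
    rw [hv, map_smul] at h1
    exact h1.symm
  · intro hw
    refine ⟨L.symm w, ?_, L.apply_symm_apply w⟩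
    apply L.injective
    rw [hcomm, L.apply_symm_apply, hw, map_smul, L.apply_symm_apply]

end Cfsg.Agent.Helper23.Sp4
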