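import Mathlib
import Cfsg.Agent.Lib.Helper23.Sp4Transport
import Cfsg.Agent.Lib.Helper15.Sym4Q3

/-!
# S6002 piece J: characteristic polynomials of elements of order 2, 4 and 5 (helper23)
-/

set_option autoImplicit false

namespace Cfsg.Agent.Helper23.Sp4J

open Matrix Polynomial Module Cfsg.Agent.Helper23.Sp4 Cfsg.Agent.Helper13.SS
  Cfsg.Agent.Helper15.Sym4Q3

variable {F : Type*} [Field F]

/-- an element killed by `(X + b)(X - b)`, `b⁴ = 1`, of determinant one and different from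
`± b` has characteristic polynomial `(X + b)² (X - b)²` -/
theorem charpoly_pm (h2 : (2 : F) ≠ 0) (y : GL (Fin 4) F) (b : F) (hb4 : b ^ 4 = 1)
    (hy : aeval (L y) ((X - C (-b)) * (X - C b)) = 0)
    (hya : (y : Matrix (Fin 4) (Fin 4) F) ≠ (-b) • (1 : Matrix (Fin 4) (Fin 4) F))
    (hyb : (y : Matrix (Fin 4) (Fin 4) F) ≠ b • (1 : Matrix (Fin 4) (Fin 4) F))
    (hdet : (y : Matrix (Fin 4) (Fin 4) F).det = 1) :
    (y : Matrix (Fin 4) (Fin 4) F).charpoly = (X - C (-b)) ^ 2 * (X - C b) ^ 2 := by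
  have hb0 : b ≠ 0 := by
    rintro rfl
    norm_num at hb4
  have hne : (X - C (-b) : F[X]) ≠ X - C b := by
    intro h
    have h1 : C (-b) = C b := by
      have := congrArg (fun q : F[X] => X - q) h
      simpa using this
    have h3 : -b = b := C_injective h1
    have : 2 * b = 0 := by linear_combination -h3
    rcases mul_eq_zero.1 this with h4 | h4
    · exact h2 h4
    · exact hb0 h4
  obtain ⟨hc, hs⟩ := charpoly_two_factor y (X - C (-b)) (X - C b) (irreducible_X_sub_C _)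
    (irreducible_X_sub_C _) (monic_X_sub_C _) (monic_X_sub_C _) hne hy
  rw [natDegree_X_sub_C, natDegree_X_sub_C, Nat.div_one, Nat.div_one] at hc
  have hk1 : kdim (L y) (X - C (-b)) ≠ 4 := fun h => hya (eq_smul_of_kdim y _ h)
  have hk2 : kdim (L y) (X - C b) ≠ 4 := fun h => hyb (eq_smul_of_kdim y _ h)
  set k1 := kdim (L y) (X - C (-b)) with hk1d
  set k2 := kdim (L y) (X - C b) with hk2d
  -- the determinant
  have hd : (y : Matrix (Fin 4) (Fin 4) F).det = (-1) ^ k2 := by
    rw [Matrix.det_eq_sign_charpoly_coeff, Fintype.card_fin, hc, coeff_zero_eq_eval_zero,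
      eval_mul, eval_pow, eval_pow, eval_sub, eval_sub, eval_X, eval_C, eval_C]
    have hk : k1 = 4 - k2 := by omega
    have : (0 - -b) ^ k1 * (0 - b) ^ k2 = (-1) ^ k2 * b ^ (k1 + k2) := by
      rw [pow_add]; ring
    rw [this, hs, hb4]
    norm_num
  rw [hdet] at hd
  have hm1 : (-1 : F) ≠ 1 := by
    intro h
    apply h2
    linear_combination -h
  have hk2' : k2 = 2 := by
    have hle : k2 ≤ 4 := by omega
    interval_cases k2
    · omega
    · exfalso; apply hm1; norm_num at hd; exact hd.symm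
    · rfl
    · exfalso; apply hm1; norm_num at hd; exact hd.symm
    · exact absurd rfl hk2
  have hk1' : k1 = 2 := by omega
  rw [hc, hk1', hk2']

theorem L_neg_one : L (-1 : GL (Fin 4) F) = -1 := by
  unfold L
  rw [Units.val_neg, Units.val_one, map_neg, Matrix.toLin'_one]
  rfl

theorem charpoly_sq_one_fin4 (h2 : (2 : F) ≠ 0) (y : GL (Fin 4) F) (hy : y * y = 1)
    (hdet : (y : Matrix (Fin 4) (Fin 4) F).det = 1) (hy1 : y ≠ 1) (hy2 : y ≠ -1) :
    (y : Matrix (Fin 4) (Fin 4) F).charpoly = (X - C (1 : F)) ^ 2 * (X + C (1 : F)) ^ 2 := by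
  have hpoly : (X - C (-1 : F)) * (X - C (1 : F)) = X ^ 2 - 1 := by
    rw [map_neg, map_one]; ring
  have h := charpoly_pm h2 y 1 (one_pow 4)
    (by rw [hpoly]; exact (pow_eq_one_iff y 2).1 (by rw [pow_two]; exact hy))
    (by
      intro h
      apply hy2
      apply Units.ext
      rw [h, Units.val_neg, Units.val_one, neg_one_smul])
    (by
      intro h
      apply hy1
      apply Units.ext
      rw [h, one_smul, Units.val_one]) hdet
  rw [h, mul_comm, map_neg, sub_neg_eq_add]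

theorem charpoly_sq_neg_one_fin4 (h2 : (2 : F) ≠ 0) (y : GL (Fin 4) F) (hy : y * y = -1)
    (hdet : (y : Matrix (Fin 4) (Fin 4) F).det = 1)
    (hns : ∀ z : F, (y : Matrix (Fin 4) (Fin 4) F) ≠ z • (1 : Matrix (Fin 4) (Fin 4) F)) :
    (y : Matrix (Fin 4) (Fin 4) F).charpoly = (X ^ 2 + C (1 : F)) ^ 2 := by
  classical
  have hkill : aeval (L y) (X ^ 2 + C (1 : F)) = 0 := by
    rw [map_add, map_pow, aeval_X, aeval_C, pow_two, ← Cfsg.Agent.Helper13.SS.L_mul, hy, L_neg_one, map_one]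
    exact neg_add_cancel _
  by_cases hi : ∃ i : F, i ^ 2 = -1
  · obtain ⟨i, hi⟩ := hi
    have hpoly : (X - C (-i)) * (X - C i) = X ^ 2 + C (1 : F) := by
      have : C (1 : F) = - C (i ^ 2) := by rw [hi, map_neg, neg_neg]
      rw [this, map_neg, map_pow]; ring
    have hi4 : i ^ 4 = 1 := by
      have : i ^ 4 = (i ^ 2) ^ 2 := by ring
      rw [this, hi]; norm_num
    have h := charpoly_pm h2 y i hi4 (by rw [hpoly]; exact hkill) (hns _) (hns _) hdet
    rw [h, ← mul_pow, hpoly]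
  · -- `X² + 1` is irreducible
    have hmon : (X ^ 2 + C (1 : F)).Monic := monic_X_pow_add_C 1 (by norm_num)
    have hdeg : (X ^ 2 + C (1 : F)).natDegree = 2 := natDegree_X_pow_add_C
    have hirr : Irreducible (X ^ 2 + C (1 : F)) := by
      rw [hmon.irreducible_iff_roots_eq_zero_of_degree_le_three (by rw [hdeg]) (by rw [hdeg]; norm_num)]
      rw [Multiset.eq_zero_iff_forall_notMem]
      intro a ha
      rw [mem_roots hmon.ne_zero, IsRoot, eval_add, eval_pow, eval_X, eval_C] at ha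
      exact hi ⟨a, by linear_combination ha⟩
    have h1 := charpoly_eq_prod ({X ^ 2 + C (1 : F)} : Finset F[X])
      (by intro f hf; rw [Finset.mem_singleton.1 hf]; exact hirr)
      (by intro f hf; rw [Finset.mem_singleton.1 hf]; exact hmon) (L y)
      (by rw [Finset.prod_singleton]; exact hkill)
    rw [Finset.prod_singleton, kdim_eq_four_of_aeval y _ hkill, hdeg] at h1
    rw [← h1]
    unfold L
    rw [Matrix.charpoly_toLin']

theorem charpoly_order_five_fin4 [Fintype F] {p : ℕ} [Fact p.Prime] [CharP F p]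
    (hF : Fintype.card F = p) (hp5 : orderOf (p : ZMod 5) = 4)
    (y : GL (Fin 4) F) (hy5 : y ^ 5 = 1) (hy1 : y ≠ 1) :
    (y : Matrix (Fin 4) (Fin 4) F).charpoly = cyclotomic 5 F := by
  have : Fact (Nat.Prime 5) := ⟨by norm_num⟩
  have hirr := Cfsg.Agent.Helper23.Sym4P34.irreducible_cyclotomic_five hF hp5
  have hdeg : (cyclotomic 5 F).natDegree = 4 := by
    rw [natDegree_cyclotomic]; rfl
  obtain ⟨ay, hne⟩ := prime_order_data 5 hirr (by rw [hdeg]; norm_num) y hy5
  obtain ⟨hc, hs⟩ := charpoly_two_factor y _ _ (irreducible_X_sub_C 1) hirr (monic_X_sub_C 1)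
    (cyclotomic.monic 5 F) hne ay
  have hd := dvd_kdim (L y) _ hirr
  rw [hdeg] at hd
  have h4 := kdim_one_ne_four y hy1
  obtain ⟨k, hk⟩ := hd
  have hk1 : kdim (L y) (X - C (1 : F)) = 0 := by omega
  have hk2 : kdim (L y) (cyclotomic 5 F) = 4 := by omega
  rw [hc, hk1, hk2, hdeg, Nat.zero_div, pow_zero, one_mul, Nat.div_self (by norm_num), pow_one]

/-! ### transport to `GL (Fin 2 ⊕ Fin 2) F` -/

theorem charpoly_of_sq_one (h2 : (2 : F) ≠ 0) (x : GL I4 F) (hx : x * x = 1)
    (hdet : (x : Matrix I4 I4 F).det = 1) (hx1 : x ≠ 1) (hx2 : x ≠ -1) :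
    (x : Matrix I4 I4 F).charpoly = (X - C (1 : F)) ^ 2 * (X + C (1 : F)) ^ 2 := by
  rw [← rho_charpoly]
  apply charpoly_sq_one_fin4 h2
  · rw [← map_mul, hx, map_one]
  · rw [rho_det, hdet]
  · intro h
    apply hx1
    apply (rho : GL I4 F ≃* GL (Fin 4) F).injective
    rw [h, map_one]
  · intro h
    apply hx2
    apply (rho : GL I4 F ≃* GL (Fin 4) F).injective
    rw [h, rho_neg_one]

theorem charpoly_of_sq_neg_one (h2 : (2 : F) ≠ 0) (x : GL I4 F) (hx : x * x = -1)
    (hdet : (x : Matrix I4 I4 F).det = 1)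
    (hns : ∀ z : F, (x : Matrix I4 I4 F) ≠ z • (1 : Matrix I4 I4 F)) :
    (x : Matrix I4 I4 F).charpoly = (X ^ 2 + C (1 : F)) ^ 2 := by
  rw [← rho_charpoly]
  apply charpoly_sq_neg_one_fin4 h2
  · rw [← map_mul, hx, rho_neg_one]
  · rw [rho_det, hdet]
  · intro z hz
    apply hns z
    rw [rho_val, ← rho_smul_one] at hz
    exact (Matrix.reindex finSumFinEquiv finSumFinEquiv).injective hz

theorem charpoly_of_order_five [Fintype F] {p : ℕ} [Fact p.Prime] [CharP F p]
    (hF : Fintype.card F = p) (hp5 : orderOf (p : ZMod 5) = 4)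
    (x : GL I4 F) (hx5 : x ^ 5 = 1) (hx1 : x ≠ 1) :
    (x : Matrix I4 I4 F).charpoly = cyclotomic 5 F := by
  rw [← rho_charpoly]
  apply charpoly_order_five_fin4 hF hp5
  · rw [← map_pow, hx5, map_one]
  · intro h
    apply hx1
    apply (rho : GL I4 F ≃* GL (Fin 4) F).injective
    rw [h, map_one]

end Cfsg.Agent.Helper23.Sp4J
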