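import Mathlib
import Cfsg.Agent.Lib.Helper23.Sp4Eig
import Cfsg.Agent.Lib.Helper23.Sp4Transport
import Cfsg.Agent.Lib.Helper7.Sp4F
import Cfsg.Agent.Lib.Helper17.Sp4A2
import Cfsg.Agent.Lib.Helper19.Sp4G
import Cfsg.Agent.Lib.Helper27.Sp4I
import Cfsg.Agent.Lib.Helper23.Sp4H
import Cfsg.Agent.Lib.Helper23.Sp4J
import Cfsg.Agent.Lib.Helper21.Sp4A1
import Cfsg.Agent.Lib.Helper23.Sym4P34
import Cfsg.Agent.Lib.Helper28.SpSingMax

/-!
# S6002: assembly (helper23)
-/

set_option autoImplicit false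

namespace Cfsg.Agent.Helper23.Sp4

open Matrix Module Polynomial Cfsg.Agent.Helper17.ExtraEig Cfsg.Agent.Helper17.Sym4

variable {F : Type*} [Field F]

/-! ### generalities on `spGL` -/

theorem det_of_mem_spGL {x : GL I4 F} (hx : x ∈ Cfsg.spGL 2 F) :
    (x : Matrix I4 I4 F).det = 1 :=
  SymplecticGroup.det_eq_one
    (Cfsg.Agent.Helper28.SympIso.mem_symplectic_of_preserves (m := 2) (fun u v => hx u v))

theorem sympForm_smul (z : F) (u v : I4 → F) :
    Cfsg.sympForm 2 F (z • u) (z • v) = z * z * Cfsg.sympForm 2 F u v := by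
  unfold Cfsg.sympForm
  rw [Matrix.mulVec_smul, dotProduct_smul, smul_dotProduct, smul_eq_mul, smul_eq_mul, mul_assoc]

theorem sympForm_ne_zero :
    Cfsg.sympForm 2 F (Pi.single (Sum.inl 0) 1) (Pi.single (Sum.inr 0) 1) ≠ 0 := by
  unfold Cfsg.sympForm
  simp [Matrix.J, Matrix.fromBlocks_mulVec, dotProduct, Fintype.sum_sum_type, Pi.single_apply]

/-- scalars in `Sp₄` are `±1` -/
theorem sq_eq_one_of_scalar_mem_spGL {x : GL I4 F} (hx : x ∈ Cfsg.spGL 2 F) {z : F}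
    (hz : (x : Matrix I4 I4 F) = z • (1 : Matrix I4 I4 F)) : z * z = 1 := by
  have h := hx (Pi.single (Sum.inl 0) 1) (Pi.single (Sum.inr 0) 1)
  have e : ∀ u : I4 → F, (Cfsg.glToMat I4 F x) *ᵥ u = z • u := by
    intro u
    show (x : Matrix I4 I4 F) *ᵥ u = z • u
    rw [hz, Matrix.smul_mulVec, Matrix.one_mulVec]
  rw [e, e, sympForm_smul] at h
  have h0 := sympForm_ne_zero (F := F)
  have : (z * z - 1) * Cfsg.sympForm 2 F (Pi.single (Sum.inl 0) 1) (Pi.single (Sum.inr 0) 1) = 0 := by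
    linear_combination h
  rcases mul_eq_zero.1 this with h1 | h1
  · linear_combination h1
  · exact absurd h1 h0

theorem neg_one_mem_spGL : (-1 : GL I4 F) ∈ Cfsg.spGL 2 F := by
  intro u v
  have e : ∀ u : I4 → F, (Cfsg.glToMat I4 F (-1 : GL I4 F)) *ᵥ u = (-1 : F) • u := by
    intro u
    show ((-1 : GL I4 F) : Matrix I4 I4 F) *ᵥ u = (-1 : F) • u
    rw [Units.val_neg, Units.val_one, Matrix.neg_mulVec, Matrix.one_mulVec, neg_one_smul]
  rw [e, e, sympForm_smul]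
  ring

theorem sq_cases {z : F} (h : z * z = 1) : z = 1 ∨ z = -1 := by
  have : (z - 1) * (z + 1) = 0 := by linear_combination h
  rcases mul_eq_zero.1 this with h1 | h1
  · left; linear_combination h1
  · right; linear_combination h1

theorem neg_one_val : ((-1 : GL I4 F) : Matrix I4 I4 F) = (-1 : F) • (1 : Matrix I4 I4 F) := by
  rw [Units.val_neg, Units.val_one, neg_one_smul]

theorem neg_mem_normalizer {R : Subgroup (GL I4 F)} {y : GL I4 F}
    (hy : y ∈ Cfsg.Geo.subgroupNormalizer R) : -y ∈ Cfsg.Geo.subgroupNormalizer R := by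
  unfold Cfsg.Geo.subgroupNormalizer at hy ⊢
  rw [Subgroup.mem_normalizer_iff] at hy ⊢
  intro h
  have : (-y) * h * (-y)⁻¹ = y * h * y⁻¹ := by
    have h1 : (-y : GL I4 F) = (-1) * y := by simp
    have h2 : ((-1 : GL I4 F))⁻¹ = -1 := by
      rw [inv_eq_iff_eq_inv]
      simp
    rw [h1, _root_.mul_inv_rev, h2]
    have hc : ∀ a : GL I4 F, (-1 : GL I4 F) * a = a * (-1) := by intro a; simp
    calc -1 * y * h * (y⁻¹ * -1) = (-1 * (y * h * y⁻¹)) * -1 := by group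
      _ = (y * h * y⁻¹) * (-1) * (-1) := by rw [hc]
      _ = y * h * y⁻¹ := by simp
  rw [this]
  exact hy h

/-! ### the "only if" direction -/

section forward

variable [Fintype F] {p : ℕ} [Fact p.Prime] [CharP F p]

theorem forward (hF : Fintype.card F = p) (hodd : Odd p) (R : Subgroup (GL I4 F))
    (hM : MData (R.map (rho : GL I4 F ≃* GL (Fin 4) F).toMonoidHom))
    (hcard : Nat.card {t : GL (Fin 4) F //
      t ∈ R.map (rho : GL I4 F ≃* GL (Fin 4) F).toMonoidHom ∧ t * t = 1 ∧ t ≠ 1 ∧ t ≠ -1} = 10)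
    {r : ℕ} [hr : Fact r.Prime]
    (hΩ : r ∣ (Cfsg.Geo.subgroupNormalizer R).relIndex (Cfsg.spGL 2 F))
    (hall : ∀ x ∈ Cfsg.spGL 2 F,
      (∃ z : F, ((x ^ r : GL I4 F) : Matrix I4 I4 F) = z • (1 : Matrix I4 I4 F)) →
      (∀ z : F, (x : Matrix I4 I4 F) ≠ z • (1 : Matrix I4 I4 F)) →
      ∃ g ∈ Cfsg.spGL 2 F, g⁻¹ * x * g ∈ Cfsg.Geo.subgroupNormalizer R) :
    r = 2 ∨ (r = 5 ∧ orderOf (p : ZMod 5) = 4) := by
  classical
  have hpp : p.Prime := Fact.out
  have hrp : r.Prime := hr.out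
  have hp2 : p ≠ 2 := by
    rintro rfl
    exact absurd hodd (by decide)
  set R4 := R.map (rho : GL I4 F ≃* GL (Fin 4) F).toMonoidHom with hR4
  -- the basic consequence of `hall`
  have key : ∀ x ∈ Cfsg.spGL 2 F, x ^ r = 1 →
      (∀ z : F, (x : Matrix I4 I4 F) ≠ z • (1 : Matrix I4 I4 F)) →
      ∃ w : GL (Fin 4) F, w ∈ Subgroup.normalizer (R4 : Set (GL (Fin 4) F)) ∧
        w ∉ Cfsg.Geo.scalars (Fin 4) F ∧ w ^ r = 1 ∧
        (w : Matrix (Fin 4) (Fin 4) F).trace = (x : Matrix I4 I4 F).trace ∧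
        ((w⁻¹ : GL (Fin 4) F) : Matrix (Fin 4) (Fin 4) F).trace =
          ((x⁻¹ : GL I4 F) : Matrix I4 I4 F).trace ∧
        ∀ c : F, finrank F (eig w c) =
          finrank F (Module.End.eigenspace (Matrix.toLin' (x : Matrix I4 I4 F)) c) := by
    intro x hx hxr hns
    obtain ⟨g, -, hg⟩ := hall x hx ⟨1, by rw [hxr, Units.val_one, one_smul]⟩ hns
    have hw : rho (g⁻¹ * x * g) = (rho g)⁻¹ * rho x * rho g := by simp
    refine ⟨(rho g)⁻¹ * rho x * rho g, ?_, ?_, ?_, ?_, ?_, ?_⟩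
    · rw [← hw]; exact rho_mem_normalizer hg
    · exact conj_not_scalar (rho_not_mem_scalars hns)
    · have : (rho g)⁻¹ * rho x * rho g = (rho g)⁻¹ * rho x * (rho g)⁻¹⁻¹ := by rw [inv_inv]
      rw [this, conj_pow, ← map_pow, hxr, map_one]; group
    · rw [Cfsg.Agent.Helper17.Sym4.trace_conj, rho_trace]
    · have : ((rho g)⁻¹ * rho x * rho g)⁻¹ = (rho g)⁻¹ * rho x⁻¹ * rho g := by
        rw [map_inv]; group
      rw [this, Cfsg.Agent.Helper17.Sym4.trace_conj, rho_trace]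
    · intro c
      have h1 := finrank_eig_conj (rho x) (rho g)⁻¹ c
      rw [inv_inv] at h1
      rw [h1, rho_finrank_eig]
  by_cases hr2 : r = 2
  · exact Or.inl hr2
  by_cases hrp' : r = p
  · -- a transvection
    exfalso
    subst hrp'
    obtain ⟨x, hx, hxr, hns, hdim⟩ := Cfsg.Agent.Helper23.Sp4H.exists_transvection (F := F) (p := r)
    obtain ⟨w, hwN, hws, hwr, -, -, hwe⟩ := key x hx hxr hns
    have h1 := hM.finrank_eig_le hwN hws hpp (hpp.odd_of_ne_two hp2) hwr 1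
    have h2 : 3 ≤ finrank F (eig w 1) := by rw [hwe 1]; exact hdim
    omega
  -- now r is odd and different from p
  have hcases : ∀ x ∈ Cfsg.spGL 2 F, x ^ r = 1 →
      (∀ z : F, (x : Matrix I4 I4 F) ≠ z • (1 : Matrix I4 I4 F)) →
      (r = 3 ∧ (x : Matrix I4 I4 F).trace * ((x⁻¹ : GL I4 F) : Matrix I4 I4 F).trace = 4) ∨
      (r = 5 ∧ (x : Matrix I4 I4 F).trace * ((x⁻¹ : GL I4 F) : Matrix I4 I4 F).trace = 1) := by
    intro x hx hxr hns
    obtain ⟨w, hwN, hws, hwr, ht1, ht2, -⟩ := key x hx hxr hns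
    have hwr' : w ^ r ∈ Cfsg.Geo.scalars (Fin 4) F := by rw [hwr]; exact Subgroup.one_mem _
    have := hM.normalizer_cases hcard hwN hws hr2 hwr'
    rwa [ht1, ht2] at this
  by_cases hr3 : r = 3
  · exfalso
    subst hr3
    obtain ⟨x, hx, hxr, hns, ht1, ht2⟩ := Cfsg.Agent.Helper23.Sp4H.exists_x3 (F := F)
    rcases hcases x hx hxr hns with ⟨-, h⟩ | ⟨h, -⟩
    · rw [ht1, ht2] at h
      have h3 : ((3 : ℕ) : F) = 0 := by push_cast; linear_combination -h
      rw [CharP.cast_eq_zero_iff F p 3] at h3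
      exact hrp' ((Nat.prime_dvd_prime_iff_eq hpp Nat.prime_three).1 h3).symm
    · omega
  by_cases hr5 : r = 5
  · by_cases hord : orderOf (p : ZMod 5) = 4
    · exact Or.inr ⟨hr5, hord⟩
    · exfalso
      subst hr5
      have hp5' : p ≠ 5 := fun h => hrp' h.symm
      obtain ⟨τ, hτ⟩ := Cfsg.Agent.Helper23.Sym4P34.exists_golden hF hp2 hp5' hord
      obtain ⟨x, hx, hxr, hns, ht1, ht2⟩ := Cfsg.Agent.Helper23.Sp4H.exists_x5 τ hτ
      rcases hcases x hx hxr hns with ⟨h, -⟩ | ⟨-, h⟩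
      · omega
      · rw [ht1, ht2] at h
        -- (τ + 2)^2 = 1 and τ^2 + τ - 1 = 0 give 5 = 0
        have h5 : ((5 : ℕ) : F) = 0 := by
          push_cast
          have e1 : 3 * τ + 4 = 0 := by linear_combination h - hτ
          linear_combination (3 * τ - 1) * e1 - 9 * hτ
        rw [CharP.cast_eq_zero_iff F p 5] at h5
        exact hp5' ((Nat.prime_dvd_prime_iff_eq hpp Nat.prime_five).1 h5)
  -- remaining primes: Cauchy
  exfalso
  have hdvd : r ∣ Nat.card ↥(Cfsg.spGL 2 F) := hΩ.trans (Subgroup.relIndex_dvd_card _ _)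
  obtain ⟨x, hx⟩ := exists_prime_orderOf_dvd_card' r hdvd
  have hxr : (x : GL I4 F) ^ r = 1 := by
    have := pow_orderOf_eq_one x
    rw [hx] at this
    have h2 := congrArg Subtype.val this
    simpa using h2
  have hns : ∀ z : F, ((x : GL I4 F) : Matrix I4 I4 F) ≠ z • (1 : Matrix I4 I4 F) := by
    intro z hz
    have hzz := sq_eq_one_of_scalar_mem_spGL x.2 hz
    have hx2 : (x : GL I4 F) ^ 2 = 1 := by
      apply Units.ext
      rw [pow_two, Units.val_mul, hz, Matrix.smul_mul, Matrix.mul_smul, Matrix.mul_one, smul_smul,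
        hzz, one_smul, Units.val_one]
    have hx2' : x ^ 2 = 1 := Subtype.ext (by simpa using hx2)
    have := orderOf_dvd_of_pow_eq_one hx2'
    rw [hx] at this
    exact hr2 ((Nat.prime_dvd_prime_iff_eq hrp Nat.prime_two).1 this)
  rcases hcases x x.2 hxr hns with ⟨h, -⟩ | ⟨h, -⟩
  · exact hr3 h
  · exact hr5 h

end forward

/-! ### the "if" direction -/

section backward

theorem rho_symm_neg (a : GL (Fin 4) F) :
    (rho : GL I4 F ≃* GL (Fin 4) F).symm (-a) = -(rho : GL I4 F ≃* GL (Fin 4) F).symm a := by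
  apply (rho : GL I4 F ≃* GL (Fin 4) F).injective
  rw [rho_neg, MulEquiv.apply_symm_apply, MulEquiv.apply_symm_apply]

theorem comm_I4 {R : Subgroup (GL I4 F)}
    (hM : MData (R.map (rho : GL I4 F ≃* GL (Fin 4) F).toMonoidHom)) :
    ∀ x ∈ R, ∀ y ∈ R, x * y = y * x ∨ x * y = -(y * x) := by
  intro x hx y hy
  have hx' : rho x ∈ R.map (rho : GL I4 F ≃* GL (Fin 4) F).toMonoidHom := ⟨x, hx, rfl⟩
  have hy' : rho y ∈ R.map (rho : GL I4 F ≃* GL (Fin 4) F).toMonoidHom := ⟨y, hy, rfl⟩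
  rcases hM.comm _ hx' _ hy' with h | h
  · left
    apply (rho : GL I4 F ≃* GL (Fin 4) F).injective
    rw [map_mul, map_mul, h]
  · right
    apply (rho : GL I4 F ≃* GL (Fin 4) F).injective
    rw [rho_neg, map_mul, map_mul, h]

theorem exists_gammas_I4 [Finite F] {R : Subgroup (GL I4 F)}
    (hM : MData (R.map (rho : GL I4 F ≃* GL (Fin 4) F).toMonoidHom))
    (hcard : Nat.card {t : GL (Fin 4) F //
      t ∈ R.map (rho : GL I4 F ≃* GL (Fin 4) F).toMonoidHom ∧ t * t = 1 ∧ t ≠ 1 ∧ t ≠ -1} = 10) :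
    ∃ t : Fin 5 → GL I4 F, (∀ i, t i ∈ R) ∧ (∀ i, t i * t i = 1) ∧
      (∀ i j, i ≠ j → t i * t j = -(t j * t i)) := by
  obtain ⟨t, htR, ht2, hanti⟩ := Cfsg.Agent.Helper7.Sp4F.exists_gammas hM hcard
  refine ⟨fun i => (rho : GL I4 F ≃* GL (Fin 4) F).symm (t i), ?_, ?_, ?_⟩
  · intro i
    obtain ⟨a, ha, hat⟩ := htR i
    have hat' : rho a = t i := hat
    show (rho : GL I4 F ≃* GL (Fin 4) F).symm (t i) ∈ R
    rw [← hat', MulEquiv.symm_apply_apply]
    exact ha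
  · intro i
    show (rho : GL I4 F ≃* GL (Fin 4) F).symm (t i) * (rho : GL I4 F ≃* GL (Fin 4) F).symm (t i) = 1
    rw [← map_mul, ht2, map_one]
  · intro i j hij
    show (rho : GL I4 F ≃* GL (Fin 4) F).symm (t i) * (rho : GL I4 F ≃* GL (Fin 4) F).symm (t j) =
      -((rho : GL I4 F ≃* GL (Fin 4) F).symm (t j) * (rho : GL I4 F ≃* GL (Fin 4) F).symm (t i))
    rw [← map_mul, ← map_mul, hanti i j hij, rho_symm_neg]

/-- an element anticommuting with an invertible element is not scalar -/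
theorem not_scalar_of_anti (h2 : (2 : F) ≠ 0) {a b : GL I4 F} (h : a * b = -(b * a)) (z : F) :
    (a : Matrix I4 I4 F) ≠ z • (1 : Matrix I4 I4 F) := by
  intro hz
  have h1 : (a : Matrix I4 I4 F) * (b : Matrix I4 I4 F) =
      -((b : Matrix I4 I4 F) * (a : Matrix I4 I4 F)) := by
    have := congrArg (fun u : GL I4 F => (u : Matrix I4 I4 F)) h
    simpa using this
  rw [hz, Matrix.smul_mul, Matrix.mul_smul, Matrix.one_mul, Matrix.mul_one] at h1
  -- z • b = -(z • b)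
  have h3 : (2 * z) • (b : Matrix I4 I4 F) = 0 := by
    rw [mul_smul, two_smul]
    nth_rewrite 1 [h1]
    exact neg_add_cancel _
  have hz0 : z ≠ 0 := by
    rintro rfl
    rw [zero_smul] at hz
    have h1 : IsUnit ((a : GL I4 F) : Matrix I4 I4 F) := a.isUnit
    rw [hz] at h1
    exact not_isUnit_zero h1
  have hb : (b : Matrix I4 I4 F) = 0 := by
    rcases smul_eq_zero.1 h3 with h4 | h4
    · exact absurd h4 (mul_ne_zero h2 hz0)
    · exact h4
  have h5 : IsUnit ((b : GL I4 F) : Matrix I4 I4 F) := b.isUnit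
  rw [hb] at h5
  exact not_isUnit_zero h5

variable [Fintype F] {p : ℕ} [Fact p.Prime] [CharP F p]

theorem backward (hF : Fintype.card F = p) (hodd : Odd p) (R : Subgroup (GL I4 F))
    (hRf : R ≤ Cfsg.spGL 2 F)
    (hM : MData (R.map (rho : GL I4 F ≃* GL (Fin 4) F).toMonoidHom))
    (hcard : Nat.card {t : GL (Fin 4) F //
      t ∈ R.map (rho : GL I4 F ≃* GL (Fin 4) F).toMonoidHom ∧ t * t = 1 ∧ t ≠ 1 ∧ t ≠ -1} = 10)
    {r : ℕ} (hr : r = 2 ∨ (r = 5 ∧ orderOf (p : ZMod 5) = 4))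
    (x : GL I4 F) (hx : x ∈ Cfsg.spGL 2 F)
    (hxr : ∃ z : F, ((x ^ r : GL I4 F) : Matrix I4 I4 F) = z • (1 : Matrix I4 I4 F))
    (hns : ∀ z : F, (x : Matrix I4 I4 F) ≠ z • (1 : Matrix I4 I4 F)) :
    ∃ g ∈ Cfsg.spGL 2 F, g⁻¹ * x * g ∈ Cfsg.Geo.subgroupNormalizer R := by
  classical
  have hpp : p.Prime := Fact.out
  have hp2 : p ≠ 2 := by
    rintro rfl
    exact absurd hodd (by decide)
  have h2 : (2 : F) ≠ 0 := hM.two_ne
  obtain ⟨t, htR, ht2, hanti⟩ := exists_gammas_I4 hM hcard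
  have hRN : R ≤ Cfsg.Geo.subgroupNormalizer R := Subgroup.le_normalizer
  obtain ⟨z, hz⟩ := hxr
  have hxr_mem : x ^ r ∈ Cfsg.spGL 2 F := Subgroup.pow_mem _ hx r
  have hzz := sq_eq_one_of_scalar_mem_spGL hxr_mem hz
  -- `x ^ r = 1` or `x ^ r = -1`
  have hpm : x ^ r = 1 ∨ x ^ r = -1 := by
    rcases sq_cases hzz with rfl | rfl
    · left; apply Units.ext; rw [hz, one_smul, Units.val_one]
    · right; apply Units.ext; rw [hz, neg_one_val]
  have hx1 : x ≠ 1 := by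
    rintro rfl
    exact hns 1 (by rw [Units.val_one, one_smul])
  have hx2 : x ≠ -1 := by
    rintro rfl
    exact hns (-1) neg_one_val
  rcases hr with rfl | ⟨rfl, hord⟩
  · -- r = 2
    have h01 : t 0 * t 1 = -(t 1 * t 0) := hanti 0 1 (by decide)
    rcases hpm with hx2' | hx2'
    · -- an involution
      have hxx : x * x = 1 := by rw [← pow_two]; exact hx2'
      have hc1 := Cfsg.Agent.Helper23.Sp4J.charpoly_of_sq_one h2 x hxx (det_of_mem_spGL hx) hx1 hx2
      have hy : t 0 ∈ Cfsg.spGL 2 F := hRf (htR 0)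
      have hy1 : t 0 ≠ 1 := by
        intro h
        exact not_scalar_of_anti h2 h01 1 (by rw [h, Units.val_one, one_smul])
      have hy2 : t 0 ≠ -1 := by
        intro h
        exact not_scalar_of_anti h2 h01 (-1) (by rw [h, neg_one_val])
      have hc2 := Cfsg.Agent.Helper23.Sp4J.charpoly_of_sq_one h2 (t 0) (ht2 0) (det_of_mem_spGL hy) hy1 hy2
      obtain ⟨g, hg, hgx⟩ := Cfsg.Agent.Helper27.Sp4I.symp_conj_of_charpoly (p := p) x (t 0) hx hy 2 (by norm_num)
        ((Nat.coprime_primes Nat.prime_two hpp).2 (Ne.symm hp2)) hx2'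
        (by rw [pow_two]; exact ht2 0) (hc1.trans hc2.symm)
      exact ⟨g, hg, by rw [hgx]; exact hRN (htR 0)⟩
    · -- square `-1`
      have hxx : x * x = -1 := by rw [← pow_two]; exact hx2'
      have hc1 := Cfsg.Agent.Helper23.Sp4J.charpoly_of_sq_neg_one h2 x hxx (det_of_mem_spGL hx) hns
      set y : GL I4 F := t 0 * t 1 with hy_def
      have hyR : y ∈ R := R.mul_mem (htR 0) (htR 1)
      have hy : y ∈ Cfsg.spGL 2 F := hRf hyR
      have hyy : y * y = -1 := by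
        have e : y * y = t 0 * (t 1 * t 0) * t 1 := by rw [hy_def]; group
        have h10 : t 1 * t 0 = -(t 0 * t 1) := hanti 1 0 (by decide)
        rw [e, h10, mul_neg, neg_mul, ← mul_assoc, ht2 0, one_mul, ht2 1]
      have hyanti : y * t 0 = -(t 0 * y) := by
        have h10 : t 1 * t 0 = -(t 0 * t 1) := hanti 1 0 (by decide)
        rw [hy_def, mul_assoc, h10, mul_neg]
      have hyns : ∀ z : F, (y : Matrix I4 I4 F) ≠ z • (1 : Matrix I4 I4 F) :=
        not_scalar_of_anti h2 hyanti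
      have hc2 := Cfsg.Agent.Helper23.Sp4J.charpoly_of_sq_neg_one h2 y hyy (det_of_mem_spGL hy) hyns
      have h4 : ∀ w : GL I4 F, w * w = -1 → w ^ 4 = 1 := by
        intro w hw
        have : w ^ 4 = (w * w) * (w * w) := by
          show w ^ (2 + 2) = _
          rw [pow_add, pow_two]
        rw [this, hw]; simp
      obtain ⟨g, hg, hgx⟩ := Cfsg.Agent.Helper27.Sp4I.symp_conj_of_charpoly (p := p) x y hx hy 4 (by norm_num)
        (by
          have : Nat.Coprime 2 p := (Nat.coprime_primes Nat.prime_two hpp).2 (Ne.symm hp2)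
          exact Nat.Coprime.pow_left 2 this)
        (h4 x hxx) (h4 y hyy) (hc1.trans hc2.symm)
      exact ⟨g, hg, by rw [hgx]; exact hRN hyR⟩
  · -- r = 5
    have hp5 : p ≠ 5 := by
      intro h5
      have : Fact (Nat.Prime 5) := ⟨Nat.prime_five⟩
      rw [h5, ZMod.natCast_self 5, orderOf_zero] at hord
      exact absurd hord (by norm_num)
    have hcop : Nat.Coprime 5 p := (Nat.coprime_primes Nat.prime_five hpp).2 (Ne.symm hp5)
    obtain ⟨y, hy, hyN, hy5, hy1⟩ := Cfsg.Agent.Helper19.Sp4G.exists_order_five h2 R hRf (comm_I4 hM) t htR ht2 hanti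
    have hcy := Cfsg.Agent.Helper23.Sp4J.charpoly_of_order_five (p := p) hF hord y hy5 hy1
    rcases hpm with hx5 | hx5
    · have hcx := Cfsg.Agent.Helper23.Sp4J.charpoly_of_order_five (p := p) hF hord x hx5 hx1
      obtain ⟨g, hg, hgx⟩ := Cfsg.Agent.Helper27.Sp4I.symp_conj_of_charpoly (p := p) x y hx hy 5 (by norm_num) hcop
        hx5 hy5 (hcx.trans hcy.symm)
      exact ⟨g, hg, by rw [hgx]; exact hyN⟩
    · have hnx : (-x) ^ 5 = 1 := by
        rw [Odd.neg_pow (by decide), hx5, neg_neg]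
      have hnx1 : -x ≠ 1 := by
        intro h
        apply hx2
        rw [← h, neg_neg]
      have hnxm : -x ∈ Cfsg.spGL 2 F := by
        have : -x = (-1) * x := by simp
        rw [this]
        exact Subgroup.mul_mem _ neg_one_mem_spGL hx
      have hcx := Cfsg.Agent.Helper23.Sp4J.charpoly_of_order_five (p := p) hF hord (-x) hnx hnx1
      obtain ⟨g, hg, hgx⟩ := Cfsg.Agent.Helper27.Sp4I.symp_conj_of_charpoly (p := p) (-x) y hnxm hy 5 (by norm_num) hcop
        hnx hy5 (hcx.trans hcy.symm)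
      refine ⟨g, hg, ?_⟩
      have : g⁻¹ * x * g = -y := by
        rw [← hgx]
        simp
      rw [this]
      exact neg_mem_normalizer hyN

end backward

/-! ### the statement, from the abstract data -/

theorem main_of_mdata [Fintype F] {p : ℕ} [Fact p.Prime] [CharP F p]
    (hF : Fintype.card F = p) (hodd : Odd p) (R : Subgroup (GL I4 F))
    (hRf : R ≤ Cfsg.spGL 2 F)
    (hM : MData (R.map (rho : GL I4 F ≃* GL (Fin 4) F).toMonoidHom))
    (hcard : Nat.card {t : GL (Fin 4) F //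
      t ∈ R.map (rho : GL I4 F ≃* GL (Fin 4) F).toMonoidHom ∧ t * t = 1 ∧ t ≠ 1 ∧ t ≠ -1} = 10)
    (r : ℕ) [Fact r.Prime]
    (hΩ : r ∣ (Cfsg.Geo.subgroupNormalizer R).relIndex (Cfsg.spGL 2 F)) :
    (∀ x ∈ Cfsg.spGL 2 F,
      (∃ z : F, ((x ^ r : GL I4 F) : Matrix I4 I4 F) = z • (1 : Matrix I4 I4 F)) →
      (∀ z : F, (x : Matrix I4 I4 F) ≠ z • (1 : Matrix I4 I4 F)) →
      ∃ g ∈ Cfsg.spGL 2 F, g⁻¹ * x * g ∈ Cfsg.Geo.subgroupNormalizer R) ↔
      (r = 2 ∨ (r = 5 ∧ orderOf (p : ZMod 5) = 4)) :=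
  ⟨fun hall => forward hF hodd R hM hcard hΩ hall,
    fun hr x hx hxr hns => backward hF hodd R hRf hM hcard hr x hx hxr hns⟩

/-- the full statement -/
theorem main [Fintype F] {p : ℕ} [Fact p.Prime] [CharP F p]
    (hF : Fintype.card F = p) (hodd : Odd p) (R : Subgroup (GL I4 F))
    (hRs : Cfsg.Geo.IsSymplecticTypeGroup 2 R)
    (hRi : Cfsg.Geo.ActsAbsolutelyIrreducibly (Cfsg.Geo.matrixSet R))
    (hRf : R ≤ Cfsg.spGL 2 F) (hR5 : Nat.card R = 2 ^ 5)
    (hRZ : Nat.card (Subgroup.center R) = 2) (hRm : Cfsg.Geo.IsOfMinusType 2 R)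
    (r : ℕ) [Fact r.Prime]
    (hΩ : r ∣ (Cfsg.Geo.subgroupNormalizer R).relIndex (Cfsg.spGL 2 F)) :
    (∀ x ∈ Cfsg.spGL 2 F,
      (∃ z : F, ((x ^ r : GL I4 F) : Matrix I4 I4 F) = z • (1 : Matrix I4 I4 F)) →
      (∀ z : F, (x : Matrix I4 I4 F) ≠ z • (1 : Matrix I4 I4 F)) →
      ∃ g ∈ Cfsg.spGL 2 F, g⁻¹ * x * g ∈ Cfsg.Geo.subgroupNormalizer R) ↔
      (r = 2 ∨ (r = 5 ∧ orderOf (p : ZMod 5) = 4)) := by
  have hpp : p.Prime := Fact.out
  have h2 : (2 : F) ≠ 0 := by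
    intro h
    have h' : ((2 : ℕ) : F) = 0 := by exact_mod_cast h
    rw [CharP.cast_eq_zero_iff F p 2] at h'
    have h3 := (Nat.prime_dvd_prime_iff_eq hpp Nat.prime_two).1 h'
    rw [h3] at hodd
    exact absurd hodd (by decide)
  have hcl : commutator R ≤ Subgroup.center R :=
    Cfsg.Agent.Helper21.Sp4A1.class_two_of_card32 (G := R) hRs.pGroup hRs.cyclic_of_characteristic
      (by rw [hRs.exponent_eq]; rfl) (by rw [hR5]; norm_num) hRZ
  have hM := Cfsg.Agent.Helper17.Sp4A2.mdata_of_hyp h2 R hRs hRi hR5 hRZ hRm hcl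
  have hcard := Cfsg.Agent.Helper7.Sp4B.card_invol hM
  exact main_of_mdata hF hodd R hRf hM hcard r hΩ

end Cfsg.Agent.Helper23.Sp4
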