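import Mathlib
import Cfsg.Agent.Lib.Helper6.UniDefs

/-!
S2314 farm-out, PIECE UNI-CLASS (+ UNI-CLASSA): the permutation character is a class function, and hence so is
the relative Steinberg function.
-/

set_option autoImplicit false
set_option linter.unusedSectionVars false
set_option linter.unusedVariables false

namespace Cfsg.Agent.Helper6.Uni

open Cfsg Cfsg.Agent.Helper2.WordLen Cfsg.Agent.Helper2.BN Cfsg.Agent.Helper17.BNCox

section Generic

variable {M : Type*} [Group M]

/-- the bijection `X ↦ x X` from the cosets fixed by `g` to the cosets fixed by `x g x⁻¹` -/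
def uni_class_equiv (H : Subgroup M) (x g : M) :
    MulAction.fixedBy (M ⧸ H) g ≃ MulAction.fixedBy (M ⧸ H) (x * g * x⁻¹) where
  toFun X := ⟨x • (X : M ⧸ H), by
    have hX : g • (X : M ⧸ H) = X := X.2
    show (x * g * x⁻¹) • (x • (X : M ⧸ H)) = x • (X : M ⧸ H)
    rw [← mul_smul, inv_mul_cancel_right, mul_smul, hX]⟩
  invFun Y := ⟨x⁻¹ • (Y : M ⧸ H), by
    have hY : (x * g * x⁻¹) • (Y : M ⧸ H) = Y := Y.2
    show g • (x⁻¹ • (Y : M ⧸ H)) = x⁻¹ • (Y : M ⧸ H)
    conv_rhs => rw [← hY]
    rw [← mul_smul, ← mul_smul]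
    congr 1
    group⟩
  left_inv X := by
    apply Subtype.ext
    show x⁻¹ • (x • (X : M ⧸ H)) = X
    rw [inv_smul_smul]
  right_inv Y := by
    apply Subtype.ext
    show x • (x⁻¹ • (Y : M ⧸ H)) = Y
    rw [smul_inv_smul]

/-- PIECE UNI-CLASS (pure Mathlib + Prelude def): the permutation character is a class function. -/
theorem fixedPointCharacter_conj (H : Subgroup M) (x g : M) :
    Cfsg.fixedPointCharacter H (x * g * x⁻¹) = Cfsg.fixedPointCharacter H g := by
  unfold Cfsg.fixedPointCharacter
  rw [Nat.card_congr (uni_class_equiv H x g)]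

end Generic

variable {G : Type*} [Group G] (P : Cfsg.BNPair G)

/-- PIECE UNI-CLASSA: the relative Steinberg function is a class function. -/
theorem StA_conj (A : Finset P.S) (x g : ↥(par P (↑A : Set P.S))) :
    StA P A (x * g * x⁻¹) = StA P A g := by
  unfold StA
  refine Finset.sum_congr rfl fun K _ => ?_
  rw [fixedPointCharacter_conj]

end Cfsg.Agent.Helper6.Uni
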