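import Mathlib
import Cfsg.Agent.Lib.Helper6.WeilDefs

/-!
# S2347 piece CHAR (helper23): the characters of the group of symmetric matrices
-/

set_option autoImplicit false
set_option linter.unusedSectionVars false

namespace Cfsg.Agent.Helper6.Weil

open Matrix

section

variable {n : ℕ} {F : Type*} [Field F]

/-- the symmetric matrix `M + Mᵀ` -/
def charSym (n : ℕ) (M : Matrix (Fin n) (Fin n) F) : symmAdd n F :=
  ⟨M + Mᵀ, by
    show (M + Mᵀ)ᵀ = M + Mᵀ
    rw [Matrix.transpose_add, Matrix.transpose_transpose, add_comm]⟩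

theorem charSym_trace (M D : Matrix (Fin n) (Fin n) F) (hD : Dᵀ = D) :
    (D * ((charSym n M : symmAdd n F) : Matrix (Fin n) (Fin n) F)).trace = 2 * (M * D).trace := by
  show (D * (M + Mᵀ)).trace = _
  rw [mul_add, Matrix.trace_add, Matrix.trace_mul_comm D M]
  have : (D * Mᵀ).trace = (M * D).trace := by
    rw [← Matrix.trace_transpose, Matrix.transpose_mul, Matrix.transpose_transpose, hD]
  rw [this]
  ring

/-- a symmetric matrix orthogonal to all symmetric matrices for the trace form twisted by a nontrivial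
character vanishes (`2 ≠ 0`) -/
theorem char_nondeg (ψ : AddChar F ℂ) (hψ : ψ ≠ 1) (h2 : (2 : F) ≠ 0)
    (D : Matrix (Fin n) (Fin n) F) (hD : Dᵀ = D)
    (h : ∀ S : symmAdd n F, ψ (D * (S : Matrix (Fin n) (Fin n) F)).trace = 1) : D = 0 := by
  obtain ⟨t₀, ht₀⟩ : ∃ t, ψ t ≠ 1 := by
    by_contra hcon
    push Not at hcon
    apply hψ
    apply DFunLike.ext
    intro t
    rw [hcon t]
    rfl
  by_contra hne
  obtain ⟨j, i, hji⟩ : ∃ j i, D j i ≠ 0 := by
    by_contra hcon
    push Not at hcon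
    apply hne
    ext j i
    exact hcon j i
  have h1 := h (charSym n (Matrix.single i j (t₀ / (2 * D j i))))
  rw [charSym_trace _ D hD, Matrix.trace_single_mul, smul_eq_mul] at h1
  have h3 : 2 * (t₀ / (2 * D j i) * D j i) = t₀ := by
    field_simp
  rw [h3] at h1
  exact ht₀ h1

/-- PIECE CHAR (b) -/
theorem symmChar_injective [Fintype F] (ψ : AddChar F ℂ) (hψ : ψ ≠ 1) (h2 : (2 : F) ≠ 0)
    (T T' : Matrix (Fin n) (Fin n) F) (hT : Tᵀ = T) (hT' : T'ᵀ = T')
    (h : symmChar ψ T = symmChar ψ T') : T = T' := by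
  have hD : (T - T')ᵀ = T - T' := by rw [Matrix.transpose_sub, hT, hT']
  have h0 := char_nondeg ψ hψ h2 (T - T') hD (by
    intro S
    have h1 := DFunLike.congr_fun h S
    rw [symmChar_apply, symmChar_apply] at h1
    rw [sub_mul, Matrix.trace_sub, sub_eq_add_neg, AddChar.map_add_eq_mul,
      AddChar.map_neg_eq_inv, h1]
    apply mul_inv_cancel₀
    exact (ψ.val_isUnit _).ne_zero)
  exact sub_eq_zero.mp h0

/-- PIECE CHAR (a): every character of the group of symmetric matrices is a `symmChar ψ T` -/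
theorem exists_symmChar [Fintype F] (ψ : AddChar F ℂ) (hψ : ψ ≠ 1) (h2 : (2 : F) ≠ 0)
    (lam : AddChar (symmAdd n F) ℂ) :
    ∃ T : symmAdd n F, lam = symmChar ψ (T : Matrix (Fin n) (Fin n) F) := by
  classical
  let _ : Fintype (symmAdd n F) := Fintype.ofFinite _
  let Ψ : symmAdd n F → AddChar (symmAdd n F) ℂ := fun T =>
    symmChar ψ (T : Matrix (Fin n) (Fin n) F)
  have hinj : Function.Injective Ψ := by
    intro T T' hTT
    exact Subtype.ext (symmChar_injective ψ hψ h2 _ _ T.2 T'.2 hTT)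
  have hbij : Function.Bijective Ψ := by
    rw [Fintype.bijective_iff_injective_and_card]
    exact ⟨hinj, (AddChar.card_eq (α := symmAdd n F)).symm⟩
  obtain ⟨T, hT⟩ := hbij.2 lam
  exact ⟨T, hT.symm⟩

end

end Cfsg.Agent.Helper6.Weil
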