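import Mathlib
import Cfsg.Agent.Lib.Helper6.WeilDefs

/-!
# S2347 piece ODD (helper23): the dimension of the space of odd functions on `F^n`

The projection `f ↦ (f - f ∘ neg) / 2` onto the odd functions has trace `(q^n - 1) / 2`, since the
parity operator is a permutation operator with exactly one fixed point.
-/

set_option autoImplicit false
set_option linter.unusedSectionVars false

namespace Cfsg.Agent.Helper6.Weil

open Matrix

section

variable {n : ℕ} {F : Type*} [Field F] [Fintype F]

theorem odd_two_ne_zero (hodd : Odd (Fintype.card F)) : (2 : F) ≠ 0 := by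
  apply Ring.two_ne_zero
  intro h
  have := FiniteField.even_card_of_char_two h
  rw [Nat.odd_iff] at hodd
  omega

/-- the trace of the parity operator is the number of fixed points of `x ↦ -x` -/
theorem odd_trace_par (h2 : (2 : F) ≠ 0) : LinearMap.trace ℂ _ (par n F) = 1 := by
  classical
  rw [LinearMap.trace_eq_matrix_trace ℂ (Pi.basisFun ℂ (Fin n → F)),
    LinearMap.toMatrix_eq_toMatrix']
  simp only [Matrix.trace, Matrix.diag_apply, LinearMap.toMatrix'_apply, par_apply]
  rw [Finset.sum_eq_single (0 : Fin n → F)]
  · simp
  · intro x _ hx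
    rw [Pi.single_apply, if_neg]
    intro h
    apply hx
    funext i
    have h1 := congrFun h i
    rw [Pi.neg_apply] at h1
    have h3 : (2 : F) * x i = 0 := by linear_combination -h1
    rcases mul_eq_zero.mp h3 with h4 | h4
    · exact absurd h4 h2
    · exact h4
  · intro h
    exact absurd (Finset.mem_univ _) h

/-- the projection onto the odd functions -/
noncomputable def oddProj (n : ℕ) (F : Type*) [Field F] :
    ((Fin n → F) → ℂ) →ₗ[ℂ] ((Fin n → F) → ℂ) where
  toFun f := fun x => (f x - f (-x)) / 2
  map_add' := by
    intro f g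
    funext x
    simp only [Pi.add_apply]
    ring
  map_smul' := by
    intro c f
    funext x
    simp only [Pi.smul_apply, smul_eq_mul, RingHom.id_apply]
    ring

theorem oddProj_apply (f : (Fin n → F) → ℂ) (x : Fin n → F) :
    oddProj n F f x = (f x - f (-x)) / 2 := rfl

theorem oddProj_eq : oddProj n F = (2⁻¹ : ℂ) • (1 - par n F) := by
  apply LinearMap.ext
  intro f
  funext x
  rw [oddProj_apply, LinearMap.smul_apply, LinearMap.sub_apply, Module.End.one_apply, Pi.smul_apply,
    Pi.sub_apply, par_apply, smul_eq_mul]
  ring

theorem oddProj_idem : IsIdempotentElem (oddProj n F) := by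
  show oddProj n F * oddProj n F = oddProj n F
  apply LinearMap.ext
  intro f
  funext x
  rw [Module.End.mul_apply]
  simp only [oddProj_apply, neg_neg]
  ring

theorem oddProj_range : LinearMap.range (oddProj n F) = oddSub n F := by
  ext f
  rw [LinearMap.mem_range, mem_oddSub]
  constructor
  · rintro ⟨g, rfl⟩ x
    rw [oddProj_apply, oddProj_apply, neg_neg]
    ring
  · intro hf
    refine ⟨f, ?_⟩
    funext x
    rw [oddProj_apply, hf x]
    ring

/-- PIECE ODD: the dimension of the space of odd functions -/
theorem finrank_oddSub (hodd : Odd (Fintype.card F)) :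
    Module.finrank ℂ (oddSub n F) = (Fintype.card F ^ n - 1) / 2 := by
  classical
  have h2 := odd_two_ne_zero hodd
  have h1 := (LinearMap.IsIdempotentElem.isProj_range _ (oddProj_idem (n := n) (F := F))).trace
  rw [oddProj_range] at h1
  have htr : LinearMap.trace ℂ _ (oddProj n F) =
      (2⁻¹ : ℂ) * (((Fintype.card F ^ n : ℕ) : ℂ) - 1) := by
    rw [oddProj_eq, map_smul, map_sub, LinearMap.trace_one, odd_trace_par h2,
      Module.finrank_fintype_fun_eq_card, Fintype.card_fun, Fintype.card_fin, smul_eq_mul]
  rw [htr] at h1
  -- arithmetic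
  have hq : Odd (Fintype.card F ^ n) := hodd.pow
  obtain ⟨k, hk⟩ := hq
  have hk2 : (Fintype.card F ^ n - 1) / 2 = k := by omega
  rw [hk2]
  have h3 : ((Module.finrank ℂ (oddSub n F) : ℕ) : ℂ) = (k : ℂ) := by
    rw [← h1, hk]
    push_cast
    ring
  exact_mod_cast h3

end

end Cfsg.Agent.Helper6.Weil
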