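import Mathlib
import Cfsg.Agent.Lib.Helper23.ZS4Defs
import Cfsg.Agent.Lib.Helper14.ZS4CLASS
import Cfsg.Agent.Lib.Helper14.ZS4PAIRCOUNT
import Cfsg.Agent.Lib.Helper3.ZS4MEMM

/-!
# S3222 piece O4C: `|G| = 336` and `t^G ∩ T = {t}` is impossible
-/

set_option autoImplicit false

namespace Cfsg.Agent.Helper23.ZS4

variable {G : Type*} [Group G]

namespace O4C

/-- Basic consequences of `Loc`. -/
theorem basics {t z v τ : G} {T : Subgroup G} (L : Loc t z v τ T) :
    z ≠ 1 ∧ v ≠ 1 ∧ orderOf v = 2 ∧ z * v = v * z ∧ z * t = t * z ∧ v * t = t * v ∧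
      τ * t = t * τ ∧ z * v ∈ T := by
  have hz1 : z ≠ 1 := by
    intro h; have := L.hz; rw [h, orderOf_one] at this; omega
  have hvo : orderOf v = 2 := by
    obtain ⟨c, _, hc⟩ := L.v_conj
    rw [hc, ← L.hz]
    exact MulEquiv.orderOf_eq (MulAut.conj c) z
  have hv1 : v ≠ 1 := by
    intro h; rw [h, orderOf_one] at hvo; omega
  have hzv : z * v = v * z := by
    have := L.vT
    rw [← L.cent_z, Subgroup.mem_centralizer_singleton_iff] at this
    exact this.symm
  have hc : ∀ x ∈ T, x * t = t * x := by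
    intro x hx
    have := L.T_le hx
    rwa [Subgroup.mem_centralizer_singleton_iff] at this
  exact ⟨hz1, hv1, hvo, hzv, hc z L.zT, hc v L.vT, hc τ L.τT, T.mul_mem L.zT L.vT⟩

end O4C

/-- PIECE O4C, with the statement of `o4a` as a hypothesis. -/
theorem o4c_core [Finite G] {t z v τ : G} (T : Sylow 2 G) (L : Loc t z v τ (T : Subgroup G))
    (M : Subgroup G) [M.Normal] (hM2 : M.index = 2) (htM : t ∉ M) (hcard : Nat.card G = 336)
    (h1 : ∀ x ∈ (T : Subgroup G), (∃ g : G, x = g * t * g⁻¹) → x = t)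
    (ho4a : Nat.card M = 168 → ∀ τ' : G, (τ' = τ ∨ τ' = t * τ) → τ' ∈ M →
      (∀ g : G, g * z * g⁻¹ ≠ τ') → False) : False := by
  classical
  obtain ⟨hz1, hv1, hvo, hzv, hzt, hvt, hτt, hzvT⟩ := O4C.basics L
  obtain ⟨hzM, hvM, hzvM, τ', hτ', hτM⟩ := mem_M L M hM2 htM
  have hM168 : Nat.card M = 168 := by
    have := Subgroup.card_mul_index M
    rw [hM2, hcard] at this
    omega
  -- class sizes
  have hX := class_card t
  rw [L.card_C, hcard] at hX
  have hY := class_card z
  rw [L.cent_z, L.card_T, hcard] at hY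
  have hX7 : Set.ncard {x' : G | ∃ g : G, x' = g * t * g⁻¹} = 7 := by omega
  have hY21 : Set.ncard {y' : G | ∃ g : G, y' = g * z * g⁻¹} = 21 := by omega
  -- `t^G ∩ C(z) = {t}`
  have hA : {x' : G | (∃ g : G, x' = g * t * g⁻¹) ∧ x' * z = z * x'} = {t} := by
    ext x'
    simp only [Set.mem_ofPred_eq, Set.mem_singleton_iff]
    constructor
    · rintro ⟨hx, hc⟩
      apply h1 x' _ hx
      rw [← L.cent_z, Subgroup.mem_centralizer_singleton_iff]
      exact hc
    · rintro rfl
      exact ⟨⟨1, by group⟩, hzt.symm⟩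
  have hP := pair_count t z
  rw [hX7, hY21, hA, Set.ncard_singleton] at hP
  have hB3 : Set.ncard {y' : G | (∃ g : G, y' = g * z * g⁻¹) ∧ y' * t = t * y'} = 3 := by omega
  -- `{z, v, z v}` is contained in it
  have hsub : ({z, v, z * v} : Set G) ⊆
      {y' : G | (∃ g : G, y' = g * z * g⁻¹) ∧ y' * t = t * y'} := by
    intro y hy
    simp only [Set.mem_insert_iff, Set.mem_singleton_iff] at hy
    rcases hy with rfl | rfl | rfl
    · exact ⟨⟨1, by group⟩, hzt⟩
    · obtain ⟨c, _, hc⟩ := L.v_conj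
      exact ⟨⟨c, hc⟩, hvt⟩
    · obtain ⟨c, _, hc⟩ := L.zv_conj
      refine ⟨⟨c, hc⟩, ?_⟩
      have := L.T_le hzvT
      rwa [Subgroup.mem_centralizer_singleton_iff] at this
  have hne1 : z ≠ v := Ne.symm L.v_ne
  have hne2 : z ≠ z * v := by
    intro h; exact hv1 (left_eq_mul.1 h)
  have hne3 : v ≠ z * v := by
    intro h; exact hz1 (right_eq_mul.1 h)
  have hcard3 : Set.ncard ({z, v, z * v} : Set G) = 3 := by
    rw [Set.ncard_eq_toFinset_card']
    have : ({z, v, z * v} : Set G).toFinset = {z, v, z * v} := by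
      ext; simp
    rw [this]
    rw [Finset.card_insert_of_notMem, Finset.card_insert_of_notMem, Finset.card_singleton]
    · simpa using hne3
    · simp only [Finset.mem_insert, Finset.mem_singleton, not_or]
      exact ⟨hne1, hne2⟩
  have hBeq : ({z, v, z * v} : Set G) =
      {y' : G | (∃ g : G, y' = g * z * g⁻¹) ∧ y' * t = t * y'} := by
    apply Set.eq_of_subset_of_ncard_le hsub
    rw [hB3, hcard3]
  -- `τ'` does not commute with `v`
  have hτ'v : τ' * v * τ'⁻¹ = z * v := by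
    rcases hτ' with rfl | rfl
    · exact L.τv
    · have e1 : t * τ * v * (t * τ)⁻¹ = t * (τ * v * τ⁻¹) * t⁻¹ := by group
      rw [e1, L.τv]
      have hzvt : z * v * t = t * (z * v) := by
        have := L.T_le hzvT
        rwa [Subgroup.mem_centralizer_singleton_iff] at this
      calc t * (z * v) * t⁻¹ = (z * v * t) * t⁻¹ := by rw [hzvt]
        _ = z * v := by group
  have hτ'nc : τ' * v ≠ v * τ' := by
    intro h
    have h2 : τ' * v * τ'⁻¹ = v := by rw [h]; group
    rw [hτ'v] at h2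
    exact hz1 (mul_eq_right.1 h2)
  have hτ't : τ' * t = t * τ' := by
    rcases hτ' with rfl | rfl
    · exact hτt
    · rw [mul_assoc, hτt]
  have hnc : ∀ g : G, g * z * g⁻¹ ≠ τ' := by
    intro g hg
    have hmem : τ' ∈ {y' : G | (∃ g : G, y' = g * z * g⁻¹) ∧ y' * t = t * y'} :=
      ⟨⟨g, hg.symm⟩, hτ't⟩
    rw [← hBeq] at hmem
    simp only [Set.mem_insert_iff, Set.mem_singleton_iff] at hmem
    rcases hmem with h | h | h
    · apply hτ'nc; rw [h]; exact hzv
    · apply hτ'nc; rw [h]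
    · apply hτ'nc; rw [h]
      calc z * v * v = v * z * v := by rw [hzv]
        _ = v * (z * v) := mul_assoc _ _ _
  exact ho4a hM168 τ' hτ' hτM hnc

end Cfsg.Agent.Helper23.ZS4
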