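import Mathlib
import Cfsg.Agent.Lib.Helper23.ZS4Defs
import Cfsg.Agent.Lib.Lead.Order8

/-!
# S3222 piece SYLISO: `T ≅ Z₂ × D₈`
-/

set_option autoImplicit false

namespace Cfsg.Agent.Helper23.ZS4

variable {G : Type*} [Group G]

namespace SYLISO

/-- The powers of an involution. -/
theorem mem_zpowers_invol {x y : G} (hx : orderOf x = 2) (hy : y ∈ Subgroup.zpowers x) :
    y = 1 ∨ y = x := by
  obtain ⟨k, rfl⟩ := Subgroup.mem_zpowers_iff.1 hy
  have hx2 : x ^ (2 : ℤ) = 1 := by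
    have := pow_orderOf_eq_one x
    rw [hx] at this
    exact_mod_cast this
  rcases Int.emod_two_eq_zero_or_one k with h | h
  · left
    have hk : k = 2 * (k / 2) := by omega
    rw [hk, zpow_mul, hx2, one_zpow]
  · right
    have hk : k = 2 * (k / 2) + 1 := by omega
    rw [hk, zpow_add, zpow_mul, hx2, one_zpow, one_mul, zpow_one]

/-- A group of order 8 that is nonabelian and has two distinct involutions is dihedral. -/
theorem dihedral_of_two_invol {D : Type*} [Group D] (h8 : Nat.card D = 8)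
    (hna : ∃ x y : D, x * y ≠ y * x) (a b : D) (ha : orderOf a = 2) (hb : orderOf b = 2)
    (hab : a ≠ b) : Nonempty (D ≃* DihedralGroup 4) := by
  rcases Cfsg.Agent.Lead.order8_nonabelian h8 hna with h | ⟨w, hw1, hw⟩
  · exact h
  · exfalso
    have ha1 : a ≠ 1 := by
      intro h; rw [h, orderOf_one] at ha; omega
    have hb1 : b ≠ 1 := by
      intro h; rw [h, orderOf_one] at hb; omega
    have h1 : w = a := by
      rcases mem_zpowers_invol ha (hw a ha1) with h | h
      · exact absurd h hw1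
      · exact h
    have h2 : w = b := by
      rcases mem_zpowers_invol hb (hw b hb1) with h | h
      · exact absurd h hw1
      · exact h
    exact hab (h1.symm.trans h2)

/-- Groups of order 2 are `Z₂`. -/
theorem zmod_two_equiv (Z : Type*) [Group Z] [IsCyclic Z] :
    ∀ n : ℕ, Nat.card Z = n → Nonempty (Multiplicative (ZMod n) ≃* Z) := by
  rintro n rfl
  exact ⟨zmodCyclicMulEquiv inferInstance⟩

end SYLISO

/-- PIECE SYLISO. -/
theorem syl_iso {t z v τ : G} {T : Subgroup G} (L : Loc t z v τ T) :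
    Nonempty (↥T ≃* Multiplicative (ZMod 2) × DihedralGroup 4) := by
  classical
  obtain ⟨D, hDT, hD8, htD, hvD, hτD, -⟩ := L.exD
  have : Finite ↥T := Nat.finite_of_card_ne_zero (by rw [L.card_T]; norm_num)
  have hz1 : z ≠ 1 := by
    intro h; have := L.hz; rw [h, orderOf_one] at this; omega
  -- `z ∈ D`
  have hzeq : z = τ * v * τ⁻¹ * v⁻¹ := by rw [L.τv]; group
  have hzD : z ∈ D := by
    rw [hzeq]
    exact D.mul_mem (D.mul_mem (D.mul_mem hτD hvD) (D.inv_mem hτD)) (D.inv_mem hvD)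
  have hvo : orderOf v = 2 := by
    obtain ⟨c, _, hc⟩ := L.v_conj
    rw [hc, ← L.hz]
    exact MulEquiv.orderOf_eq (MulAut.conj c) z
  -- `D` is dihedral
  have hna : ∃ x y : ↥D, x * y ≠ y * x := by
    refine ⟨⟨τ, hτD⟩, ⟨v, hvD⟩, ?_⟩
    intro h
    have h' : τ * v = v * τ := congrArg Subtype.val h
    have h2 : τ * v * τ⁻¹ = v := by rw [h']; group
    rw [L.τv] at h2
    exact hz1 (mul_eq_right.1 h2)
  obtain ⟨eD⟩ := SYLISO.dihedral_of_two_invol hD8 hna (⟨z, hzD⟩ : ↥D) ⟨v, hvD⟩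
    (by rw [Subgroup.orderOf_mk]; exact L.hz) (by rw [Subgroup.orderOf_mk]; exact hvo)
    (by intro h; exact L.v_ne (congrArg Subtype.val h).symm)
  -- the product map
  have hcomm : ∀ (a : ↥(Subgroup.zpowers t)) (d : ↥D), Commute (a : G) (d : G) := by
    rintro ⟨a, ha⟩ ⟨d, hd⟩
    obtain ⟨k, rfl⟩ := Subgroup.mem_zpowers_iff.1 ha
    have hdt : d * t = t * d := by
      have := L.T_le (hDT hd)
      rwa [Subgroup.mem_centralizer_singleton_iff] at this
    have : Commute t d := hdt.symm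
    exact this.zpow_left k
  let φ : ↥(Subgroup.zpowers t) × ↥D →* G :=
    MonoidHom.noncommCoprod (Subgroup.zpowers t).subtype D.subtype hcomm
  have hφ : ∀ x : ↥(Subgroup.zpowers t) × ↥D, φ x = (x.1 : G) * (x.2 : G) := fun x => rfl
  have hinj : Function.Injective φ := by
    rintro ⟨⟨a1, ha1⟩, ⟨d1, hd1⟩⟩ ⟨⟨a2, ha2⟩, ⟨d2, hd2⟩⟩ h
    rw [hφ, hφ] at h
    simp only at h
    have h1 : a2⁻¹ * a1 = d2 * d1⁻¹ := by
      calc a2⁻¹ * a1 = a2⁻¹ * (a1 * d1) * d1⁻¹ := by group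
        _ = a2⁻¹ * (a2 * d2) * d1⁻¹ := by rw [h]
        _ = d2 * d1⁻¹ := by group
    have h2 : a2⁻¹ * a1 ∈ Subgroup.zpowers t :=
      (Subgroup.zpowers t).mul_mem ((Subgroup.zpowers t).inv_mem ha2) ha1
    have h3 : a2⁻¹ * a1 ∈ D := by rw [h1]; exact D.mul_mem hd2 (D.inv_mem hd1)
    have h4 : a2⁻¹ * a1 = 1 := by
      rcases SYLISO.mem_zpowers_invol L.ht h2 with h | h
      · exact h
      · rw [h] at h3; exact absurd h3 htD
    have h5 : a1 = a2 := by
      have := inv_mul_eq_one.1 h4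
      exact this.symm
    have h6 : d2 * d1⁻¹ = 1 := by rw [← h1, h4]
    have h7 : d2 = d1 := mul_inv_eq_one.1 h6
    subst h5; subst h7; rfl
  have hle : φ.range ≤ T := by
    rintro _ ⟨⟨⟨a, ha⟩, ⟨d, hd⟩⟩, rfl⟩
    rw [hφ]
    refine T.mul_mem ?_ (hDT hd)
    exact (Subgroup.zpowers_le.2 L.tT) ha
  have hcard : Nat.card φ.range = 16 := by
    rw [← Nat.card_congr (MonoidHom.ofInjective hinj).toEquiv, Nat.card_prod, Nat.card_zpowers,
      L.ht, hD8]
  have hrange : φ.range = T := by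
    apply Subgroup.eq_of_le_of_card_ge hle
    rw [hcard, L.card_T]
  have e1 : ↥T ≃* ↥φ.range := (MulEquiv.subgroupCongr hrange).symm
  have e2 : ↥φ.range ≃* ↥(Subgroup.zpowers t) × ↥D := (MonoidHom.ofInjective hinj).symm
  obtain ⟨eZ⟩ := SYLISO.zmod_two_equiv ↥(Subgroup.zpowers t) 2 (by rw [Nat.card_zpowers, L.ht])
  exact ⟨(e1.trans e2).trans (MulEquiv.prodCongr eZ.symm eD)⟩

end Cfsg.Agent.Helper23.ZS4
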