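import Mathlib
import Cfsg.Agent.S3035
import Cfsg.Agent.S0445
import Cfsg.Agent.Lib.Helper12.Small60
import Cfsg.Agent.Lib.Helper23.ZS4Defs
import Cfsg.Agent.Lib.Helper23.ZS4ODD
import Cfsg.Agent.Lib.Helper13.ZS4LOCA
import Cfsg.Agent.Lib.Helper6.ZS4INDEX2
import Cfsg.Agent.Lib.Helper3.ZS4MEMM
import Cfsg.Agent.Lib.Helper3.ZS4CENTM
import Cfsg.Agent.Lib.Helper17.ZS4CORE
import Cfsg.Agent.Lib.Helper23.ZS4O4C
import Cfsg.Agent.Lib.Helper9.ZS4O4B
import Cfsg.Agent.Lib.Helper6.ZS4NS
import Cfsg.Agent.Lib.Helper6.ZS4O4A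
import Cfsg.Agent.Lib.Helper14.ZS4JN
import Cfsg.Agent.Lib.Helper15.ZS4JK

/-!
# S3222: final assembly (helper23)
-/

set_option autoImplicit false

namespace Cfsg.Agent.Helper23.ZS4

open Equiv

theorem main_aux {G : Type*} [Group G] [Finite G]
    (t : G) (ht : orderOf t = 2) (T : Sylow 2 G) (htT : t ∈ (T : Subgroup G))
    (htc : ∀ s ∈ (T : Subgroup G), s * t = t * s)
    (e : ↥(Subgroup.centralizer ({t} : Set G)) ≃* W)
    (h2 : ∀ S : Sylow 2 G, Subgroup.centralizer
      ((⁅(S : Subgroup G), (S : Subgroup G)⁆ : Subgroup G) : Set G) = (S : Subgroup G)) :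
    (Subgroup.centralizer ({t} : Set G) = ⊤ ∧ Group.IsSolvable G) ∨
      Nonempty (G ≃* Perm (Fin 6)) := by
  classical
  obtain ⟨z, v, τ, L⟩ := exists_loc t ht T htT htc e h2
  obtain ⟨M, hMn, hM2, htM⟩ := exists_index_two T L
  have := hMn
  obtain ⟨hzM, hvM, hzvM, τ', hτ', hτM⟩ := mem_M L M hM2 htM
  have hD := cent_M_dihedral L M hM2 htM hzM
  have hzM2 : orderOf (⟨z, hzM⟩ : ↥M) = 2 := by
    rw [← L.hz]; exact Subgroup.orderOf_mk z hzM
  have hGM : Nat.card M * 2 = Nat.card G := by
    rw [← hM2]; exact Subgroup.card_mul_index M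
  have hC48 := L.card_C
  have hCle : Nat.card (Subgroup.centralizer ({t} : Set G)) ≤ Nat.card G :=
    Subgroup.card_le_card_group _
  have hCtop : Nat.card G = 48 → Subgroup.centralizer ({t} : Set G) = ⊤ := by
    intro h
    rw [← Subgroup.card_eq_iff_eq_top, hC48, h]
  have hCne : 48 < Nat.card G → Subgroup.centralizer ({t} : Set G) ≠ ⊤ := by
    intro h htop
    rw [← Subgroup.card_eq_iff_eq_top, hC48] at htop
    omega
  rcases Cfsg.Agent.S3035.result (⟨z, hzM⟩ : ↥M) hzM2 hD with h | h | h | h | h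
  · -- (i)
    exfalso
    rw [oddCore_eq_bot L M hzM hvM, sup_bot_eq] at h
    obtain ⟨ψ⟩ := hD
    have h8 : Nat.card ↥(Subgroup.centralizer ({(⟨z, hzM⟩ : ↥M)} : Set ↥M)) = 8 := by
      rw [Nat.card_congr ψ.toEquiv, DihedralGroup.nat_card]
    rw [h, Subgroup.card_top] at h8
    omega
  · -- (ii)
    left
    obtain ⟨ψ⟩ := h
    have h24 : Nat.card ↥M = 24 := by
      rw [Nat.card_congr ψ.toEquiv, Nat.card_perm, Nat.card_fin]; rfl
    have h48 : Nat.card G = 48 := by omega
    exact ⟨hCtop h48, Cfsg.Agent.Helper12.Small60.isSolvable_of_card_lt 48 G h48 (by norm_num)⟩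
  · -- (iii)
    exfalso
    obtain ⟨ψ⟩ := h
    have h120 : Nat.card ↥M = 120 := by
      rw [Nat.card_congr ψ.toEquiv, Nat.card_perm, Nat.card_fin]; rfl
    have h240 : Nat.card G = 240 := by omega
    have hcore := normalCore_eq_bot T L M hM2 htM (by omega)
    have hinj : Function.Injective
        (MulAction.toPermHom G (G ⧸ Subgroup.centralizer ({t} : Set G))) := by
      rw [← MonoidHom.ker_eq_bot_iff, ← Subgroup.normalCore_eq_ker]
      exact hcore
    have hidx : (Subgroup.centralizer ({t} : Set G)).index = 5 := by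
      have := Subgroup.card_mul_index (Subgroup.centralizer ({t} : Set G))
      rw [hC48, h240] at this
      omega
    have hdvd : Nat.card G ∣ Nat.factorial 5 := by
      have h1 : Nat.card G = Nat.card (MulAction.toPermHom G
          (G ⧸ Subgroup.centralizer ({t} : Set G))).range :=
        Nat.card_congr (MonoidHom.ofInjective hinj).toEquiv
      rw [h1, ← hidx, Subgroup.index_eq_card, ← Nat.card_perm]
      exact Subgroup.card_subgroup_dvd_card _
    rw [h240] at hdvd
    norm_num [Nat.factorial] at hdvd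
  · -- (iv)
    exfalso
    obtain ⟨ψ⟩ := h
    have h168 : Nat.card ↥M = 168 := by
      rw [Nat.card_congr ψ.toEquiv, Cfsg.Agent.S0445.card_sl3]
    have h336 : Nat.card G = 336 := by omega
    by_cases h1 : ∀ x ∈ (T : Subgroup G), (∃ g : G, x = g * t * g⁻¹) → x = t
    · exact o4c_core T L M hM2 htM h336 h1
        (fun h168' τ' hτ' hτM hnc => o4a T L M hM2 htM h168' τ' hτ' hτM hnc)
    · push Not at h1
      obtain ⟨x, hxT, hx, hxt⟩ := h1
      exact o4b T L M hM2 htM h336 x hxT hxt hx
  · -- (v)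
    right
    obtain ⟨ψ⟩ := h
    have h360 : Nat.card ↥M = 360 := by
      rw [Nat.card_congr ψ.toEquiv, nat_card_alternatingGroup, Nat.card_fin]; rfl
    have h720 : Nat.card G = 720 := by omega
    have hC : Subgroup.centralizer ({t} : Set G) ≠ ⊤ := hCne (by omega)
    -- the centre is trivial
    have hZ : Subgroup.center G = ⊥ := by
      apply normal_eq_bot T L hC
      intro hz
      have htop : Subgroup.centralizer ({z} : Set G) = ⊤ := by
        rw [eq_top_iff]
        intro g _
        rw [Subgroup.mem_centralizer_singleton_iff]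
        exact (Subgroup.mem_center_iff.1 hz g)
      rw [L.cent_z] at htop
      have := L.card_T
      rw [htop, Subgroup.card_top] at this
      omega
    -- an element of order 3 in `C`
    have : Fact (Nat.Prime 3) := ⟨by norm_num⟩
    obtain ⟨y, hy⟩ := exists_prime_orderOf_dvd_card' (G := ↥(Subgroup.centralizer ({t} : Set G))) 3
      (by rw [hC48]; norm_num)
    have hy3 : orderOf (y : G) = 3 := by rw [Subgroup.orderOf_coe]; exact hy
    have hty : t * (y : G) = (y : G) * t := by
      have := y.2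
      rw [Subgroup.mem_centralizer_singleton_iff] at this
      exact this.symm
    have hyM : (y : G) ∈ M := by
      have h4 : (y : G) = ((y : G) ^ 2) ^ 2 := by
        rw [← pow_mul]
        have : (y : G) ^ 3 = 1 := by rw [← hy3]; exact pow_orderOf_eq_one _
        calc (y : G) = (y : G) ^ 3 * (y : G) := by rw [this, one_mul]
          _ = (y : G) ^ (2 * 2) := by rw [← pow_succ]
      rw [h4]
      exact Subgroup.sq_mem_of_index_two hM2 _
    obtain ⟨N, hN⟩ := exists_index_six M hM2 ψ t htM (y : G) hyM hy3 hty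
    have hsimple : IsSimpleGroup ↥M := by
      have : IsSimpleGroup ↥(alternatingGroup (Fin 6)) :=
        alternatingGroup.isSimpleGroup (by simp)
      have : Nontrivial ↥M := by
        rw [← Finite.one_lt_card_iff_nontrivial, h360]; norm_num
      exact IsSimpleGroup.isSimpleGroup_of_surjective ψ.symm.toMonoidHom ψ.symm.surjective
    exact perm_six_of_index_six M hM2 hsimple h720 hZ N hN

end Cfsg.Agent.Helper23.ZS4
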